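import Groth.Statements.S9349
import Groth.Agent.FlatOver.Basic
import Groth.Agent.QCohBase.Qcqs

set_option autoImplicit false
universe u
open FlatMod

namespace Groth.Agent.S9349

open AlgebraicGeometry CategoryTheory in
/-- Let f : X → Y be an affine morphism of S-schemes, with q : Y → S, and F a quasi-coherent O_X-module.
Flatness of F over S (along f ≫ q) is equivalent to flatness of f_*F over S (along q). -/
theorem result {X Y S : Scheme.{u}} (f : X ⟶ Y) [IsAffineHom f] (q : Y ⟶ S)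
    (F : X.Modules) (hF : Coh.IsQCoh F) :
    FlatMod.IsFlatOver (f ≫ q) F ↔ FlatMod.IsFlatOver q ((Coh.push f).obj F) := by
  haveI : Coh.IsQCoh F := hF
  haveI : Coh.IsQCoh ((Coh.push f).obj F) := Groth.Agent.QCohBase.isQuasicoherent_pushforward F f
  have key : ∀ (W : Y.Opens) (V : S.Opens) (e : W ≤ q ⁻¹ᵁ V),
      ((f ≫ q).appLE V (f ⁻¹ᵁ W) (fun x hx ↦ e hx)).hom =
        (f.app W).hom.comp (q.appLE V W e).hom := fun W V e ↦ by
    rw [← CommRingCat.hom_comp, Scheme.Hom.app_eq_appLE, Scheme.Hom.appLE_comp_appLE]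
  have hiff : ∀ (W : Y.Opens) (V : S.Opens) (e : W ≤ q ⁻¹ᵁ V),
      (letI := Groth.Agent.FlatOver.baseModule (f ≫ q) F (U := f ⁻¹ᵁ W) (V := V) (fun x hx ↦ e hx)
       Module.Flat Γ(S, V) Γ(F, f ⁻¹ᵁ W)) ↔
      (letI := Groth.Agent.FlatOver.baseModule q ((Coh.push f).obj F) e
       Module.Flat Γ(S, V) Γ((Coh.push f).obj F, W)) := fun W V e ↦ by
    unfold Groth.Agent.FlatOver.baseModule
    rw [key W V e]
    rfl
  constructor
  · intro h y
    obtain ⟨_, ⟨V, hV, rfl⟩, hfx, -⟩ :=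
      S.isBasis_affineOpens.exists_subset_of_mem_open (Set.mem_univ (q y)) isOpen_univ
    obtain ⟨_, ⟨W, hW, rfl⟩, hy, hle⟩ :=
      Y.isBasis_affineOpens.exists_subset_of_mem_open (show y ∈ q ⁻¹ᵁ V from hfx) (q ⁻¹ᵁ V).isOpen
    exact Groth.Agent.FlatOver.isFlatOverAt_of_flat q _ hle hW hV y hy ((hiff W V hle).1
      (Groth.Agent.FlatOver.flat_of_isFlatOverAt (f ≫ q) F _ (hW.preimage f) hV fun x _ ↦ h x))
  · intro h x
    obtain ⟨_, ⟨V, hV, rfl⟩, hfx, -⟩ :=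
      S.isBasis_affineOpens.exists_subset_of_mem_open (Set.mem_univ (q (f x))) isOpen_univ
    obtain ⟨_, ⟨W, hW, rfl⟩, hy, hle⟩ :=
      Y.isBasis_affineOpens.exists_subset_of_mem_open (show f x ∈ q ⁻¹ᵁ V from hfx) (q ⁻¹ᵁ V).isOpen
    exact Groth.Agent.FlatOver.isFlatOverAt_of_flat (f ≫ q) F _ (hW.preimage f) hV x hy ((hiff W V hle).2
      (Groth.Agent.FlatOver.flat_of_isFlatOverAt q _ hle hW hV fun y _ ↦ h y))

end Groth.Agent.S9349
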