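import Groth.Agent.FlatOverBC.Scheme
import Groth.Agent.FpqcDescent.Flat
import Groth.Statements.S9350
-- import your own Groth.Agent.* helpers here

set_option autoImplicit false
set_option backward.isDefEq.respectTransparency false
set_option backward.isDefEq.respectTransparency.types false
universe u
open FlatMod

open TensorProduct
namespace Groth.Agent.S9350

open AlgebraicGeometry CategoryTheory in
/-- Let h : X → Y be a morphism of S-schemes, q : Y → S, G a quasi-coherent O_Y-module and x ∈ X with h
flat at x. Flatness of G over S at h x is equivalent to flatness of h^*G over S at x. -/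
theorem result {X Y S : Scheme.{u}} (h : X ⟶ Y) (q : Y ⟶ S)
    (G : Y.Modules) (hG : Coh.IsQCoh G) (x : X) (hflat : (h.stalkMap x).hom.Flat) :
    FlatMod.IsFlatOverAt q G (h.base x) ↔ FlatMod.IsFlatOverAt (h ≫ q) ((Scheme.Modules.pullback h).obj G) x := by
  let A := S.presheaf.stalk (q (h x))
  let B := Y.presheaf.stalk (h x)
  let C := X.presheaf.stalk x
  let M := G.presheaf.stalk (h x)
  letI : Algebra A B := (q.stalkMap (h x)).hom.toAlgebra
  letI : Algebra B C := (h.stalkMap x).hom.toAlgebra
  letI : Algebra A C := ((h ≫ q).stalkMap x).hom.toAlgebra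
  haveI : IsScalarTower A B C := IsScalarTower.of_algebraMap_eq fun r => by
    show ((h ≫ q).stalkMap x).hom r = (h.stalkMap x).hom ((q.stalkMap (h x)).hom r)
    rw [Scheme.Hom.stalkMap_comp]; rfl
  haveI : Module.FaithfullyFlat B C :=
    Groth.Agent.FpqcDescent.faithfullyFlat_stalkMap h x hflat
  letI mM : Module A M := FlatMod.moduleStalkOver q G (h x)
  haveI : IsScalarTower A B M := .of_algebraMap_smul fun r m => rfl
  let e : ((Scheme.Modules.pullback h).obj G).presheaf.stalk x ≃ₗ[C] C ⊗[B] M :=
    ((Groth.Agent.DCohBridge.stalkPullIso h x).app G).toLinearEquiv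
  letI mA : Module A (((Scheme.Modules.pullback h).obj G).presheaf.stalk x) := FlatMod.moduleStalkOver (h ≫ q) ((Scheme.Modules.pullback h).obj G) x
  have hsm : ∀ (r : A) (m : ((Scheme.Modules.pullback h).obj G).presheaf.stalk x), e (r • m) = r • e m :=
    fun r m => (e.map_smul (((h ≫ q).stalkMap x).hom r) m).trans (algebraMap_smul C r (e m))
  let eA : ((Scheme.Modules.pullback h).obj G).presheaf.stalk x ≃ₗ[A] C ⊗[B] M :=
    { e.toAddEquiv with map_smul' := hsm }
  constructor
  · intro hh
    haveI : Module.Flat A M := hh
    haveI := Groth.Agent.FlatOverBC.flat_tensor_of_flat A B C M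
    have hh : Module.Flat A (((Scheme.Modules.pullback h).obj G).presheaf.stalk x) := Module.Flat.of_linearEquiv eA
    exact hh
  · intro hh
    haveI : Module.Flat A (((Scheme.Modules.pullback h).obj G).presheaf.stalk x) := hh
    haveI : Module.Flat A (C ⊗[B] M) := Module.Flat.of_linearEquiv eA.symm
    exact Groth.Agent.FlatOverBC.flat_of_flat_baseChange A B C M

end Groth.Agent.S9350
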