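import Groth.Statements.S9352
import Groth.Agent.CAlgPureIdeal.Basic
import Groth.Agent.PureIdealSheaf.Scheme
import Groth.Agent.FinLocFreeSections.Basic
import Groth.Agent.Devissage.General

set_option autoImplicit false
universe u
open FlatMod

namespace Groth.Agent.S9352

open AlgebraicGeometry CategoryTheory in
/-- For a scheme X, every finite type flat quasi-coherent O_X-module is finite locally free if and only
if every closed subset of X that is stable under generalization is open. -/
theorem result (X : Scheme.{u}) :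
    (∀ F : X.Modules, Coh.IsQCoh F → CohB1.IsFT F → FlatMod.IsFlat F → FlatMod.IsFinLocFree F) ↔
      ∀ Z : Set ↑X, IsClosed Z → StableUnderGeneralization Z → IsOpen Z := by
  open Groth.Agent Groth.Agent.QCohBase in
  constructor
  · intro h Z hZ hgen
    let I := PureIdealSheaf.idealSheaf ⟨Z, hZ⟩ hgen
    haveI : Flat I.subschemeι := PureIdealSheaf.flat_idealSheaf ⟨Z, hZ⟩ hgen
    let i := I.subschemeι
    let F := (Scheme.Modules.pushforward i).obj (Coh.structureModule I.subscheme)
    haveI := AssPts.isQuasicoherent_structureModule I.subscheme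
    haveI hF : F.IsQuasicoherent := isQuasicoherent_pushforward _ i
    have hfin : ∀ (U : X.Opens), IsAffineOpen U → Module.Finite Γ(X, U) Γ(F, U) := fun U hU =>
      Module.Finite.of_surjective (LinearMap.toSpanSingleton Γ(X, U) Γ(F, U) (1 : Γ(I.subscheme, i ⁻¹ᵁ U))) fun s => by
        obtain ⟨a, ha⟩ := i.app_surjective U hU s
        exact ⟨a, (mul_one (i.app U a)).trans ha⟩
    have hflat : ∀ (U : X.Opens), IsAffineOpen U → Module.Flat Γ(X, U) Γ(F, U) := fun U hU => by
      have hfl : (i.app U).hom.Flat := by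
        rw [Scheme.Hom.app_eq_appLE]
        exact i.flat_appLE hU (hU.preimage i) le_rfl
      letI := (i.app U).hom.toAlgebra
      haveI : Module.Flat Γ(X, U) Γ(I.subscheme, i ⁻¹ᵁ U) := hfl
      let e : Γ(I.subscheme, i ⁻¹ᵁ U) ≃ₗ[Γ(X, U)] Γ(F, U) :=
        { toFun := fun s => s, map_add' := fun _ _ => rfl, map_smul' := fun _ _ => rfl
          invFun := fun s => s, left_inv := fun _ => rfl, right_inv := fun _ => rfl }
      exact Module.Flat.of_linearEquiv e.symm
    have hlf : FlatMod.IsFinLocFree F := h F hF (isFiniteType_of_finite F fun x => by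
      obtain ⟨_, ⟨U, hU, rfl⟩, hx, -⟩ :=
        X.isBasis_affineOpens.exists_subset_of_mem_open (Set.mem_univ x) isOpen_univ
      exact ⟨U, hU, hx, hfin U hU⟩) fun x => by
      obtain ⟨_, ⟨U, hU, rfl⟩, hx, -⟩ :=
        X.isBasis_affineOpens.exists_subset_of_mem_open (Set.mem_univ x) isOpen_univ
      haveI := hflat U hU
      exact FinLocFreeSections.flat_stalk_of_flat_sections F hU hx
    have hrange : Z = Set.range i := (Scheme.IdealSheafData.range_subschemeι I).symm
    rw [hrange, isOpen_iff_forall_mem_open]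
    intro x hx
    obtain ⟨_, ⟨U, hU, rfl⟩, hxU, -⟩ :=
      X.isBasis_affineOpens.exists_subset_of_mem_open (Set.mem_univ x) isOpen_univ
    obtain ⟨hfU, hpU⟩ := FinLocFreeSections.finite_projective_sections F hlf hU
    letI := (i.app U).hom.toAlgebra
    let e : Γ(I.subscheme, i ⁻¹ᵁ U) ≃ₗ[Γ(X, U)] Γ(F, U) :=
      { toFun := fun s => s, map_add' := fun _ _ => rfl, map_smul' := fun _ _ => rfl
        invFun := fun s => s, left_inv := fun _ => rfl, right_inv := fun _ => rfl }
    haveI : Module.Projective Γ(X, U) Γ(I.subscheme, i ⁻¹ᵁ U) := Module.Projective.of_equiv e.symm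
    haveI : Module.Finite Γ(X, U) Γ(I.subscheme, i ⁻¹ᵁ U) := Module.Finite.equiv e.symm
    haveI : Module.FinitePresentation Γ(X, U) Γ(I.subscheme, i ⁻¹ᵁ U) :=
      Module.finitePresentation_of_projective _ _
    haveI : Algebra.FinitePresentation Γ(X, U) Γ(I.subscheme, i ⁻¹ᵁ U) :=
      Algebra.FinitePresentation.of_finitePresentation _ _
    have hopen : IsOpen (Set.range (PrimeSpectrum.comap (i.app U).hom)) :=
      (PrimeSpectrum.isOpenMap_comap_of_hasGoingDown_of_finitePresentation
        (R := Γ(X, U)) (S := Γ(I.subscheme, i ⁻¹ᵁ U))).isOpen_range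
    have hcomm : (hU.preimage i).fromSpec ≫ i = Spec.map (i.app U) ≫ hU.fromSpec := by
      rw [Scheme.Hom.app_eq_appLE, IsAffineOpen.SpecMap_appLE_fromSpec]
    refine ⟨hU.fromSpec '' Set.range (Spec.map (i.app U)), ?_,
      hU.fromSpec.isOpenEmbedding.isOpenMap _ hopen, ?_⟩
    · rintro _ ⟨_, ⟨q, rfl⟩, rfl⟩
      exact ⟨(hU.preimage i).fromSpec q, by rw [← Scheme.Hom.comp_apply, hcomm, Scheme.Hom.comp_apply]⟩
    · obtain ⟨z, rfl⟩ := hx
      obtain ⟨q, rfl⟩ := (hU.preimage i).range_fromSpec.ge (show z ∈ i ⁻¹ᵁ U from hxU)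
      exact ⟨_, ⟨q, rfl⟩, by rw [← Scheme.Hom.comp_apply, ← hcomm, Scheme.Hom.comp_apply]⟩
  · intro h F hF hFT hflat
    haveI : F.IsQuasicoherent := hF
    let r : X → ℕ := fun x => Module.finrank (X.presheaf.stalk x) (F.presheaf.stalk x)
    have hsec : ∀ (U : X.Opens), IsAffineOpen U → Module.Finite Γ(X, U) Γ(F, U) := fun U hU =>
      finite_sections F hFT hU
    have hfl : ∀ (U : X.Opens), IsAffineOpen U → Module.Flat Γ(X, U) Γ(F, U) := fun U hU => by
      have hpt : ∀ (P : Ideal Γ(X, U)) [P.IsMaximal], ∃ (x : X) (hx : x ∈ U),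
          (hU.primeIdealOf ⟨x, hx⟩).asIdeal = P := fun P _ ↦ AssPts.exists_point hU P
      choose pt hpt' heq using hpt
      letI : ∀ (P : Ideal Γ(X, U)) [P.IsMaximal], Module Γ(X, U) (F.presheaf.stalk (pt P)) :=
        fun P _ ↦ FlatOver.germModule F (pt P) (hpt' P)
      haveI : ∀ (P : Ideal Γ(X, U)) [P.IsMaximal],
          IsLocalizedModule.AtPrime P (FlatOver.germₗ F (pt P) (hpt' P)) := fun P _ ↦ by
        have := FlatOver.isLocalizedModule_germₗ F hU (pt P) (hpt' P)
        simp only [heq P] at this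
        exact this
      refine Module.flat_of_isLocalized_maximal _ _ (fun P _ ↦ F.presheaf.stalk (pt P))
        (fun P _ ↦ FlatOver.germₗ F (pt P) (hpt' P)) fun P _ ↦ ?_
      have hx : pt P ∈ U := hpt' P
      letI : Algebra Γ(X, U) (X.presheaf.stalk (pt P)) := (X.presheaf.germ U (pt P) hx).hom.toAlgebra
      haveI : IsLocalization.AtPrime (X.presheaf.stalk (pt P)) (hU.primeIdealOf ⟨pt P, hx⟩).asIdeal :=
        hU.isLocalization_stalk ⟨pt P, hx⟩
      haveI : IsScalarTower Γ(X, U) (X.presheaf.stalk (pt P)) (F.presheaf.stalk (pt P)) :=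
        .of_algebraMap_smul fun r z => rfl
      haveI : Module.Flat (X.presheaf.stalk (pt P)) (F.presheaf.stalk (pt P)) := hflat (pt P)
      haveI : Module.Flat Γ(X, U) (X.presheaf.stalk (pt P)) :=
        IsLocalization.flat _ (hU.primeIdealOf ⟨pt P, hx⟩).asIdeal.primeCompl
      exact Module.Flat.trans Γ(X, U) (X.presheaf.stalk (pt P)) _
    have hrk : ∀ (U : X.Opens) (hU : IsAffineOpen U) (p : PrimeSpectrum Γ(X, U)),
        r (hU.fromSpec p) = Module.rankAtStalk (R := Γ(X, U)) Γ(F, U) p := fun U hU p => by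
      haveI := hsec U hU
      haveI := hfl U hU
      set x := hU.fromSpec p with hxdef
      have hx : x ∈ U := hU.range_fromSpec.le (Set.mem_range_self _)
      letI : Algebra Γ(X, U) (X.presheaf.stalk x) := (X.presheaf.germ U x hx).hom.toAlgebra
      haveI hloc : IsLocalization.AtPrime (X.presheaf.stalk x) p.asIdeal := by
        have := hU.isLocalization_stalk ⟨x, hx⟩
        rwa [show hU.primeIdealOf ⟨x, hx⟩ = p from
          hU.fromSpec.isOpenEmbedding.injective (hU.fromSpec_primeIdealOf ⟨x, hx⟩)] at this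
      letI := FlatOver.germModule F x hx
      haveI : IsScalarTower Γ(X, U) (X.presheaf.stalk x) (F.presheaf.stalk x) :=
        .of_algebraMap_smul fun r z => rfl
      haveI hlm : IsLocalizedModule p.asIdeal.primeCompl (FlatOver.germₗ F x hx) := by
        have := FlatOver.isLocalizedModule_germₗ F hU x hx
        rwa [show hU.primeIdealOf ⟨x, hx⟩ = p from
          hU.fromSpec.isOpenEmbedding.injective (hU.fromSpec_primeIdealOf ⟨x, hx⟩)] at this
      have hbc := IsLocalizedModule.isBaseChange p.asIdeal.primeCompl (X.presheaf.stalk x) (FlatOver.germₗ F x hx)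
      haveI : Module.Finite (X.presheaf.stalk x) (F.presheaf.stalk x) :=
        Module.Finite.of_isLocalizedModule p.asIdeal.primeCompl (FlatOver.germₗ F x hx)
      haveI : Module.Flat (X.presheaf.stalk x) (F.presheaf.stalk x) := hflat x
      haveI : Module.Free (X.presheaf.stalk x) (F.presheaf.stalk x) := Module.free_of_flat_of_isLocalRing
      have h1 := Module.rankAtStalk_isBaseChange hbc (IsLocalRing.closedPoint (X.presheaf.stalk x))
      rw [Module.rankAtStalk_eq_finrank_of_free, Pi.natCast_def] at h1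
      refine Eq.trans (show r x = _ from ?_) (h1.trans ?_)
      · exact rfl
      · congr 1
        exact PrimeSpectrum.ext (IsLocalization.AtPrime.comap_maximalIdeal _ p.asIdeal)
    have hle : ∀ n, IsOpen {x | r x ≤ n} := fun n => by
      rw [isOpen_iff_forall_mem_open]
      intro x hx
      obtain ⟨_, ⟨U, hU, rfl⟩, hxU, -⟩ :=
        X.isBasis_affineOpens.exists_subset_of_mem_open (Set.mem_univ x) isOpen_univ
      haveI := hsec U hU
      haveI := hfl U hU
      refine ⟨hU.fromSpec '' {p | Module.rankAtStalk (R := Γ(X, U)) Γ(F, U) p ≤ n}, ?_,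
        hU.fromSpec.isOpenEmbedding.isOpenMap _ (CAlgPureIdeal.isOpen_rank_le _ n), ?_⟩
      · rintro _ ⟨p, hp, rfl⟩
        exact (hrk U hU p).le.trans hp
      · obtain ⟨p, rfl⟩ := hU.range_fromSpec.ge hxU
        exact ⟨p, (hrk U hU p).ge.trans hx, rfl⟩
    have hgen : ∀ x y : X, y ⤳ x → r y = r x := fun x y hyx => by
      obtain ⟨_, ⟨U, hU, rfl⟩, hxU, -⟩ :=
        X.isBasis_affineOpens.exists_subset_of_mem_open (Set.mem_univ x) isOpen_univ
      haveI := hsec U hU
      haveI := hfl U hU
      obtain ⟨p, rfl⟩ := hU.range_fromSpec.ge hxU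
      obtain ⟨q, rfl⟩ := hU.range_fromSpec.ge (hyx.mem_open U.isOpen hxU)
      rw [hrk, hrk]
      exact Module.rankAtStalk_eq_of_le_of_finite_of_flat (M := Γ(F, U))
        ((PrimeSpectrum.le_iff_specializes q p).2 (hU.fromSpec.isOpenEmbedding.toIsInducing.specializes_iff.1 hyx))
    have hge : ∀ n, IsOpen {x | n ≤ r x} := fun n => by
      refine h _ ?_ fun x y hyx hx => ?_
      · cases n with
        | zero => simp
        | succ n =>
          rw [show {x | n + 1 ≤ r x} = {x | r x ≤ n}ᶜ by
            ext x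
            simp only [Set.mem_ofPred_eq, Set.mem_compl_iff]
            omega]
          exact (hle n).isClosed_compl
      · change n ≤ r y
        rw [hgen x y hyx]
        exact hx
    have hlc : IsLocallyConstant r := IsLocallyConstant.iff_isOpen_fiber.2 fun n => by
      rw [show r ⁻¹' {n} = {x | n ≤ r x} ∩ {x | r x ≤ n} by ext x; simp [le_antisymm_iff, and_comm]]
      exact (hge n).inter (hle n)
    rw [FinLocFreeSections.isFinLocFree_iff]
    intro U hU
    haveI := hsec U hU
    haveI := hfl U hU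
    refine ⟨inferInstance, CAlgPureIdeal.projective_of_isLocallyConstant _ ?_⟩
    have he : Module.rankAtStalk (R := Γ(X, U)) Γ(F, U) = r ∘ hU.fromSpec :=
      funext fun p => (hrk U hU p).symm
    rw [he]
    exact hlc.comp_continuous hU.fromSpec.continuous

end Groth.Agent.S9352
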