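import Groth.Statements.S9353
import Groth.Agent.FlatOver.Basic

set_option autoImplicit false
universe u
open FlatMod

namespace Groth.Agent.S9353

open AlgebraicGeometry CategoryTheory Opposite in
/-- Let f : X → S be a morphism of schemes and let F be an O_X-module that is quasi-coherent. Flatness
of F over S is equivalent to the following: for all affine opens U ⊆ X and V ⊆ S with U ⊆ f⁻¹V the
module F(U) is flat over O_S(V). -/
theorem result {X S : Scheme.{u}} (f : X ⟶ S) (F : X.Modules) (hF : Coh.IsQCoh F) :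
    FlatMod.IsFlatOver f F ↔
      ∀ (U : X.Opens) (V : S.Opens) (hUV : U ≤ f ⁻¹ᵁ V), IsAffineOpen U → IsAffineOpen V →
        @Module.Flat Γ(S, V) (F.val.obj (op U)) _ _ (Module.compHom (F.val.obj (op U)) (f.appLE V U hUV).hom) := by
  haveI : Coh.IsQCoh F := hF
  refine ⟨fun h U V hUV hU hV ↦ Groth.Agent.FlatOver.flat_of_isFlatOverAt f F hUV hU hV fun x _ ↦ h x,
    fun h x ↦ ?_⟩
  obtain ⟨_, ⟨V, hV, rfl⟩, hfx, -⟩ :=
    S.isBasis_affineOpens.exists_subset_of_mem_open (Set.mem_univ (f x)) isOpen_univ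
  obtain ⟨_, ⟨U, hU, rfl⟩, hx, hle⟩ :=
    X.isBasis_affineOpens.exists_subset_of_mem_open (show x ∈ f ⁻¹ᵁ V from hfx) (f ⁻¹ᵁ V).isOpen
  exact Groth.Agent.FlatOver.isFlatOverAt_of_flat f F hle hU hV x hx (h U V hle hU hV)

end Groth.Agent.S9353
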