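import Groth.Statements.S9356
import Groth.Agent.FibreDimChart.Misc


set_option autoImplicit false
universe u
open FibDim

namespace Groth.Agent.S9356

open AlgebraicGeometry CategoryTheory in
/-- Let f : X → S be locally of finite type and x ⤳ x' a nontrivial specialization of points of the
fibre X_s. Then dim_x(X_s) ≤ dim_{x'}(X_s) and dim O_{X_s,x} < dim O_{X_s,x'}. (The assertion on
transcendence degrees of residue fields is a separate statement.) -/
theorem result {X S : Scheme.{u}} (f : X ⟶ S) [LocallyOfFiniteType f] (s : S)
    (x x' : ↑(f.fiber s)) (hsp : x ⤳ x') (hne : x ≠ x') :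
    FlatMor.localDim ↑(f.fiber s) x ≤ FlatMor.localDim ↑(f.fiber s) x' ∧
      ringKrullDim ((f.fiber s).presheaf.stalk x) < ringKrullDim ((f.fiber s).presheaf.stalk x') := by
  have : LocallyOfFiniteType (f.fiberToSpecResidueField s) :=
    MorphismProperty.pullback_snd _ _ inferInstance
  refine ⟨?_, @FibreDimChart.stalk_dim_lt ↑(S.residueField s) _ (f.fiber s)
    (f.fiberToSpecResidueField s) this x x' hsp hne⟩
  rw [FibreDimChart.localDim_fiber_eq_fibreDimAt, FibreDimChart.localDim_fiber_eq_fibreDimAt]
  exact FibreDimChart.fibreDimAt_le_of_specializes f (hsp.map (f.fiberι s).continuous)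

end Groth.Agent.S9356
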