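import Groth.Statements.S9360
import Groth.Agent.SchImageLib.Reduced

set_option autoImplicit false
universe u
open SchDense

namespace Groth.Agent.S9360

open AlgebraicGeometry CategoryTheory in
/-- Let U ⊆ X be a reduced open subscheme. Then the scheme-theoretic closure of U in X is X if and only
if U is scheme-theoretically dense in X (for every open W the scheme-theoretic closure of U ∩ W in W
is W); and in that case X is reduced. -/
theorem result (X : Scheme.{u}) (U : X.Opens) [IsReduced (↑U : Scheme.{u})] :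
    (IsSchemeTheoreticallyDominant U.ι ↔
        ∀ W : X.Opens, IsSchemeTheoreticallyDominant (X.homOfLE (inf_le_right : U ⊓ W ≤ W))) ∧
      (IsSchemeTheoreticallyDominant U.ι → IsReduced X) := by
  have key : IsSchemeTheoreticallyDominant U.ι → IsReduced X ∧ Dense (U : Set X) := by
    intro hd
    have h0 := (Groth.Agent.SchImageLib.ker_eq_vanishingIdeal U.ι).symm.trans U.ι.ker_eq_bot
    constructor
    · haveI : ∀ V : X.affineOpens, _root_.IsReduced Γ(X, V.1) := by
        intro V
        rw [← Ideal.isRadical_bot_iff]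
        intro x hx
        have h1 : (Scheme.IdealSheafData.vanishingIdeal
            (Groth.Agent.SchImageLib.rangeClosure U.ι)).ideal V = ⊥ := by rw [h0]; rfl
        rw [← h1, Scheme.IdealSheafData.vanishingIdeal_ideal] at hx ⊢
        exact PrimeSpectrum.isRadical_vanishingIdeal _ hx
      haveI : ∀ x : X, _root_.IsReduced (X.presheaf.stalk x) := by
        intro x
        obtain ⟨_, ⟨V, hV, rfl⟩, hxV, -⟩ :=
          X.isBasis_affineOpens.exists_subset_of_mem_open (Set.mem_univ x) isOpen_univ
        haveI := this ⟨V, hV⟩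
        letI := X.presheaf.algebra_section_stalk ⟨x, hxV⟩
        haveI hloc : IsLocalization.AtPrime (X.presheaf.stalk ((⟨x, hxV⟩ : (V : X.Opens)) : X)) (hV.primeIdealOf ⟨x, hxV⟩).asIdeal := hV.isLocalization_stalk ⟨x, hxV⟩
        exact @isReduced_localizationPreserves _ _ (hV.primeIdealOf ⟨x, hxV⟩).asIdeal.primeCompl (X.presheaf.stalk ((⟨x, hxV⟩ : (V : X.Opens)) : X)) _ _ hloc inferInstance
      exact isReduced_of_isReduced_stalk X
    · have h1 := congrArg (fun I : X.IdealSheafData => (I.support : Set X)) h0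
      simp only [Scheme.IdealSheafData.coe_support_vanishingIdeal,
        Scheme.IdealSheafData.support_bot, TopologicalSpace.Closeds.coe_top] at h1
      rw [dense_iff_closure_eq, ← h1]
      simp [Groth.Agent.SchImageLib.rangeClosure]
  refine ⟨⟨fun hd W => ?_, fun hd => ?_⟩, fun hd => (key hd).1⟩
  · obtain ⟨hred, hdense⟩ := key hd
    have : IsDominant (X.homOfLE (inf_le_right : U ⊓ W ≤ W)) := by
      constructor
      intro w
      rw [mem_closure_iff]
      intro o ho hwo
      obtain ⟨y, ⟨w', hw', rfl⟩, hyU⟩ := hdense.inter_open_nonempty _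
        (W.ι.isOpenEmbedding.isOpenMap o ho) ⟨_, w, hwo, rfl⟩
      refine ⟨w', hw', ⟨⟨w'.1, hyU, w'.2⟩, ?_⟩⟩
      apply W.ι.isOpenEmbedding.injective
      rw [← Scheme.Hom.comp_apply, Scheme.homOfLE_ι]
      rfl
    exact IsSchemeTheoreticallyDominant.of_isDominant _
  · have h := hd ⊤
    have : U.ι = (X.homOfLE (le_inf le_rfl le_top : U ≤ U ⊓ ⊤)) ≫
        X.homOfLE (inf_le_right : U ⊓ ⊤ ≤ ⊤) ≫ (⊤ : X.Opens).ι := by simp
    rw [this]
    haveI : IsIso (X.homOfLE (le_inf le_rfl le_top : U ≤ U ⊓ ⊤)) :=
      ⟨X.homOfLE inf_le_left, by simp, by simp⟩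
    haveI : IsIso (⊤ : X.Opens).ι := inferInstanceAs (IsIso X.topIso.hom)
    infer_instance

end Groth.Agent.S9360
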