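import Groth.Statements.S9361
import Groth.Agent.SchImageLib.Immersion

set_option autoImplicit false
universe u
open SchImage

namespace Groth.Agent.S9361

open AlgebraicGeometry CategoryTheory in
/-- Let f : X → Y be separated, V ⊆ Y a retrocompact open and s : V → X a section of f over V. If Y' ⊆ X
is the scheme-theoretic image of s, then Y' → Y is an isomorphism over V. -/
theorem result {X Y : Scheme.{u}} (f : X ⟶ Y) [IsSeparated f] (V : Y.Opens) [QuasiCompact V.ι]
    (s : (↑V : Scheme.{u}) ⟶ X) (hs : s ≫ f = V.ι) :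
    IsIso ((s.imageι ≫ f) ∣_ V) := by
  haveI : QuasiCompact (s ≫ f) := hs.symm ▸ inferInstance
  haveI : QuasiCompact s := QuasiCompact.of_comp s f
  set g := s.imageι ≫ f with hg
  have htop : s.toImage ⁻¹ᵁ (g ⁻¹ᵁ V) = ⊤ := by
    rw [← Scheme.Hom.comp_preimage, hg, Scheme.Hom.toImage_imageι_assoc, hs]
    exact V.ι_preimage_self
  set W := g ⁻¹ᵁ V
  let t := s.toImage ∣_ W
  haveI hiso : IsIso (s.toImage ⁻¹ᵁ W).ι := by
    rw [htop]
    exact inferInstanceAs (IsIso (↑V : Scheme.{u}).topIso.hom)
  have key : t ≫ (g ∣_ V) = (s.toImage ⁻¹ᵁ W).ι := by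
    rw [← cancel_mono V.ι, Category.assoc, morphismRestrict_ι, ← Category.assoc,
      morphismRestrict_ι, Category.assoc, hg, Scheme.Hom.toImage_imageι_assoc, hs]
  haveI : IsIso (t ≫ (g ∣_ V)) := key ▸ hiso
  haveI : IsSeparated g := hg ▸ inferInstance
  haveI : IsSeparated (g ∣_ V) := IsZariskiLocalAtTarget.restrict ‹IsSeparated g› V
  haveI : IsClosedImmersion t := IsClosedImmersion.of_comp t (g ∣_ V)
  have hinj : ∀ O : (↑W : Scheme.{u}).Opens, Function.Injective (t.app O) := by
    intro O
    rw [show t.app O = _ from morphismRestrict_app s.toImage W O]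
    intro a b hab
    exact Groth.Agent.SchImageLib.toImage_app_injective s (fun U => s.ker_apply U) _
      ((ConcreteCategory.bijective_of_isIso
        ((↑V : Scheme.{u}).presheaf.map
          (eqToHom (image_morphismRestrict_preimage s.toImage W O)).op)).1 hab)
  haveI := Groth.Agent.SchImageLib.isSchemeTheoreticallyDominant_of_app_injective t hinj
  haveI : IsIso t := IsClosedImmersion.isIso_iff_ker_eq_bot.mpr t.ker_eq_bot
  exact IsIso.of_isIso_comp_left t (g ∣_ V)

end Groth.Agent.S9361
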