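import Groth.Statements.S9364
import Groth.Agent.SyntLCI.Standard
import Groth.Agent.SyntLCI.RelGCI


set_option autoImplicit false
universe u
open Synt

namespace Groth.Agent.S9364

open AlgebraicGeometry CategoryTheory in
/-- Let f : X → S, x ∈ X and V ⊆ S an affine open neighbourhood of f x. Then f is syntomic at x if and
only if some affine open U ∋ x with f(U) ⊆ V has f|_U : U → V standard syntomic. -/
theorem result {X S : Scheme.{u}} (f : X ⟶ S) (x : X) (V : S.affineOpens)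
    (hV : f.base x ∈ V.1) :
    Synt.IsSyntomicAt f x ↔
      ∃ (U : X.affineOpens) (e : U.1 ≤ f ⁻¹ᵁ V.1), x ∈ U.1 ∧ Synt.IsStandardSyntomic (f.resLE V.1 U.1 e) := by
  constructor
  · intro h
    obtain ⟨U, e, hx, hs⟩ := Groth.Agent.SyntLCI.exists_syntomic_nhd_over f h V hV
    let := (f.appLE V.1 U.1 e).hom.toAlgebra
    obtain ⟨g, hg, m, c, F, hF, -, ⟨E⟩⟩ :=
      Groth.Agent.SyntLCI.exists_relGCI_nhd_of_isSyntomic hs (U.2.primeIdealOf ⟨x, hx⟩).asIdeal
    have hxg : x ∈ X.basicOpen g := by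
      rw [X.mem_basicOpen g x hx]
      let := TopCat.Presheaf.algebra_section_stalk X.presheaf (⟨x, hx⟩ : U.1)
      have := U.2.isLocalization_stalk ⟨x, hx⟩
      exact IsLocalization.map_units (X.presheaf.stalk x) (⟨g, hg⟩ : (U.2.primeIdealOf ⟨x, hx⟩).asIdeal.primeCompl)
    have e' : X.basicOpen g ≤ f ⁻¹ᵁ V.1 := (X.basicOpen_le g).trans e
    have := U.2.isLocalization_basicOpen g
    let := (f.appLE V.1 (X.basicOpen g) e').hom.toAlgebra
    have : IsScalarTower Γ(S, V.1) Γ(X, U.1) Γ(X, X.basicOpen g) := IsScalarTower.of_algebraMap_eq' (by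
      show (f.appLE V.1 (X.basicOpen g) e').hom = (algebraMap Γ(X, U.1) Γ(X, X.basicOpen g)).comp (f.appLE V.1 U.1 e).hom
      rw [RingHom.algebraMap_toAlgebra, ← CommRingCat.hom_comp, Scheme.Hom.appLE_map])
    let E' : Γ(X, X.basicOpen g) ≃ₐ[Γ(S, V.1)] Synt.RelGCIRing Γ(S, V.1) m c F :=
      ((IsLocalization.algEquiv (Submonoid.powers g) Γ(X, X.basicOpen g) (Localization.Away g)).restrictScalars _).trans E
    exact ⟨⟨X.basicOpen g, U.2.basicOpen g⟩, e', hxg,
      Groth.Agent.SyntLCI.isStandardSyntomic_resLE f (U.2.basicOpen g) V.2 e' m c F hF E'⟩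
  · rintro ⟨U, e, hx, R, _, n, c, F, hF, e₁, e₂, heq⟩
    refine ⟨U, V, e, hx, ?_⟩
    have h1 : Groth.Agent.SyntLCI.synMor (Spec.map (CommRingCat.ofHom (algebraMap R (Synt.RelGCIRing R n c F)))) :=
      HasRingHomProperty.Spec_iff.2 ((Groth.Agent.SyntLCI.syn_algebraMap _ _).2
        (Groth.Agent.SyntLCI.isSyntomic_relGCI hF))
    have h2 : Groth.Agent.SyntLCI.synMor (Spec.map (f.appLE V.1 U.1 e)) := by
      refine (MorphismProperty.arrow_mk_iso_iff (P := Groth.Agent.SyntLCI.synMor) (Arrow.isoMk (U.2.isoSpec.symm ≪≫ e₁)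
        (V.2.isoSpec.symm ≪≫ e₂) ?_)).2 h1
      show (U.2.isoSpec.inv ≫ e₁.hom) ≫ Spec.map (CommRingCat.ofHom (algebraMap R (Synt.RelGCIRing R n c F))) =
        Spec.map (f.appLE V.1 U.1 e) ≫ V.2.isoSpec.inv ≫ e₂.hom
      refine (Category.assoc _ _ _).trans ((congrArg (fun t => U.2.isoSpec.inv ≫ t) heq).trans ?_)
      refine ((Category.assoc _ _ _).symm.trans (congrArg (fun t => t ≫ e₂.hom) ?_)).trans (Category.assoc _ _ _)
      rw [Iso.eq_comp_inv, Category.assoc, Iso.inv_comp_eq]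
      exact (Scheme.Opens.toSpecΓ_SpecMap_appLE f V.1 U.1 e).symm
    exact HasRingHomProperty.Spec_iff.1 h2

end Groth.Agent.S9364
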