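import Groth.Statements.S9366
import Groth.Agent.SyntLCI.FibDim
import Groth.Agent.FibreDimChart.Basic


set_option autoImplicit false
universe u
open Synt

namespace Groth.Agent.S9366

open AlgebraicGeometry CategoryTheory in
/-- For a relative global complete intersection R → A = R[x_1, …, x_n]/(F_1, …, F_c) and f : Spec A →
Spec R, the function x ↦ dim_x(X_{f x}) is constant with value n − c. -/
theorem result (R : Type u) [CommRing R] (n c : ℕ) (F : Fin c → MvPolynomial (Fin n) R)
    (hF : Synt.IsRelGCI R n c F) (x : ↑(Spec (CommRingCat.of (Synt.RelGCIRing R n c F)))) :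
    FlatMor.fibreDimAt (Spec.map (CommRingCat.ofHom (algebraMap R (Synt.RelGCIRing R n c F)))) x =
      ((n - c : ℕ) : WithBot ℕ∞) := by
  let A := Synt.RelGCIRing R n c F
  let f := Spec.map (CommRingCat.ofHom (algebraMap R A))
  let p : PrimeSpectrum R := PrimeSpectrum.comap (algebraMap R A) x
  have hset : (PrimeSpectrum.comap (algebraMap R A) ⁻¹' {p} : Set (PrimeSpectrum A)) = ⇑f ⁻¹' {f x} := rfl
  rw [Groth.Agent.FibreDimChart.fibreDimAt_eq_localDim_preimage]
  let e := PrimeSpectrum.preimageHomeomorphFiber R A p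
  refine Eq.trans ?_ (Groth.Agent.SyntLCI.localDim_fibre_relGCI hF p.asIdeal (e ⟨x, rfl⟩))
  exact (FieldExtLD.localDim_of_isOpenEmbedding (X := PrimeSpectrum (p.asIdeal.Fiber A)) e.isOpenEmbedding ⟨x, rfl⟩).symm

end Groth.Agent.S9366
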