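import Groth.Statements.S9367
import Groth.Agent.SyntLCI.FibDim
import Groth.Agent.FibreDimChart.Basic
import Groth.Agent.SyntLCI.Standard


set_option autoImplicit false
universe u
open Synt

namespace Groth.Agent.S9367

open AlgebraicGeometry CategoryTheory in
/-- If f : X → S is syntomic, then x ↦ dim_x(X_{f x}) is locally constant on X. -/
theorem result {X S : Scheme.{u}} (f : X ⟶ S) (hf : Synt.IsSyntomicMor f) :
    IsLocallyConstant (fun x : ↑X => FlatMor.fibreDimAt f x) := by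
  refine (IsLocallyConstant.iff_exists_open _).2 fun x => ?_
  obtain ⟨_, ⟨V, hV, rfl⟩, hxV, -⟩ :=
    S.isBasis_affineOpens.exists_subset_of_mem_open (Set.mem_univ (f x)) isOpen_univ
  obtain ⟨⟨U, hU⟩, e, hx, hs⟩ := Groth.Agent.SyntLCI.exists_syntomic_nhd_over f (hf x) ⟨V, hV⟩ hxV
  let := (f.appLE V U e).hom.toAlgebra
  obtain ⟨g, hg, m, c, F, hF, -, ⟨E⟩⟩ :=
    Groth.Agent.SyntLCI.exists_relGCI_nhd_of_isSyntomic hs (hU.primeIdealOf ⟨x, hx⟩).asIdeal
  have hxg : x ∈ X.basicOpen g := by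
    rw [X.mem_basicOpen g x hx]
    let := TopCat.Presheaf.algebra_section_stalk X.presheaf (⟨x, hx⟩ : U)
    have := hU.isLocalization_stalk ⟨x, hx⟩
    exact IsLocalization.map_units (X.presheaf.stalk x) (⟨g, hg⟩ : (hU.primeIdealOf ⟨x, hx⟩).asIdeal.primeCompl)
  have e' : X.basicOpen g ≤ f ⁻¹ᵁ V := (X.basicOpen_le g).trans e
  have := hU.isLocalization_basicOpen g
  let := (f.appLE V (X.basicOpen g) e').hom.toAlgebra
  have : IsScalarTower Γ(S, V) Γ(X, U) Γ(X, X.basicOpen g) := IsScalarTower.of_algebraMap_eq' (by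
    show (f.appLE V (X.basicOpen g) e').hom = (algebraMap Γ(X, U) Γ(X, X.basicOpen g)).comp (f.appLE V U e).hom
    rw [RingHom.algebraMap_toAlgebra, ← CommRingCat.hom_comp, Scheme.Hom.appLE_map])
  let E' : Γ(X, X.basicOpen g) ≃ₐ[Γ(S, V)] Synt.RelGCIRing Γ(S, V) m c F :=
    ((IsLocalization.algEquiv (Submonoid.powers g) Γ(X, X.basicOpen g) (Localization.Away g)).restrictScalars _).trans E
  have key : ∀ y ∈ X.basicOpen g, FlatMor.fibreDimAt f y = ((m - c : ℕ) : WithBot ℕ∞) := by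
    intro y hy
    have hB := hU.basicOpen g
    obtain ⟨Q, hQ⟩ := Groth.Agent.RelDim.exists_fibre_point Γ(S, V) Γ(X, X.basicOpen g) (hB.primeIdealOf ⟨y, hy⟩)
    refine (congrArg (FlatMor.fibreDimAt f) (hB.fromSpec_primeIdealOf ⟨y, hy⟩).symm).trans ?_
    rw [Groth.Agent.FibreDimChart.fibreDimAt_fromSpec f V hV _ hB e' _ Q hQ]
    exact Groth.Agent.SyntLCI.localDim_fibre_of_equiv hF E' _ Q
  exact ⟨X.basicOpen g, (X.basicOpen g).isOpen, hxg, fun y hy => (key y hy).trans (key x hxg).symm⟩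

end Groth.Agent.S9367
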