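import Groth.Statements.S9368
import Groth.Agent.SyntLCI.Field
import Groth.Agent.SyntLCI.Mor
import Groth.Agent.LCIPres.FibreLocus


set_option autoImplicit false
universe u
open Synt

namespace Groth.Agent.S9368

open AlgebraicGeometry CategoryTheory

theorem isGlobalCI_congr {k T T' : Type u} [Field k] [CommRing T] [CommRing T'] [Algebra k T] [Algebra k T']
    (e : T ≃ₐ[k] T') (h : Synt.IsGlobalCI k T) : Synt.IsGlobalCI k T' := by
  obtain h | ⟨n, c, hc, φ, r, hφ, hr, hd⟩ := h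
  · exact Or.inl (e.symm.toEquiv.subsingleton)
  · refine Or.inr ⟨n, c, hc, e.toAlgHom.comp φ, r, e.surjective.comp hφ, ?_, ?_⟩
    · rw [← hr]
      ext z
      simp [RingHom.mem_ker]
    · rw [← ringKrullDim_eq_of_ringEquiv e.toRingEquiv, hd]

theorem flat_of_field (k : Type u) [Field k] (X : Scheme.{u}) (p : X ⟶ Spec (CommRingCat.of k)) : Flat p := by
  infer_instance

variable (k : Type u) [Field k] (X : Scheme.{u}) (p : X ⟶ Spec (CommRingCat.of k)) {U : X.Opens} (hU : IsAffineOpen U)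

theorem stalk_equiv {x : X} (hx : x ∈ U) :
    letI := ((Scheme.ΓSpecIso (CommRingCat.of k)).inv ≫ p.appLE ⊤ U le_top).hom.toAlgebra
    letI := ((Scheme.ΓSpecIso (CommRingCat.of k)).inv ≫ p.appLE ⊤ ⊤ le_top ≫ X.presheaf.germ ⊤ x trivial).hom.toAlgebra
    Nonempty (Localization.AtPrime (hU.primeIdealOf ⟨x, hx⟩).asIdeal ≃ₐ[k] X.presheaf.stalk x) := by
  letI algk := ((Scheme.ΓSpecIso (CommRingCat.of k)).inv ≫ p.appLE ⊤ U le_top).hom.toAlgebra
  letI algs := ((Scheme.ΓSpecIso (CommRingCat.of k)).inv ≫ p.appLE ⊤ ⊤ le_top ≫ X.presheaf.germ ⊤ x trivial).hom.toAlgebra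
  letI : Algebra Γ(X, U) (X.presheaf.stalk x) := (X.presheaf.germ U x hx).hom.toAlgebra
  haveI : IsLocalization.AtPrime (X.presheaf.stalk x) (hU.primeIdealOf ⟨x, hx⟩).asIdeal :=
    hU.isLocalization_stalk ⟨x, hx⟩
  haveI : IsScalarTower k Γ(X, U) (X.presheaf.stalk x) := .of_algebraMap_eq' <| by
    show ((Scheme.ΓSpecIso (CommRingCat.of k)).inv ≫ p.appLE ⊤ ⊤ le_top ≫ X.presheaf.germ ⊤ x trivial).hom =
      (((Scheme.ΓSpecIso (CommRingCat.of k)).inv ≫ p.appLE ⊤ U le_top) ≫ X.presheaf.germ U x hx).hom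
    rw [Category.assoc, ← Scheme.Hom.appLE_map p le_top (homOfLE (le_top : U ≤ ⊤)).op, Category.assoc,
      TopCat.Presheaf.germ_res]
  exact ⟨(IsLocalization.algEquiv (hU.primeIdealOf ⟨x, hx⟩).asIdeal.primeCompl
    (Localization.AtPrime (hU.primeIdealOf ⟨x, hx⟩).asIdeal) (X.presheaf.stalk x)).restrictScalars k⟩

theorem isCIOver_stalk {x : X} (hx : x ∈ U)
    (h : letI := ((Scheme.ΓSpecIso (CommRingCat.of k)).inv ≫ p.appLE ⊤ U le_top).hom.toAlgebra
      ∀ _ : True, Synt.IsCIOver k (Localization.AtPrime (hU.primeIdealOf ⟨x, hx⟩).asIdeal)) :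
    letI := ((Scheme.ΓSpecIso (CommRingCat.of k)).inv ≫ p.appLE ⊤ ⊤ le_top ≫ X.presheaf.germ ⊤ x trivial).hom.toAlgebra
    Synt.IsCIOver k (X.presheaf.stalk x) :=
  letI := ((Scheme.ΓSpecIso (CommRingCat.of k)).inv ≫ p.appLE ⊤ U le_top).hom.toAlgebra
  letI := ((Scheme.ΓSpecIso (CommRingCat.of k)).inv ≫ p.appLE ⊤ ⊤ le_top ≫ X.presheaf.germ ⊤ x trivial).hom.toAlgebra
  Groth.Agent.SyntLCI.isCIOver_congr (stalk_equiv k X p hU hx).some (h trivial)

theorem isCIOver_of_stalk {x : X} (hx : x ∈ U) {q : PrimeSpectrum Γ(X, U)} (hq : hU.primeIdealOf ⟨x, hx⟩ = q)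
    (h : letI := ((Scheme.ΓSpecIso (CommRingCat.of k)).inv ≫ p.appLE ⊤ ⊤ le_top ≫ X.presheaf.germ ⊤ x trivial).hom.toAlgebra
      Synt.IsCIOver k (X.presheaf.stalk x)) :
    letI := ((Scheme.ΓSpecIso (CommRingCat.of k)).inv ≫ p.appLE ⊤ U le_top).hom.toAlgebra
    Synt.IsCIOver k (Localization.AtPrime q.asIdeal) := by
  letI := ((Scheme.ΓSpecIso (CommRingCat.of k)).inv ≫ p.appLE ⊤ U le_top).hom.toAlgebra
  letI := ((Scheme.ΓSpecIso (CommRingCat.of k)).inv ≫ p.appLE ⊤ ⊤ le_top ≫ X.presheaf.germ ⊤ x trivial).hom.toAlgebra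
  subst hq
  exact Groth.Agent.SyntLCI.isCIOver_congr (stalk_equiv k X p hU hx).some.symm h

open AlgebraicGeometry CategoryTheory in
/-- For X locally of finite type over a field k with structure morphism p, the following are equivalent:
(1) p is syntomic; (2) every x ∈ X has an affine open neighbourhood whose coordinate ring is a
global complete intersection over k; (3) each stalk O_{X,x} is a complete intersection ring over k
(k-algebra structures induced by p). -/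
theorem result (k : Type u) [Field k] (X : Scheme.{u}) (p : X ⟶ Spec (CommRingCat.of k)) [LocallyOfFiniteType p] :
    [Synt.IsSyntomicMor p,
      ∀ x : ↑X, ∃ U : X.affineOpens, x ∈ U.1 ∧
        letI := ((Scheme.ΓSpecIso (CommRingCat.of k)).inv ≫ p.appLE ⊤ U.1 le_top).hom.toAlgebra
        Synt.IsGlobalCI k Γ(X, U.1),
      ∀ x : ↑X,
        letI := ((Scheme.ΓSpecIso (CommRingCat.of k)).inv ≫ p.appLE ⊤ ⊤ le_top ≫ X.presheaf.germ ⊤ x trivial).hom.toAlgebra
        Synt.IsCIOver k (X.presheaf.stalk x)].TFAE := by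
  letI : Algebra k Γ(Spec (CommRingCat.of k), ⊤) := ((Scheme.ΓSpecIso (CommRingCat.of k)).inv).hom.toAlgebra
  haveI : Algebra.Etale k Γ(Spec (CommRingCat.of k), ⊤) := by
    rw [← RingHom.etale_algebraMap]
    exact RingHom.Etale.of_bijective (Scheme.ΓSpecIso (CommRingCat.of k)).symm.commRingCatIsoToRingEquiv.bijective
  let V : (Spec (CommRingCat.of k)).affineOpens := ⟨⊤, isAffineOpen_top _⟩
  tfae_have 1 → 2 := by
    intro h x
    obtain ⟨U, hU, hxU, -⟩ := exists_isAffineOpen_mem_and_subset (X := X) (show x ∈ (⊤ : X.Opens) from trivial)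
    have hs := Groth.Agent.SyntLCI.isSyntomic_appLE h V ⟨U, hU⟩ le_top
    letI alg0 : Algebra Γ(Spec (CommRingCat.of k), ⊤) Γ(X, U) := (p.appLE ⊤ U le_top).hom.toAlgebra
    letI algk : Algebra k Γ(X, U) := ((Scheme.ΓSpecIso (CommRingCat.of k)).inv ≫ p.appLE ⊤ U le_top).hom.toAlgebra
    haveI : IsScalarTower k Γ(Spec (CommRingCat.of k), ⊤) Γ(X, U) := .of_algebraMap_eq' rfl
    have hL : LCI.IsLCI k Γ(X, U) :=
      Groth.Agent.LCIPres.isLCI_trans Groth.Agent.LCIPres.isLCI_of_smooth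
        ((Groth.Agent.SyntLCI.isSyntomic_iff _ _).1 hs).2
    obtain ⟨hft, hci⟩ := (Groth.Agent.SyntLCI.isLCI_iff k _).1 hL
    obtain ⟨n, φ, hφ⟩ := Groth.Agent.SyntLCI.exists_pres k Γ(X, U)
    obtain ⟨g, hg, hG⟩ := Groth.Agent.SyntLCI.exists_isGlobalCI_away φ hφ (hU.primeIdealOf ⟨x, hxU⟩).asIdeal (hci _)
    have hle : X.basicOpen g ≤ U := X.basicOpen_le g
    refine ⟨⟨X.basicOpen g, hU.basicOpen g⟩,
      (Groth.Agent.SyntLCI.mem_basicOpen_iff_notMem hU ⟨x, hxU⟩ g).2 hg, ?_⟩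
    letI : Algebra Γ(X, U) Γ(X, X.basicOpen g) := (X.presheaf.map (homOfLE hle).op).hom.toAlgebra
    haveI : IsLocalization.Away g Γ(X, X.basicOpen g) := hU.isLocalization_basicOpen g
    letI algD : Algebra k Γ(X, X.basicOpen g) :=
      ((Scheme.ΓSpecIso (CommRingCat.of k)).inv ≫ p.appLE ⊤ (X.basicOpen g) le_top).hom.toAlgebra
    haveI : IsScalarTower k Γ(X, U) Γ(X, X.basicOpen g) := .of_algebraMap_eq' <| by
      show _ = (((Scheme.ΓSpecIso (CommRingCat.of k)).inv ≫ p.appLE ⊤ U le_top) ≫ X.presheaf.map (homOfLE hle).op).hom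
      rw [Category.assoc, Scheme.Hom.appLE_map]; rfl
    exact Groth.Agent.S9368.isGlobalCI_congr
      ((IsLocalization.algEquiv (Submonoid.powers g) (Localization.Away g) Γ(X, X.basicOpen g)).restrictScalars k) hG
  tfae_have 2 → 3 := by
    intro h x
    obtain ⟨⟨U, hU⟩, hxU, hG⟩ := h x
    letI algk : Algebra k Γ(X, U) := ((Scheme.ΓSpecIso (CommRingCat.of k)).inv ≫ p.appLE ⊤ U le_top).hom.toAlgebra
    exact Groth.Agent.S9368.isCIOver_stalk k X p hU hxU fun _ =>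
      Groth.Agent.SyntLCI.isCIOver_of_isGlobalCI (show Synt.IsGlobalCI k Γ(X, U) from hG) _
  tfae_have 3 → 1 := by
    intro h x
    obtain ⟨U, hU, hxU, -⟩ := exists_isAffineOpen_mem_and_subset (X := X) (show x ∈ (⊤ : X.Opens) from trivial)
    refine ⟨⟨U, hU⟩, V, le_top, hxU, ?_⟩
    letI alg0 : Algebra Γ(Spec (CommRingCat.of k), ⊤) Γ(X, U) := (p.appLE ⊤ U le_top).hom.toAlgebra
    letI algk : Algebra k Γ(X, U) := ((Scheme.ΓSpecIso (CommRingCat.of k)).inv ≫ p.appLE ⊤ U le_top).hom.toAlgebra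
    haveI : IsScalarTower k Γ(Spec (CommRingCat.of k), ⊤) Γ(X, U) := .of_algebraMap_eq' rfl
    have hfp : (p.appLE ⊤ U le_top).hom.FiniteType :=
      LocallyOfFiniteType.finiteType_appLE (f := p) (isAffineOpen_top _) hU le_top
    haveI : Algebra.FiniteType Γ(Spec (CommRingCat.of k), ⊤) Γ(X, U) := hfp
    haveI : Algebra.FiniteType k Γ(X, U) := Algebra.FiniteType.trans (S := Γ(Spec (CommRingCat.of k), ⊤)) inferInstance inferInstance
    have hL : LCI.IsLCI k Γ(X, U) := (Groth.Agent.SyntLCI.isLCI_iff k _).2 ⟨inferInstance, fun q => by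
      have hz : hU.fromSpec q ∈ U := hU.range_fromSpec.le ⟨q, rfl⟩
      exact Groth.Agent.S9368.isCIOver_of_stalk k X p hU hz (hU.fromSpec.isOpenEmbedding.injective (IsAffineOpen.fromSpec_primeIdealOf hU ⟨_, hz⟩)) (h _)⟩
    have hL0 : LCI.IsLCI Γ(Spec (CommRingCat.of k), ⊤) Γ(X, U) := Groth.Agent.LCIPres.isLCI_cancel_etale (A := k) hL
    refine (Groth.Agent.SyntLCI.isSyntomic_iff _ _).2 ⟨?_, hL0⟩
    haveI : Flat p := Groth.Agent.S9368.flat_of_field k X p
    exact p.flat_appLE (isAffineOpen_top _) hU le_top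
  tfae_finish

end Groth.Agent.S9368
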