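import Groth.Statements.S9373
import Groth.Agent.QCohBase.Finite

set_option autoImplicit false
universe u
open QCohSub

namespace Groth.Agent.S9373

open AlgebraicGeometry CategoryTheory in
/-- The support of a quasi-coherent O_X-module is closed under specialization. -/
theorem result (X : Scheme.{u}) (F : X.Modules) (hF : Coh.IsQCoh F) :
    StableUnderSpecialization (CohB1.support F) := by
  haveI : F.IsQuasicoherent := hF
  intro x y hxy hx
  obtain ⟨U, hU, hyU, -⟩ := TopologicalSpace.Opens.isBasis_iff_nbhd.1 X.isBasis_affineOpens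
    (U := ⊤) (TopologicalSpace.Opens.mem_top y)
  have hxU : x ∈ U := hxy.mem_open U.2 hyU
  change ¬ Subsingleton _ at hx ⊢
  rw [Groth.Agent.QCohBase.subsingleton_stalk_iff F hU y hyU]
  rw [Groth.Agent.QCohBase.subsingleton_stalk_iff F hU x hxU] at hx
  exact fun h => hx fun s => (h s).imp fun g hg => ⟨hxy.mem_open (X.basicOpen g).2 hg.1, hg.2⟩

end Groth.Agent.S9373
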