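import Groth.Statements.S9374
import Groth.Agent.FibDimComp.Basic
import Groth.Agent.FibDimComp.Affine
import Groth.Agent.AlgSpDesc.LqfLocus
import Groth.Agent.FibreDimChart.Mono
import Groth.Agent.S1343

set_option autoImplicit false
universe u
open FibDim

namespace Groth.Agent.S9374

open AlgebraicGeometry CategoryTheory in
/-- Let f : X → S be flat, locally of finite presentation, with Cohen–Macaulay fibres. Then x ↦
dim_x(X_{f x}) is locally constant on X. (The published statement also decomposes X into the open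
and closed pieces X_d = {dim_x(X_{f x}) = d} and says f has relative dimension d on X_d; this row
asserts only the local constancy.) -/
theorem result {X S : Scheme.{u}} (f : X ⟶ S) [Flat f]
    [LocallyOfFinitePresentation f] (hcm : ∀ x : X, MoreMor.IsCMAt f x) :
    IsLocallyConstant (fun x : ↑X => FlatMor.fibreDimAt f x) := by
  refine IsLocallyConstant.iff_exists_open _ |>.2 fun x => ?_
  obtain ⟨d, hd⟩ := Groth.Agent.FibreDimChart.exists_nat_fibreDimAt_eq f x
  obtain ⟨U, g, hxU, hg, hgf, hgq⟩ := (Groth.Agent.S1343.result f x d hd).1 (hcm x)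
  refine ⟨U, U.2, hxU, fun u hu => ?_⟩
  have : LocallyOfFiniteType (g ≫ (AffineSpace (ULift.{u} (Fin d)) S ↘ S)) := hg ▸ inferInstance
  have : LocallyOfFiniteType g := locallyOfFiniteType_of_comp g (AffineSpace (ULift.{u} (Fin d)) S ↘ S)
  have h := (Groth.Agent.FibDimComp.fibreDimAt_comp g (AffineSpace (ULift.{u} (Fin d)) S ↘ S) ⟨u, hu⟩).2
    (Flat.stalkMap g _)
  rw [hg, Groth.Agent.AlgSpDesc.fibreDimAt_etale_comp, Groth.Agent.FibDimComp.fibreDimAt_affineSpace,
    (Groth.Agent.AlgSpDesc.quasiFiniteAt_iff_fibreDimAt g ⟨u, hu⟩).1 (g.quasiFiniteAt _), zero_add] at h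
  show FlatMor.fibreDimAt f u = FlatMor.fibreDimAt f x
  rw [hd]
  exact h

end Groth.Agent.S9374
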