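import Groth.Statements.S9378
import Groth.Agent.ClPush.AnnIdeal
import Groth.Agent.QCohPull.Affine
import Groth.Agent.QCohBase.FiniteTypePullback
import Groth.Agent.FpqcDescent.IdealComap
import Groth.Agent.CAlgMisc.SmallA
import Groth.Agent.FormalFibRed.Core

set_option backward.isDefEq.respectTransparency.types false
set_option linter.style.haveILetI false

set_option autoImplicit false
universe u
open QCohSub

namespace Groth.Agent.S9378

open scoped TensorProduct in
lemma annihilator_baseChange {R S M : Type u} [CommRing R] [CommRing S] [Algebra R S] [Module.Flat R S]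
    [AddCommGroup M] [Module R M] [Module.Finite R M] :
    (Module.annihilator R M).map (algebraMap R S) = Module.annihilator S (S ⊗[R] M) := by
  classical
  refine le_antisymm (Ideal.map_le_iff_le_comap.2 fun r hr => Module.mem_annihilator.2 fun z => ?_) fun s hs => ?_
  · induction z using TensorProduct.induction_on with
    | zero => exact smul_zero _
    | tmul a m => rw [algebraMap_smul, ← TensorProduct.tmul_smul, Module.mem_annihilator.1 hr m, TensorProduct.tmul_zero]
    | add x y hx hy => rw [smul_add, hx, hy, add_zero]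
  obtain ⟨t, ht⟩ := Module.Finite.fg_top (R := R) (M := M)
  have key : ∀ t' : Finset M,
      s ∈ ((Submodule.span R (t' : Set M)).annihilator).map (algebraMap R S) := by
    intro t'
    induction t' using Finset.induction_on with
    | empty => simp [Submodule.annihilator_bot, Ideal.map_top]
    | insert a t' _ ih =>
      rw [Finset.coe_insert, Submodule.span_insert, show ((Submodule.span R {a}) ⊔ Submodule.span R (t' : Set M)).annihilator
          = (Submodule.span R {a}).annihilator ⊓ (Submodule.span R (t' : Set M)).annihilator from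
        le_antisymm (le_inf (Submodule.annihilator_mono le_sup_left) (Submodule.annihilator_mono le_sup_right))
          fun r hr => Submodule.mem_annihilator.2 fun m hm => by
            obtain ⟨x, hx, y, hy, rfl⟩ := Submodule.mem_sup.1 hm
            rw [smul_add, Submodule.mem_annihilator.1 hr.1 x hx, Submodule.mem_annihilator.1 hr.2 y hy, add_zero]]
      refine FormalFibRed.map_inf_of_flat _ _ ⟨?_, ih⟩
      rw [CAlgMisc.annihilator_map_flat, SetLike.mem_coe, Submodule.mem_annihilator_span_singleton]
      exact Module.mem_annihilator.1 hs _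
  have h := key t
  rw [ht, Submodule.annihilator_top] at h
  exact h


open AlgebraicGeometry CategoryTheory Opposite in
/-- Let f : Y → X be flat and F a quasi-coherent O_X-module of finite type, where the ideal sheaf J
(given by annihilators on affine opens) defines the scheme-theoretic support of F. Then the inverse
image ideal sheaf of J along f cuts out the scheme-theoretic support of f^*F. -/
theorem result {Y X : Scheme.{u}} (f : Y ⟶ X) [Flat f] (F : X.Modules)
    (hq : Coh.IsQCoh F) (hft : CohB1.IsFT F) (J : X.IdealSheafData)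
    (hJ : ∀ U : X.affineOpens, J.ideal U = Module.annihilator Γ(X, U.1) Γ(F, U.1)) :
    ∀ V : Y.affineOpens, (J.comap f).ideal V =
      Module.annihilator Γ(Y, V.1) Γ((Scheme.Modules.pullback f).obj F, V.1) := by
  haveI : F.IsQuasicoherent := hq
  haveI : ((Scheme.Modules.pullback f).obj F).IsQuasicoherent := Groth.Agent.QCohPull.isQuasicoherent_pullback _ _
  have hft' := Groth.Agent.QCohBase.isFT_pullback f hft
  suffices heq : J.comap f = Groth.Agent.ClPush.annIdeal ((Scheme.Modules.pullback f).obj F) hft' by
    intro V; rw [heq]; rfl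
  choose U hU hyU W hW hyW hle using fun y : Y => show ∃ U : X.Opens, IsAffineOpen U ∧ f y ∈ U ∧
      ∃ W : Y.Opens, IsAffineOpen W ∧ y ∈ W ∧ W ≤ f ⁻¹ᵁ U from by
    obtain ⟨U, hU, hyU, -⟩ := TopologicalSpace.Opens.isBasis_iff_nbhd.1 X.isBasis_affineOpens (TopologicalSpace.Opens.mem_top (f y))
    obtain ⟨W, hW, hyW, hle⟩ := TopologicalSpace.Opens.isBasis_iff_nbhd.1 Y.isBasis_affineOpens (U := f ⁻¹ᵁ U) hyU
    exact ⟨U, hU, hyU, W, hW, hyW, hle⟩
  refine Scheme.IdealSheafData.ext_of_iSup_eq_top (fun y => ⟨W y, hW y⟩)
    (eq_top_iff.2 fun y _ => TopologicalSpace.Opens.mem_iSup.2 ⟨y, hyW y⟩) fun y => ?_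
  rw [Groth.Agent.FpqcDescent.ideal_comap J f ⟨U y, hU y⟩ ⟨W y, hW y⟩ (hle y), hJ,
    Groth.Agent.ClPush.annIdeal_ideal]
  letI := (f.appLE (U y) (W y) (hle y)).hom.toAlgebra
  haveI : Module.Flat Γ(X, U y) Γ(Y, W y) := f.flat_appLE (hU y) (hW y) (hle y)
  haveI : Module.Finite Γ(X, U y) Γ(F, U y) := Groth.Agent.QCohBase.finite_sections F hft (hU y)
  obtain ⟨e⟩ := Groth.Agent.QCohPull.nonempty_sections_pullback f F (hW y) (hU y) (hle y)
  refine (annihilator_baseChange (R := Γ(X, U y)) (S := Γ(Y, W y)) (M := Γ(F, U y))).trans ?_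
  exact e.annihilator_eq

end Groth.Agent.S9378
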