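import Groth.Statements.S9379
import Groth.Agent.CIPres.Morphism
import Groth.Agent.S9368
import Groth.Agent.AlgStB.LocQApps


set_option autoImplicit false
universe u
open Synt

namespace Groth.Agent.S9379

open AlgebraicGeometry CategoryTheory Limits

/-- Over a field, a stalk is a complete intersection over the field iff it is a complete intersection. -/
theorem isCIOver_iff {k : Type u} [Field k] {Z : Scheme.{u}} (p : Z ⟶ Spec (CommRingCat.of k))
    [LocallyOfFiniteType p] (z : Z) :
    (letI := ((Scheme.ΓSpecIso (CommRingCat.of k)).inv ≫ p.appLE ⊤ ⊤ le_top ≫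
        Z.presheaf.germ ⊤ z trivial).hom.toAlgebra
     Synt.IsCIOver k (Z.presheaf.stalk z)) ↔ Pi1.IsCompleteIntersection (Z.presheaf.stalk z) := by
  obtain ⟨U, hU, hzU, -⟩ := exists_isAffineOpen_mem_and_subset (X := Z) (show z ∈ (⊤ : Z.Opens) from trivial)
  letI : Algebra k Γ(Spec (CommRingCat.of k), ⊤) := ((Scheme.ΓSpecIso (CommRingCat.of k)).inv).hom.toAlgebra
  letI alg0 : Algebra Γ(Spec (CommRingCat.of k), ⊤) Γ(Z, U) := (p.appLE ⊤ U le_top).hom.toAlgebra
  letI algk : Algebra k Γ(Z, U) := ((Scheme.ΓSpecIso (CommRingCat.of k)).inv ≫ p.appLE ⊤ U le_top).hom.toAlgebra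
  haveI : IsScalarTower k Γ(Spec (CommRingCat.of k), ⊤) Γ(Z, U) := .of_algebraMap_eq' rfl
  haveI : Algebra.FiniteType k Γ(Spec (CommRingCat.of k), ⊤) :=
    RingHom.FiniteType.of_surjective _ (Scheme.ΓSpecIso (CommRingCat.of k)).symm.commRingCatIsoToRingEquiv.surjective
  have hfp : (p.appLE ⊤ U le_top).hom.FiniteType :=
    LocallyOfFiniteType.finiteType_appLE (f := p) (isAffineOpen_top _) hU le_top
  haveI : Algebra.FiniteType Γ(Spec (CommRingCat.of k), ⊤) Γ(Z, U) := hfp
  haveI : Algebra.FiniteType k Γ(Z, U) :=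
    Algebra.FiniteType.trans (S := Γ(Spec (CommRingCat.of k), ⊤)) inferInstance inferInstance
  letI algs := ((Scheme.ΓSpecIso (CommRingCat.of k)).inv ≫ p.appLE ⊤ ⊤ le_top ≫
    Z.presheaf.germ ⊤ z trivial).hom.toAlgebra
  obtain ⟨e⟩ := Groth.Agent.S9368.stalk_equiv k Z p hU hzU
  have h1 : Synt.IsCIOver k (Z.presheaf.stalk z) ↔
      Synt.IsCIOver k (Localization.AtPrime (hU.primeIdealOf ⟨z, hzU⟩).asIdeal) :=
    ⟨SyntLCI.isCIOver_congr e.symm, SyntLCI.isCIOver_congr e⟩
  rw [h1, CIPres.isCIOver_iff_isCI k Γ(Z, U)]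
  exact CIPres.isCI_iff_of_ringEquiv e.toRingEquiv

/-- Over a field, the fibre stalk is the stalk. -/
theorem isCI_stalk_iff_lciAt {k : Type u} [Field k] {Z : Scheme.{u}} (p : Z ⟶ Spec (CommRingCat.of k))
    [LocallyOfFiniteType p] (z : Z) :
    Pi1.IsCompleteIntersection (Z.presheaf.stalk z) ↔ LCIPres.LCIAt p z := by
  haveI : LocallyOfFinitePresentation p := AlgStB.lfp_of_lft_noetherian p
  rw [← CIPres.isCI_fiberStalk_iff_lciAt p z]
  obtain ⟨v⟩ := FlatLocalDepth.nonempty_asFiber_stalk_equiv p z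
  have hbot : IsLocalRing.maximalIdeal ((Spec (CommRingCat.of k)).presheaf.stalk (p z)) = ⊥ := by
    have hF : IsField ((Spec (CommRingCat.of k)).presheaf.stalk (p z)) := by
      refine MulEquiv.isField ?_ (StructureSheaf.stalkIso k (p z)).symm.toRingEquiv.toMulEquiv
      exact MulEquiv.isField (Field.toIsField k) (IsLocalization.atUnits k ((p z : PrimeSpectrum k).asIdeal.primeCompl)
        (S := Localization.AtPrime (p z : PrimeSpectrum k).asIdeal) (fun x hx => isUnit_iff_ne_zero.2 fun h => hx (h ▸ zero_mem _))).symm.toRingEquiv.toMulEquiv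
    exact IsLocalRing.isField_iff_maximalIdeal_eq.1 hF
  refine CIPres.isCI_iff_of_ringEquiv (RingEquiv.trans ?_ v)
  exact (RingEquiv.quotientBot _).symm.trans (Ideal.quotEquivOfEq (by rw [hbot, Ideal.map_bot]))

theorem fibre_baseChange {X S X' S' : Scheme.{u}} (f : X ⟶ S) [LocallyOfFiniteType f] (g : S' ⟶ S)
    (g' : X' ⟶ X) (f' : X' ⟶ S') (hsq : IsPullback g' f' f g) (x' : X') :
    ∃ w : f.fiber (g (f' x')), f.fiberι _ w = g' x' ∧
      (Pi1.IsCompleteIntersection ((f'.fiber (f' x')).presheaf.stalk (f'.asFiber x')) ↔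
        Pi1.IsCompleteIntersection ((f.fiber (g (f' x'))).presheaf.stalk w)) := by
  haveI : LocallyOfFiniteType f' := MorphismProperty.of_isPullback hsq ‹_›
  let ι := Spec.map (g.residueFieldMap (f' x'))
  have hP := isPullback_fiberToSpecResidueField_of_isPullback hsq (f' x')
  let gX : f'.fiber (f' x') ⟶ f.fiber (g (f' x')) :=
    pullback.map _ _ _ _ g' ι g hsq.w.symm (by simp [ι])
  have hι : gX ≫ f.fiberι (g (f' x')) = f'.fiberι (f' x') ≫ g' := pullback.lift_fst _ _ _
  have hs : gX ≫ f.fiberToSpecResidueField (g (f' x')) = f'.fiberToSpecResidueField (f' x') ≫ ι :=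
    pullback.lift_snd _ _ _
  have lft1 : LocallyOfFiniteType (f.fiberToSpecResidueField (g (f' x'))) := MorphismProperty.pullback_snd _ _ ‹_›
  have lft2 : LocallyOfFiniteType (f'.fiberToSpecResidueField (f' x')) := MorphismProperty.pullback_snd _ _ ‹_›
  refine ⟨gX (f'.asFiber x'), ?_, ?_⟩
  · rw [← Scheme.Hom.comp_apply, hι, Scheme.Hom.comp_apply, Scheme.Hom.fiberι_asFiber]
  · haveI : LocallyOfFinitePresentation (f.fiberToSpecResidueField (g (f' x'))) :=
      AlgStB.lfp_of_lft_noetherian _
    refine (@isCI_stalk_iff_lciAt _ _ _ (f'.fiberToSpecResidueField (f' x')) lft2 _).trans (Iff.trans ?_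
      (@isCI_stalk_iff_lciAt _ _ _ (f.fiberToSpecResidueField (g (f' x'))) lft1 _).symm)
    haveI : LocallyOfFinitePresentation (f.fiberToSpecResidueField (g (f' x')) ≫ 𝟙 _) := by
      rw [Category.comp_id]; infer_instance
    exact LCIPres.lciAt_baseChange_iff (f.fiberToSpecResidueField (g (f' x'))) (𝟙 _) ι ι (𝟙 _)
      (IsPullback.of_vert_isIso ⟨by simp⟩) gX (f'.fiberToSpecResidueField (f' x'))
      (by rw [Category.comp_id, Category.comp_id]; exact hP) hs (f'.asFiber x')

open AlgebraicGeometry CategoryTheory in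
/-- For f : X → S locally of finite type, the set of points x at which the local ring of the fibre X_{f
x} is a complete intersection over κ(f x) is compatible with arbitrary base change: in a cartesian
square with base change f' : X' → S', g' : X' → X, the corresponding set for f' is the inverse image
of the one for f. (The published statement adds that, for f flat and locally of finite presentation,
the set of points at which f is syntomic is compatible with base change in the same way; this row
states only the first assertion.) -/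
theorem result {X S X' S' : Scheme.{u}} (f : X ⟶ S) [LocallyOfFiniteType f] (g : S' ⟶ S)
    (g' : X' ⟶ X) (f' : X' ⟶ S') (hsq : IsPullback g' f' f g) :
    {x' : ↑X' |
        letI := ((Scheme.ΓSpecIso (S'.residueField (f'.base x'))).inv ≫
            (f'.fiberToSpecResidueField (f'.base x')).appLE ⊤ ⊤ le_top ≫
              (f'.fiber (f'.base x')).presheaf.germ ⊤ (f'.asFiber x') trivial).hom.toAlgebra
        Synt.IsCIOver (S'.residueField (f'.base x')) ((f'.fiber (f'.base x')).presheaf.stalk (f'.asFiber x'))} =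
      g'.base ⁻¹' {x : ↑X |
        letI := ((Scheme.ΓSpecIso (S.residueField (f.base x))).inv ≫
            (f.fiberToSpecResidueField (f.base x)).appLE ⊤ ⊤ le_top ≫
              (f.fiber (f.base x)).presheaf.germ ⊤ (f.asFiber x) trivial).hom.toAlgebra
        Synt.IsCIOver (S.residueField (f.base x)) ((f.fiber (f.base x)).presheaf.stalk (f.asFiber x))} := by
  ext x'
  simp only [Set.mem_ofPred_eq, Set.mem_preimage]
  haveI : LocallyOfFiniteType f' := MorphismProperty.of_isPullback hsq ‹_›
  refine (@Groth.Agent.S9379.isCIOver_iff _ _ _ (f'.fiberToSpecResidueField (f' x'))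
      (MorphismProperty.pullback_snd _ _ ‹LocallyOfFiniteType f'›) (f'.asFiber x')).trans (Iff.trans ?_
    (@Groth.Agent.S9379.isCIOver_iff _ _ _ (f.fiberToSpecResidueField (f (g' x')))
      (MorphismProperty.pullback_snd _ _ ‹LocallyOfFiniteType f›) (f.asFiber (g' x'))).symm)
  obtain ⟨w, hw, hiff⟩ := Groth.Agent.S9379.fibre_baseChange f g g' f' hsq x'
  rw [hiff]
  obtain ⟨u⟩ := Groth.Agent.FlatLocalDepth.nonempty_fibre_stalk_equiv f _ w (g'.base x') hw
  obtain ⟨v⟩ := Groth.Agent.FlatLocalDepth.nonempty_asFiber_stalk_equiv f (g'.base x')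
  exact Groth.Agent.CIPres.isCI_iff_of_ringEquiv (u.symm.trans v)

end Groth.Agent.S9379
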