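import Groth.Statements.S9381
import Groth.Agent.AlgSpDesc.ResTrdeg
import Groth.Agent.DimTheory.IrrFibres

set_option autoImplicit false
universe u
open FibDim

namespace Groth.Agent.S9381

open AlgebraicGeometry CategoryTheory in
/-- Let f : X → S be locally of finite type and x ⤳ x' a nontrivial specialization of points of X in the
same fibre (f x = f x'). Then trdeg_{κ(f x)} κ(x) > trdeg_{κ(f x')} κ(x'). -/
theorem result {X S : Scheme.{u}} (f : X ⟶ S) [LocallyOfFiniteType f] (x x' : X)
    (hsp : x ⤳ x') (hne : x ≠ x') (hfx : f.base x = f.base x') :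
    @Algebra.trdeg (S.residueField (f.base x')) (X.residueField x') _ _ (f.residueFieldMap x').hom.toAlgebra <
      @Algebra.trdeg (S.residueField (f.base x)) (X.residueField x) _ _ (f.residueFieldMap x).hom.toAlgebra := by
  obtain ⟨z, hz⟩ := (f.range_fiberι (f.base x)).ge (show x ∈ f.base ⁻¹' {f.base x} from rfl)
  obtain ⟨z', hz'⟩ := (f.range_fiberι (f.base x)).ge (show x' ∈ f.base ⁻¹' {f.base x} from hfx.symm)
  subst hz'
  let ft := f.fiberToSpecResidueField (f.base x)
  have : LocallyOfFiniteType ft := MorphismProperty.pullback_snd _ _ inferInstance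
  have hlt : z' < z := by
    have h1 : z ⤳ z' := (f.fiberι (f.base x)).isEmbedding.toIsInducing.specializes_iff.1 (by rw [hz]; exact hsp)
    refine ⟨h1, fun h2 => hne ?_⟩
    have h3 : z' ⤳ z := h2
    exact hz.symm.trans (congrArg (f.fiberι (f.base x)) (h1.antisymm h3).eq)
  obtain ⟨n, hn, hn'⟩ := Groth.Agent.DimTheory.exists_height_eq (k := S.residueField (f.base x)) ft z
  obtain ⟨m, hm, hm'⟩ := Groth.Agent.DimTheory.exists_height_eq (k := S.residueField (f.base x)) ft z'
  rw [Groth.Agent.FlatEquidim.resTrdeg_fiber_eq] at hn hm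
  rw [hz] at hn
  show Dual3.resTrdeg f (f.fiberι (f.base x) z') < Dual3.resTrdeg f x
  rw [show Dual3.resTrdeg f x = n from hn, show Dual3.resTrdeg f (f.fiberι (f.base x) z') = m from hm]
  have := Order.height_strictMono hlt (Groth.Agent.DimTheory.height_lt_top (k := S.residueField (f.base x)) ft z')
  rw [hn', hm'] at this
  exact_mod_cast this

end Groth.Agent.S9381
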