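import Groth.Statements.S9384
import Groth.Agent.S9370
import Groth.Agent.S9371
import Groth.Agent.QCohBase.Exact
import Groth.Prelude.Def_Omega4


set_option autoImplicit false
universe u
open OmegaSh

namespace Groth.Agent.S9384

open AlgebraicGeometry CategoryTheory CategoryTheory.Limits Opposite Groth.Agent.S9370 Groth.Agent.S9371

theorem nat_res {X : Scheme.{u}} {M N : X.Modules} (φ : M ⟶ N) {U V : X.Opens} (i : op U ⟶ op V) (x : Γ(M, U)) :
    φ.app V (M.presheaf.map i x) = N.presheaf.map i (φ.app U x) :=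
  ConcreteCategory.congr_hom (φ.mapPresheaf.naturality i) x

theorem map_map {X : Scheme.{u}} (M : X.Modules) {A B C : X.Opens} (j : op A ⟶ op B) (k : op B ⟶ op C)
    (l : op A ⟶ op C) (x : Γ(M, A)) : M.presheaf.map k (M.presheaf.map j x) = M.presheaf.map l x := by
  rw [← CategoryTheory.comp_apply, ← Functor.map_comp]; rfl

theorem rmap_map {X : Scheme.{u}} {A B C : X.Opens} (j : op A ⟶ op B) (k : op B ⟶ op C)
    (l : op A ⟶ op C) (x : Γ(X, A)) : X.presheaf.map k (X.presheaf.map j x) = X.presheaf.map l x := by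
  rw [← CategoryTheory.comp_apply, ← Functor.map_comp]; rfl

theorem app_rmap {X Y : Scheme.{u}} (f : X ⟶ Y) {U V : Y.Opens} (h : V ≤ U) (x : Γ(Y, U)) :
    f.app V (Y.presheaf.map (homOfLE h).op x) =
      X.presheaf.map (homOfLE (f.preimage_mono h)).op (f.app U x) :=
  ConcreteCategory.congr_hom (f.naturality (homOfLE h).op) x

theorem toImage_inj {X Y : Scheme.{u}} (f : X ⟶ Y) [QuasiCompact f] (W : f.image.Opens) (x : Γ(f.image, W))
    (hx : f.toImage.app W x = 0) : x = 0 := by
  refine TopCat.Presheaf.section_ext f.image.sheaf W x 0 fun y hy => ?_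
  apply Scheme.Hom.stalkFunctor_toImage_injective f y
  have e1 := TopCat.Presheaf.stalkFunctor_map_germ_apply W y hy f.toImage.c x
  have e2 := TopCat.Presheaf.stalkFunctor_map_germ_apply W y hy f.toImage.c 0
  refine e1.trans (Eq.trans ?_ e2.symm)
  exact congrArg _ (hx.trans (map_zero (f.toImage.app W).hom).symm)

theorem exists_ideal_sect {Z X : Scheme.{u}} (i : Z ⟶ X) [QuasiCompact i] (U : X.Opens) (x : Γ(X, U))
    (hx : i.app U x = 0) : ∃ t : Γ(ClSub.idealMod i.ker, U), OmegaSh.idealSect i.ker U t = x := by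
  have h0 : i.ker.subschemeι.app U x = 0 := by
    apply toImage_inj i
    have key : ∀ (a b : Z ⟶ X), a = b → b.app U x = 0 → a.app U x = 0 := by
      rintro a _ rfl h; exact h
    have := key (i.toImage ≫ i.imageι) i i.toImage_imageι hx
    exact this
  let T : ShortComplex X.Modules :=
    ShortComplex.mk (ClSub.idealModι i.ker) (ClSub.toSubscheme i.ker) (kernel.condition _)
  have hT : T.Exact := ShortComplex.exact_of_f_is_kernel _ (kernelIsKernel (ClSub.toSubscheme i.ker))
  haveI : Mono T.f := inferInstanceAs (Mono (kernel.ι _))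
  exact Groth.Agent.QCohBase.sections_exact_left hT x h0

theorem ideal_app_zero {Z X : Scheme.{u}} (i : Z ⟶ X) (U : X.Opens) (t : Γ(ClSub.idealMod i.ker, U)) :
    i.app U (OmegaSh.idealSect i.ker U t) = 0 := by
  have key : ∀ (a b : Z ⟶ X), a = b → a.app U (OmegaSh.idealSect i.ker U t) = 0 →
      b.app U (OmegaSh.idealSect i.ker U t) = 0 := by
    rintro a _ rfl h; exact h
  refine key (i.toImage ≫ i.imageι) i i.toImage_imageι ?_
  have h0 : i.ker.subschemeι.app U (OmegaSh.idealSect i.ker U t) = 0 :=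
    ConcreteCategory.congr_hom (congrArg (fun ψ => ψ.app U) (kernel.condition (ClSub.toSubscheme i.ker))) t
  rw [Scheme.Hom.comp_app]
  exact (congrArg (i.toImage.app _) h0).trans (map_zero _)

section
variable {Z X : Scheme.{u}} (i : Z ⟶ X) (g : X ⟶ Z) (hgi : i ≫ g = 𝟙 Z)
include hgi

theorem hle (V : Z.Opens) : i ⁻¹ᵁ (g ⁻¹ᵁ V) = V := congrArg (fun m : Z ⟶ Z => m ⁻¹ᵁ V) hgi

theorem retr (V : Z.Opens) (z : Γ(Z, V)) :
    i.app (g ⁻¹ᵁ V) (g.app V z) = Z.presheaf.map (homOfLE (hle i g hgi V).le).op z := by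
  have key : ∀ (m : Z ⟶ Z) (e : m = 𝟙 Z) (h : m ⁻¹ᵁ V ≤ V),
      m.app V z = Z.presheaf.map (homOfLE h).op z := by
    rintro m rfl h
    rw [Scheme.Hom.id_app]
    show z = Z.presheaf.map (𝟙 _) z
    rw [CategoryTheory.Functor.map_id]; rfl
  exact key (i ≫ g) hgi _

/-- the open on which `s` and `g♯ i♯ s` can be compared -/
abbrev U₁ (U : X.Opens) : X.Opens := U ⊓ g ⁻¹ᵁ (i ⁻¹ᵁ U)

theorem le_U₁ (U : X.Opens) : i ⁻¹ᵁ U ≤ i ⁻¹ᵁ (U₁ i g U) :=
  fun z hz => ⟨hz, (hle i g hgi (i ⁻¹ᵁ U)).ge hz⟩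

/-- `s ↦ s - g♯ i♯ s`. -/
noncomputable def diff (U : X.Opens) : Γ(X, U) →+ Γ(X, U₁ i g U) :=
  (X.presheaf.map (homOfLE (inf_le_left : U₁ i g U ≤ U)).op).hom.toAddMonoidHom -
    ((X.presheaf.map (homOfLE (inf_le_right : U₁ i g U ≤ g ⁻¹ᵁ (i ⁻¹ᵁ U))).op).hom.comp
      ((g.app (i ⁻¹ᵁ U)).hom.comp (i.app U).hom)).toAddMonoidHom

theorem app_diff (U : X.Opens) (s : Γ(X, U)) : i.app (U₁ i g U) (diff i g U s) = 0 := by
  show i.app _ (X.presheaf.map _ s - X.presheaf.map _ (g.app _ (i.app U s))) = 0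
  rw [map_sub, app_rmap i, app_rmap i, retr i g hgi, rmap_map, sub_eq_zero]

end

theorem aux {Z X S : Scheme.{u}} (f : X ⟶ S) (i : Z ⟶ X) [QuasiCompact i]
    (g : X ⟶ Z) (hgi : i ≫ g = 𝟙 Z) (hgS : g ≫ i ≫ f = f)
    (ΩX : X.Modules) (dX : OmegaSh.Der f ΩX) (hX : OmegaSh.IsUniversal dX)
    (ΩZ : Z.Modules) (dZ : OmegaSh.Der (i ≫ f) ΩZ) (hZ : OmegaSh.IsUniversal dZ)
    (φ : Omega.conormal i ⟶ (Scheme.Modules.pullback i).obj ΩX) (hφ : OmegaSh.IsConormalDiff i dX φ)
    (c : (Scheme.Modules.pullback i).obj ΩX ⟶ ΩZ) (hc : OmegaSh.IsDiffCompat i dX dZ c) :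
    ∃ w : φ ≫ c = 0, (ShortComplex.mk φ c w).Exact ∧ (∃ r : (Scheme.Modules.pullback i).obj ΩX ⟶ Omega.conormal i, φ ≫ r = 𝟙 _) ∧
      ∃ σ : ΩZ ⟶ (Scheme.Modules.pullback i).obj ΩX, σ ≫ c = 𝟙 _ := by
  let adj := Scheme.Modules.pullbackPushforwardAdjunction i
  let P := (Scheme.Modules.pullback i).obj ΩX
  let C := Omega.conormal i
  -- the section `σ`
  obtain ⟨a, ha, -⟩ := (hZ _ (pushDer (i ≫ f) f g (𝟙 S)
    (by rw [Category.comp_id, hgS]) ΩX dX))
  have hi : ∀ V : Z.Opens, V ≤ i ⁻¹ᵁ (g ⁻¹ᵁ V) := fun V => (hle i g hgi V).ge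
  let L : ΩZ ⟶ (Scheme.Modules.pushforward (𝟙 Z)).obj P :=
    a ≫ (Scheme.Modules.pushforward g).map (adj.unit.app ΩX) ≫
      (Scheme.Modules.pushforwardComp i g).hom.app P ≫ (Scheme.Modules.pushforwardCongr hgi).hom.app P
  let σ : ΩZ ⟶ P := L ≫ (Scheme.Modules.pushforwardId Z).hom.app P
  have hσ : ∀ (V : Z.Opens) (z : Γ(Z, V)), σ.app V (dZ.app V z) =
      P.presheaf.map (homOfLE (hi V)).op (OmegaSh.pullSect i ΩX (g ⁻¹ᵁ V) (dX.app (g ⁻¹ᵁ V) (g.app V z))) := by
    intro V z
    have h0 : a.app V (dZ.app V z) = dX.app (g ⁻¹ᵁ V) (g.app V z) :=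
      PresheafOfModules.Derivation.congr_d ha (X := op V) z
    rw [← h0]
    simp only [σ, L, Scheme.Modules.Hom.comp_app, Scheme.Modules.pushforwardComp_hom_app_app,
      Scheme.Modules.pushforwardCongr_hom_app_app, Category.id_comp, Category.comp_id]
    rfl
  have hex : ∀ (U : X.Opens) (s : Γ(X, U)), ∃ t : Γ(ClSub.idealMod i.ker, U₁ i g U),
      OmegaSh.idealSect i.ker _ t = diff i g U s :=
    fun U s => exists_ideal_sect i _ _ (app_diff i g hgi U s)
  choose T hT using hex
  let cl : ∀ U : X.Opens, Γ(X, U) → Γ(C, i ⁻¹ᵁ U) := fun U s =>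
    C.presheaf.map (homOfLE (le_U₁ i g hgi U)).op (OmegaSh.conormalSect i _ (T U s))
  have cl_add : ∀ U s s', cl U (s + s') = cl U s + cl U s' := by
    intro U s s'
    have : T U (s + s') = T U s + T U s' := iSect_inj _ _ (by rw [map_add, hT, hT, hT, map_add])
    simp only [cl, this, map_add]
  let D : OmegaSh.Der f ((Scheme.Modules.pushforward i).obj C) :=
    { d := fun {U} => AddMonoidHom.mk' (cl U.unop) (cl_add U.unop)
      d_mul := by
        intro U s s'
        show cl U.unop (s * s') = i.app U.unop s • cl U.unop s' + i.app U.unop s' • cl U.unop s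
        let res := X.presheaf.map (homOfLE (inf_le_left : U₁ i g U.unop ≤ U.unop)).op
        let gh := X.presheaf.map (homOfLE (inf_le_right : U₁ i g U.unop ≤ g ⁻¹ᵁ (i ⁻¹ᵁ U.unop))).op
          (g.app (i ⁻¹ᵁ U.unop) (i.app U.unop s'))
        have e : T U.unop (s * s') = res s • T U.unop s' + gh • T U.unop s := by
          apply iSect_inj
          have hsm : ∀ (r : Γ(X, U₁ i g U.unop)) (t : Γ(ClSub.idealMod i.ker, U₁ i g U.unop)),
              OmegaSh.idealSect i.ker _ (r • t) = r * OmegaSh.idealSect i.ker _ t :=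
            fun r t => Scheme.Modules.Hom.app_smul (ClSub.idealModι i.ker) r t
          rw [map_add, hsm, hsm, hT, hT, hT]
          show X.presheaf.map _ (s * s') - X.presheaf.map _ (g.app _ (i.app _ (s * s'))) =
            res s * (res s' - gh) + gh * (res s - X.presheaf.map _ (g.app _ (i.app _ s)))
          simp only [map_mul, gh, res]
          ring
        have h1 : Z.presheaf.map (homOfLE (le_U₁ i g hgi U.unop)).op (i.app _ (res s)) = i.app U.unop s := by
          rw [app_rmap i, rmap_map _ _ (𝟙 _), CategoryTheory.Functor.map_id]; rfl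
        have h2 : Z.presheaf.map (homOfLE (le_U₁ i g hgi U.unop)).op (i.app _ gh) = i.app U.unop s' := by
          rw [app_rmap i, retr i g hgi, rmap_map _ _ ((homOfLE ((i.preimage_mono inf_le_right).trans (hle i g hgi _).le)).op),
            rmap_map _ _ (𝟙 _), CategoryTheory.Functor.map_id]; rfl
        have hl : ∀ (r : Γ(X, U₁ i g U.unop)) (t : Γ(ClSub.idealMod i.ker, U₁ i g U.unop)),
            OmegaSh.conormalSect i _ (r • t) = i.app _ r • OmegaSh.conormalSect i _ t :=
          fun r t => OmegaSh.pullSect_smul i _ _ r t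
        simp only [cl, e, map_add, hl, Scheme.Modules.map_smul, h1, h2]
      d_map := by
        intro U V j s
        show cl V.unop (X.presheaf.map j s) = C.presheaf.map _ (cl U.unop s)
        have hVU : V.unop ≤ U.unop := j.unop.le
        have hle₁ : U₁ i g V.unop ≤ U₁ i g U.unop :=
          inf_le_inf hVU (g.preimage_mono (i.preimage_mono hVU))
        have e : T V.unop (X.presheaf.map j s) =
            (ClSub.idealMod i.ker).presheaf.map (homOfLE hle₁).op (T U.unop s) := by
          apply iSect_inj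
          have hn : OmegaSh.idealSect i.ker _ ((ClSub.idealMod i.ker).presheaf.map (homOfLE hle₁).op (T U.unop s)) =
              X.presheaf.map (homOfLE hle₁).op (OmegaSh.idealSect i.ker _ (T U.unop s)) :=
            nat_res (ClSub.idealModι i.ker) _ _
          rw [hn, hT, hT]
          show X.presheaf.map _ (X.presheaf.map (homOfLE hVU).op s) -
              X.presheaf.map _ (g.app _ (i.app _ (X.presheaf.map (homOfLE hVU).op s))) =
            X.presheaf.map _ (X.presheaf.map _ s - X.presheaf.map _ (g.app _ (i.app _ s)))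
          rw [map_sub, app_rmap i, app_rmap g, rmap_map _ _ ((homOfLE (inf_le_left.trans hVU)).op),
            rmap_map _ _ ((homOfLE (inf_le_right.trans (g.preimage_mono (i.preimage_mono hVU)))).op), rmap_map, rmap_map]
        simp only [cl, e]
        rw [show OmegaSh.conormalSect i _ ((ClSub.idealMod i.ker).presheaf.map (homOfLE hle₁).op (T U.unop s)) =
            C.presheaf.map (homOfLE (i.preimage_mono hle₁)).op (OmegaSh.conormalSect i _ (T U.unop s)) from
          OmegaSh.pullSect_map i _ hle₁ _]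
        rw [map_map C _ _ ((homOfLE ((i.preimage_mono hVU).trans (le_U₁ i g hgi _))).op)]
        exact (map_map C _ _ _ _).symm
      d_app := by
        intro V a
        show cl _ (f.app V.unop a) = 0
        have e : T _ (f.app V.unop a) = 0 := by
          apply iSect_inj
          rw [hT, map_zero]
          show X.presheaf.map _ (f.app V.unop a) - X.presheaf.map _ (g.app _ (i.app _ (f.app V.unop a))) = 0
          have key : ∀ (m : X ⟶ S) (e : m = f) (h₁ : U₁ i g (f ⁻¹ᵁ V.unop) ≤ m ⁻¹ᵁ V.unop)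
              (h₂ : U₁ i g (f ⁻¹ᵁ V.unop) ≤ f ⁻¹ᵁ V.unop),
              X.presheaf.map (homOfLE h₂).op (f.app V.unop a) = X.presheaf.map (homOfLE h₁).op (m.app V.unop a) := by
            rintro m rfl h₁ h₂; rfl
          rw [sub_eq_zero]
          exact key (g ≫ i ≫ f) hgS _ _
        simp only [cl, e, map_zero] }
  obtain ⟨b, hb, -⟩ := hX _ D
  let r : P ⟶ C := (adj.homEquiv _ _).symm b
  have hr : ∀ (U : X.Opens) (s : Γ(X, U)),
      r.app (i ⁻¹ᵁ U) (OmegaSh.pullSect i ΩX U (dX.app U s)) = cl U s := by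
    intro U s
    have h0 : adj.homEquiv _ _ r = b := Equiv.apply_symm_apply _ _
    rw [adj.homEquiv_unit] at h0
    refine (ConcreteCategory.congr_hom (congrArg (fun ψ => ψ.app U) h0) _).trans ?_
    exact PresheafOfModules.Derivation.congr_d hb (X := op U) s
  have w : φ ≫ c = 0 := by
    apply (adj.homEquiv _ _).injective
    refine Scheme.Modules.hom_ext _ _ fun U => ?_
    ext t
    rw [adj.homEquiv_unit, adj.homEquiv_unit]
    show c.app _ (φ.app _ (OmegaSh.conormalSect i U t)) = 0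
    rw [hφ, hc, ideal_app_zero, map_zero]
  have hφr : φ ≫ r = 𝟙 _ := by
    apply (adj.homEquiv _ _).injective
    refine Scheme.Modules.hom_ext _ _ fun U => ?_
    ext t
    rw [adj.homEquiv_unit, adj.homEquiv_unit]
    show r.app _ (φ.app _ (OmegaSh.conormalSect i U t)) = OmegaSh.conormalSect i U t
    rw [hφ, hr]
    have e : T U (OmegaSh.idealSect i.ker U t) =
        (ClSub.idealMod i.ker).presheaf.map (homOfLE (inf_le_left : U₁ i g U ≤ U)).op t := by
      apply iSect_inj
      refine (hT _ _).trans (Eq.trans ?_ (nat_res (ClSub.idealModι i.ker) _ t).symm)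
      show X.presheaf.map _ _ - X.presheaf.map _ (g.app _ (i.app U _)) = _
      rw [ideal_app_zero, map_zero, map_zero, sub_zero]
      rfl
    simp only [cl, e]
    rw [show OmegaSh.conormalSect i _ ((ClSub.idealMod i.ker).presheaf.map (homOfLE (inf_le_left : U₁ i g U ≤ U)).op t) =
        C.presheaf.map (homOfLE (i.preimage_mono inf_le_left)).op (OmegaSh.conormalSect i U t) from
      OmegaSh.pullSect_map i _ _ _]
    rw [map_map C _ _ (𝟙 _), CategoryTheory.Functor.map_id]; rfl
  have hσc : σ ≫ c = 𝟙 _ := by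
    refine (hZ _ dZ).unique ?_ ?_
    · apply PresheafOfModules.Derivation.ext
      funext V
      apply AddMonoidHom.ext
      intro z
      show c.app V.unop (σ.app V.unop (dZ.app V.unop z)) = dZ.app V.unop z
      rw [hσ, nat_res c, hc, retr i g hgi, ← app_res dZ, rmap_map _ _ (𝟙 _), CategoryTheory.Functor.map_id]
      rfl
    · apply PresheafOfModules.Derivation.ext
      funext V
      apply AddMonoidHom.ext
      intro z
      rfl
  have hid : r ≫ φ + c ≫ σ = 𝟙 P := by
    apply (adj.homEquiv _ _).injective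
    refine (hX _ (dX.postcomp (adj.homEquiv _ _ (𝟙 P)).val)).unique ?_ rfl
    apply PresheafOfModules.Derivation.ext
    funext U
    apply AddMonoidHom.ext
    intro s
    rw [adj.homEquiv_unit, adj.homEquiv_unit]
    show φ.app _ (r.app _ (OmegaSh.pullSect i ΩX U.unop (dX.app U.unop s))) +
        σ.app _ (c.app _ (OmegaSh.pullSect i ΩX U.unop (dX.app U.unop s))) =
      OmegaSh.pullSect i ΩX U.unop (dX.app U.unop s)
    rw [hr, hc, hσ]
    simp only [cl]
    rw [nat_res φ, hφ, hT]
    show P.presheaf.map _ (OmegaSh.pullSect i ΩX _ (dX.app _ (X.presheaf.map _ s -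
      X.presheaf.map _ (g.app _ (i.app U.unop s))))) + _ = _
    rw [map_sub, map_sub, map_sub, app_res dX, app_res dX, OmegaSh.pullSect_map, OmegaSh.pullSect_map,
      map_map P _ _ (𝟙 _), map_map P _ _ ((homOfLE (hi (i ⁻¹ᵁ U.unop))).op), sub_add_cancel,
      CategoryTheory.Functor.map_id]
    rfl
  exact ⟨w, (ShortComplex.Splitting.mk r σ hφr hσc hid).exact, ⟨r, hφr⟩, σ, hσc⟩


open AlgebraicGeometry CategoryTheory Limits in
/-- Let i : Z → X be a quasi-compact immersion of schemes over S admitting a left inverse g : X → Z over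
S. Then the canonical sequence 0 → C_{Z/X} → i^*Ω_{X/S} → Ω_{Z/S} → 0 is split exact (receptacle
form; the maps are pinned by their values on sections). (The published statement also covers
immersions with only a local left inverse, where the sequence is locally split, and arbitrary
immersions; this row assumes a global left inverse over S and i quasi-compact. The case of a section
s of a morphism p : X → S, where Ω_{S/S} = 0 and the map C_{S/X} → s^*Ω_{X/S} is an isomorphism, is
the instance Z = S, i = s, g = p.) -/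
theorem result {Z X S : Scheme.{u}} (f : X ⟶ S) (i : Z ⟶ X) [IsImmersion i] [QuasiCompact i]
    (g : X ⟶ Z) (hgi : i ≫ g = 𝟙 Z) (hgS : g ≫ i ≫ f = f)
    (ΩX : X.Modules) (dX : OmegaSh.Der f ΩX) (hX : OmegaSh.IsUniversal dX)
    (ΩZ : Z.Modules) (dZ : OmegaSh.Der (i ≫ f) ΩZ) (hZ : OmegaSh.IsUniversal dZ)
    (φ : Omega.conormal i ⟶ (Scheme.Modules.pullback i).obj ΩX) (hφ : OmegaSh.IsConormalDiff i dX φ)
    (c : (Scheme.Modules.pullback i).obj ΩX ⟶ ΩZ) (hc : OmegaSh.IsDiffCompat i dX dZ c) :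
    ∃ w : φ ≫ c = 0, (ShortComplex.mk φ c w).Exact ∧ (∃ r : (Scheme.Modules.pullback i).obj ΩX ⟶ Omega.conormal i, φ ≫ r = 𝟙 _) ∧
      ∃ σ : ΩZ ⟶ (Scheme.Modules.pullback i).obj ΩX, σ ≫ c = 𝟙 _ := by
  exact aux f i g hgi hgS ΩX dX hX ΩZ dZ hZ φ hφ c hc

end Groth.Agent.S9384
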