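import Groth.Statements.S9385
import Groth.Agent.SchImageLib.Immersion

set_option autoImplicit false
universe u
open SchDense

namespace Groth.Agent.S9385

open AlgebraicGeometry CategoryTheory in
/-- Let h : Z → X be an immersion, and suppose that either Z is reduced or h is quasi-compact. Write Z̄
⊆ X for the scheme-theoretic image of h. Then Z → Z̄ is an open immersion identifying Z with a
scheme-theoretically dense (in the for-every-open sense) and topologically dense open subscheme of
Z̄. -/
theorem result {Z X : Scheme.{u}} (h : Z ⟶ X) [IsImmersion h]
    (hyp : QuasiCompact h ∨ IsReduced Z) :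
    ∃ hI : IsOpenImmersion h.toImage,
      (∀ W : h.image.Opens, IsSchemeTheoreticallyDominant
          (h.image.homOfLE (inf_le_right : @Scheme.Hom.opensRange _ _ h.toImage hI ⊓ W ≤ W))) ∧
        DenseRange h.toImage.base := by
  have hker : ∀ U : X.affineOpens, h.ker.ideal U = RingHom.ker (h.app U).hom := by
    rcases hyp with hq | hr
    · exact fun U => h.ker_apply U
    · exact fun U => Groth.Agent.SchImageLib.ker_ideal_eq h U
  have hsupp : (h.ker.support : Set X) = closure (Set.range h) := by
    rcases hyp with hq | hr
    · exact congrArg _ rfl |>.trans h.support_ker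
    · exact Groth.Agent.SchImageLib.support_ker_eq h
  have hI := Groth.Agent.SchImageLib.isOpenImmersion_toImage h hker
  exact ⟨hI, Groth.Agent.SchImageLib.isSchemeTheoreticallyDominant_homOfLE h.toImage
    (Groth.Agent.SchImageLib.toImage_app_injective h hker),
    Groth.Agent.SchImageLib.denseRange_toImage h hsupp⟩

end Groth.Agent.S9385
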