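import Groth.Statements.S9395
import Mathlib
import Groth.Agent.N2Lib.Basic
-- import your own Groth.Agent.* helpers here

set_option autoImplicit false
universe u
open CAlg

namespace Groth.Agent.S9395

/-- For a Noetherian domain R, if the Laurent polynomial ring R[X, 1/X] (the localization of R[X] away
from X) is N-1, then R is N-1. -/
theorem result (R : Type u) [CommRing R] [IsDomain R] [IsNoetherianRing R]
    (S : Type u) [CommRing S] [IsDomain S] [Algebra (Polynomial R) S]
    [IsLocalization.Away (Polynomial.X : Polynomial R) S] (h : CAlg.IsN1 S) : CAlg.IsN1 R := by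
  classical
  have : IsNoetherianRing S := IsLocalization.isNoetherianRing (Submonoid.powers (Polynomial.X : Polynomial R)) S inferInstance
  let ev : S →+* R := IsLocalization.Away.lift (Polynomial.X : Polynomial R) (g := Polynomial.evalRingHom 1) (by simp)
  let j : R →+* S := (algebraMap (Polynomial R) S).comp Polynomial.C
  have hev : ∀ r, ev (j r) = r := fun r => by simp [ev, j]
  have hj : Function.Injective j := fun a b hab => by simpa [hev] using congrArg ev hab
  let K := FractionRing S
  let g : R →+* K := (algebraMap S K).comp j
  have hg : Function.Injective g := (IsFractionRing.injective S K).comp hj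
  let φ : FractionRing R →+* K := IsFractionRing.lift hg
  have hφ : ∀ r, φ (algebraMap R _ r) = algebraMap S K (j r) := fun r => IsFractionRing.lift_algebraMap hg r
  let T : Set K := φ '' {c | IsIntegral R c}
  have hT : Submodule.span S T ≤ Subalgebra.toSubmodule (integralClosure S K) := by
    refine Submodule.span_le.mpr ?_
    rintro - ⟨c, ⟨P, hP, hPc⟩, rfl⟩
    refine ⟨P.map j, hP.map j, ?_⟩
    have h1 := congrArg φ hPc
    rw [Polynomial.hom_eval₂, map_zero] at h1
    rw [Polynomial.eval₂_map, ← h1]
    congr 1
    exact RingHom.ext fun r => (hφ r).symm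
  have hfg : (Submodule.span S T).FG := by
    have : Module.Finite S (integralClosure S K) := h
    have : IsNoetherian S (Subalgebra.toSubmodule (integralClosure S K)) := isNoetherian_of_isNoetherianRing_of_finite S (integralClosure S K)
    exact isNoetherian_submodule.mp this _ hT
  obtain ⟨T', hT', hspan⟩ := (Submodule.fg_span_iff_fg_span_finset_subset T).mp hfg
  choose! c hc hc' using fun t (ht : t ∈ T') => hT' ht
  obtain ⟨⟨d, hd⟩, hdt⟩ := IsLocalization.exist_integer_multiples (nonZeroDivisors R) T' c
  choose! r hr using hdt
  have hN : (Submodule.span R ((T'.image c : Finset (FractionRing R)) : Set (FractionRing R))) =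
      Subalgebra.toSubmodule (integralClosure R (FractionRing R)) := by
    refine le_antisymm (Submodule.span_le.mpr fun y hy => ?_) fun x hx => ?_
    · obtain ⟨t, ht, rfl⟩ := Finset.mem_image.mp hy
      exact hc t ht
    · have hxT : φ x ∈ Submodule.span S (T' : Set K) := hspan ▸ Submodule.subset_span ⟨x, hx, rfl⟩
      obtain ⟨a, -, ha⟩ := Submodule.mem_span_finset.mp hxT
      obtain ⟨⟨x₀, b, hb⟩, hxb⟩ := IsLocalization.surj (nonZeroDivisors R) x
      have hx' : φ x * algebraMap S K (j b) = algebraMap S K (j x₀) := by rw [← hφ, ← hφ, ← map_mul]; exact congrArg φ hxb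
      have hr' : ∀ t ∈ T', algebraMap S K (j (r t)) = algebraMap S K (j d) * t := fun t ht => by
        rw [← hφ, ← hφ, hr t ht, Algebra.smul_def, map_mul, hc' t ht]
      have key : j d * j x₀ = j b * ∑ t ∈ T', a t * j (r t) := by
        apply IsFractionRing.injective S K
        rw [map_mul, map_mul, ← hx', map_sum, ← ha, Finset.sum_mul, Finset.mul_sum, Finset.mul_sum]
        refine Finset.sum_congr rfl fun t ht => ?_
        rw [map_mul, hr' t ht, Algebra.smul_def]
        ring
      have key' := congrArg ev key
      simp only [map_mul, map_sum, hev] at key'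
      have hxeq : x = ∑ t ∈ T', ev (a t) • c t := by
        have hd0 : algebraMap R (FractionRing R) d ≠ 0 := IsFractionRing.to_map_ne_zero_of_mem_nonZeroDivisors hd
        have hb0 : algebraMap R (FractionRing R) b ≠ 0 := IsFractionRing.to_map_ne_zero_of_mem_nonZeroDivisors hb
        apply mul_right_cancel₀ (mul_ne_zero hd0 hb0)
        have e := congrArg (algebraMap R (FractionRing R)) key'
        simp only [map_mul, map_sum] at e
        calc x * (algebraMap R (FractionRing R) d * algebraMap R (FractionRing R) b) = algebraMap R (FractionRing R) d * algebraMap R (FractionRing R) x₀ := by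
              rw [← hxb]; ring
          _ = _ := by
              rw [e, Finset.mul_sum, Finset.sum_mul]
              refine Finset.sum_congr rfl fun t ht => ?_
              rw [hr t ht, Algebra.smul_def, Algebra.smul_def]; ring
      rw [hxeq]
      exact Submodule.sum_mem _ fun t ht => Submodule.smul_mem _ _ (Submodule.subset_span (Finset.mem_image_of_mem c ht))
  exact Module.Finite.iff_fg.mpr ⟨_, hN⟩

end Groth.Agent.S9395
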