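import Groth.Statements.S9396
import Groth.Agent.CAlgN2.CompleteLocal
import Mathlib
-- import your own Groth.Agent.* helpers here

set_option autoImplicit false
universe u
open CAlg

namespace Groth.Agent.S9396

theorem isN2_of_birational (A B : Type u) [CommRing A] [IsDomain A] [IsNoetherianRing A] [CommRing B]
    [IsDomain B] [Algebra A B] [Module.Finite A B] (hinj : Function.Injective (algebraMap A B))
    (c : A) (hc : c ≠ 0) (hb : ∀ b : B, ∃ a : A, algebraMap A B a = algebraMap A B c * b)
    (h : CAlg.IsN2 B) : CAlg.IsN2 A := by
  intro L _ _ _ _ hfin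
  let KB := FractionRing B
  have hinjK : Function.Injective (algebraMap A KB) := by
    rw [IsScalarTower.algebraMap_eq A B KB]
    exact (IsFractionRing.injective B KB).comp hinj
  have : FaithfulSMul A KB := (faithfulSMul_iff_algebraMap_injective A KB).2 hinjK
  have : IsFractionRing A KB := IsFractionRing.of_field A KB fun z => by
    obtain ⟨b1, b2, hb2, rfl⟩ := IsFractionRing.div_surjective B z
    obtain ⟨a1, h1⟩ := hb b1
    obtain ⟨a2, h2⟩ := hb b2
    refine ⟨a1, a2, ?_⟩
    rw [IsScalarTower.algebraMap_apply A B KB a1, IsScalarTower.algebraMap_apply A B KB a2, h1, h2, map_mul,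
      map_mul, mul_div_mul_left]
    rw [← IsScalarTower.algebraMap_apply]
    exact (map_ne_zero_iff _ hinjK).2 hc
  let e := FractionRing.algEquiv A KB
  letI : Algebra KB L := ((algebraMap (FractionRing A) L).comp e.symm.toAlgHom.toRingHom).toAlgebra
  letI : Algebra B L := ((algebraMap KB L).comp (algebraMap B KB)).toAlgebra
  have : IsScalarTower B KB L := IsScalarTower.of_algebraMap_eq' rfl
  have : IsScalarTower A B L := IsScalarTower.of_algebraMap_eq fun x => by
    show _ = algebraMap (FractionRing A) L (e.symm (algebraMap B KB (algebraMap A B x)))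
    rw [← IsScalarTower.algebraMap_apply A B KB, AlgEquiv.commutes, ← IsScalarTower.algebraMap_apply]
  letI : Algebra (FractionRing A) KB := e.toAlgHom.toRingHom.toAlgebra
  have : IsScalarTower (FractionRing A) KB L := IsScalarTower.of_algebraMap_eq fun x => by
    show _ = algebraMap (FractionRing A) L (e.symm (e x))
    rw [AlgEquiv.symm_apply_apply]
  have : FiniteDimensional KB L := Module.Finite.of_restrictScalars_finite (FractionRing A) KB L
  have := h L inferInstance
  have : Module.Finite A (integralClosure B L) := Module.Finite.trans B _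
  let ι : integralClosure A L →ₗ[A] integralClosure B L :=
    { toFun := fun z => ⟨z.1, IsIntegral.tower_top z.2⟩
      map_add' := fun _ _ => rfl
      map_smul' := fun _ _ => rfl }
  exact Module.Finite.of_injective ι fun a b h => Subtype.ext (congrArg (fun z : integralClosure B L => (z : L)) h)

open PowerSeries in
theorem main (R : Type u) [CommRing R] [IsDomain R] [IsNoetherianRing R] (h : CAlg.IsN2 R) :
    CAlg.IsN2 (PowerSeries R) := by
  classical
  let K := FractionRing R
  let R' := integralClosure R K
  have hfin : Module.Finite R R' := h K inferInstance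
  have : IsNoetherianRing R' := IsNoetherianRing.of_finite R R'
  have : IsIntegrallyClosed R' := integralClosure.isIntegrallyClosedOfFiniteExtension K
  have hinj : Function.Injective (algebraMap R R') := fun a b e =>
    IsFractionRing.injective R K (congrArg Subtype.val e)
  have hN := Groth.Agent.CAlgN2.isN2_powerSeries_normal R' (Groth.Agent.CAlgN2.isN2_of_finite R R' hinj h)
  obtain ⟨m, g, hg⟩ := Module.Finite.exists_fin (R := R) (M := R')
  obtain ⟨⟨c, hc⟩, hcg⟩ := IsLocalization.exist_integer_multiples_of_finset (nonZeroDivisors R)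
    (Finset.univ.image fun i => (g i : K))
  have hb : ∀ b : R', ∃ a : R, algebraMap R R' a = algebraMap R R' c * b := fun b => by
    have hmem : b ∈ Submodule.span R (Set.range g) := hg ▸ Submodule.mem_top
    induction hmem using Submodule.span_induction with
    | mem x hx =>
      obtain ⟨i, rfl⟩ := hx
      obtain ⟨a, ha⟩ := hcg _ (Finset.mem_image.2 ⟨i, Finset.mem_univ _, rfl⟩)
      exact ⟨a, Subtype.ext (ha.trans (Algebra.smul_def c (g i : K)))⟩
    | zero => exact ⟨0, by simp⟩
    | add x y _ _ hx hy =>
      obtain ⟨a, ha⟩ := hx; obtain ⟨a', ha'⟩ := hy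
      exact ⟨a + a', by rw [map_add, ha, ha', mul_add]⟩
    | smul r x _ hx =>
      obtain ⟨a, ha⟩ := hx
      exact ⟨r * a, by rw [map_mul, ha, Algebra.smul_def]; ring⟩
  letI : Algebra (PowerSeries R) (PowerSeries R') := (PowerSeries.map (algebraMap R R')).toAlgebra
  have hfinP : Module.Finite (PowerSeries R) (PowerSeries R') := by
    refine ⟨⟨Finset.univ.image fun i => PowerSeries.C (g i), eq_top_iff.2 fun f _ => ?_⟩⟩
    have hco : ∀ n, ∃ r : Fin m → R, ∑ i, r i • g i = PowerSeries.coeff n f := fun n =>
      (Submodule.mem_span_range_iff_exists_fun R).1 (hg ▸ Submodule.mem_top)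
    choose r hr using hco
    have hf : f = ∑ i, (PowerSeries.mk fun n => r n i) • PowerSeries.C (g i) := PowerSeries.ext fun n => by
      rw [map_sum, ← hr n]
      refine Finset.sum_congr rfl fun i _ => ?_
      rw [Algebra.smul_def, Algebra.smul_def, RingHom.algebraMap_toAlgebra]
      simp [PowerSeries.coeff_mul_C]
    rw [hf]
    exact Submodule.sum_mem _ fun i _ => Submodule.smul_mem _ _ (Submodule.subset_span (by simp))
  refine isN2_of_birational (PowerSeries R) (PowerSeries R') (fun a b e => PowerSeries.ext fun n => hinj ?_)
    (PowerSeries.C c) ?_ (fun f => ?_) hN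
  · simpa [RingHom.algebraMap_toAlgebra] using congrArg (PowerSeries.coeff n) e
  · intro e
    have h0 : c = 0 := by simpa using congrArg PowerSeries.constantCoeff e
    exact nonZeroDivisors.ne_zero hc h0
  · choose a ha using hb
    refine ⟨PowerSeries.mk fun n => a (PowerSeries.coeff n f), PowerSeries.ext fun n => ?_⟩
    simp [RingHom.algebraMap_toAlgebra, PowerSeries.map_C, ha]

end Groth.Agent.S9396

namespace Groth.Agent.S9396

/-- If R is a Noetherian N-2 (Japanese) domain, then the power series ring R[[X]] is an N-2 domain. (R
is not assumed integrally closed.) -/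
theorem result (R : Type u) [CommRing R] [IsDomain R] [IsNoetherianRing R]
    (h : CAlg.IsN2 R) : CAlg.IsN2 (PowerSeries R) := by
  exact main R h

end Groth.Agent.S9396
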