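import Groth.Statements.S9397
import Mathlib
import Groth.Agent.N2Lib.Basic
-- import your own Groth.Agent.* helpers here

set_option autoImplicit false
universe u
open CAlg

namespace Groth.Agent.S9397

/-- A ring R is universally Japanese provided that each R-algebra of finite type which is a domain is
N-1. -/
theorem result (R : Type u) [CommRing R]
    (h : ∀ (S : Type u) [CommRing S] [IsDomain S] [Algebra R S], Algebra.FiniteType R S → CAlg.IsN1 S) :
    CAlg.IsUniversallyJapanese R := by
  classical
  intro S _ _ _ hS L _ _ _ _ hfin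
  let K := FractionRing S
  have hmult : ∀ z : L, ∃ s : S, s ≠ 0 ∧ IsIntegral S (algebraMap S L s * z) := fun z => by
    obtain ⟨⟨s, hs⟩, hm⟩ := IsIntegral.exists_multiple_integral_of_isLocalization (nonZeroDivisors S) (Rₘ := K) z (Algebra.IsIntegral.isIntegral z)
    exact ⟨s, nonZeroDivisors.ne_zero hs, by rw [← Algebra.smul_def]; exact hm⟩
  let b := Module.finBasis K L
  choose s hs0 hsint using fun i => hmult (b i)
  let S' := Algebra.adjoin S (Set.range fun i => algebraMap S L (s i) * b i)
  have : Module.Finite S S' := Algebra.finite_adjoin_of_finite_of_isIntegral (Set.finite_range _)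
    (by rintro - ⟨i, rfl⟩; exact hsint i)
  let _ : Algebra R S' := ((algebraMap S S').comp (algebraMap R S)).toAlgebra
  have : IsScalarTower R S S' := IsScalarTower.of_algebraMap_eq fun _ => rfl
  have hft : Algebra.FiniteType R S' := Algebra.FiniteType.trans hS inferInstance
  have hN1 := h S' hft
  have hFS : FaithfulSMul S' L := (faithfulSMul_iff_algebraMap_injective _ _).mpr Subtype.val_injective
  have : IsFractionRing S' L := by
    refine IsFractionRing.of_field S' L fun z => ?_
    have hmem : ∀ w : L, w ∈ (⊤ : Submodule K L) → ∃ (a : S) (x : L), a ≠ 0 ∧ x ∈ S' ∧ algebraMap S L a * w = x := by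
      intro w hw
      rw [← b.span_eq] at hw
      induction hw using Submodule.span_induction with
      | mem w hw =>
        obtain ⟨i, rfl⟩ := hw
        exact ⟨s i, _, hs0 i, Algebra.subset_adjoin ⟨i, rfl⟩, rfl⟩
      | zero => exact ⟨1, 0, one_ne_zero, zero_mem _, by simp⟩
      | add u v _ _ hu hv =>
        obtain ⟨a, x, ha, hx, hau⟩ := hu
        obtain ⟨a', x', ha', hx', hav⟩ := hv
        refine ⟨a * a', algebraMap S L a' * x + algebraMap S L a * x', mul_ne_zero ha ha',
          add_mem (mul_mem (Subalgebra.algebraMap_mem _ _) hx) (mul_mem (Subalgebra.algebraMap_mem _ _) hx'), ?_⟩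
        rw [map_mul, ← hau, ← hav]; ring
      | smul k u _ hu =>
        obtain ⟨a, x, ha, hx, hau⟩ := hu
        obtain ⟨⟨p, q, hq⟩, hpq⟩ := IsLocalization.surj (nonZeroDivisors S) k
        refine ⟨a * q, algebraMap S L p * x, mul_ne_zero ha (nonZeroDivisors.ne_zero hq),
          mul_mem (Subalgebra.algebraMap_mem _ _) hx, ?_⟩
        rw [map_mul, ← hau, IsScalarTower.algebraMap_apply S K L p, ← hpq, map_mul,
          ← IsScalarTower.algebraMap_apply S K L, Algebra.smul_def]
        ring
    obtain ⟨a, x, ha, hx, haz⟩ := hmem z trivial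
    refine ⟨⟨x, hx⟩, algebraMap S S' a, ?_⟩
    have ha' : algebraMap S L a ≠ 0 := by
      rw [IsScalarTower.algebraMap_apply S K L, map_ne_zero]
      exact IsFractionRing.to_map_ne_zero_of_mem_nonZeroDivisors (mem_nonZeroDivisors_of_ne_zero ha)
    rw [← IsScalarTower.algebraMap_apply S S' L, eq_div_iff ha', mul_comm]
    exact haz
  have hf1 : Module.Finite S' (integralClosure S' L) := Groth.Agent.N2Lib.finite_integralClosure_of_isN1 hN1 L
  have hS'i : Algebra.IsIntegral S S' := Algebra.IsIntegral.of_finite S S'
  obtain ⟨G, hG⟩ : (Subalgebra.toSubmodule (integralClosure S' L)).FG := Module.Finite.iff_fg.mp hf1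
  have heq : ∀ x : L, IsIntegral S x ↔ IsIntegral S' x := fun x => ⟨fun hx => hx.tower_top, fun hx => isIntegral_trans (A := S') x hx⟩
  have hres : (Subalgebra.toSubmodule (integralClosure S' L)).restrictScalars S = Subalgebra.toSubmodule (integralClosure S L) := by
    ext x; exact (heq x).symm
  have : Module.Finite S (Subalgebra.toSubmodule (integralClosure S' L)) := Module.Finite.trans S' _
  have hfg : ((Subalgebra.toSubmodule (integralClosure S' L)).restrictScalars S).FG :=
    (Module.Finite.iff_fg (R := S) (N := (Subalgebra.toSubmodule (integralClosure S' L)).restrictScalars S)).mp this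
  rw [hres] at hfg
  exact Module.Finite.iff_fg.mpr hfg

end Groth.Agent.S9397
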