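import Groth.Statements.S9399
import Mathlib
import Groth.Agent.S9394
import Groth.Agent.N2Lib.Basic
-- import your own Groth.Agent.* helpers here

set_option autoImplicit false
universe u
open CAlg

namespace Groth.Agent.S9399

/-- Being universally Japanese can be checked on a finite cover of Spec R by principal opens. -/
theorem result (R : Type u) [CommRing R]
    {ι : Type u} [Finite ι] (f : ι → R) (hf : Ideal.span (Set.range f) = ⊤)
    (h : ∀ i, CAlg.IsUniversallyJapanese (Localization.Away (f i))) :
    CAlg.IsUniversallyJapanese R := by
  classical
  intro S _ _ _ hS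
  let g := algebraMap R S
  let J := {i : ι // g (f i) ≠ 0}
  have htop : Ideal.span (Set.range fun i : J => g (f i.1)) = ⊤ := by
    rw [eq_top_iff, ← Ideal.map_top g, ← hf, Ideal.map_span, Ideal.span_le]
    rintro - ⟨-, ⟨i, rfl⟩, rfl⟩
    by_cases h0 : g (f i) = 0
    · rw [h0]; exact zero_mem _
    · exact Ideal.subset_span ⟨⟨i, h0⟩, rfl⟩
  have : ∀ i : J, IsDomain (Localization.Away (g (f i.1))) := fun i =>
    IsLocalization.isDomain_localization (powers_le_nonZeroDivisors_of_noZeroDivisors i.2)
  refine S9394.result S (fun i : J => g (f i.1)) htop (fun i => Localization.Away (g (f i.1))) fun i => ?_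
  let _ : Algebra (Localization.Away (f i.1)) (Localization.Away (g (f i.1))) := (Localization.awayMap g (f i.1)).toAlgebra
  have : IsScalarTower R (Localization.Away (f i.1)) (Localization.Away (g (f i.1))) := IsScalarTower.of_algebraMap_eq fun r => by
    rw [RingHom.algebraMap_toAlgebra, Localization.awayMap, IsLocalization.Away.map, IsLocalization.map_eq,
      IsScalarTower.algebraMap_apply R S (Localization.Away (g (f i.1)))]
  have : Algebra.FiniteType S (Localization.Away (g (f i.1))) := IsLocalization.finiteType_of_monoid_fg (Submonoid.powers (g (f i.1))) _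
  have : Algebra.FiniteType R (Localization.Away (g (f i.1))) := Algebra.FiniteType.trans hS this
  exact h i.1 _ (Algebra.FiniteType.of_restrictScalars_finiteType R _ _)

end Groth.Agent.S9399
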