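import Groth.Statements.S9400
import Mathlib
import Groth.Agent.S9394
import Groth.Agent.N2Lib.Basic
-- import your own Groth.Agent.* helpers here

set_option autoImplicit false
universe u
open CAlg

namespace Groth.Agent.S9400

/-- Being a Nagata ring can be checked on a finite cover of Spec R by principal opens. -/
theorem result (R : Type u) [CommRing R]
    {ι : Type u} [Finite ι] (f : ι → R) (hf : Ideal.span (Set.range f) = ⊤)
    (h : ∀ i, CAlg.IsNagata (Localization.Away (f i))) : CAlg.IsNagata R := by
  classical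
  have hN : IsNoetherianRing R := (isNoetherianRing_iff_ideal_fg R).mpr fun I =>
    Ideal.fg_of_localizationSpan (Set.range f) hf fun ⟨g, hg⟩ => by
      obtain ⟨i, rfl⟩ := hg
      have := (h i).1
      exact IsNoetherian.noetherian _
  refine ⟨hN, fun p _ => ?_⟩
  let q : R →+* R ⧸ p := Ideal.Quotient.mk p
  let J := {i : ι // q (f i) ≠ 0}
  have htop : Ideal.span (Set.range fun i : J => q (f i.1)) = ⊤ := by
    rw [eq_top_iff, ← Ideal.map_top q, ← hf, Ideal.map_span, Ideal.span_le]
    rintro - ⟨-, ⟨i, rfl⟩, rfl⟩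
    by_cases h0 : q (f i) = 0
    · rw [h0]; exact zero_mem _
    · exact Ideal.subset_span ⟨⟨i, h0⟩, rfl⟩
  have : ∀ i : J, IsDomain (Localization.Away (q (f i.1))) := fun i =>
    IsLocalization.isDomain_localization (powers_le_nonZeroDivisors_of_noZeroDivisors i.2)
  refine S9394.result (R ⧸ p) (fun i : J => q (f i.1)) htop (fun i => Localization.Away (q (f i.1))) fun i => ?_
  let T := Localization.Away (q (f i.1))
  let π : Localization.Away (f i.1) →+* T := Localization.awayMap q (f i.1)
  have hπ : Function.Surjective π := by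
    intro z
    obtain ⟨z, ⟨-, n, rfl⟩, rfl⟩ := IsLocalization.exists_mk'_eq (Submonoid.powers (q (f i.1))) z
    obtain ⟨z, rfl⟩ := Ideal.Quotient.mk_surjective z
    refine ⟨IsLocalization.mk' _ z (⟨f i.1 ^ n, n, rfl⟩ : Submonoid.powers (f i.1)), ?_⟩
    simp only [π, Localization.awayMap, IsLocalization.Away.map, IsLocalization.map_mk', map_pow]
    rfl
  have : (RingHom.ker π).IsPrime := RingHom.ker_isPrime π
  let e := RingHom.quotientKerEquivOfSurjective hπ
  let _ : Algebra (Localization.Away (f i.1) ⧸ RingHom.ker π) T := e.toRingHom.toAlgebra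
  have : IsLocalization (⊥ : Submonoid (Localization.Away (f i.1) ⧸ RingHom.ker π)) T :=
    (IsLocalization.isLocalization_iff_of_algEquiv ⊥ (AlgEquiv.ofRingEquiv (f := e) fun _ => rfl)).mp (IsLocalization.self (M := (⊥ : Submonoid _)) bot_le)
  exact Groth.Agent.N2Lib.isN2_of_isLocalization ⊥ T ((h i.1).2 (RingHom.ker π))

end Groth.Agent.S9400
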