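import Groth.Statements.S9403
import Mathlib
-- import your own Groth.Agent.* helpers here

set_option autoImplicit false
universe u
open CAlg

namespace Groth.Agent.S9403

/-- Let R → S be a ring map with S a Noetherian local ring which is an algebra over the rationals, and f
∈ S such that some S-linear form on the module of differentials of S over R sends df to 1 (df spans
a free direct summand of rank one). Then f is a nonzerodivisor of S. (The published statement asks
only that S·df be a direct summand of the module of differentials, which also holds for the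
rationals with a square-zero element adjoined, where f is a zero divisor; this row asks for an
S-linear form on the differentials sending df to 1, as the published proof uses.) -/
theorem result (R : Type u) [CommRing R]
    (S : Type u) [CommRing S] [IsLocalRing S] [IsNoetherianRing S] [Algebra R S] [Algebra ℚ S]
    (f : S) (θ : Ω[S⁄R] →ₗ[S] S) (hθ : θ (KaehlerDifferential.D R S f) = 1) : f ∈ nonZeroDivisors S := by
  let δ : Derivation R S S := θ.compDer (KaehlerDifferential.D R S)
  have hδ : δ f = 1 := hθ
  refine mem_nonZeroDivisors_iff_right.mpr fun g hg => ?_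
  by_cases hf : IsUnit f
  · exact hf.mul_left_eq_zero.mp hg
  have key : ∀ n : ℕ, ∃ h : S, g = f ^ n * h := by
    intro n
    induction n with
    | zero => exact ⟨g, by simp⟩
    | succ n ih =>
      obtain ⟨h, rfl⟩ := ih
      have h1 : δ (f ^ (n + 1) * h) = 0 := by
        rw [show f ^ (n + 1) * h = f ^ n * h * f by ring, hg, map_zero]
      rw [Derivation.leibniz, Derivation.leibniz_pow, hδ] at h1
      obtain ⟨u, hu⟩ : IsUnit ((n + 1 : ℕ) : S) := by
        rw [← map_natCast (algebraMap ℚ S)]
        exact (IsUnit.mk0 _ (Nat.cast_ne_zero.mpr (Nat.succ_ne_zero n))).map _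
      simp only [nsmul_eq_mul, smul_eq_mul, Nat.add_sub_cancel, mul_one] at h1
      refine ⟨-((↑u⁻¹ : S) * δ h), ?_⟩
      have h2 := u.inv_mul
      rw [← hu] at h1
      linear_combination (↑u⁻¹ : S) * h1 - f ^ n * h * h2
  have hmem : g ∈ ⨅ n : ℕ, (Ideal.span {f}) ^ n := Submodule.mem_iInf _ |>.mpr fun n => by
    rw [Ideal.span_singleton_pow, Ideal.mem_span_singleton]; exact key n
  rw [Ideal.iInf_pow_eq_bot_of_isLocalRing _ (by rw [Ne, Ideal.span_singleton_eq_top]; exact hf)] at hmem
  simpa using hmem

end Groth.Agent.S9403
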