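import Groth.Statements.S9404
import Mathlib
-- import your own Groth.Agent.* helpers here

set_option autoImplicit false
universe u
open CAlg

open TensorProduct IsLocalRing

namespace Groth.Agent.S9404

theorem main (A : Type u) [CommRing A]
    [IsLocalRing A] (B : Type u) [CommRing B] [IsLocalRing B] [Algebra A B]
    [IsLocalHom (algebraMap A B)] (C : Type u) [CommRing C] [IsLocalRing C] [Algebra A C]
    [IsLocalHom (algebraMap A C)] [Algebra.IsIntegral A C]
    (hsub : Subsingleton (PrimeSpectrum (ResidueField B ⊗[ResidueField A] ResidueField C))) :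
    IsLocalRing (B ⊗[A] C) ∧
      IsLocalHom (Algebra.TensorProduct.includeLeft : B →ₐ[A] B ⊗[A] C).toRingHom ∧
      IsLocalHom (Algebra.TensorProduct.includeRight : C →ₐ[A] B ⊗[A] C).toRingHom := by
  let k := ResidueField A
  let T := ResidueField B ⊗[k] ResidueField C
  let g : B ⊗[A] C →ₐ[A] T := Algebra.TensorProduct.productMap
    (((Algebra.TensorProduct.includeLeft : ResidueField B →ₐ[k] T).restrictScalars A).comp (IsScalarTower.toAlgHom A B (ResidueField B)))
    (((Algebra.TensorProduct.includeRight : ResidueField C →ₐ[k] T).restrictScalars A).comp (IsScalarTower.toAlgHom A C (ResidueField C)))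
  haveI : Nontrivial T := Algebra.TensorProduct.nontrivial_of_algebraMap_injective_of_isDomain k _ _
    (algebraMap k (ResidueField B)).injective (algebraMap k (ResidueField C)).injective
  obtain ⟨P₀, hP₀⟩ := Ideal.exists_maximal T
  have hle : ∀ m : Ideal (B ⊗[A] C), m.IsMaximal →
      (∀ b ∈ maximalIdeal B, b ⊗ₜ[A] (1 : C) ∈ m) ∧ (∀ c ∈ maximalIdeal C, (1 : B) ⊗ₜ[A] c ∈ m) := by
    intro m hm
    have hB : (m.comap (algebraMap B (B ⊗[A] C))).IsMaximal := Ideal.isMaximal_comap_of_isIntegral_of_isMaximal m
    have hBm := eq_maximalIdeal hB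
    have hb : ∀ b ∈ maximalIdeal B, b ⊗ₜ[A] (1 : C) ∈ m := fun b hb => by
      have : algebraMap B (B ⊗[A] C) b ∈ m := by rw [← Ideal.mem_comap, hBm]; exact hb
      exact this
    refine ⟨hb, ?_⟩
    let q := m.comap (Algebra.TensorProduct.includeRight : C →ₐ[A] B ⊗[A] C)
    have hq : (q.comap (algebraMap A C)) = maximalIdeal A := by
      refine le_antisymm (le_maximalIdeal (Ideal.IsPrime.ne_top inferInstance)) fun a ha => ?_
      show (1 : B) ⊗ₜ[A] algebraMap A C a ∈ m
      rw [show (1 : B) ⊗ₜ[A] algebraMap A C a = algebraMap A B a ⊗ₜ[A] (1 : C) by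
        rw [Algebra.algebraMap_eq_smul_one, Algebra.algebraMap_eq_smul_one, smul_tmul]]
      exact hb _ ((mem_maximalIdeal _).2 fun hu => (mem_maximalIdeal _).1 ha (IsLocalHom.map_nonunit a hu))
    have : q.IsMaximal := Ideal.isMaximal_of_isIntegral_of_isMaximal_comap q (by rw [hq]; infer_instance)
    intro c hc
    have h2 : c ∈ q := by rw [eq_maximalIdeal this]; exact hc
    exact h2
  have huniq : ∀ m : Ideal (B ⊗[A] C), m.IsMaximal → m = P₀.comap g := by
    intro m hm
    obtain ⟨hb, hc⟩ := hle m hm
    let K := (B ⊗[A] C) ⧸ m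
    let π := Ideal.Quotient.mkₐ A m
    let fB : ResidueField B →ₐ[A] K := Ideal.Quotient.liftₐ (maximalIdeal B) (π.comp Algebra.TensorProduct.includeLeft)
      fun b h => Ideal.Quotient.eq_zero_iff_mem.2 (hb b h)
    let fC : ResidueField C →ₐ[A] K := Ideal.Quotient.liftₐ (maximalIdeal C) (π.comp Algebra.TensorProduct.includeRight)
      fun c h => Ideal.Quotient.eq_zero_iff_mem.2 (hc c h)
    letI : Algebra k K := (fB.toRingHom.comp (algebraMap k (ResidueField B))).toAlgebra
    let hBk : ResidueField B →ₐ[k] K := { fB.toRingHom with commutes' := fun x => rfl }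
    have hcomm : ∀ x : k, fC (algebraMap k (ResidueField C) x) = fB (algebraMap k (ResidueField B) x) := by
      intro x
      obtain ⟨a, rfl⟩ := residue_surjective x
      rw [IsLocalRing.ResidueField.algebraMap_residue, IsLocalRing.ResidueField.algebraMap_residue]
      show fC (Ideal.Quotient.mk _ (algebraMap A C a)) = fB (Ideal.Quotient.mk _ (algebraMap A B a))
      exact (AlgHom.commutes (π.comp Algebra.TensorProduct.includeRight) a).trans
        (AlgHom.commutes (π.comp Algebra.TensorProduct.includeLeft) a).symm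
    let hCk : ResidueField C →ₐ[k] K := { fC.toRingHom with commutes' := hcomm }
    let h : T →ₐ[k] K := Algebra.TensorProduct.productMap hBk hCk
    have hcomp : ∀ z, h (g z) = π z := by
      intro z
      induction z using TensorProduct.induction_on with
      | zero => simp
      | tmul b c =>
        rw [Algebra.TensorProduct.productMap_apply_tmul]
        show h (((residue B b) ⊗ₜ[k] (1 : ResidueField C)) * ((1 : ResidueField B) ⊗ₜ[k] residue C c)) = _
        rw [Algebra.TensorProduct.tmul_mul_tmul, mul_one, one_mul, Algebra.TensorProduct.productMap_apply_tmul]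
        show π (b ⊗ₜ[A] (1 : C)) * π ((1 : B) ⊗ₜ[A] c) = _
        rw [← map_mul, Algebra.TensorProduct.tmul_mul_tmul, mul_one, one_mul]
      | add x y hx hy => rw [map_add, map_add, map_add, hx, hy]
    haveI : m.IsPrime := hm.isPrime
    haveI : IsDomain K := Ideal.Quotient.isDomain m
    have hP : RingHom.ker h = P₀ := congrArg PrimeSpectrum.asIdeal
      (hsub.elim ⟨RingHom.ker h, RingHom.ker_isPrime h⟩ ⟨P₀, hP₀.isPrime⟩)
    ext z
    rw [Ideal.mem_comap, ← hP, RingHom.mem_ker, hcomp]
    exact Ideal.Quotient.eq_zero_iff_mem.symm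
  haveI : Nontrivial (B ⊗[A] C) := g.toRingHom.domain_nontrivial
  obtain ⟨m₀, hm₀⟩ := Ideal.exists_maximal (B ⊗[A] C)
  refine ⟨IsLocalRing.of_unique_max_ideal ⟨m₀, hm₀, fun m hm => (huniq m hm).trans (huniq m₀ hm₀).symm⟩, ⟨fun b hb => ?_⟩, ⟨fun c hc => ?_⟩⟩
  · by_contra h
    exact hm₀.ne_top (Ideal.eq_top_of_isUnit_mem _ ((hle m₀ hm₀).1 b ((mem_maximalIdeal _).2 h)) hb)
  · by_contra h
    exact hm₀.ne_top (Ideal.eq_top_of_isUnit_mem _ ((hle m₀ hm₀).2 c ((mem_maximalIdeal _).2 h)) hc)

end Groth.Agent.S9404

namespace Groth.Agent.S9404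

open TensorProduct in
/-- For local homomorphisms of local rings A → B and A → C with A → C integral, if the residue field of
C or that of B is purely inseparable over the residue field of A, then B ⊗_A C is local and both
structure maps into it are local. -/
theorem result (A : Type u) [CommRing A]
    [IsLocalRing A] (B : Type u) [CommRing B] [IsLocalRing B] [Algebra A B]
    [IsLocalHom (algebraMap A B)] (C : Type u) [CommRing C] [IsLocalRing C] [Algebra A C]
    [IsLocalHom (algebraMap A C)] [Algebra.IsIntegral A C]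
    (h : IsPurelyInseparable (IsLocalRing.ResidueField A) (IsLocalRing.ResidueField C) ∨
      IsPurelyInseparable (IsLocalRing.ResidueField A) (IsLocalRing.ResidueField B)) :
    IsLocalRing (B ⊗[A] C) ∧
      IsLocalHom (Algebra.TensorProduct.includeLeft : B →ₐ[A] B ⊗[A] C).toRingHom ∧
      IsLocalHom (Algebra.TensorProduct.includeRight : C →ₐ[A] B ⊗[A] C).toRingHom := by
  refine Groth.Agent.S9404.main A B C ?_
  rcases h with h | h
  · have := (PrimeSpectrum.isHomeomorph_comap_of_isPurelyInseparable (IsLocalRing.ResidueField A) (IsLocalRing.ResidueField C) (IsLocalRing.ResidueField B))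
    exact this.injective.subsingleton
  · have := (PrimeSpectrum.isHomeomorph_comap_of_isPurelyInseparable (IsLocalRing.ResidueField A) (IsLocalRing.ResidueField B) (IsLocalRing.ResidueField C))
    haveI := this.injective.subsingleton
    exact (PrimeSpectrum.homeomorphOfRingEquiv (Algebra.TensorProduct.comm (IsLocalRing.ResidueField A) (IsLocalRing.ResidueField B) (IsLocalRing.ResidueField C)).toRingEquiv).injective.subsingleton

end Groth.Agent.S9404
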