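import Groth.Statements.S9405
import Groth.Agent.CplFin.Basic
-- import your own Groth.Agent.* helpers here

set_option autoImplicit false
universe u
open CAlg

namespace Groth.Agent.S9405

/-- A module-finite algebra S over a complete Noetherian local ring R is a finite product of complete
Noetherian local rings; precisely, S has finitely many maximal ideals, S maps bijectively onto the
product of its localizations at them, and each of these localizations is Noetherian and complete for
its maximal ideal. -/
theorem result (R : Type u) [CommRing R]
    [IsLocalRing R] [IsNoetherianRing R] [IsAdicComplete (IsLocalRing.maximalIdeal R) R]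
    (S : Type u) [CommRing S] [Algebra R S] [Module.Finite R S] :
    Finite (MaximalSpectrum S) ∧
      Function.Bijective
        (algebraMap S ((m : MaximalSpectrum S) → Localization.AtPrime m.asIdeal)) ∧
      ∀ m : MaximalSpectrum S, IsNoetherianRing (Localization.AtPrime m.asIdeal) ∧
        IsAdicComplete (IsLocalRing.maximalIdeal (Localization.AtPrime m.asIdeal))
          (Localization.AtPrime m.asIdeal) := by
  obtain ⟨hfin, hbij⟩ := Groth.Agent.CplFin.bijective_pi R S
  refine ⟨hfin, hbij, fun m => ?_⟩
  classical
  have hsurj : Function.Surjective (IsScalarTower.toAlgHom R S (Localization.AtPrime m.asIdeal)) := by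
    intro y
    obtain ⟨x, hx⟩ := hbij.2 (Pi.single m y)
    exact ⟨x, (congrFun hx m).trans (by simp)⟩
  haveI : Module.Finite R (Localization.AtPrime m.asIdeal) :=
    Module.Finite.of_surjective
      (IsScalarTower.toAlgHom R S (Localization.AtPrime m.asIdeal)).toLinearMap hsurj
  exact ⟨IsNoetherianRing.of_finite R _, Groth.Agent.CplFin.isAdicComplete_local R _⟩

end Groth.Agent.S9405
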