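import Groth.Statements.S9409
import Mathlib
-- import your own Groth.Agent.* helpers here

set_option autoImplicit false
universe u
open CAlg

open TensorProduct

namespace Groth.Agent.S9409Aux

theorem exists_form (k : Type u) [Field k] {ι : Type u} [Nonempty ι] (K : ι → Type u)
    [∀ i, Field (K i)] [∀ i, Algebra (K i) k]
    (hdir : ∀ i j, ∃ l, Set.range (algebraMap (K i) k) ⊆ Set.range (algebraMap (K l) k) ∧
      Set.range (algebraMap (K j) k) ⊆ Set.range (algebraMap (K l) k))
    (hcov : ∀ x : k, ∃ i, x ∈ Set.range (algebraMap (K i) k)) (s : Finset k) :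
    ∃ i, (s : Set k) ⊆ Set.range (algebraMap (K i) k) := by
  classical
  induction s using Finset.induction_on with
  | empty => exact ⟨Classical.arbitrary ι, by simp⟩
  | insert a t _ ih =>
    obtain ⟨i, hi⟩ := ih
    obtain ⟨j, hj⟩ := hcov a
    obtain ⟨l, h1, h2⟩ := hdir i j
    exact ⟨l, by rw [Finset.coe_insert]; exact Set.insert_subset (h2 hj) (hi.trans h1)⟩

end Groth.Agent.S9409Aux


namespace Groth.Agent.S9409

/-- Let k be a field written as a directed union of subfields k_i (given as fields mapping to k whose
images form a directed family covering k) and A a Noetherian k-algebra. Geometric regularity of A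
over every one of the k_i implies that A is also geometrically regular as a k-algebra. -/
theorem result (k : Type u) [Field k] {ι : Type u}
    (K : ι → Type u) [∀ i, Field (K i)] [∀ i, Algebra (K i) k]
    (hdir : ∀ i j, ∃ l, Set.range (algebraMap (K i) k) ⊆ Set.range (algebraMap (K l) k) ∧
      Set.range (algebraMap (K j) k) ⊆ Set.range (algebraMap (K l) k))
    (hcov : ∀ x : k, ∃ i, x ∈ Set.range (algebraMap (K i) k))
    (A : Type u) [CommRing A] [Algebra k A] [IsNoetherianRing A] [∀ i, Algebra (K i) A]
    [∀ i, IsScalarTower (K i) k A] (h : ∀ i, CAlg.IsGeometricallyRegular (K i) A) :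
    CAlg.IsGeometricallyRegular k A := by
  classical
  intro L _ _ hL
  obtain ⟨i₀, -⟩ := hcov 0
  have : Nonempty ι := ⟨i₀⟩
  let b := Module.finBasis k L
  let n := Module.finrank k L
  let cst : Finset k := (Finset.univ.image fun x : Fin n × Fin n × Fin n => b.repr (b x.1 * b x.2.1) x.2.2) ∪
    Finset.univ.image fun l => b.repr 1 l
  obtain ⟨i, hi⟩ := Groth.Agent.S9409Aux.exists_form k K hdir hcov cst
  letI : Algebra (K i) L := ((algebraMap k L).comp (algebraMap (K i) k)).toAlgebra
  have : IsScalarTower (K i) k L := IsScalarTower.of_algebraMap_eq' rfl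
  let M : Submodule (K i) L := Submodule.span (K i) (Set.range b)
  have hcomb : ∀ z : L, (∀ l, b.repr z l ∈ Set.range (algebraMap (K i) k)) → z ∈ M := by
    intro z hz
    rw [← b.sum_repr z]
    refine Submodule.sum_mem _ fun l _ => ?_
    obtain ⟨c, hc⟩ := hz l
    rw [← hc, algebraMap_smul]
    exact Submodule.smul_mem _ _ (Submodule.subset_span ⟨l, rfl⟩)
  have hmul : ∀ x y, x ∈ M → y ∈ M → x * y ∈ M := fun x y hx hy => by
    have h2 : ∀ a c, b a * b c ∈ M := fun a c => hcomb _ fun l =>
      hi (Finset.mem_coe.2 (Finset.mem_union_left _ (Finset.mem_image.2 ⟨(a, c, l), Finset.mem_univ _, rfl⟩)))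
    have hle : M * M ≤ M := by
      simp only [M, Submodule.span_mul_span]
      refine Submodule.span_le.2 ?_
      rintro _ ⟨_, ⟨a, rfl⟩, _, ⟨c, rfl⟩, rfl⟩
      exact h2 a c
    exact hle (Submodule.mul_mem_mul hx hy)
  have hone : (1 : L) ∈ M := hcomb _ fun l =>
    hi (Finset.mem_coe.2 (Finset.mem_union_right _ (Finset.mem_image.2 ⟨l, Finset.mem_univ _, rfl⟩)))
  let S : Subalgebra (K i) L := M.toSubalgebra hone hmul
  have hliM : LinearIndependent (K i) b :=
    b.linearIndependent.restrict_scalars (by
      intro x y hxy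
      exact (algebraMap (K i) k).injective (by simpa [Algebra.smul_def] using hxy))
  let bS : Module.Basis (Fin n) (K i) S := Module.Basis.span hliM
  have hbS : ∀ l, ((bS l : S) : L) = b l := fun l => congrArg Subtype.val (Module.Basis.span_apply hliM l)
  have : Module.Finite (K i) S := Module.Finite.of_basis bS
  have hSf : IsField S := isField_of_isIntegral_of_isField' (R := K i) (Field.toIsField _)
  letI : Field S := hSf.toField
  have hreg : IsRegularRing (S ⊗[K i] A) := h i S inferInstance
  let μ : k ⊗[K i] S →ₐ[k] L :=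
    Algebra.TensorProduct.lift (Algebra.ofId k L) S.val fun _ _ => Commute.all _ _
  have hμ : Function.Bijective μ := by
    have he : μ.toLinearMap = ((bS.baseChange k).equiv b (Equiv.refl _)).toLinearMap := by
      refine (bS.baseChange k).ext fun l => ?_
      have h1 : ((bS.baseChange k).equiv b (Equiv.refl _)).toLinearMap (bS.baseChange k l) = b l := by
        simp [-Module.Basis.baseChange_apply]
      rw [h1, Module.Basis.baseChange_apply]
      simp [μ, hbS]
    have he' : ⇑μ = ⇑((bS.baseChange k).equiv b (Equiv.refl _)) := funext fun x => LinearMap.congr_fun he x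
    rw [he']
    exact LinearEquiv.bijective _
  exact IsRegularRing.of_ringEquiv (R := S ⊗[K i] A)
    ((Algebra.TensorProduct.comm (K i) S A).toRingEquiv.trans
      ((Algebra.TensorProduct.cancelBaseChange (K i) k k A S).symm.toRingEquiv.trans
        ((Algebra.TensorProduct.comm k A (k ⊗[K i] S)).toRingEquiv.trans
          (Algebra.TensorProduct.congr (AlgEquiv.ofBijective μ hμ) (AlgEquiv.refl : A ≃ₐ[k] A)).toRingEquiv)))

end Groth.Agent.S9409
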