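import Groth.Statements.S9414
import Mathlib
import Groth.Agent.S9178
-- import your own Groth.Agent.* helpers here

set_option autoImplicit false
universe u
open CAlg

namespace Groth.Agent.S9414

open TensorProduct in
/-- For an algebraically closed field k, a finite type k-algebra S and a maximal ideal m of S with
residue field κ = S/m, the κ-vector spaces κ ⊗_S Ω_{S/k} and m/m² have the same dimension. -/
theorem result (k : Type u) [Field k]
    [IsAlgClosed k] (S : Type u) [CommRing S] [Algebra k S] [Algebra.FiniteType k S]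
    (m : Ideal S) [m.IsMaximal] :
    Module.finrank (S ⧸ m) ((S ⧸ m) ⊗[S] Ω[S⁄k]) = Module.finrank (S ⧸ m) m.Cotangent := by
  haveI : Algebra.FormallySmooth k (S ⧸ m) := by
    letI : Field (S ⧸ m) := Ideal.Quotient.field m
    haveI : Module.Finite k (S ⧸ m) := finite_of_finite_type_of_isJacobsonRing k (S ⧸ m)
    let e : k ≃ₐ[k] S ⧸ m := AlgEquiv.ofBijective (Algebra.ofId k (S ⧸ m))
      (IsAlgClosed.algebraMap_bijective_of_isIntegral (k := k) (K := S ⧸ m))
    exact Algebra.FormallySmooth.of_equiv e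
  have hsurjk : Function.Surjective (algebraMap k (S ⧸ m)) := by
    letI : Field (S ⧸ m) := Ideal.Quotient.field m
    haveI : Module.Finite k (S ⧸ m) := finite_of_finite_type_of_isJacobsonRing k (S ⧸ m)
    exact (IsAlgClosed.algebraMap_bijective_of_isIntegral (k := k) (K := S ⧸ m)).2
  have hs : Function.Surjective (algebraMap S (S ⧸ m)) := Ideal.Quotient.mk_surjective
  have hker : RingHom.ker (algebraMap S (S ⧸ m)) = m := Ideal.mk_ker
  let f := KaehlerDifferential.kerCotangentToTensor k S (S ⧸ m)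
  haveI := KaehlerDifferential.subsingleton_of_surjective k (S ⧸ m) hsurjk
  have hfs : Function.Surjective f := fun w =>
    (KaehlerDifferential.exact_kerCotangentToTensor_mapBaseChange k S (S ⧸ m) hs w).1 (Subsingleton.elim _ _)
  have hI : RingHom.ker (algebraMap k (S ⧸ m)) ≤ (RingHom.ker (algebraMap S (S ⧸ m))).comap (Algebra.ofId k S) :=
    fun a ha => ha
  have hfi : Function.Injective f := by
    rw [injective_iff_map_eq_zero]
    intro y hy
    obtain ⟨z, rfl⟩ := ((Groth.Agent.S9178.main k S (S ⧸ m) hsurjk hI) y).1 hy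
    obtain ⟨⟨i, hi⟩, rfl⟩ := Ideal.toCotangent_surjective _ z
    have hi0 : i = 0 := (map_eq_zero_iff _ (algebraMap k (S ⧸ m)).injective).1 hi
    subst hi0
    exact (congrArg _ (map_zero _)).trans (map_zero _)
  let f0 : m.Cotangent →+ (S ⧸ m) ⊗[S] Ω[S⁄k] :=
    f.toAddMonoidHom.comp (Ideal.mapCotangent (R := S) m _ (AlgHom.id S S) (hker.ge.trans (le_of_eq (Ideal.comap_id _).symm))).toAddMonoidHom
  have hbij : Function.Bijective f0 := by
    refine ⟨hfi.comp ?_, hfs.comp ?_⟩
    · intro a b h
      obtain ⟨a, rfl⟩ := Ideal.toCotangent_surjective m a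
      obtain ⟨b, rfl⟩ := Ideal.toCotangent_surjective m b
      rw [LinearMap.toAddMonoidHom_coe] at h
      rw [Ideal.mapCotangent_toCotangent, Ideal.mapCotangent_toCotangent, Ideal.toCotangent_eq] at h
      rw [Ideal.toCotangent_eq]
      simpa [hker] using h
    · intro b
      obtain ⟨b, rfl⟩ := Ideal.toCotangent_surjective _ b
      exact ⟨Ideal.toCotangent m ⟨b.1, hker.le b.2⟩, rfl⟩
  let e : m.Cotangent ≃+ (S ⧸ m) ⊗[S] Ω[S⁄k] := AddEquiv.ofBijective f0 hbij
  have hlin : ∀ (c : S ⧸ m) (z : m.Cotangent), e (c • z) = c • e z := by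
    intro c z
    obtain ⟨c, rfl⟩ := Ideal.Quotient.mk_surjective c
    show f0 (Ideal.Quotient.mk m c • z) = Ideal.Quotient.mk m c • f0 z
    have h1 : Ideal.Quotient.mk m c • z = c • z := rfl
    have h2 : Ideal.Quotient.mk m c • f0 z = c • f0 z := by
      rw [← Ideal.Quotient.algebraMap_eq, IsScalarTower.algebraMap_smul]
    rw [h1, h2]
    show f (Ideal.mapCotangent (R := S) m _ (AlgHom.id S S) (hker.ge.trans (le_of_eq (Ideal.comap_id _).symm)) (c • z)) = c • f (Ideal.mapCotangent (R := S) m _ (AlgHom.id S S) (hker.ge.trans (le_of_eq (Ideal.comap_id _).symm)) z)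
    rw [map_smul, map_smul]
  exact (LinearEquiv.finrank_eq ({ e with map_smul' := hlin } : m.Cotangent ≃ₗ[S ⧸ m] (S ⧸ m) ⊗[S] Ω[S⁄k])).symm
end Groth.Agent.S9414
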