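import Groth.Statements.S9416
import Mathlib
-- import your own Groth.Agent.* helpers here

set_option autoImplicit false
universe u
open CAlg

namespace Groth.Agent.S9416

/-- Suppose R is a normal Noetherian domain whose field of fractions K has prime characteristic p > 0, D
a derivation of K preserving R, and a ∈ K with D(a) ≠ 0. For a field L generated over K by an
element x with x^p = a, the integral closure of R in L is module-finite over R. -/
theorem result (R : Type u) [CommRing R]
    [IsDomain R] [IsNoetherianRing R] [IsIntegrallyClosed R] (K : Type u) [Field K] [Algebra R K]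
    [IsFractionRing R K] (p : ℕ) [Fact p.Prime] [CharP K p] (D : Derivation ℤ K K)
    (hD : ∀ r : R, ∃ s : R, D (algebraMap R K r) = algebraMap R K s) (a : K) (ha : D a ≠ 0)
    (L : Type u) [Field L] [Algebra K L] [Algebra R L] [IsScalarTower R K L] (x : L)
    (hx : x ^ p = algebraMap K L a) (hgen : IntermediateField.adjoin K {x} = ⊤) :
    Module.Finite R (integralClosure R L) := by
  classical
  have hp := (Fact.out : p.Prime)
  haveI : CharP L p := charP_of_injective_algebraMap (algebraMap K L).injective p
  haveI : CharP R p := (RingHom.charP_iff (algebraMap R K) (IsFractionRing.injective R K) p).2 ‹_›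
  -- normalise the radicand
  obtain ⟨r, s, hs, hrs⟩ := IsFractionRing.div_surjective R a
  let σ := algebraMap R K s
  have hσ : σ ≠ 0 := IsFractionRing.to_map_ne_zero_of_mem_nonZeroDivisors hs
  have hDp : ∀ c : K, D (c ^ p) = 0 := fun c => by
    rw [Derivation.leibniz_pow]; simp
  let a' := σ ^ p * a
  obtain ⟨A, hA⟩ : ∃ A : R, algebraMap R K A = a' := by
    refine ⟨s ^ (p - 1) * r, ?_⟩
    rw [map_mul, map_pow]
    show σ ^ (p - 1) * algebraMap R K r = σ ^ p * a
    rw [← hrs, show σ ^ p = σ ^ (p - 1) * σ by rw [← pow_succ, Nat.sub_add_cancel hp.one_le], mul_assoc,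
      mul_div_cancel₀ _ hσ]
  obtain ⟨U, hU⟩ := hD A
  let u := algebraMap R K U
  have hu : D a' = u := by rw [← hA, hU]
  have hu0 : u ≠ 0 := by
    rw [← hu, Derivation.leibniz, hDp, smul_zero, add_zero, smul_eq_mul]
    exact mul_ne_zero (pow_ne_zero _ hσ) ha
  let y := algebraMap K L σ * x
  have hy : y ^ p = algebraMap K L a' := by rw [mul_pow, hx, map_mul, map_pow]
  have hInt : IsIntegral K x := IsIntegral.of_pow hp.pos (hx ▸ isIntegral_algebraMap)
  have htop : Algebra.adjoin K ({y} : Set L) = ⊤ := by
    rw [eq_top_iff]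
    have h1 := IntermediateField.adjoin_simple_toSubalgebra_of_isAlgebraic hInt.isAlgebraic
    rw [hgen, IntermediateField.top_toSubalgebra] at h1
    rw [h1, Algebra.adjoin_le_iff, Set.singleton_subset_iff]
    have h2 : x = σ⁻¹ • y := by
      rw [Algebra.smul_def, ← mul_assoc, ← map_mul, inv_mul_cancel₀ hσ, map_one, one_mul]
    rw [SetLike.mem_coe, h2]
    exact Subalgebra.smul_mem _ (Algebra.subset_adjoin (Set.mem_singleton y)) _
  have hrep : ∀ z : L, ∃ c : ℕ → K, z = ∑ i ∈ Finset.range p, algebraMap K L (c i) * y ^ i := by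
    intro z
    have hz : z ∈ Algebra.adjoin K ({y} : Set L) := by rw [htop]; trivial
    rw [Algebra.adjoin_singleton_eq_range_aeval] at hz
    obtain ⟨f, rfl⟩ := hz
    let g : Polynomial K := Polynomial.X ^ p - Polynomial.C a'
    have hg : g.Monic := Polynomial.monic_X_pow_sub_C _ hp.ne_zero
    have hgy : Polynomial.aeval y g = 0 := by simp [g, hy]
    have hdeg : (f %ₘ g).natDegree < p := by
      refine (Polynomial.natDegree_modByMonic_lt f hg fun h => ?_).trans_le (Polynomial.natDegree_X_pow_sub_C).le
      have h1 := congrArg Polynomial.natDegree h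
      rw [Polynomial.natDegree_X_pow_sub_C, Polynomial.natDegree_one] at h1
      exact hp.ne_zero h1
    refine ⟨fun i => (f %ₘ g).coeff i, ?_⟩
    show Polynomial.aeval y f = _
    conv_lhs => rw [← Polynomial.modByMonic_add_div f g, map_add, map_mul, hgy, zero_mul, add_zero]
    rw [Polynomial.aeval_eq_sum_range' hdeg]
    simp [Algebra.smul_def]
  -- membership in `R`
  let M := (algebraMap R K).range
  have hDM : ∀ w ∈ M, D w ∈ M := by
    rintro _ ⟨r, rfl⟩
    obtain ⟨t, ht⟩ := hD r
    exact ⟨t, ht.symm⟩
  have huM : u ∈ M := ⟨U, rfl⟩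
  have hroot : ∀ w : K, w ^ p ∈ M → w ∈ M := by
    rintro w ⟨r, hr⟩
    exact IsIntegrallyClosed.isIntegral_iff.1 (IsIntegral.of_pow hp.pos (hr ▸ isIntegral_algebraMap))
  let v : L := algebraMap K L (u ^ 2)⁻¹
  let N : Submodule R L := Submodule.span R (Set.range fun i : Fin p => v * y ^ (i : ℕ))
  have hle : (integralClosure R L).toSubmodule ≤ N := by
    intro z hz
    obtain ⟨c, hc⟩ := hrep z
    let F : ℕ → K := fun j => ∑ i ∈ Finset.range p, c i ^ p * ((i.descFactorial j : K) * a' ^ (i - j))
    have hF0 : F 0 ∈ M := by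
      have h1 : z ^ p = algebraMap K L (F 0) := by
        rw [hc, sum_pow_char, map_sum]
        refine Finset.sum_congr rfl fun i _ => ?_
        rw [mul_pow, ← pow_mul, mul_comm i p, pow_mul, hy, Nat.descFactorial_zero, Nat.cast_one, one_mul,
          Nat.sub_zero, ← map_pow, ← map_pow, ← map_mul]
      have h2 : IsIntegral R (algebraMap K L (F 0)) := h1 ▸ (hz : IsIntegral R z).pow p
      exact IsIntegrallyClosed.isIntegral_iff.1 ((isIntegral_algebraMap_iff (algebraMap K L).injective).1 h2)
    have hDF : ∀ j, D (F j) = F (j + 1) * u := by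
      intro j
      show D (∑ i ∈ _, _) = _
      rw [map_sum, Finset.sum_mul]
      refine Finset.sum_congr rfl fun i _ => ?_
      rw [Derivation.leibniz, hDp, smul_zero, add_zero, Derivation.leibniz, Derivation.map_natCast, smul_zero,
        add_zero, Derivation.leibniz_pow, hu, Nat.descFactorial_succ, Nat.sub_sub]
      simp only [smul_eq_mul, nsmul_eq_mul, Nat.cast_mul]
      ring
    have hFj : ∀ j, u ^ (2 * j) * F j ∈ M := by
      intro j
      induction j with
      | zero => rw [mul_zero, pow_zero, one_mul]; exact hF0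
      | succ j ih =>
        have h1 := M.sub_mem (M.mul_mem huM (hDM _ ih))
          (M.mul_mem (M.mul_mem (natCast_mem M (2 * j)) (hDM _ huM)) ih)
        convert h1 using 1
        rw [Derivation.leibniz, hDF, Derivation.leibniz_pow]
        simp only [smul_eq_mul, nsmul_eq_mul]
        rcases Nat.eq_zero_or_pos j with rfl | hj
        · simp; ring
        · obtain ⟨m, hm⟩ : ∃ m, 2 * j = m + 1 := ⟨2 * j - 1, by omega⟩
          rw [show 2 * (j + 1) = m + 3 by omega, hm, Nat.add_sub_cancel]
          ring
    have hck : ∀ n k, p - k ≤ n → k < p → u ^ (2 * p) * c k ^ p ∈ M := by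
      intro n
      induction n with
      | zero => intro k h1 h2; omega
      | succ n ih =>
        intro k hn hk
        have h1 : u ^ (2 * p) * F k ∈ M := by
          rw [show 2 * p = 2 * (p - k) + 2 * k by omega, pow_add, mul_assoc]
          exact M.mul_mem (M.pow_mem huM _) (hFj k)
        have h2 : ∑ i ∈ (Finset.range p).erase k, u ^ (2 * p) * (c i ^ p * ((i.descFactorial k : K) * a' ^ (i - k))) ∈ M := by
          refine M.sum_mem fun i hi => ?_
          rw [Finset.mem_erase, Finset.mem_range] at hi
          rcases lt_or_gt_of_ne hi.1 with h | h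
          · rw [Nat.descFactorial_eq_zero_iff_lt.2 h]; simp
          · rw [← mul_assoc]
            exact M.mul_mem (ih i (by omega) hi.2) (M.mul_mem (natCast_mem M _) (M.pow_mem ⟨A, hA⟩ _))
        have h3 := M.sub_mem h1 h2
        rw [show u ^ (2 * p) * F k = ∑ i ∈ Finset.range p,
            u ^ (2 * p) * (c i ^ p * ((i.descFactorial k : K) * a' ^ (i - k))) from Finset.mul_sum _ _ _,
          ← Finset.add_sum_erase _ _ (Finset.mem_range.2 hk), add_sub_cancel_right, Nat.descFactorial_self, Nat.sub_self,
          pow_zero, mul_one, ← mul_assoc] at h3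
        have hunit : IsUnit ((k.factorial : ℕ) : R) := by
          have h4 : IsUnit ((k.factorial : ℕ) : ZMod p) := by
            rw [isUnit_iff_ne_zero, Ne, ZMod.natCast_eq_zero_iff, hp.dvd_factorial]
            omega
          have h5 := h4.map (ZMod.castHom (dvd_refl p) R)
          rwa [map_natCast] at h5
        obtain ⟨w, hw⟩ := hunit.exists_right_inv
        have h6 := M.mul_mem h3 ⟨w, rfl⟩
        have h7 : ((k.factorial : ℕ) : K) * algebraMap R K w = 1 := by
          rw [← map_natCast (algebraMap R K), ← map_mul, hw, map_one]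
        rwa [mul_assoc (u ^ (2 * p) * c k ^ p), h7, mul_one] at h6
    rw [hc]
    refine Submodule.sum_mem _ fun i hi => ?_
    obtain ⟨t, ht⟩ : u ^ 2 * c i ∈ M := hroot _ (by
      rw [mul_pow, ← pow_mul]; exact hck p i (Nat.sub_le _ _) (Finset.mem_range.1 hi))
    have h8 : algebraMap K L (c i) * y ^ i = t • (v * y ^ i) := by
      rw [Algebra.smul_def, IsScalarTower.algebraMap_apply R K L, ht, ← mul_assoc, ← map_mul]
      congr 2
      field_simp
    rw [h8]
    exact Submodule.smul_mem _ _ (Submodule.subset_span ⟨⟨i, Finset.mem_range.1 hi⟩, rfl⟩)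
  haveI : Module.Finite R N := Module.Finite.span_of_finite R (Set.finite_range _)
  exact Module.Finite.of_injective (Submodule.inclusion hle) (Submodule.inclusion_injective hle)
end Groth.Agent.S9416
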