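import Groth.Statements.S9425
import Mathlib
-- import your own Groth.Agent.* helpers here

set_option autoImplicit false
universe u
open CAlg

namespace Groth.Agent.S9425

/-- A directed colimit of formally étale R-algebras is formally étale over R. The colimit is encoded by
compatible R-algebra maps S_i → S which are jointly surjective and whose kernels die further along
the system. -/
theorem result {ι : Type u} [Preorder ι] [IsDirected ι (· ≤ ·)] [Nonempty ι]
    (R : Type u) [CommRing R] (G : ι → Type u) [∀ i, CommRing (G i)] [∀ i, Algebra R (G i)]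
    (f : ∀ i j, i ≤ j → (G i →ₐ[R] G j)) (S : Type u) [CommRing S] [Algebra R S]
    (g : ∀ i, G i →ₐ[R] S) (hg : ∀ i j (h : i ≤ j), (g j).comp (f i j h) = g i)
    (hsurj : ∀ s : S, ∃ i, ∃ x : G i, g i x = s)
    (hker : ∀ i (x : G i), g i x = 0 → ∃ j, ∃ h : i ≤ j, f i j h x = 0)
    (h : ∀ i, Algebra.FormallyEtale R (G i)) : Algebra.FormallyEtale R S := by
  refine Algebra.FormallyEtale.iff_comp_bijective.mpr fun B _ _ I hI => ⟨fun φ ψ he => ?_, fun φ => ?_⟩
  · refine AlgHom.ext fun s => ?_
    obtain ⟨i, x, rfl⟩ := hsurj s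
    have : φ.comp (g i) = ψ.comp (g i) := by
      have := h i
      exact Algebra.FormallyUnramified.comp_injective I hI (by simp only [← AlgHom.comp_assoc]; rw [he])
    exact DFunLike.congr_fun this x
  · have hl : ∀ i, ∃ l : G i →ₐ[R] B, (Ideal.Quotient.mkₐ R I).comp l = φ.comp (g i) := fun i => by
      have := h i
      exact Algebra.FormallySmooth.comp_surjective R (G i) I hI _
    choose l hl using hl
    have hcompat : ∀ i j (hij : i ≤ j), (l j).comp (f i j hij) = l i := fun i j hij => by
      have := h i
      refine Algebra.FormallyUnramified.comp_injective I hI ?_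
      simp only [← AlgHom.comp_assoc]
      rw [hl j, hl i, AlgHom.comp_assoc, hg]
    choose idx rep hrep using hsurj
    have hF : ∀ i (x : G i), l (idx (g i x)) (rep (g i x)) = l i x := fun i x => by
      obtain ⟨k, hik, hjk⟩ := exists_ge_ge (idx (g i x)) i
      have e1 : g k (f _ k hik (rep (g i x)) - f i k hjk x) = 0 := by
        rw [map_sub, ← AlgHom.comp_apply, ← AlgHom.comp_apply, hg, hg, hrep, sub_self]
      obtain ⟨m, hkm, hm⟩ := hker k _ e1
      have := congrArg (l m) hm
      rw [map_zero, ← AlgHom.comp_apply, hcompat, map_sub, ← AlgHom.comp_apply, ← AlgHom.comp_apply,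
        hcompat, hcompat, sub_eq_zero] at this
      exact this
    let L : S → B := fun s => l (idx s) (rep s)
    have hL : ∀ i (x : G i), L (g i x) = l i x := hF
    have two : ∀ a b : S, ∃ k, ∃ x y : G k, g k x = a ∧ g k y = b := fun a b => by
      obtain ⟨k, hak, hbk⟩ := exists_ge_ge (idx a) (idx b)
      exact ⟨k, f _ k hak (rep a), f _ k hbk (rep b),
        by rw [← AlgHom.comp_apply, hg, hrep], by rw [← AlgHom.comp_apply, hg, hrep]⟩
    refine ⟨{ toFun := L, map_one' := ?_, map_mul' := fun a b => ?_, map_zero' := ?_, map_add' := fun a b => ?_, commutes' := fun r => ?_ }, AlgHom.ext fun s => ?_⟩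
    · obtain ⟨i⟩ := ‹Nonempty ι›
      rw [← map_one (g i), hL, map_one]
    · obtain ⟨k, x, y, rfl, rfl⟩ := two a b
      rw [← map_mul, hL, hL, hL, map_mul]
    · obtain ⟨i⟩ := ‹Nonempty ι›
      rw [← map_zero (g i), hL, map_zero]
    · obtain ⟨k, x, y, rfl, rfl⟩ := two a b
      rw [← map_add, hL, hL, hL, map_add]
    · obtain ⟨i⟩ := ‹Nonempty ι›
      rw [← (g i).commutes r, hL, AlgHom.commutes]
    · have := DFunLike.congr_fun (hl (idx s)) (rep s)
      simp only [AlgHom.comp_apply] at this ⊢
      rw [hrep] at this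
      exact this

end Groth.Agent.S9425
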