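import Groth.Statements.S9427
import Groth.Agent.Unram.UnivThickProps


set_option autoImplicit false
universe u
open OmegaSh

namespace Groth.Agent.S9427

/-- Let R → A → B be ring maps with A → B formally unramified, and let B' → B be a universal first order
thickening of B relative to A (B a B'-algebra through it). Then A → B' is formally unramified, and
base changing to B the natural B'-linear map B' ⊗_A Ω_{A/R} → Ω_{B'/R} gives a bijection B ⊗_{B'}
(B' ⊗_A Ω_{A/R}) → B ⊗_{B'} Ω_{B'/R}. -/
theorem result
    (R : Type u) [CommRing R] (A : Type u) [CommRing A] [Algebra R A] (B : Type u) [CommRing B]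
    [Algebra A B] [Algebra.FormallyUnramified A B] (B' : Type u) [CommRing B'] [Algebra A B']
    [Algebra R B'] [IsScalarTower R A B'] [Algebra B' B] [IsScalarTower A B' B]
    (h : OmegaSh.IsUnivThickeningRing A B B' (IsScalarTower.toAlgHom A B' B)) :
    Algebra.FormallyUnramified A B' ∧
      Function.Bijective ((KaehlerDifferential.mapBaseChange R A B').baseChange B) := by
  open TensorProduct KaehlerDifferential in
  classical
  let π := IsScalarTower.toAlgHom A B' B
  have hunr : Algebra.FormallyUnramified A B' := Groth.Agent.Unram.formallyUnramified_of_isUniv π h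
  refine ⟨hunr, ?_⟩
  have hsurj : Function.Surjective (KaehlerDifferential.mapBaseChange R A B') := fun x =>
    (KaehlerDifferential.exact_mapBaseChange_map R A B' x).mp (Subsingleton.elim _ _)
  refine ⟨?_, LinearMap.lTensor_surjective B hsurj⟩
  let : Algebra R B := ((algebraMap A B).comp (algebraMap R A)).toAlgebra
  have : IsScalarTower R A B := IsScalarTower.of_algebraMap_eq (R := R) (S := A) (A := B) fun _ => rfl
  have : IsScalarTower R B' B := IsScalarTower.of_algebraMap_eq (R := R) (S := B') (A := B) fun r => by
    rw [IsScalarTower.algebraMap_apply R A B' r, ← IsScalarTower.algebraMap_apply A B' B]; rfl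
  obtain ⟨D, hD⟩ := Groth.Agent.Unram.exists_derivation_of_isUniv π h (R := R)
    (N := B ⊗[A] Ω[A⁄R]) (fun k hk n => by
      rw [← IsScalarTower.algebraMap_smul B k n, show algebraMap B' B k = 0 from hk, zero_smul])
    ((TensorProduct.mk A B Ω[A⁄R] 1).compDer (KaehlerDifferential.D R A))
  let Ψ : B ⊗[B'] Ω[B'⁄R] →ₗ[B] B ⊗[A] Ω[A⁄R] := D.liftKaehlerDifferential.liftBaseChange B
  have key : (TensorProduct.AlgebraTensorModule.cancelBaseChange A B' B B Ω[A⁄R]).toLinearMap =
      Ψ ∘ₗ ((KaehlerDifferential.mapBaseChange R A B').baseChange B) := by
    refine TensorProduct.AlgebraTensorModule.curry_injective (LinearMap.ext fun b => LinearMap.ext fun z => ?_)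
    change TensorProduct.AlgebraTensorModule.cancelBaseChange A B' B B Ω[A⁄R] (b ⊗ₜ z) =
      Ψ ((KaehlerDifferential.mapBaseChange R A B').baseChange B (b ⊗ₜ z))
    rw [LinearMap.baseChange_tmul, LinearMap.liftBaseChange_tmul]
    induction z using TensorProduct.induction_on with
    | zero => simp
    | add z w hz hw => simp only [TensorProduct.tmul_add, map_add, hz, hw, smul_add]
    | tmul b' ω =>
      rw [TensorProduct.AlgebraTensorModule.cancelBaseChange_tmul, KaehlerDifferential.mapBaseChange_tmul]
      have hω : ω ∈ Submodule.span A (Set.range (KaehlerDifferential.D R A)) :=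
        (KaehlerDifferential.span_range_derivation R A).ge Submodule.mem_top
      induction hω using Submodule.span_induction with
      | mem y hy =>
        obtain ⟨a, rfl⟩ := hy
        rw [KaehlerDifferential.map_D, map_smul, Derivation.liftKaehlerDifferential_comp_D, hD]
        change _ = b • b' • ((1 : B) ⊗ₜ[A] KaehlerDifferential.D R A a)
        rw [← IsScalarTower.algebraMap_smul B b', TensorProduct.smul_tmul', TensorProduct.smul_tmul',
          smul_eq_mul, smul_eq_mul, Algebra.smul_def, mul_one, mul_comm]
      | zero => simp
      | add y w _ _ hy hw => simp only [map_add, TensorProduct.tmul_add, smul_add, hy, hw]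
      | smul r y _ hy =>
        rw [map_smul (KaehlerDifferential.map R R A B'), TensorProduct.tmul_smul, hy,
          ← IsScalarTower.algebraMap_smul B' r (KaehlerDifferential.map R R A B' y),
          smul_comm b', map_smul D.liftKaehlerDifferential (algebraMap A B' r),
          IsScalarTower.algebraMap_smul, smul_comm b]
  intro x y hxy
  refine (TensorProduct.AlgebraTensorModule.cancelBaseChange A B' B B Ω[A⁄R]).injective ?_
  exact (LinearMap.congr_fun key x).trans ((congrArg Ψ hxy).trans (LinearMap.congr_fun key y).symm)

end Groth.Agent.S9427
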