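import Groth.Statements.S9428
import Mathlib
-- import your own Groth.Agent.* helpers here

set_option autoImplicit false
universe u
open CAlg

namespace Groth.Agent.S9428

/-- If R → S is formally étale and J ⊆ S is an ideal with R → S/J surjective, I ⊆ R its kernel (the
preimage of J), then R/I^n → S/J^n is bijective for all n. (The published statement adds that the
associated graded rings are then isomorphic, which follows from these bijections.) -/
theorem result (R : Type u) [CommRing R] (S : Type u)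
    [CommRing S] [Algebra R S] [Algebra.FormallyEtale R S] (J : Ideal S)
    (hJ : Function.Surjective (algebraMap R (S ⧸ J))) (n : ℕ) :
    Function.Bijective (Ideal.quotientMap (J ^ n) (algebraMap R S)
      (le_of_le_of_eq (Ideal.le_comap_pow (algebraMap R S) n) rfl :
        (J.comap (algebraMap R S)) ^ n ≤ (J ^ n).comap (algebraMap R S))) := by
  rcases n with _ | n
  · have h1 : Subsingleton (R ⧸ (J.comap (algebraMap R S)) ^ 0) :=
      Ideal.Quotient.subsingleton_iff.2 (by rw [pow_zero, Ideal.one_eq_top])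
    have h2 : Subsingleton (S ⧸ J ^ 0) :=
      Ideal.Quotient.subsingleton_iff.2 (by rw [pow_zero, Ideal.one_eq_top])
    exact ⟨fun _ _ _ => Subsingleton.elim _ _, fun b => ⟨0, Subsingleton.elim _ _⟩⟩
  set m := n + 1 with hm
  set I : Ideal R := J.comap (algebraMap R S) with hI
  let q := Ideal.quotientMap (J ^ m) (algebraMap R S)
      (le_of_le_of_eq (Ideal.le_comap_pow (algebraMap R S) m) rfl :
        I ^ m ≤ (J ^ m).comap (algebraMap R S))
  let K : Ideal (R ⧸ I ^ m) := I.map (Ideal.Quotient.mk (I ^ m))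
  have hKm : K ^ m = ⊥ := by rw [← Ideal.map_pow, Ideal.map_quotient_self]
  have hmk : ∀ a : R, algebraMap R (S ⧸ J) a = Ideal.Quotient.mk J (algebraMap R S a) := fun a => rfl
  let π : (R ⧸ I ^ m) →ₐ[R] S ⧸ J := Ideal.Quotient.liftₐ (I ^ m) (Algebra.ofId R (S ⧸ J)) (fun a ha => by
    show algebraMap R (S ⧸ J) a = 0
    rw [hmk, Ideal.Quotient.eq_zero_iff_mem]
    exact (Ideal.pow_le_self (I := I) (Nat.succ_ne_zero n) ha : a ∈ I))
  have hπmk : ∀ a : R, π (Ideal.Quotient.mk (I ^ m) a) = Ideal.Quotient.mk J (algebraMap R S a) := fun a => rfl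
  have hπ : Function.Surjective π := fun y => by
    obtain ⟨a, rfl⟩ := hJ y
    exact ⟨Ideal.Quotient.mk _ a, hπmk a⟩
  have hker : RingHom.ker π = K := by
    ext x
    obtain ⟨a, rfl⟩ := Ideal.Quotient.mk_surjective x
    rw [RingHom.mem_ker, hπmk, Ideal.Quotient.eq_zero_iff_mem,
      Ideal.mem_quotient_iff_mem (Ideal.pow_le_self (Nat.succ_ne_zero n))]
    rfl
  have hnil : IsNilpotent (RingHom.ker (π : (R ⧸ I ^ m) →+* S ⧸ J)) := ⟨m, by
    rw [show RingHom.ker (π : (R ⧸ I ^ m) →+* S ⧸ J) = K from hker, hKm]; rfl⟩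
  let φ : S →ₐ[R] R ⧸ I ^ m := Algebra.FormallySmooth.liftOfSurjective (Ideal.Quotient.mkₐ R J) π hπ hnil
  have hφ : ∀ s, π (φ s) = Ideal.Quotient.mk J s := fun s =>
    Algebra.FormallySmooth.liftOfSurjective_apply (Ideal.Quotient.mkₐ R J) π hπ hnil s
  have hφJ : J.map φ.toRingHom ≤ K := Ideal.map_le_iff_le_comap.2 fun s hs => by
    rw [Ideal.mem_comap, ← hker, RingHom.mem_ker]
    exact (hφ s).trans (Ideal.Quotient.eq_zero_iff_mem.2 hs)
  have hφm : ∀ s ∈ J ^ m, φ s = 0 := fun s hs => by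
    have : φ s ∈ (J ^ m).map φ.toRingHom := Ideal.mem_map_of_mem _ hs
    rw [Ideal.map_pow] at this
    have := Ideal.pow_right_mono hφJ m this
    rwa [hKm, Ideal.mem_bot] at this
  constructor
  · intro x y h
    obtain ⟨a, rfl⟩ := Ideal.Quotient.mk_surjective x
    obtain ⟨b, rfl⟩ := Ideal.Quotient.mk_surjective y
    rw [Ideal.quotientMap_mk, Ideal.quotientMap_mk, Ideal.Quotient.eq, ← map_sub] at h
    have := hφm _ h
    rw [AlgHom.commutes] at this
    rw [Ideal.Quotient.eq]
    exact Ideal.Quotient.eq_zero_iff_mem.1 this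
  · let qa : (R ⧸ I ^ m) →ₐ[R] S ⧸ J ^ m := { q with commutes' := fun r => rfl }
    let N : Ideal (S ⧸ J ^ m) := J.map (Ideal.Quotient.mk (J ^ m))
    have hN : IsNilpotent N := ⟨m, by rw [Submodule.zero_eq_bot, ← Ideal.map_pow, Ideal.map_quotient_self]⟩
    have hext : qa.comp φ = Ideal.Quotient.mkₐ R (J ^ m) := by
      refine Algebra.FormallyUnramified.ext N hN fun s => ?_
      rw [Ideal.Quotient.eq]
      obtain ⟨a, ha⟩ := Ideal.Quotient.mk_surjective (φ s)
      have h1 : algebraMap R S a - s ∈ J := by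
        rw [← Ideal.Quotient.eq, ← hπmk, ha, hφ]
      show qa (φ s) - Ideal.Quotient.mk (J ^ m) s ∈ N
      rw [← ha]
      show Ideal.Quotient.mk (J ^ m) (algebraMap R S a) - Ideal.Quotient.mk (J ^ m) s ∈ N
      rw [← map_sub]
      exact Ideal.mem_map_of_mem _ h1
    intro y
    obtain ⟨s, rfl⟩ := Ideal.Quotient.mk_surjective y
    exact ⟨φ s, AlgHom.congr_fun hext s⟩
end Groth.Agent.S9428
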