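import Groth.Statements.S9430
import Groth.Agent.SyntLCI.Field
import Groth.Agent.S9368
import Mathlib
-- import your own Groth.Agent.* helpers here

set_option autoImplicit false
universe u
open Synt

namespace Groth.Agent.S9430

/-- For a field extension K/k, every finite subset of K lies in a k-subalgebra of K which is a global
complete intersection over k; so K is the directed union of its k-subalgebras that are global
complete intersections over k. -/
theorem result (k : Type u) [Field k] (K : Type u)
    [Field K] [Algebra k K] (E : Finset K) :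
    ∃ A : Subalgebra k K, (↑E : Set K) ⊆ (A : Set K) ∧ Synt.IsGlobalCI k A := by
  classical
  let S0 := Algebra.adjoin k (E : Set K)
  have : IsDomain S0 := inferInstance
  have : Algebra.FiniteType k S0 :=
    (Subalgebra.fg_iff_finiteType _).1 (Subalgebra.fg_def.2 ⟨E, E.finite_toSet, rfl⟩)
  have : IsNoetherianRing S0 := Algebra.FiniteType.isNoetherianRing k S0
  let L := Localization.AtPrime (⊥ : Ideal S0)
  have hpc : (⊥ : Ideal S0).primeCompl = nonZeroDivisors S0 := by
    ext x; simp [Ideal.primeCompl, mem_nonZeroDivisors_iff_ne_zero]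
  have : IsFractionRing S0 L := by
    show IsLocalization (nonZeroDivisors S0) L
    rw [← hpc]; infer_instance
  have hL : IsField L := (IsFractionRing.toField (K := L) S0).toIsField
  have : IsRegularLocalRing L := by
    letI := hL.toField
    infer_instance
  have : Algebra.EssFiniteType k L := Algebra.EssFiniteType.comp k S0 L
  have hCI : Synt.IsCIOver k L := ⟨L, inferInstance, inferInstance, inferInstance, inferInstance, [],
    by simp, RingTheory.Sequence.IsRegular.nil L L, ⟨(AlgEquiv.quotientBot k L).symm.trans
      (Ideal.quotientEquivAlgOfEq k Ideal.ofList_nil.symm)⟩⟩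
  obtain ⟨n, φ, hφ⟩ := Algebra.FiniteType.iff_quotient_mvPolynomial''.1 ‹Algebra.FiniteType k S0›
  obtain ⟨s, hs, hG⟩ := Groth.Agent.SyntLCI.exists_isGlobalCI_away φ hφ (⊥ : Ideal S0) hCI
  let T := Localization.Away s
  have hs0 : (s : K) ≠ 0 := fun h => hs (by
    have : s = 0 := Subtype.ext h
    simp [this])
  let ι : T →ₐ[k] K := IsLocalization.Away.liftAlgHom s (f := S0.val) (isUnit_iff_ne_zero.2 hs0)
  have hι : Function.Injective ι := by
    rw [injective_iff_map_eq_zero]
    intro z hz
    obtain ⟨⟨a, b⟩, hab⟩ := IsLocalization.surj (Submonoid.powers s) z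
    have ha : ι (algebraMap S0 T a) = (a : K) := by simp [ι, IsLocalization.Away.lift_eq]
    have h1 := congrArg ι hab
    rw [map_mul, hz, zero_mul, ha] at h1
    have : a = 0 := Subtype.ext h1.symm
    subst this
    rw [map_zero] at hab
    exact (IsLocalization.map_units T b).mul_left_eq_zero.1 hab
  refine ⟨ι.range, fun x hx => ⟨algebraMap S0 T ⟨x, Algebra.subset_adjoin hx⟩,
    by simp [ι, IsLocalization.Away.lift_eq]⟩, ?_⟩
  exact Groth.Agent.S9368.isGlobalCI_congr (AlgEquiv.ofInjective ι hι) hG

end Groth.Agent.S9430
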