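import Groth.Statements.S9431
import Groth.Agent.PBasis.Derivations
import Mathlib
-- import your own Groth.Agent.* helpers here

set_option autoImplicit false
universe u
open CAlg

namespace Groth.Agent.S9431

/-- For a separable (geometrically reduced) field extension K/k, every finite subset of K lies in a
k-subalgebra of K which is smooth over k; in particular K is a filtered colimit of smooth
k-algebras. -/
theorem result (k : Type u) [Field k]
    (K : Type u) [Field K] [Algebra k K] [Algebra.IsGeometricallyReduced k K] (E : Finset K) :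
    ∃ A : Subalgebra k K, (↑E : Set K) ⊆ (A : Set K) ∧ Algebra.Smooth k A := by
  classical
  let S0 := Algebra.adjoin k (E : Set K)
  let L0 := IntermediateField.adjoin k (E : Set K)
  have hle : S0 ≤ L0.toSubalgebra := Algebra.adjoin_le (IntermediateField.subset_adjoin k _)
  letI : Algebra S0 L0 := (Subalgebra.inclusion hle).toRingHom.toAlgebra
  have : IsScalarTower k S0 L0 := IsScalarTower.of_algebraMap_eq fun x => rfl
  have hinjS : Function.Injective (algebraMap S0 L0) := Subalgebra.inclusion_injective hle
  have : IsDomain S0 := inferInstance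
  have : Module.IsTorsionFree S0 L0 := Module.IsTorsionFree.of_smul_eq_zero fun r x h => by
    rw [Algebra.smul_def, mul_eq_zero, map_eq_zero_iff _ hinjS] at h; exact h
  have : FaithfulSMul S0 L0 := (faithfulSMul_iff_algebraMap_injective _ _).2 hinjS
  have : IsFractionRing S0 L0 := by
    refine IsFractionRing.of_field _ _ fun z => ?_
    obtain ⟨r, hr, s, hs, hz⟩ := IntermediateField.mem_adjoin_iff_div.1 z.2
    exact ⟨⟨r, hr⟩, ⟨s, hs⟩, Subtype.ext hz⟩
  have : Algebra.IsGeometricallyReduced k L0 :=
    Algebra.IsGeometricallyReduced.of_injective L0.val L0.val.injective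
  have : Algebra.FormallySmooth k L0 := Groth.Agent.PBasis.formallySmooth_of_isGeometricallyReduced'
  have : Algebra.FiniteType k S0 :=
    (Subalgebra.fg_iff_finiteType _).1 (Subalgebra.fg_def.2 ⟨E, E.finite_toSet, rfl⟩)
  have : Algebra.FinitePresentation k S0 := Algebra.FinitePresentation.of_finiteType.1 inferInstance
  let η : PrimeSpectrum S0 := ⟨⊥, Ideal.isPrime_bot⟩
  have hη : η ∈ Algebra.smoothLocus k S0 := by
    show Algebra.FormallySmooth k (Localization.AtPrime η.asIdeal)
    have hpc : (⊥ : Ideal S0).primeCompl = nonZeroDivisors S0 := by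
      ext x; simp [Ideal.primeCompl, mem_nonZeroDivisors_iff_ne_zero]
    have : IsLocalization η.asIdeal.primeCompl L0 := by
      show IsLocalization (⊥ : Ideal S0).primeCompl L0
      rw [hpc]; infer_instance
    exact Algebra.FormallySmooth.of_equiv
      ((IsLocalization.algEquiv η.asIdeal.primeCompl L0 (Localization.AtPrime η.asIdeal)).restrictScalars k)
  obtain ⟨_, ⟨s, rfl⟩, hxs, hsU⟩ :=
    PrimeSpectrum.isTopologicalBasis_basic_opens.isOpen_iff.1 Algebra.isOpen_smoothLocus η hη
  let T := Localization.Away s
  have : Algebra.Smooth k T := Algebra.basicOpen_subset_smoothLocus_iff_smooth.1 hsU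
  have hs0 : (s : K) ≠ 0 := fun h => hxs (by
    have : s = 0 := Subtype.ext h
    simp [this])
  let ι : T →ₐ[k] K := IsLocalization.Away.liftAlgHom s (f := S0.val) (isUnit_iff_ne_zero.2 hs0)
  have hι : Function.Injective ι := by
    rw [injective_iff_map_eq_zero]
    intro z hz
    obtain ⟨⟨a, b⟩, hab⟩ := IsLocalization.surj (Submonoid.powers s) z
    have ha : ι (algebraMap S0 T a) = (a : K) := by simp [ι, IsLocalization.Away.lift_eq]
    have h1 := congrArg ι hab
    rw [map_mul, hz, zero_mul, ha] at h1
    have : a = 0 := Subtype.ext h1.symm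
    subst this
    rw [map_zero] at hab
    exact (IsLocalization.map_units T b).mul_left_eq_zero.1 hab
  refine ⟨ι.range, fun x hx => ⟨algebraMap S0 T ⟨x, Algebra.subset_adjoin hx⟩,
    by simp [ι, IsLocalization.Away.lift_eq]⟩, ?_⟩
  exact Algebra.Smooth.of_equiv (AlgEquiv.ofInjective ι hι)

end Groth.Agent.S9431
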