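import Groth.Statements.S9433
import Mathlib.RingTheory.Unramified.LocalStructure
import Mathlib.RingTheory.Smooth.Flat
import Mathlib.RingTheory.Flat.FaithfullyFlat.Algebra
-- import your own Groth.Agent.* helpers here

set_option autoImplicit false
universe u
open CAlg

namespace Groth.Agent.S9433Aux

open Polynomial IsLocalRing

/-- a root `x` of `f` with `f'(x)` a unit lies in `a + f(a)S` when `a ≡ x` -/
lemma root_congr {S : Type*} [CommRing S] [IsLocalRing S] (F : S[X]) (x c : S)
    (hx : F.eval x = 0) (hu : IsUnit (F.derivative.eval x)) (hc : c - x ∈ maximalIdeal S) :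
    F.eval c ∈ maximalIdeal S ∧ x - c ∈ Ideal.span {F.eval c} := by
  obtain ⟨k, hk⟩ := binomExpansion F x (c - x)
  rw [add_sub_cancel, hx, zero_add] at hk
  have hfac : F.eval c = (c - x) * (F.derivative.eval x + k * (c - x)) := by rw [hk]; ring
  have hu' : IsUnit (F.derivative.eval x + k * (c - x)) := by
    by_contra h
    have h1 : F.derivative.eval x + k * (c - x) ∈ maximalIdeal S := h
    have h2 : F.derivative.eval x ∈ maximalIdeal S := by
      simpa using Ideal.sub_mem _ h1 (Ideal.mul_mem_left _ k hc)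
    exact h2 hu
  refine ⟨hfac ▸ Ideal.mul_mem_right _ _ hc, ?_⟩
  rw [Ideal.mem_span_singleton]
  obtain ⟨u, hu''⟩ := hu'
  refine ⟨-(↑u⁻¹ : S), ?_⟩
  rw [hfac, ← hu'', mul_neg, mul_assoc, Units.mul_inv, mul_one, neg_sub]

/-- surjectivity mod `t` upgrades to surjectivity mod `t ^ n` -/
lemma surj_pow {R S : Type*} [CommRing R] [CommRing S] (g : R →+* S) (t : R)
    (h : ∀ s : S, ∃ r, s - g r ∈ Ideal.span {g t}) (n : ℕ) :
    ∀ s : S, ∃ r, s - g r ∈ Ideal.span {g t ^ n} := by
  induction n with
  | zero => exact fun s => ⟨0, by simp⟩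
  | succ n ih =>
    intro s
    obtain ⟨r, hr⟩ := ih s
    obtain ⟨w, hw⟩ := Ideal.mem_span_singleton.mp hr
    obtain ⟨r', hr'⟩ := h w
    obtain ⟨v, hv⟩ := Ideal.mem_span_singleton.mp hr'
    refine ⟨r + t ^ n * r', Ideal.mem_span_singleton.mpr ⟨v, ?_⟩⟩
    have hv' : w = g r' + g t * v := by rw [← hv]; ring
    have hw' : s = g r + g t ^ n * w := by rw [← hw]; ring
    rw [hw', hv', map_add, map_mul, map_pow]
    ring

end Groth.Agent.S9433Aux


namespace Groth.Agent.S9433

/-- Let R → S be a local homomorphism of local rings with S the localization of an étale R-algebra at a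
prime, inducing an isomorphism of residue fields. Then for some t in the maximal ideal of R the maps
R/t^nR → S/t^nS are bijective for all n ≥ 1. -/
theorem result (R : Type u) [CommRing R] [IsLocalRing R] (T : Type u) [CommRing T] [Algebra R T]
    [Algebra.Etale R T] (q : Ideal T) [q.IsPrime] (S : Type u) [CommRing S] [IsLocalRing S]
    [Algebra T S] [IsLocalization.AtPrime S q] [Algebra R S] [IsScalarTower R T S]
    [IsLocalHom (algebraMap R S)]
    (hres : Function.Bijective (IsLocalRing.ResidueField.map (algebraMap R S))) :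
    ∃ t ∈ IsLocalRing.maximalIdeal R, ∀ n : ℕ, 1 ≤ n →
      Function.Bijective (Ideal.quotientMap ((Ideal.span {t ^ n}).map (algebraMap R S))
        (algebraMap R S) Ideal.le_comap_map) := by
  obtain ⟨g0, hg0, hstd⟩ := Algebra.IsEtaleAt.exists_isStandardEtale (R := R) (S := T) q
  obtain ⟨P⟩ := hstd.nonempty_standardEtalePresentation
  have hg0S : IsUnit ((IsScalarTower.toAlgHom R T S) g0) :=
    IsLocalization.map_units S (⟨g0, hg0⟩ : q.primeCompl)
  let ψ : Localization.Away g0 →ₐ[R] S := IsLocalization.Away.liftAlgHom g0 hg0S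
  have hψ : ∀ z : T, ψ (algebraMap T _ z) = algebraMap T S z := by
    intro z
    simp [ψ, IsLocalization.Away.lift_eq]
  set x : S := ψ P.x with hxdef
  have hx := P.hasMap.map ψ
  obtain ⟨a0, ha0⟩ := hres.2 (IsLocalRing.residue S x)
  obtain ⟨a, rfl⟩ := IsLocalRing.residue_surjective a0
  rw [IsLocalRing.ResidueField.map_residue] at ha0
  have hax : algebraMap R S a - x ∈ IsLocalRing.maximalIdeal S :=
    Ideal.Quotient.eq.mp ha0
  have hev : ∀ p : Polynomial R, Polynomial.eval (algebraMap R S a) (p.map (algebraMap R S))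
      = algebraMap R S (p.eval a) := fun p => by
    rw [Polynomial.eval_map, Polynomial.eval₂_at_apply]
  have hev' : ∀ p : Polynomial R, Polynomial.eval x (p.map (algebraMap R S))
      = Polynomial.aeval x p := fun p => by
    rw [Polynomial.eval_map, Polynomial.aeval_def]
  obtain ⟨htm, hxt⟩ := Groth.Agent.S9433Aux.root_congr (P.f.map (algebraMap R S)) x
    (algebraMap R S a) (by rw [hev']; exact hx.1)
    (by rw [Polynomial.derivative_map, hev']; exact hx.isUnit_derivative_f) hax
  rw [hev] at htm hxt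
  set t : R := P.f.eval a with htdef
  have htR : t ∈ IsLocalRing.maximalIdeal R := fun hu => htm (hu.map _)
  refine ⟨t, htR, fun n hn => ?_⟩
  -- congruence modulo `t`
  let π : S →+* S ⧸ Ideal.span {algebraMap R S t} := Ideal.Quotient.mk _
  let φ : R →+* S ⧸ Ideal.span {algebraMap R S t} := π.comp (algebraMap R S)
  have hpoly : ∀ p : Polynomial R, π (Polynomial.aeval x p) = φ (p.eval a) := by
    intro p
    show π _ = π (algebraMap R S (p.eval a))
    rw [Ideal.Quotient.eq]
    have h := Ideal.mem_of_dvd _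
      (Polynomial.sub_dvd_eval_sub x (algebraMap R S a) (p.map (algebraMap R S))) hxt
    rwa [hev', hev] at h
  have hunit : ∀ r : R, ∀ s : S, π s = φ r → IsUnit s → IsUnit r := by
    intro r s hsr hs
    apply isUnit_of_map_unit (algebraMap R S)
    by_contra h
    have hmem : s - algebraMap R S r ∈ IsLocalRing.maximalIdeal S :=
      (Ideal.span_singleton_le_iff_mem _).mpr htm (Ideal.Quotient.eq.mp hsr)
    have : s ∈ IsLocalRing.maximalIdeal S := by
      simpa using Ideal.add_mem _ hmem (show algebraMap R S r ∈ IsLocalRing.maximalIdeal S from h)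
    exact this hs
  have hrange : ∀ τ : T, ∃ r, π (algebraMap T S τ) = φ r := by
    intro τ
    obtain ⟨p, k, hp⟩ := P.exists_mul_aeval_x_g_pow_eq_aeval_x (algebraMap T _ τ)
    have hp' := congrArg ψ hp
    simp only [map_mul, map_pow, hψ, ← Polynomial.aeval_algHom_apply] at hp'
    obtain ⟨u, hu⟩ := hunit _ _ (hpoly P.g) hx.2
    refine ⟨p.eval a * ↑(u ^ k)⁻¹, ?_⟩
    have h := congrArg π hp'
    simp only [map_mul, map_pow, hpoly, ← hxdef] at h
    rw [map_mul, ← h, ← hu, mul_assoc, ← map_pow, ← map_mul, ← Units.val_pow_eq_pow_val,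
      Units.mul_inv, map_one, mul_one]
  have hsurj1 : ∀ s : S, ∃ r, s - algebraMap R S r ∈ Ideal.span {algebraMap R S t} := by
    intro s
    obtain ⟨⟨τ, σ⟩, hs⟩ := IsLocalization.surj q.primeCompl s
    obtain ⟨r1, hr1⟩ := hrange τ
    obtain ⟨r2, hr2⟩ := hrange σ
    obtain ⟨u, hu⟩ := hunit _ _ hr2 (IsLocalization.map_units S σ)
    refine ⟨r1 * ↑u⁻¹, Ideal.Quotient.eq.mp ?_⟩
    have h := congrArg π hs
    simp only [map_mul, hr1, hr2] at h
    show π s = φ (r1 * ↑u⁻¹)
    rw [map_mul, ← h, ← hu, mul_assoc, ← map_mul, Units.mul_inv, map_one, mul_one]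
  have : Module.Flat T S := IsLocalization.flat S q.primeCompl
  have : Module.Flat R S := Module.Flat.trans R T S
  have : Module.FaithfullyFlat R S := Module.FaithfullyFlat.of_flat_of_isLocalHom
  constructor
  · rw [injective_iff_map_eq_zero]
    intro z hz
    obtain ⟨r, rfl⟩ := Ideal.Quotient.mk_surjective z
    rw [Ideal.quotientMap_mk, Ideal.Quotient.eq_zero_iff_mem, ← Ideal.mem_comap,
      Ideal.comap_map_eq_self_of_faithfullyFlat] at hz
    exact Ideal.Quotient.eq_zero_iff_mem.mpr hz
  · intro z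
    obtain ⟨s, rfl⟩ := Ideal.Quotient.mk_surjective z
    obtain ⟨r, hr⟩ := Groth.Agent.S9433Aux.surj_pow (algebraMap R S) t hsurj1 n s
    refine ⟨Ideal.Quotient.mk _ r, ?_⟩
    rw [Ideal.quotientMap_mk, Ideal.Quotient.eq, Ideal.map_span, Set.image_singleton, map_pow,
      ← neg_sub, neg_mem_iff]
    exact hr

end Groth.Agent.S9433
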