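import Groth.Statements.S9434
import Groth.Agent.SplitCover.Basic
-- import your own Groth.Agent.* helpers here

set_option autoImplicit false
universe u
open CAlg

namespace Groth.Agent.S9434

/-- Let R → S be a local homomorphism of local rings with S the localization of an étale R-algebra at a
prime. Then there is a finite, finitely presented, faithfully flat R-algebra S' such that for every
maximal ideal m' of S' the structure map R → S'_{m'} factors through some R-algebra map S → S'_{m'}. -/
theorem result (R : Type u) [CommRing R] [IsLocalRing R] (T : Type u) [CommRing T] [Algebra R T]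
    [Algebra.Etale R T] (q : Ideal T) [q.IsPrime] (S : Type u) [CommRing S] [IsLocalRing S]
    [Algebra T S] [IsLocalization.AtPrime S q] [Algebra R S] [IsScalarTower R T S]
    [IsLocalHom (algebraMap R S)] :
    ∃ (S' : Type u) (_ : CommRing S') (_ : Algebra R S'),
      Module.Finite R S' ∧ Algebra.FinitePresentation R S' ∧ Module.FaithfullyFlat R S' ∧
        ∀ (m' : Ideal S') [m'.IsMaximal], Nonempty (S →ₐ[R] Localization.AtPrime m') := by
  classical
  obtain ⟨g, hgq, hgst⟩ := Algebra.IsEtaleAt.exists_isStandardEtale (R := R) q
  let P := hgst.nonempty_standardEtalePresentation.some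
  obtain ⟨S', _, _, h1, h2, h3, h4⟩ := Groth.Agent.SplitCover.exists_split _ R P.f P.monic_f rfl
  refine ⟨S', inferInstance, inferInstance, h1, Groth.Agent.SplitCover.finitePresentation_of_free R S',
    h3, fun m' _ => ?_⟩
  have : Algebra.IsIntegral R S' := Algebra.IsIntegral.of_finite R S'
  have hm : m'.under R = IsLocalRing.maximalIdeal R :=
    IsLocalRing.eq_maximalIdeal (Ideal.IsMaximal.under R m')
  have hqm : q.under R = IsLocalRing.maximalIdeal R := by
    have h := IsLocalization.AtPrime.under_maximalIdeal (S := S) q
    rw [← h, Ideal.under_under, Ideal.under_def]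
    exact ((IsLocalRing.local_hom_TFAE (algebraMap R S)).out 0 4).1 ‹IsLocalHom (algebraMap R S)›
  have hd : Disjoint (Submonoid.powers g : Set T) (q : Set T) :=
    (Ideal.disjoint_powers_iff_notMem_of_isPrime _).mpr hgq
  have := IsLocalization.isPrime_of_isPrime_disjoint (.powers g) (Localization.Away g) _ ‹q.IsPrime› hd
  have hc := IsLocalization.under_map_of_isPrime_disjoint (.powers g) (Localization.Away g) ‹q.IsPrime› hd
  obtain ⟨g', hg', φ, hφ⟩ := Groth.Agent.SplitCover.exists_algHom P h4
    (q.map (algebraMap T (Localization.Away g))) m' (by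
      rw [← Ideal.under_under (B := T) (q.map (algebraMap T (Localization.Away g))), hc, hqm, hm])
  let ψ : Localization.Away g' →ₐ[R] Localization.AtPrime m' :=
    { IsLocalization.Away.lift g' (g := algebraMap S' (Localization.AtPrime m'))
        (IsLocalization.map_units (Localization.AtPrime m') (⟨g', hg'⟩ : m'.primeCompl)) with
      commutes' := fun r => by
        simp only [RingHom.toMonoidHom_eq_coe, OneHom.toFun_eq_coe, MonoidHom.toOneHom_coe, MonoidHom.coe_coe]
        rw [IsScalarTower.algebraMap_apply R S' (Localization.Away g'), IsLocalization.Away.lift_eq,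
          ← IsScalarTower.algebraMap_apply] }
  let χ : T →ₐ[R] Localization.AtPrime m' := (ψ.comp φ).comp (IsScalarTower.toAlgHom R T _)
  have hu : ∀ y : q.primeCompl, IsUnit (χ y) := fun y => by
    by_contra hu
    have hy : φ (algebraMap T _ y.1) ∈ m'.map (algebraMap S' (Localization.Away g')) := by
      obtain ⟨z, ⟨s, hs⟩, hz⟩ := IsLocalization.exists_mk'_eq (Submonoid.powers g') (φ (algebraMap T _ y.1))
      rw [← hz, IsLocalization.mk'_mem_iff]
      apply Ideal.mem_map_of_mem
      by_contra hzm
      apply hu
      show IsUnit (ψ (φ (algebraMap T _ y.1)))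
      rw [← hz]
      obtain ⟨k, rfl⟩ := hs
      rw [isUnit_iff_exists_inv]
      have hk : IsUnit (ψ (algebraMap S' _ (g' ^ k))) := by
        show IsUnit (IsLocalization.Away.lift g' (g := algebraMap S' (Localization.AtPrime m')) (IsLocalization.map_units (Localization.AtPrime m') (⟨g', hg'⟩ : m'.primeCompl)) (algebraMap S' _ (g' ^ k)))
        rw [IsLocalization.Away.lift_eq, map_pow]
        exact (IsLocalization.map_units (Localization.AtPrime m') (⟨g', hg'⟩ : m'.primeCompl)).pow k
      have hz' : IsUnit (ψ (algebraMap S' _ z)) := by
        show IsUnit (IsLocalization.Away.lift g' (g := algebraMap S' (Localization.AtPrime m')) (IsLocalization.map_units (Localization.AtPrime m') (⟨g', hg'⟩ : m'.primeCompl)) (algebraMap S' _ z))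
        rw [IsLocalization.Away.lift_eq]
        exact IsLocalization.map_units (Localization.AtPrime m') (⟨z, hzm⟩ : m'.primeCompl)
      rw [← isUnit_iff_exists_inv]
      refine isUnit_of_mul_isUnit_left (y := ψ (algebraMap S' _ (g' ^ k))) ?_
      rw [← map_mul, IsLocalization.mk'_spec (M := Submonoid.powers g')]
      exact hz'
    have : algebraMap T (Localization.Away g) y.1 ∈ q.map (algebraMap T (Localization.Away g)) := by
      rw [← hφ]; exact hy
    exact y.2 (hc.le this)
  exact ⟨IsLocalization.liftAlgHom (M := q.primeCompl) hu⟩

end Groth.Agent.S9434
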