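import Groth.Statements.S9435
import Mathlib
-- import your own Groth.Agent.* helpers here

set_option autoImplicit false
universe u
open CAlg

namespace Groth.Agent.S9435

/-- Given a prime p of a ring R and a finite separable extension L of κ(p), there is an étale R-algebra
R' with a prime p' over p whose residue field is κ(p)-isomorphic to L. Stated through an R-algebra
map ψ : R' → L whose image generates the field L: its kernel is such a prime p' and the induced
κ(p') → L is then an isomorphism over κ(p). -/
theorem result (R : Type u) [CommRing R]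
    (p : Ideal R) [p.IsPrime] (L : Type u) [Field L] [Algebra p.ResidueField L] [Algebra R L]
    [IsScalarTower R p.ResidueField L] [Module.Finite p.ResidueField L]
    [Algebra.IsSeparable p.ResidueField L] :
    ∃ (R' : Type u) (_ : CommRing R') (_ : Algebra R R') (_ : Algebra.Etale R R') (ψ : R' →ₐ[R] L),
      Subfield.closure (Set.range ψ) = ⊤ := by
  classical
  let k := p.ResidueField
  obtain ⟨α, hα⟩ := Field.exists_primitive_element k L
  have hint : IsIntegral k α := Algebra.IsIntegral.isIntegral α
  let q := minpoly k α
  obtain ⟨⟨b, hb⟩, hbi⟩ := IsLocalization.exist_integer_multiples (S := k) (nonZeroDivisors (R ⧸ p))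
    (Finset.range (q.natDegree + 1)) q.coeff
  let c : k := algebraMap (R ⧸ p) k b
  have hc : c ≠ 0 := by
    rw [Ne, map_eq_zero_iff _ (IsFractionRing.injective _ _)]
    exact nonZeroDivisors.ne_zero hb
  let q' := q.scaleRoots c
  have hlift : q' ∈ Polynomial.lifts (algebraMap R k) := by
    rw [Polynomial.lifts_iff_coeff_lifts]
    intro i
    rw [Polynomial.coeff_scaleRoots]
    rcases lt_or_ge i q.natDegree with hi | hi
    · obtain ⟨z, hz⟩ := hbi i (Finset.mem_range.2 (by omega))
      obtain ⟨z', hz'⟩ := Ideal.Quotient.mk_surjective (z * b ^ (q.natDegree - i - 1))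
      refine ⟨z', ?_⟩
      rw [IsScalarTower.algebraMap_apply R (R ⧸ p) k, Ideal.Quotient.algebraMap_eq, hz', map_mul,
        map_pow, hz, Algebra.smul_def, mul_comm (algebraMap (R ⧸ p) k b) _, mul_assoc, ← pow_succ',
        show q.natDegree - i - 1 + 1 = q.natDegree - i by omega]
    · rcases hi.eq_or_lt with rfl | hlt
      · refine ⟨1, ?_⟩
        rw [map_one, Nat.sub_self, pow_zero, mul_one]
        exact (minpoly.monic hint).symm
      · refine ⟨0, ?_⟩
        rw [map_zero, Polynomial.coeff_eq_zero_of_natDegree_lt hlt, zero_mul]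
  obtain ⟨f, hfmap, hfdeg, hfm⟩ := Polynomial.lifts_and_degree_eq_and_monic hlift
    ((Polynomial.monic_scaleRoots_iff c).2 (minpoly.monic hint))
  let β : L := algebraMap k L c * α
  have hroot : Polynomial.aeval β q' = 0 := Polynomial.scaleRoots_aeval_eq_zero (minpoly.aeval k α)
  have htop : IntermediateField.adjoin k {β} = ⊤ := by
    rw [eq_top_iff, ← hα, IntermediateField.adjoin_simple_le_iff]
    have h1 : α = (algebraMap k L c)⁻¹ * β := by
      simp [β, hc]
    rw [h1]
    exact mul_mem (inv_mem (IntermediateField.algebraMap_mem _ c))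
      (IntermediateField.mem_adjoin_simple_self k β)
  have hq' : q' = minpoly k β := by
    have hβ : IsIntegral k β := Algebra.IsIntegral.isIntegral β
    refine Polynomial.eq_of_monic_of_dvd_of_natDegree_le (minpoly.monic hβ)
      ((Polynomial.monic_scaleRoots_iff c).2 (minpoly.monic hint)) (minpoly.dvd k β hroot) ?_
    rw [Polynomial.natDegree_scaleRoots, ← IntermediateField.adjoin.finrank hβ,
      ← IntermediateField.adjoin.finrank hint, htop, hα]
  let P : StandardEtalePair R :=
    { f := f, monic_f := hfm, g := Polynomial.derivative f, cond := ⟨1, 0, 1, by ring⟩ }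
  have hmap : P.HasMap β := by
    refine ⟨?_, isUnit_iff_ne_zero.2 ?_⟩
    · rw [← Polynomial.aeval_map_algebraMap k, hfmap, hroot]
    · show Polynomial.aeval β (Polynomial.derivative f) ≠ 0
      rw [← Polynomial.aeval_map_algebraMap k, ← Polynomial.derivative_map, hfmap, hq']
      exact (Algebra.IsSeparable.isSeparable k β).aeval_derivative_ne_zero (minpoly.aeval k β)
  refine ⟨P.Ring, inferInstance, inferInstance, inferInstance, P.lift β hmap, ?_⟩
  let F := Subfield.closure (Set.range (P.lift β hmap))
  have hR : ∀ r : R, algebraMap R L r ∈ F := fun r =>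
    Subfield.subset_closure ⟨algebraMap R P.Ring r, (P.lift β hmap).commutes r⟩
  have hk : ∀ y : k, algebraMap k L y ∈ F := fun y => by
    obtain ⟨u, v, -, rfl⟩ := IsFractionRing.div_surjective (R ⧸ p) y
    obtain ⟨u, rfl⟩ := Ideal.Quotient.mk_surjective u
    obtain ⟨v, rfl⟩ := Ideal.Quotient.mk_surjective v
    rw [map_div₀]
    refine div_mem ?_ ?_
    · change algebraMap k L (algebraMap R k u) ∈ F
      rw [← IsScalarTower.algebraMap_apply]
      exact hR u
    · change algebraMap k L (algebraMap R k v) ∈ F
      rw [← IsScalarTower.algebraMap_apply]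
      exact hR v
  have hle : IntermediateField.adjoin k {β} ≤ F.toIntermediateField hk :=
    IntermediateField.adjoin_simple_le_iff.2 (Subfield.subset_closure ⟨P.X, P.lift_X β hmap⟩)
  rw [htop] at hle
  exact eq_top_iff.2 fun x _ => hle (IntermediateField.mem_top (x := x))

end Groth.Agent.S9435
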