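import Groth.Statements.S9439
import Mathlib
import Groth.Agent.RegNormal.Basic
import Groth.Agent.AdicNoeth.Basic
-- import your own Groth.Agent.* helpers here

set_option autoImplicit false
universe u
open CAlg

open scoped TensorProduct

namespace Groth.Agent.S9439aux

/-- A noetherian local ring with principal maximal ideal generated by a regular element is a DVR. -/
theorem isDVR_of_principal {B : Type*} [CommRing B] [IsLocalRing B] [IsNoetherianRing B] {t : B}
    (hm : IsLocalRing.maximalIdeal B = Ideal.span {t}) (ht : IsSMulRegular B t) :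
    ∃ _ : IsDomain B, IsDiscreteValuationRing B := by
  have : Nontrivial B := inferInstance
  have ht0 : t ≠ 0 := fun h => by
    subst h
    exact zero_ne_one (ht (show (0 : B) • (0 : B) = (0 : B) • (1 : B) by simp))
  classical
  have hfac : ∀ x : B, x ≠ 0 → ∃ (n : ℕ) (v : Bˣ), x = v * t ^ n := by
    intro x hx
    have hex : ∃ n, x ∉ IsLocalRing.maximalIdeal B ^ n := by
      by_contra hcon
      push Not at hcon
      have h1 : x ∈ ⨅ n, IsLocalRing.maximalIdeal B ^ n := Submodule.mem_iInf _ |>.2 hcon
      rw [Ideal.iInf_pow_eq_bot_of_isLocalRing _ (IsLocalRing.maximalIdeal.isMaximal B).ne_top] at h1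
      exact hx h1
    have hn := Nat.find_spec hex
    rcases hj : Nat.find hex with _ | n
    · rw [hj] at hn
      simp at hn
    · have hmem : x ∈ IsLocalRing.maximalIdeal B ^ n :=
        not_not.1 (Nat.find_min hex (by omega : n < Nat.find hex))
      rw [hm, Ideal.span_singleton_pow, Ideal.mem_span_singleton] at hmem
      obtain ⟨v, rfl⟩ := hmem
      rw [hj, hm, Ideal.span_singleton_pow, Ideal.mem_span_singleton, pow_succ] at hn
      have hv : IsUnit v := by
        by_contra hv
        rw [← mem_nonunits_iff, ← IsLocalRing.mem_maximalIdeal, hm, Ideal.mem_span_singleton] at hv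
        exact hn (mul_dvd_mul_left _ hv)
      exact ⟨n, hv.unit, mul_comm _ _⟩
  have : NoZeroDivisors B := ⟨fun {a b} hab => by
    by_contra hcon
    push Not at hcon
    obtain ⟨n, v, rfl⟩ := hfac a hcon.1
    obtain ⟨m, w, rfl⟩ := hfac b hcon.2
    have : t ^ (n + m) = 0 := by
      apply (v * w).isUnit.mul_right_eq_zero.1
      rw [Units.val_mul, pow_add, ← hab]
      ring
    exact hcon.1 (by rw [show t ^ n = 0 from ((ht.pow (m)) (show t ^ m • t ^ n = t ^ m • 0 by
      rw [smul_eq_mul, smul_zero, ← pow_add, add_comm, this])), mul_zero])⟩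
  have : IsDomain B := NoZeroDivisors.to_isDomain _
  have hP : (IsLocalRing.maximalIdeal B).IsPrincipal := ⟨⟨t, hm⟩⟩
  refine ⟨this, ((IsDiscreteValuationRing.TFAE B ?_).out 0 4).mpr hP⟩
  intro hf
  have := IsLocalRing.isField_iff_maximalIdeal_eq.1 hf
  rw [hm, Ideal.span_singleton_eq_bot] at this
  exact ht0 this

end Groth.Agent.S9439aux

namespace Groth.Agent.S9439

/-- Let R be a Noetherian local ring, R^ its completion and p a prime with R_p a discrete valuation ring
and with R^/pR^ reduced (p analytically unramified: the completion of R/p, which is R^/pR^, is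
reduced). Then the localization of R^ at any associated prime of R^/pR^ is a discrete valuation
ring. -/
theorem result
    (R : Type u) [CommRing R] [IsLocalRing R] [IsNoetherianRing R] (p : Ideal R) [p.IsPrime]
    [IsDomain (Localization.AtPrime p)] [IsDiscreteValuationRing (Localization.AtPrime p)]
    (hp : IsReduced (AdicCompletion (IsLocalRing.maximalIdeal R) R ⧸
      p.map (algebraMap R (AdicCompletion (IsLocalRing.maximalIdeal R) R))))
    (q : Ideal (AdicCompletion (IsLocalRing.maximalIdeal R) R)) [q.IsPrime]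
    (hq : q ∈ associatedPrimes (AdicCompletion (IsLocalRing.maximalIdeal R) R)
      (AdicCompletion (IsLocalRing.maximalIdeal R) R ⧸
        p.map (algebraMap R (AdicCompletion (IsLocalRing.maximalIdeal R) R)))) :
    ∃ _ : IsDomain (Localization.AtPrime q), IsDiscreteValuationRing (Localization.AtPrime q) := by
  let Rh := AdicCompletion (IsLocalRing.maximalIdeal R) R
  let J := p.map (algebraMap R Rh)
  have : IsNoetherianRing Rh := Groth.Agent.AdicNoeth.isNoetherianRing_adicCompletion _
  have : Module.Flat R Rh := AdicCompletion.flat_of_isNoetherian _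
  -- `q` is minimal over `J`
  have hqmin : q ∈ J.minimalPrimes := by
    obtain ⟨hqp, x, hx⟩ := hq
    obtain ⟨x, rfl⟩ := Ideal.Quotient.mk_surjective x
    have hJrad : J.radical = J := (Ideal.isRadical_iff_quotient_reduced _).mpr hp |>.radical
    have hJq : J ≤ q := fun y hy => by
      rw [hx]
      refine Ideal.le_radical ?_
      rw [Submodule.mem_colon_singleton, Submodule.mem_bot]
      exact Ideal.Quotient.eq_zero_iff_mem.2 (J.mul_mem_right x hy)
    have hmin : ∀ P : Ideal Rh, P.IsPrime → J ≤ P → x ∉ P → q ≤ P := fun P hP hJP hxP y hy => by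
      rw [hx] at hy
      obtain ⟨n, hn⟩ := hy
      rw [Submodule.mem_colon_singleton, Submodule.mem_bot] at hn
      have : y ^ n * x ∈ P := hJP (Ideal.Quotient.eq_zero_iff_mem.1 hn)
      exact hP.mem_of_pow_mem n ((hP.mem_or_mem this).resolve_right hxP)
    have hx0 : x ∉ sInf J.minimalPrimes := fun hmem => by
      rw [Ideal.sInf_minimalPrimes, hJrad] at hmem
      apply hqp.ne_top
      rw [hx, Ideal.radical_eq_top, Ideal.eq_top_iff_one, Submodule.mem_colon_singleton,
        Submodule.mem_bot, one_smul]
      exact Ideal.Quotient.eq_zero_iff_mem.2 hmem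
    rw [Submodule.mem_sInf] at hx0
    push Not at hx0
    obtain ⟨P, hP, hxP⟩ := hx0
    exact le_antisymm (hP.2 ⟨hqp, hJq⟩ (hmin P hP.1.1 hP.1.2 hxP)) (hmin P hP.1.1 hP.1.2 hxP) ▸ hP
  -- `q` lies over `p`
  have hqp' : q.under R = p := by
    refine le_antisymm (fun s hs => ?_) (Ideal.map_le_iff_le_comap.1 hqmin.1.2)
    by_contra hsp
    have h1 : IsSMulRegular (R ⧸ p) s := fun a b hab => by
      obtain ⟨a, rfl⟩ := Ideal.Quotient.mk_surjective a
      obtain ⟨b, rfl⟩ := Ideal.Quotient.mk_surjective b
      change Ideal.Quotient.mk p (s * a) = Ideal.Quotient.mk p (s * b) at hab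
      rw [Ideal.Quotient.eq, ← mul_sub] at hab
      exact Ideal.Quotient.eq.2 ((Ideal.IsPrime.mem_or_mem ‹_› hab).resolve_left hsp)
    have h2 : IsSMulRegular (Rh ⊗[R] (R ⧸ p)) s := h1.lTensor Rh
    have h3 : IsSMulRegular (Rh ⧸ J) (algebraMap R Rh s) := by
      intro a b hab
      let e := (Algebra.TensorProduct.quotIdealMapEquivTensorQuot Rh p).toLinearEquiv.restrictScalars R
      refine e.injective (h2 ?_)
      change s • e a = s • e b
      rw [← map_smul, ← map_smul]
      congr 1
    obtain ⟨hq1, z, hz⟩ := hq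
    have hmem : algebraMap R Rh s ∈ q := hs
    rw [hz] at hmem
    obtain ⟨n, hn⟩ := hmem
    rw [Submodule.mem_colon_singleton, Submodule.mem_bot] at hn
    have hz0 : z = 0 := (h3.pow n) (show algebraMap R Rh s ^ n • z = algebraMap R Rh s ^ n • 0 by rw [hn, smul_zero])
    apply hq1.ne_top
    rw [hz, Ideal.radical_eq_top, Ideal.eq_top_iff_one, Submodule.mem_colon_singleton,
      Submodule.mem_bot, hz0, smul_zero]
  let Bq := Localization.AtPrime q
  let Ap := Localization.AtPrime p
  let φ : Ap →+* Bq := Localization.localRingHom p q (algebraMap R Rh) hqp'.symm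
  let _ : Algebra Ap Bq := φ.toAlgebra
  have : IsScalarTower R Ap Bq := IsScalarTower.of_algebraMap_eq fun r => by
    change _ = φ _
    rw [Localization.localRingHom_to_map, ← IsScalarTower.algebraMap_apply R Rh Bq]
  have : Module.Flat Ap Bq := (Module.flat_iff_of_isLocalization Ap p.primeCompl Bq).2 inferInstance
  have hmax : IsLocalRing.maximalIdeal Bq = (IsLocalRing.maximalIdeal Ap).map (algebraMap Ap Bq) := by
    rw [← Localization.AtPrime.map_eq_maximalIdeal (I := p), Ideal.map_map,
      ← IsScalarTower.algebraMap_eq R Ap Bq, IsScalarTower.algebraMap_eq R Rh Bq, ← Ideal.map_map]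
    rw [show J.map (algebraMap Rh Bq) = (J.map (algebraMap Rh Bq)).radical from ?_]
    · exact (Localization.AtPrime.map_eq_maximalIdeal (I := q)).symm.trans
        (IsLocalization.AtPrime.radical_map_of_mem_minimalPrimes Bq q J hqmin).symm
    · rw [← IsLocalization.map_radical q.primeCompl,
        ((Ideal.isRadical_iff_quotient_reduced J).mpr hp).radical]
  obtain ⟨ϖ, hϖ⟩ := IsDiscreteValuationRing.exists_irreducible Ap
  rw [hϖ.maximalIdeal_eq, Ideal.map_span, Set.image_singleton] at hmax
  have hreg : IsSMulRegular Bq (algebraMap Ap Bq ϖ) := by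
    have : IsSMulRegular (Bq ⊗[Ap] Ap) ϖ :=
      (IsSMulRegular.of_right_eq_zero_of_smul fun x hx => (mul_eq_zero.1 hx).resolve_left hϖ.ne_zero).lTensor Bq
    intro a b hab
    refine (TensorProduct.rid Ap Bq).symm.injective (this ?_)
    change ϖ • (TensorProduct.rid Ap Bq).symm a = ϖ • (TensorProduct.rid Ap Bq).symm b
    rw [← map_smul, ← map_smul, Algebra.smul_def, Algebra.smul_def]
    exact congrArg _ hab
  exact Groth.Agent.S9439aux.isDVR_of_principal hmax hreg

end Groth.Agent.S9439
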