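import Groth.Statements.S9440
import Groth.Agent.CAlgNagata.Main
import Groth.Agent.CAlgN2.Nagata
import Groth.Agent.CAlgN2.AnUnram
import Mathlib
-- import your own Groth.Agent.* helpers here

set_option autoImplicit false
universe u
open CAlg

open IsLocalRing in
theorem S9440_aux {R : Type u} [CommRing R] [IsLocalRing R] [IsNoetherianRing R]
    (h : ∀ (S : Type u) [CommRing S] [IsDomain S] [IsLocalRing S] [Algebra R S]
      [IsLocalHom (algebraMap R S)] [Module.Finite R S],
      IsReduced (AdicCompletion (IsLocalRing.maximalIdeal S) S))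
    (p : Ideal R) [p.IsPrime] : CAlg.IsN2 (R ⧸ p) := by
  intro L _ _ _ _ hfin
  let A := R ⧸ p
  have hinjA : Function.Injective (algebraMap A L) := by
    rw [IsScalarTower.algebraMap_eq A (FractionRing A) L]
    exact (RingHom.injective (algebraMap (FractionRing A) L)).comp (IsFractionRing.injective A (FractionRing A))
  by_cases hA : IsField A
  · have := IsFractionRing.surjective_iff_isField (R := A) (K := FractionRing A) |>.2 hA
    have : Module.Finite A (FractionRing A) := Module.Finite.of_surjective (Algebra.linearMap A _) this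
    have : Module.Finite A L := Module.Finite.trans (FractionRing A) L
    exact Module.Finite.of_injective (integralClosure A L).val.toLinearMap Subtype.val_injective
  have : IsLocalRing A := IsLocalRing.of_surjective' (Ideal.Quotient.mk p) Ideal.Quotient.mk_surjective
  obtain ⟨t, ht, ht0⟩ := Submodule.exists_mem_ne_zero_of_ne_bot
    (fun e => hA ((IsLocalRing.isField_iff_maximalIdeal_eq).2 e) : maximalIdeal A ≠ ⊥)
  obtain ⟨C, hC⟩ := Groth.Agent.CAlgRedStab.exists_model (A := A) (K' := L)
  have := hC.1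
  let τ : L := algebraMap A L t
  have hτ : τ ≠ 0 := (map_ne_zero_iff _ hinjA).2 ht0
  have hτC : τ ∈ C := C.algebraMap_mem t
  let S₀ : Subalgebra A L :=
    { carrier := {z | ∃ a : A, ∃ c ∈ C, z = algebraMap A L a + τ * c}
      mul_mem' := by
        rintro _ _ ⟨a, c, hc, rfl⟩ ⟨b, d, hd, rfl⟩
        refine ⟨a * b, algebraMap A L a * d + algebraMap A L b * c + τ * c * d, ?_, by rw [map_mul]; ring⟩
        exact C.add_mem (C.add_mem (C.mul_mem (C.algebraMap_mem a) hd) (C.mul_mem (C.algebraMap_mem b) hc))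
          (C.mul_mem (C.mul_mem hτC hc) hd)
      add_mem' := by
        rintro _ _ ⟨a, c, hc, rfl⟩ ⟨b, d, hd, rfl⟩
        exact ⟨a + b, c + d, C.add_mem hc hd, by rw [map_add]; ring⟩
      algebraMap_mem' := fun a => ⟨a, 0, C.zero_mem, by simp⟩ }
  have hmemS : ∀ c ∈ C, τ * c ∈ S₀ := fun c hc => ⟨0, c, hc, by simp⟩
  have hle : S₀ ≤ C := by
    rintro _ ⟨a, c, hc, rfl⟩
    exact C.add_mem (C.algebraMap_mem a) (C.mul_mem hτC hc)
  have : Module.Finite A S₀ :=
    Module.Finite.of_injective (Subalgebra.inclusion hle).toLinearMap (Subalgebra.inclusion_injective hle)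
  have : Algebra.IsIntegral A S₀ := Algebra.IsIntegral.of_finite A S₀
  have hmax : ∀ (M : Ideal S₀), M.IsMaximal → M.comap (algebraMap A S₀) = maximalIdeal A := fun M hM =>
    IsLocalRing.eq_maximalIdeal (Ideal.IsMaximal.under A M)
  have key : ∀ (M : Ideal S₀), M.IsMaximal → ∀ (a : A) (c : L) (hc : c ∈ C) (h : algebraMap A L a + τ * c ∈ S₀),
      (⟨_, h⟩ : S₀) ∈ M ↔ a ∈ maximalIdeal A := by
    intro M hM a c hc hz
    have htM : algebraMap A S₀ t ∈ M := by rw [← Ideal.mem_comap, hmax M hM]; exact ht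
    have hy : (⟨τ * c, hmemS c hc⟩ : S₀) ∈ M := by
      refine hM.isPrime.mem_of_pow_mem 2 ?_
      have : (⟨τ * c, hmemS c hc⟩ : S₀) ^ 2 = algebraMap A S₀ t * ⟨τ * (c * c), hmemS _ (C.mul_mem hc hc)⟩ := by
        ext; show (τ * c) ^ 2 = τ * (τ * (c * c)); ring
      rw [this]; exact M.mul_mem_right _ htM
    have e : (⟨_, hz⟩ : S₀) = algebraMap A S₀ a + ⟨τ * c, hmemS c hc⟩ := rfl
    rw [e, M.add_mem_iff_left hy, ← Ideal.mem_comap, hmax M hM]
  have : Nontrivial S₀ := inferInstance
  have hunit : ∀ z : S₀, z ∈ nonunits S₀ → ∀ (M : Ideal S₀), M.IsMaximal → z ∈ M := by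
    rintro ⟨_, a, c, hc, rfl⟩ hz M hM
    obtain ⟨M', hM', hzM'⟩ := exists_max_ideal_of_mem_nonunits hz
    exact (key M hM a c hc _).2 ((key M' hM' a c hc _).1 hzM')
  obtain ⟨M, hM⟩ := Ideal.exists_maximal S₀
  have : IsLocalRing S₀ := IsLocalRing.of_nonunits_add fun x y hx hy hu =>
    hM.ne_top (Ideal.eq_top_of_isUnit_mem _ (M.add_mem (hunit x hx M hM) (hunit y hy M hM)) hu)
  letI : Algebra R S₀ := ((algebraMap A S₀).comp (Ideal.Quotient.mk p)).toAlgebra
  have : IsScalarTower R A S₀ := IsScalarTower.of_algebraMap_eq' rfl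
  have : Module.Finite R S₀ := Module.Finite.trans A S₀
  have : IsLocalHom (algebraMap R S₀) := ⟨fun r hr => by
    by_contra hu
    have h1 : Ideal.Quotient.mk p r ∈ maximalIdeal A := fun hu' => by
      have : IsLocalHom (Ideal.Quotient.mk p) := IsLocalHom.of_surjective _ Ideal.Quotient.mk_surjective
      exact hu (IsUnit.of_map (Ideal.Quotient.mk p) r hu')
    have : algebraMap A S₀ (Ideal.Quotient.mk p r) ∈ M := by
      rw [← Ideal.mem_comap, hmax M hM]; exact h1
    exact hM.ne_top (Ideal.eq_top_of_isUnit_mem _ this hr)⟩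
  have : IsNoetherianRing A := inferInstance
  have : IsNoetherianRing S₀ := IsNoetherianRing.of_finite A S₀
  have := h S₀
  have hfrac : IsFractionRing S₀ L := IsFractionRing.of_field S₀ L fun z => by
    obtain ⟨a, c, hc, e⟩ := hC.2 z
    refine ⟨⟨τ * a, hmemS _ a.2⟩, ⟨τ * c, hmemS _ c.2⟩, ?_⟩
    show z = τ * a / (τ * c)
    rw [mul_div_mul_left _ _ hτ, eq_div_iff hc, e]
  have hN1 : Module.Finite S₀ (integralClosure S₀ (FractionRing S₀)) := Groth.Agent.CAlgN2.isN1_of_isReduced_completion
  have : Module.Finite S₀ (integralClosure S₀ L) :=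
    Module.Finite.equiv (FractionRing.algEquiv S₀ L).mapIntegralClosure.toLinearEquiv
  have : Module.Finite A (integralClosure S₀ L) := Module.Finite.trans S₀ _
  let ι : integralClosure A L →ₗ[A] integralClosure S₀ L :=
    { toFun := fun z => ⟨z.1, IsIntegral.tower_top z.2⟩
      map_add' := fun _ _ => rfl
      map_smul' := fun _ _ => rfl }
  exact Module.Finite.of_injective ι fun a b h => Subtype.ext (congrArg (fun z : integralClosure S₀ L => (z : L)) h)

namespace Groth.Agent.S9440

/-- (1) ⇔ (3): a Noetherian local ring R is a Nagata ring if and only if for every finite local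
homomorphism R → S of local rings with S a domain, the completion of S is reduced. -/
theorem result (R : Type u) [CommRing R]
    [IsLocalRing R] [IsNoetherianRing R] :
    CAlg.IsNagata R ↔ ∀ (S : Type u) [CommRing S] [IsDomain S] [IsLocalRing S] [Algebra R S]
      [IsLocalHom (algebraMap R S)] [Module.Finite R S],
      IsReduced (AdicCompletion (IsLocalRing.maximalIdeal S) S) := by
  refine ⟨fun hN S _ _ _ _ _ _ => ?_, fun h => ⟨inferInstance, fun p _ => S9440_aux h p⟩⟩
  have : IsNoetherianRing S := IsNoetherianRing.of_finite R S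
  exact Groth.Agent.CAlgN2.isReduced_completion_of_nagata (Groth.Agent.CAlgNagata.isNagata_of_finiteType hN S)

end Groth.Agent.S9440
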