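import Groth.Statements.S9441
import Groth.Agent.Smoothing.Minor
import Groth.Agent.Smoothing.BaseChange
import Groth.Agent.DimTheory.Algebra


set_option autoImplicit false
universe u
open Synt

namespace Groth.Agent.S9441

/-- For a relative global complete intersection S = R[x_1, …, x_n]/(f_1, …, f_c) and a prime q of S, the
map R → S is smooth at q if and only if some c × c minor of the Jacobian matrix (∂f_j/∂x_i), taken
on c distinct variables, has image outside q. -/
theorem result (R : Type u) [CommRing R] (n c : ℕ)
    (F : Fin c → MvPolynomial (Fin n) R) (hF : Synt.IsRelGCI R n c F)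
    (q : Ideal (Synt.RelGCIRing R n c F)) [q.IsPrime] :
    Algebra.IsSmoothAt R q ↔ ∃ I : Fin c ↪ Fin n,
      Ideal.Quotient.mk (Ideal.span (Set.range F))
        (Matrix.det (Matrix.of fun j i => MvPolynomial.pderiv (I i) (F j))) ∉ q := by
  classical
  let S := Synt.RelGCIRing R n c F
  let φ : MvPolynomial (Fin n) R →ₐ[R] S := Ideal.Quotient.mkₐ R _
  have hφ : Function.Surjective φ := Ideal.Quotient.mk_surjective
  have hker : RingHom.ker φ.toRingHom = Ideal.span (Set.range F) := Ideal.mk_ker
  have : Algebra.FinitePresentation R S := Algebra.FinitePresentation.quotient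
    (Submodule.fg_span (Set.finite_range F))
  constructor
  · intro hsm
    obtain ⟨c', rows, cols, t, ht, hminor, hkill⟩ :=
      Groth.Agent.Smoothing.exists_minor_of_isSmoothAt F φ hφ hker q
    have hc' : c' ≤ c := by simpa using Fintype.card_le_of_embedding rows
    rcases hc'.eq_or_lt with rfl | hlt
    · refine ⟨cols, ?_⟩
      let σ : Equiv.Perm (Fin c') := Equiv.ofBijective rows
        (Finite.injective_iff_bijective.mp rows.injective)
      intro hmem
      refine hminor ?_
      have : _root_.Smoothing.jacobianMinor F rows cols =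
          (Equiv.Perm.sign σ : MvPolynomial (Fin n) R) *
            Matrix.det (Matrix.of fun j i => MvPolynomial.pderiv (cols i) (F j)) :=
        Matrix.det_permute σ (Matrix.of fun j i => MvPolynomial.pderiv (cols i) (F j))
      rw [this, map_mul]
      exact q.mul_mem_left _ hmem
    · exfalso
      let p := q.comap (algebraMap R S)
      let κ := p.ResidueField
      let ρ : κ →+* q.ResidueField := Ideal.ResidueField.map p q (algebraMap R S) rfl
      let ev : MvPolynomial (Fin n) κ →+* q.ResidueField :=
        MvPolynomial.eval₂Hom ρ fun i => algebraMap S q.ResidueField (φ (MvPolynomial.X i))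
      let χ : MvPolynomial (Fin n) R →+* MvPolynomial (Fin n) κ := MvPolynomial.map (algebraMap R κ)
      have hev : ∀ g, ev (χ g) = algebraMap S q.ResidueField (φ g) := by
        refine RingHom.congr_fun (g := (algebraMap S q.ResidueField).comp φ.toRingHom)
          (f := ev.comp χ) (MvPolynomial.ringHom_ext (fun r => ?_) fun i => ?_)
        · simp only [RingHom.comp_apply, ev, χ, MvPolynomial.map_C, MvPolynomial.eval₂Hom_C,
            AlgHom.toRingHom_eq_coe, RingHom.coe_coe]
          rw [← MvPolynomial.algebraMap_eq, AlgHom.commutes]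
          exact Ideal.ResidueField.map_algebraMap p q (algebraMap R S) rfl r
        · simp [ev, χ]
      let 𝔭 : Ideal (MvPolynomial (Fin n) κ) := RingHom.ker ev
      have : 𝔭.IsPrime := RingHom.ker_isPrime ev
      have hF𝔭 : ∀ j, χ (F j) ∈ 𝔭 := fun j => by
        rw [RingHom.mem_ker, hev, show φ (F j) = 0 from
          Ideal.Quotient.eq_zero_iff_mem.mpr (Ideal.subset_span ⟨j, rfl⟩), map_zero]
      have ht𝔭 : χ t ∉ 𝔭 := fun h => by
        rw [RingHom.mem_ker, hev, Ideal.algebraMap_residueField_eq_zero] at h
        exact ht h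
      obtain ⟨m, ⟨hm₁, hm⟩, htm⟩ : ∃ m, (𝔭 ≤ m ∧ m.IsMaximal) ∧ χ t ∉ m := by
        by_contra! h
        exact ht𝔭 (by
          rw [← (isJacobsonRing_iff_prime_eq.mp inferInstance 𝔭 ‹_› : 𝔭.jacobson = 𝔭)]
          exact Submodule.mem_sInf.mpr fun J hJ => h J hJ)
      let J' : Ideal (MvPolynomial (Fin n) κ) := Ideal.span (Set.range fun k => χ (F (rows k)))
      let J : Ideal (MvPolynomial (Fin n) κ) := Ideal.span (Set.range fun j => χ (F j))
      have hJ'm : J' ≤ m := Ideal.span_le.mpr (by rintro _ ⟨k, rfl⟩; exact hm₁ (hF𝔭 _))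
      have hJQ : ∀ Q : Ideal (MvPolynomial (Fin n) κ), Q.IsPrime → Q ≤ m → J' ≤ Q → J ≤ Q := by
        intro Q hQ hQm hQJ
        refine Ideal.span_le.mpr ?_
        rintro _ ⟨j, rfl⟩
        have h1 : χ (t * F j) ∈ J' := by
          have := Ideal.mem_map_of_mem χ (hkill j)
          rw [Ideal.map_span, ← Set.range_comp] at this
          exact this
        rw [map_mul] at h1
        exact (hQ.mem_or_mem (hQJ h1)).resolve_left fun h => htm (hQm h)
      let m' := m.map (Ideal.Quotient.mk J')
      have hm' : m'.IsPrime := Ideal.isPrime_map_quotientMk_of_isPrime hJ'm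
      have hm'm : m'.comap (Ideal.Quotient.mk J') = m := by
        rw [Ideal.comap_map_of_surjective _ Ideal.Quotient.mk_surjective, ← RingHom.ker_eq_comap_bot,
          Ideal.mk_ker, sup_eq_left.mpr hJ'm]
      have hle : (m'.height : WithBot ℕ∞) ≤ ringKrullDim (MvPolynomial (Fin n) κ ⧸ J) := by
        let M' : PrimeSpectrum (MvPolynomial (Fin n) κ ⧸ J') := ⟨m', hm'⟩
        rw [show m'.height = Order.height M' from M'.height_eq_orderHeight]
        refine (Order.height_eq_krullDim_Iic M').trans_le ?_
        have hQ : ∀ Q : Set.Iic M', J ≤ Q.1.asIdeal.comap (Ideal.Quotient.mk J') := fun Q =>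
          hJQ _ inferInstance (hm'm ▸ Ideal.comap_mono Q.2)
            (by rw [← Ideal.map_le_iff_le_comap, Ideal.map_quotient_self]; exact bot_le)
        let e : Set.Iic M' → PrimeSpectrum (MvPolynomial (Fin n) κ ⧸ J) := fun Q =>
          ⟨(Q.1.asIdeal.comap (Ideal.Quotient.mk J')).map (Ideal.Quotient.mk J),
            Ideal.isPrime_map_quotientMk_of_isPrime (hQ Q)⟩
        refine Order.krullDim_le_of_strictMono e (Monotone.strictMono_of_injective ?_ ?_)
        · intro a b hab
          exact Ideal.map_mono (Ideal.comap_mono hab)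
        · intro a b hab
          have := congrArg (fun P => P.asIdeal.comap (Ideal.Quotient.mk J)) hab
          simp only [e, Ideal.comap_map_of_surjective _ Ideal.Quotient.mk_surjective,
            ← RingHom.ker_eq_comap_bot, Ideal.mk_ker, sup_eq_left.mpr (hQ a),
            sup_eq_left.mpr (hQ b)] at this
          exact Subtype.ext (PrimeSpectrum.ext
            (Ideal.comap_injective_of_surjective _ Ideal.Quotient.mk_surjective this))
      have hn : (n : ℕ∞) ≤ m'.height + c' := by
        have := Ideal.height_le_height_add_encard_of_subset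
          (Set.range fun k => χ (F (rows k))) (p := m) (fun x hx => hJ'm (Ideal.subset_span hx))
        rw [Groth.Agent.DimTheory.height_maximal_mvPolynomial κ n m] at this
        refine this.trans (add_le_add le_rfl ?_)
        refine ((congrArg Set.encard Set.image_univ.symm).trans_le (Set.encard_image_le _ _)).trans ?_
        simp
      let e : (MvPolynomial (Fin n) κ ⧸ J) ≃+* p.Fiber S :=
        (Ideal.quotEquivOfEq (Groth.Agent.Smoothing.ker_baseChangeHom κ φ hφ F hker).symm).trans
          (RingHom.quotientKerEquivOfSurjective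
            (Groth.Agent.Smoothing.baseChangeHom_surjective κ φ hφ))
      have : Nontrivial (MvPolynomial (Fin n) κ ⧸ J) := Ideal.Quotient.nontrivial_iff.mpr
        (ne_top_of_le_ne_top hm.ne_top (Ideal.span_le.mpr (by rintro _ ⟨j, rfl⟩; exact hm₁ (hF𝔭 j))))
      have : Nontrivial (p.Fiber S) := e.injective.nontrivial
      obtain ⟨hcn, hdim⟩ := hF ⟨p, inferInstance⟩ this
      replace hle := hle.trans_eq ((ringKrullDim_eq_of_ringEquiv (S := p.Fiber S) e).trans hdim)
      have hle' : m'.height ≤ ((n - c : ℕ) : ℕ∞) := WithBot.coe_le_coe.mp hle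
      have := hn.trans (add_le_add hle' le_rfl)
      norm_cast at this
      omega
  · rintro ⟨I, hI⟩
    let g : S := φ (_root_.Smoothing.jacobianMinor F id I)
    have hg : g ∉ q := hI
    have := Groth.Agent.Smoothing.isStandardSmooth_away F φ hφ hker id I I.injective g 1
      (one_mul _).symm
      (fun t _ j => Ideal.mem_sup_left (Ideal.mul_mem_left _ _ (Ideal.subset_span ⟨j, rfl⟩)))
    exact Algebra.basicOpen_subset_smoothLocus_iff_smooth.mpr inferInstance
      (show (⟨q, ‹_›⟩ : PrimeSpectrum S) ∈ PrimeSpectrum.basicOpen g from hg)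

end Groth.Agent.S9441
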