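import Groth.Statements.S9444
import Groth.Agent.CAlgCohen.Structure
import Groth.Agent.MvPSLib.Eval
-- import your own Groth.Agent.* helpers here

set_option autoImplicit false
universe u
open CAlg

namespace Groth.Agent.S9444

/-- A complete regular local ring containing a field (that is, containing the prime field F_p or ℚ) is
isomorphic to a power series ring in finitely many variables over its residue field (existence of an
isomorphism only). -/
theorem result (R : Type u)
    [CommRing R] [IsRegularLocalRing R] [IsAdicComplete (IsLocalRing.maximalIdeal R) R]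
    (k₀ : Type u) [Field k₀] [Algebra k₀ R] :
    ∃ d : ℕ, Nonempty (R ≃+* MvPowerSeries (Fin d) (IsLocalRing.ResidueField R)) := by
  obtain ⟨s, hs⟩ := Groth.Agent.CAlgCohen.exists_coefficientField R fun p hp h0 => by
    have h2 : ((IsLocalRing.residue R).comp (algebraMap k₀ R)) (p : k₀) = 0 := by
      rw [map_natCast]; exact h0
    rw [map_eq_zero] at h2
    rw [← map_natCast (algebraMap k₀ R), h2, map_zero]
  let _ : Algebra (IsLocalRing.ResidueField R) R := s.toAlgebra
  obtain ⟨d, ⟨e⟩⟩ := Groth.Agent.MvPSLib.exists_algEquiv (k := IsLocalRing.ResidueField R) (R := R)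
    (fun x => ⟨x, DFunLike.congr_fun hs x⟩)
  exact ⟨d, ⟨e.toRingEquiv⟩⟩

end Groth.Agent.S9444
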