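import Groth.Statements.S9445
import Mathlib
-- import your own Groth.Agent.* helpers here

set_option autoImplicit false
universe u
open CAlg

open TensorProduct

namespace Groth.Agent.S9445Aux

theorem exists_section {S S' Q : Type u} [CommRing S] [CommRing S'] [CommRing Q] [Algebra S S']
    [Algebra.FormallySmooth S S'] (ρ₀ : S →+* Q) (π : Q →+* S') (hπ : Function.Surjective π)
    (hn : IsNilpotent (RingHom.ker π)) (hc : ∀ s, π (ρ₀ s) = algebraMap S S' s) :
    ∃ ρ : S' →+* Q, (∀ x, π (ρ x) = x) ∧ ∀ s, ρ (algebraMap S S' s) = ρ₀ s := by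
  letI := ρ₀.toAlgebra
  let πa : Q →ₐ[S] S' := { π with commutes' := hc }
  let σ := Algebra.FormallySmooth.liftOfSurjective (AlgHom.id S S') πa hπ hn
  exact ⟨σ.toRingHom, fun x => Algebra.FormallySmooth.liftOfSurjective_apply (AlgHom.id S S') πa hπ hn x,
    σ.commutes⟩

theorem section_unique {S S' Q : Type u} [CommRing S] [CommRing S'] [CommRing Q] [Algebra S S']
    [Algebra.FormallyUnramified S S'] (π : Q →+* S') (hn : IsNilpotent (RingHom.ker π))
    (g₁ g₂ : S' →+* Q) (h : ∀ x, π (g₁ x) = π (g₂ x))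
    (hc : ∀ s, g₁ (algebraMap S S' s) = g₂ (algebraMap S S' s)) (x : S') : g₁ x = g₂ x := by
  letI := (g₁.comp (algebraMap S S')).toAlgebra
  let a₁ : S' →ₐ[S] Q := { g₁ with commutes' := fun s => rfl }
  let a₂ : S' →ₐ[S] Q := { g₂ with commutes' := fun s => (hc s).symm }
  exact AlgHom.congr_fun (Algebra.FormallyUnramified.ext' π hn a₁ a₂ h) x

theorem isNilpotent_ker_lift {T S' : Type u} [CommRing T] [CommRing S'] (m : T →+* S') (I : Ideal T) (n : ℕ)
    (hI : I = RingHom.ker m) (h : ∀ a ∈ I ^ n, m a = 0) :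
    IsNilpotent (RingHom.ker (Ideal.Quotient.lift (I ^ n) m h)) := by
  refine ⟨n, ?_⟩
  rw [Ideal.ker_quotient_lift, ← Ideal.map_pow, ← hI, Ideal.map_quotient_self]
  rfl

end Groth.Agent.S9445Aux


namespace Groth.Agent.S9445

open TensorProduct in
/-- For ring maps R → S → S' with S → S' formally étale and k ≥ 0, let J' ⊆ S' ⊗_R S' be the kernel of
multiplication and I ⊆ S' ⊗_R S its preimage under the map induced by S → S' (I is the kernel of S'
⊗_R S → S', and (S' ⊗_R S)/I^{k+1} is S' ⊗_S P^k_{S/R}); then (S' ⊗_R S)/I^{k+1} → (S' ⊗_R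
S')/J'^{k+1} is bijective. (The consequence S' ⊗_S Ω_{S/R} ≅ Ω_{S'/R} is Mathlib's
KaehlerDifferential.isBaseChange_of_formallyEtale.) -/
theorem result (R : Type u) [CommRing R]
    (S : Type u) [CommRing S] [Algebra R S] (S' : Type u) [CommRing S'] [Algebra R S']
    [Algebra S S'] [IsScalarTower R S S'] [Algebra.FormallyEtale S S'] (k : ℕ) :
    Function.Bijective (Ideal.quotientMap (KaehlerDifferential.ideal R S' ^ (k + 1))
      (Algebra.TensorProduct.map (AlgHom.id S' S') (IsScalarTower.toAlgHom R S S')).toRingHom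
      (Ideal.le_comap_pow
        (Algebra.TensorProduct.map (AlgHom.id S' S') (IsScalarTower.toAlgHom R S S')).toRingHom
        (K := KaehlerDifferential.ideal R S') (k + 1))) := by
  classical
  let φ := Algebra.TensorProduct.map (AlgHom.id S' S') (IsScalarTower.toAlgHom R S S')
  let J' := KaehlerDifferential.ideal R S'
  let I : Ideal (S' ⊗[R] S) := J'.comap φ.toRingHom
  let m' : S' ⊗[R] S' →+* S' := (Algebra.TensorProduct.lmul' R : S' ⊗[R] S' →ₐ[R] S').toRingHom
  let m : S' ⊗[R] S →+* S' := m'.comp φ.toRingHom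
  have hmI : I = RingHom.ker m := by
    ext x
    rfl
  have hm' : ∀ a ∈ J' ^ (k + 1), m' a = 0 := fun a ha => Ideal.pow_le_self k.succ_ne_zero ha
  have hm : ∀ a ∈ I ^ (k + 1), m a = 0 := fun a ha => by
    have := Ideal.pow_le_self k.succ_ne_zero ha
    rw [hmI] at this
    exact this
  let π := Ideal.Quotient.lift (I ^ (k + 1)) m hm
  let π' := Ideal.Quotient.lift (J' ^ (k + 1)) m' hm'
  have hπn := Groth.Agent.S9445Aux.isNilpotent_ker_lift m I (k + 1) hmI hm
  have hπn' := Groth.Agent.S9445Aux.isNilpotent_ker_lift m' J' (k + 1) rfl hm'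
  let l : S' →+* (S' ⊗[R] S) ⧸ I ^ (k + 1) :=
    (Ideal.Quotient.mk _).comp Algebra.TensorProduct.includeLeftRingHom
  have hπl : ∀ x, π (l x) = x := fun x => by simp [π, l, m, m', φ]
  let ρ₀ : S →+* (S' ⊗[R] S) ⧸ I ^ (k + 1) :=
    (Ideal.Quotient.mk _).comp (Algebra.TensorProduct.includeRight : S →ₐ[R] S' ⊗[R] S).toRingHom
  obtain ⟨ρ, hρ, hρ0⟩ := Groth.Agent.S9445Aux.exists_section ρ₀ π (fun x => ⟨l x, hπl x⟩) hπn
    (fun s => by simp [π, ρ₀, m, m', φ])
  let lA : S' →ₐ[R] (S' ⊗[R] S) ⧸ I ^ (k + 1) :=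
    { l with commutes' := fun r => rfl }
  have hρc : ∀ r : R, ρ (algebraMap R S' r) = algebraMap R ((S' ⊗[R] S) ⧸ I ^ (k + 1)) r := fun r => by
    rw [IsScalarTower.algebraMap_apply R S S', hρ0]
    show Ideal.Quotient.mk _ ((Algebra.TensorProduct.includeRight : S →ₐ[R] S' ⊗[R] S) (algebraMap R S r)) = _
    rw [AlgHom.commutes]
    rfl
  let ρA : S' →ₐ[R] (S' ⊗[R] S) ⧸ I ^ (k + 1) := { ρ with commutes' := hρc }
  let Φ : S' ⊗[R] S' →ₐ[R] (S' ⊗[R] S) ⧸ I ^ (k + 1) :=
    Algebra.TensorProduct.lift lA ρA fun _ _ => Commute.all _ _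
  have hπΦ : ∀ z, π (Φ z) = m' z := by
    intro z
    induction z using TensorProduct.induction_on with
    | zero => simp only [map_zero]
    | tmul a b =>
      show π (Φ (a ⊗ₜ b)) = _
      rw [Algebra.TensorProduct.lift_tmul, map_mul]
      show π (l a) * π (ρ b) = _
      rw [hπl, hρ]
      simp [m']
    | add a b ha hb => simp only [map_add, ha, hb]
  have hΦJ : ∀ z ∈ J' ^ (k + 1), Φ z = 0 := by
    intro z hz
    have hle : J'.map Φ.toRingHom ≤ I.map (Ideal.Quotient.mk (I ^ (k + 1))) := by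
      rw [Ideal.map_le_iff_le_comap]
      intro w hw
      have h0 : π (Φ w) = 0 := (hπΦ w).trans hw
      obtain ⟨t, ht⟩ := Ideal.Quotient.mk_surjective (Φ w)
      show Φ w ∈ I.map (Ideal.Quotient.mk (I ^ (k + 1)))
      rw [← ht] at h0 ⊢
      exact Ideal.mem_map_of_mem _ (hmI ▸ h0)
    have h := Ideal.mem_map_of_mem Φ.toRingHom hz
    rw [Ideal.map_pow] at h
    have h' := Ideal.pow_right_mono hle (k + 1) h
    rw [← Ideal.map_pow, Ideal.map_quotient_self] at h'
    exact h'
  have hΦφ : ∀ x, Φ (φ x) = Ideal.Quotient.mk (I ^ (k + 1)) x := by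
    intro x
    induction x using TensorProduct.induction_on with
    | zero => simp only [map_zero]
    | tmul a s =>
      rw [show φ (a ⊗ₜ s) = a ⊗ₜ algebraMap S S' s by simp [φ], Algebra.TensorProduct.lift_tmul]
      show l a * ρ (algebraMap S S' s) = _
      rw [hρ0]
      show Ideal.Quotient.mk _ _ * Ideal.Quotient.mk _ _ = _
      rw [← map_mul]
      simp
    | add a b ha hb => simp only [map_add, ha, hb]
  let F := Ideal.quotientMap (J' ^ (k + 1)) φ.toRingHom (Ideal.le_comap_pow φ.toRingHom (K := J') (k + 1))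
  have hFΦ : ∀ z, F (Φ z) = Ideal.Quotient.mk (J' ^ (k + 1)) z := by
    intro z
    let g₁ : S' →+* (S' ⊗[R] S') ⧸ J' ^ (k + 1) := F.comp ρ
    let g₂ : S' →+* (S' ⊗[R] S') ⧸ J' ^ (k + 1) :=
      (Ideal.Quotient.mk _).comp (Algebra.TensorProduct.includeRight : S' →ₐ[R] S' ⊗[R] S').toRingHom
    have hFπ : ∀ q, π' (F q) = π q := fun q => by
      obtain ⟨t, rfl⟩ := Ideal.Quotient.mk_surjective q
      rfl
    have hg : ∀ x, g₁ x = g₂ x := fun x =>
      Groth.Agent.S9445Aux.section_unique π' hπn' g₁ g₂ (fun x => by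
        show π' (F (ρ x)) = _
        rw [hFπ, hρ]
        simp [g₂, π', m']) (fun s => by
        show F (ρ (algebraMap S S' s)) = _
        rw [hρ0]
        show Ideal.Quotient.mk _ (φ ((1 : S') ⊗ₜ s)) = _
        simp [g₂, φ]) x
    induction z using TensorProduct.induction_on with
    | zero => simp only [map_zero]
    | tmul a b =>
      rw [Algebra.TensorProduct.lift_tmul, map_mul]
      show F (l a) * g₁ b = _
      rw [hg]
      show Ideal.Quotient.mk _ (φ (a ⊗ₜ (1 : S))) * Ideal.Quotient.mk _ ((1 : S') ⊗ₜ b) = _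
      rw [← map_mul]
      simp [φ]
    | add a b ha hb => simp only [map_add, ha, hb]
  constructor
  · show Function.Injective F
    rw [injective_iff_map_eq_zero]
    intro q hq
    obtain ⟨x, rfl⟩ := Ideal.Quotient.mk_surjective q
    have hx : φ x ∈ J' ^ (k + 1) := Ideal.Quotient.eq_zero_iff_mem.1 hq
    rw [← hΦφ]
    exact hΦJ _ hx
  · intro q
    obtain ⟨z, rfl⟩ := Ideal.Quotient.mk_surjective q
    exact ⟨Φ z, hFΦ z⟩

end Groth.Agent.S9445
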