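import Groth.Statements.S9447
import Groth.Agent.CAlgML.Descent
-- import your own Groth.Agent.* helpers here

set_option autoImplicit false
universe u
open CAlg

namespace Groth.Agent.S9447

open TensorProduct in
/-- Formal smoothness descends along faithfully flat base change: for R → S arbitrary and R → R'
faithfully flat, the R-algebra S is formally smooth exactly when the R'-algebra R' ⊗_R S is formally
smooth. No finiteness hypothesis on S. -/
theorem result (R : Type u) [CommRing R]
    (S : Type u) [CommRing S] [Algebra R S] (R' : Type u) [CommRing R'] [Algebra R R']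
    [Module.FaithfullyFlat R R'] :
    Algebra.FormallySmooth R S ↔ Algebra.FormallySmooth R' (R' ⊗[R] S) := by
  refine ⟨fun _ => inferInstance, fun h => ?_⟩
  let T := R' ⊗[R] S
  let _ : Algebra S T := Algebra.TensorProduct.rightAlgebra
  have : IsScalarTower R S T := IsScalarTower.of_algebraMap_eq fun x =>
    ((Algebra.TensorProduct.includeRight (R := R) (A := R') (B := S)).commutes x).symm
  have : Algebra.IsPushout R R' S T := TensorProduct.isPushout
  let e : S ⊗[R] R' ≃ₗ[S] T :=
    { (TensorProduct.comm R S R').toAddEquiv with
      map_smul' := fun s x => by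
        change (TensorProduct.comm R S R') (s • x) = s • (TensorProduct.comm R S R') x
        induction x with
        | zero => simp
        | add a b ha hb => rw [smul_add, map_add, map_add, smul_add, ha, hb]
        | tmul a b =>
          change (TensorProduct.comm R S R') ((s * a) ⊗ₜ b) = _
          rw [TensorProduct.comm_tmul, TensorProduct.comm_tmul, Algebra.smul_def,
            show algebraMap S T s = 1 ⊗ₜ s from rfl, Algebra.TensorProduct.tmul_mul_tmul, one_mul] }
  have : Module.FaithfullyFlat S T := Module.FaithfullyFlat.of_linearEquiv _ _ e.symm
  have hΩ : Module.Projective T (T ⊗[S] Ω[S⁄R]) :=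
    Module.Projective.of_equiv (KaehlerDifferential.tensorKaehlerEquiv R R' S T).symm
  have : Module.Projective S Ω[S⁄R] := Groth.Agent.CAlgML.projective_of_faithfullyFlat T
  have hH : Subsingleton (R' ⊗[R] Algebra.H1Cotangent R S) :=
    (Algebra.tensorH1CotangentOfFlat R S R').toEquiv.subsingleton
  exact ⟨inferInstance, (Module.FaithfullyFlat.subsingleton_tensorProduct_iff_right R R').mp hH⟩

end Groth.Agent.S9447
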