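import Groth.Statements.S9450
import Mathlib
import Groth.Agent.S9178
-- import your own Groth.Agent.* helpers here

set_option autoImplicit false
universe u
open CAlg

namespace Groth.Agent.S9450

/-- For ring maps A → B → C with A → C surjective and A → B formally smooth, writing I = ker(A → C) and
J = ker(B → C), the sequence 0 → I/I² → J/J² → C ⊗_B Ω_{B/A} → 0 is split exact: the first map is
injective and admits an A-linear retraction, its range is the kernel of the second map (class of x ↦
1 ⊗ dx), and the second map is surjective. -/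
theorem result (A : Type u) [CommRing A]
    (B : Type u) [CommRing B] [Algebra A B] [Algebra.FormallySmooth A B] (C : Type u) [CommRing C]
    [Algebra B C] [Algebra A C] [IsScalarTower A B C] (hC : Function.Surjective (algebraMap A C)) :
    Function.Injective (Ideal.mapCotangent (RingHom.ker (algebraMap A C))
        (RingHom.ker (algebraMap B C)) (Algebra.ofId A B)
        (le_of_eq (congrArg RingHom.ker (IsScalarTower.algebraMap_eq A B C)))) ∧
      (∃ r : (RingHom.ker (algebraMap B C)).Cotangent →ₗ[A] (RingHom.ker (algebraMap A C)).Cotangent,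
        r ∘ₗ (Ideal.mapCotangent (RingHom.ker (algebraMap A C)) (RingHom.ker (algebraMap B C))
          (Algebra.ofId A B)
          (le_of_eq (congrArg RingHom.ker (IsScalarTower.algebraMap_eq A B C)))) = LinearMap.id) ∧
      LinearMap.range (Ideal.mapCotangent (RingHom.ker (algebraMap A C))
          (RingHom.ker (algebraMap B C)) (Algebra.ofId A B)
          (le_of_eq (congrArg RingHom.ker (IsScalarTower.algebraMap_eq A B C)))) =
        LinearMap.ker ((KaehlerDifferential.kerCotangentToTensor A B C).restrictScalars A) ∧
      Function.Surjective (KaehlerDifferential.kerCotangentToTensor A B C) := by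
  have hle : RingHom.ker (algebraMap A C) ≤ (RingHom.ker (algebraMap B C)).comap (Algebra.ofId A B) :=
    le_of_eq (congrArg RingHom.ker (IsScalarTower.algebraMap_eq A B C))
  set I := RingHom.ker (algebraMap A C) with hI
  set J := RingHom.ker (algebraMap B C) with hJ
  have hBC : Function.Surjective (algebraMap B C) := fun c => by
    obtain ⟨a, rfl⟩ := hC c
    exact ⟨algebraMap A B a, (IsScalarTower.algebraMap_apply A B C a).symm⟩
  let π : (A ⧸ I ^ 2) →ₐ[A] C := Ideal.Quotient.liftₐ (I ^ 2) (Algebra.ofId A C) (fun a ha =>
    (Ideal.pow_le_self two_ne_zero ha : a ∈ I))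
  have hπ : Function.Surjective π := fun c => by
    obtain ⟨a, rfl⟩ := hC c; exact ⟨Ideal.Quotient.mk _ a, rfl⟩
  have hker : RingHom.ker (π : (A ⧸ I ^ 2) →+* C) = I.map (Ideal.Quotient.mk (I ^ 2)) := by
    ext z
    obtain ⟨a, rfl⟩ := Ideal.Quotient.mk_surjective z
    rw [RingHom.mem_ker, Ideal.mem_quotient_iff_mem (Ideal.pow_le_self two_ne_zero)]
    exact Iff.rfl
  have hnil : IsNilpotent (RingHom.ker (π : (A ⧸ I ^ 2) →+* C)) := ⟨2, by
    rw [hker, ← Ideal.map_pow, Ideal.map_quotient_self]; rfl⟩
  let φ : B →ₐ[A] A ⧸ I ^ 2 := Algebra.FormallySmooth.liftOfSurjective (IsScalarTower.toAlgHom A B C) π hπ hnil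
  have hφ : ∀ b, π (φ b) = algebraMap B C b := fun b =>
    Algebra.FormallySmooth.liftOfSurjective_apply (IsScalarTower.toAlgHom A B C) π hπ hnil b
  have hφJ : ∀ b ∈ J, φ b ∈ I.cotangentIdeal := fun b hb => by
    obtain ⟨a, ha⟩ := Ideal.Quotient.mk_surjective (φ b)
    rw [← ha, Ideal.mk_mem_cotangentIdeal]
    have := (hφ b).trans hb
    rw [← ha] at this
    exact this
  let r₀ : (J.restrictScalars A) →ₗ[A] I.Cotangent :=
    ((Ideal.cotangentEquivIdeal I).symm.toLinearMap).comp
      (LinearMap.codRestrict (I.cotangentIdeal.restrictScalars A) (φ.toLinearMap ∘ₗ (J.restrictScalars A).subtype)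
        fun b => hφJ b.1 b.2)
  have hr0 : ∀ y : (J.restrictScalars A), (y : B) ∈ J ^ 2 → r₀ y = 0 := by
    intro y hy
    have h2 : φ (y : B) = 0 := by
      have h3 : (J ^ 2).map φ.toRingHom ≤ ⊥ := by
        rw [Ideal.map_pow]
        refine (Ideal.pow_right_mono ((Ideal.map_le_iff_le_comap (K := I.cotangentIdeal)).2 fun b hb => hφJ b hb) 2).trans (le_of_eq ?_)
        exact I.cotangentIdeal_square
      exact (Submodule.mem_bot _).1 (h3 (Ideal.mem_map_of_mem _ hy))
    show (Ideal.cotangentEquivIdeal I).symm _ = 0
    rw [LinearEquiv.map_eq_zero_iff]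
    exact Subtype.ext h2
  let r : J.Cotangent →ₗ[A] I.Cotangent :=
    { toFun := fun z => r₀ ⟨(Function.surjInv J.toCotangent_surjective z).1, (Function.surjInv J.toCotangent_surjective z).2⟩
      map_add' := fun z w => by
        rw [← map_add, ← sub_eq_zero, ← map_sub]
        apply hr0
        refine (Ideal.toCotangent_eq J (x := Function.surjInv J.toCotangent_surjective (z + w))
          (y := Function.surjInv J.toCotangent_surjective z + Function.surjInv J.toCotangent_surjective w)).1 ?_
        rw [Function.surjInv_eq J.toCotangent_surjective, map_add, Function.surjInv_eq J.toCotangent_surjective, Function.surjInv_eq J.toCotangent_surjective]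
      map_smul' := fun a z => by
        rw [RingHom.id_apply, ← map_smul, ← sub_eq_zero, ← map_sub]
        apply hr0
        refine (Ideal.toCotangent_eq J (x := Function.surjInv J.toCotangent_surjective (a • z))
          (y := a • Function.surjInv J.toCotangent_surjective z)).1 ?_
        rw [Function.surjInv_eq J.toCotangent_surjective, LinearMap.map_smul_of_tower, Function.surjInv_eq J.toCotangent_surjective] }
  have hr : ∀ i : I, r (Ideal.mapCotangent I J (Algebra.ofId A B) hle (Ideal.toCotangent I i)) = Ideal.toCotangent I i := by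
    intro i
    rw [Ideal.mapCotangent_toCotangent]
    set y : J := ⟨Algebra.ofId A B i, hle i.2⟩ with hy
    show r₀ ⟨(Function.surjInv J.toCotangent_surjective (J.toCotangent y)).1, _⟩ = _
    have h1 : r₀ ⟨(Function.surjInv J.toCotangent_surjective (J.toCotangent y)).1,
        (Function.surjInv J.toCotangent_surjective (J.toCotangent y)).2⟩ = r₀ ⟨y.1, y.2⟩ := by
      rw [← sub_eq_zero, ← map_sub]
      exact hr0 _ ((Ideal.toCotangent_eq J).1 (Function.surjInv_eq J.toCotangent_surjective _))
    rw [h1]
    show (Ideal.cotangentEquivIdeal I).symm _ = _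
    rw [LinearEquiv.symm_apply_eq]
    apply Subtype.ext
    show φ (algebraMap A B (i : A)) = _
    rw [AlgHom.commutes]
    rfl
  have hr' : ∀ z, r (Ideal.mapCotangent I J (Algebra.ofId A B) hle z) = z := fun z => by
    obtain ⟨i, rfl⟩ := Ideal.toCotangent_surjective I z; exact hr i
  refine ⟨fun z w h => ?_, ⟨r, LinearMap.ext hr'⟩, ?_, ?_⟩
  · rw [← hr' z, ← hr' w]; exact congrArg r h
  · exact (LinearMap.exact_iff.1 (Groth.Agent.S9178.main A B C hC hle :
      Function.Exact _ ((KaehlerDifferential.kerCotangentToTensor A B C).restrictScalars A))).symm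
  · intro w
    haveI := KaehlerDifferential.subsingleton_of_surjective A C hC
    exact (KaehlerDifferential.exact_kerCotangentToTensor_mapBaseChange A B C hBC w).1 (Subsingleton.elim _ _)
end Groth.Agent.S9450
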