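import Groth.Statements.S9453
import Groth.Agent.SplitCover.Basic
-- import your own Groth.Agent.* helpers here

set_option autoImplicit false
universe u
open CAlg

open Groth.Agent.SplitCover in
theorem S9453_aux {R S' : Type u} [CommRing R] [CommRing S'] [Algebra R S'] [Module.FaithfullyFlat R S'] :
    Function.Surjective (PrimeSpectrum.comap (algebraMap R S')) := fun p => by
  obtain ⟨Q, hQ, h⟩ := Ideal.exists_isPrime_liesOver_of_faithfullyFlat (B := S') p.asIdeal
  exact ⟨⟨Q, hQ⟩, PrimeSpectrum.ext h.over.symm⟩

namespace Groth.Agent.S9453

/-- For a standard étale R-algebra S there is an R-algebra S' which is finite, finitely presented and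
flat over R, with Spec S' → Spec R surjective, and such that for every prime q of S and every prime
q' of S' lying over the same prime of R there are g' ∉ q' and an R-algebra map φ : S → S'_{g'} under
which the extension of q' pulls back to q. -/
theorem result (R : Type u) [CommRing R] (S : Type u)
    [CommRing S] [Algebra R S] [Algebra.IsStandardEtale R S] :
    ∃ (S' : Type u) (_ : CommRing S') (_ : Algebra R S'),
      Module.Finite R S' ∧ Algebra.FinitePresentation R S' ∧ Module.Flat R S' ∧
        Function.Surjective (PrimeSpectrum.comap (algebraMap R S')) ∧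
        ∀ (q : Ideal S) [q.IsPrime] (q' : Ideal S') [q'.IsPrime], q'.under R = q.under R →
          ∃ (g' : S') (_ : g' ∉ q') (φ : S →ₐ[R] Localization.Away g'),
            (q'.map (algebraMap S' (Localization.Away g'))).comap φ = q := by
  obtain ⟨P⟩ := Algebra.IsStandardEtale.nonempty_standardEtalePresentation (R := R) (S := S)
  obtain ⟨S', _, _, h1, h2, h3, h4⟩ := Groth.Agent.SplitCover.exists_split _ R P.f P.monic_f rfl
  exact ⟨S', inferInstance, inferInstance, h1, Groth.Agent.SplitCover.finitePresentation_of_free R S',
    inferInstance, S9453_aux, fun q _ q' _ h => Groth.Agent.SplitCover.exists_algHom P h4 q q' h⟩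

end Groth.Agent.S9453
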