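import Groth.Statements.S9454
import Groth.Agent.SplitCover.Basic
-- import your own Groth.Agent.* helpers here

set_option autoImplicit false
universe u
open CAlg

namespace Groth.Agent.S9454

/-- For an étale ring map R → S which is surjective on spectra there is a finite, finitely presented,
flat R-algebra S' with Spec S' → Spec R surjective such that, Zariski locally on S', the structure
map factors through S: every prime q' of S' has some g' ∉ q' and an R-algebra map S → S'_{g'}. -/
theorem result (R : Type u) [CommRing R]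
    (S : Type u) [CommRing S] [Algebra R S] [Algebra.Etale R S]
    (hs : Function.Surjective (PrimeSpectrum.comap (algebraMap R S))) :
    ∃ (S' : Type u) (_ : CommRing S') (_ : Algebra R S'),
      Module.Finite R S' ∧ Algebra.FinitePresentation R S' ∧ Module.Flat R S' ∧
        Function.Surjective (PrimeSpectrum.comap (algebraMap R S')) ∧
        ∀ (q' : Ideal S') [q'.IsPrime], ∃ (g' : S') (_ : g' ∉ q'),
          Nonempty (S →ₐ[R] Localization.Away g') := by
  classical
  have hg : ∀ q : PrimeSpectrum S, ∃ g : S, g ∉ q.asIdeal ∧ Algebra.IsStandardEtale R (Localization.Away g) := fun q => by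
    obtain ⟨g, h1, h2⟩ := Algebra.IsEtaleAt.exists_isStandardEtale (R := R) q.asIdeal
    exact ⟨g, h1, h2⟩
  choose g hgq hgst using hg
  obtain ⟨t, ht⟩ := (isCompact_univ (X := PrimeSpectrum S)).elim_finite_subcover
    (fun q => (PrimeSpectrum.basicOpen (g q) : Set (PrimeSpectrum S))) (fun q => (PrimeSpectrum.basicOpen (g q)).2)
    (fun q _ => Set.mem_iUnion.2 ⟨q, hgq q⟩)
  let P := fun q => (hgst q).nonempty_standardEtalePresentation.some
  obtain ⟨S', _, _, h1, h2, h3, h4⟩ := Groth.Agent.SplitCover.exists_split_list R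
    (t.toList.map fun q => (P q).f) (fun f hf => by
      obtain ⟨q, -, rfl⟩ := List.mem_map.1 hf
      exact (P q).monic_f)
  refine ⟨S', inferInstance, inferInstance, h1, Groth.Agent.SplitCover.finitePresentation_of_free R S',
    inferInstance, fun p => ?_, fun q' _ => ?_⟩
  · obtain ⟨Q, hQ, h⟩ := Ideal.exists_isPrime_liesOver_of_faithfullyFlat (B := S') p.asIdeal
    exact ⟨⟨Q, hQ⟩, PrimeSpectrum.ext h.over.symm⟩
  obtain ⟨q, hq⟩ := hs ⟨q'.under R, inferInstance⟩
  obtain ⟨j, hjt, hj⟩ : ∃ j ∈ t, g j ∉ q.asIdeal := by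
    have := ht (Set.mem_univ q)
    simp only [Set.mem_iUnion] at this
    obtain ⟨j, hj, h⟩ := this
    exact ⟨j, hj, h⟩
  have hd : Disjoint (Submonoid.powers (g j) : Set S) (q.asIdeal : Set S) :=
    (Ideal.disjoint_powers_iff_notMem_of_isPrime _).mpr hj
  have := IsLocalization.isPrime_of_isPrime_disjoint (.powers (g j)) (Localization.Away (g j)) _ q.2 hd
  have hc := IsLocalization.under_map_of_isPrime_disjoint (.powers (g j)) (Localization.Away (g j)) q.2 hd
  obtain ⟨g', hg', φ, -⟩ := Groth.Agent.SplitCover.exists_algHom (P j)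
    (h4 _ (List.mem_map.2 ⟨j, Finset.mem_toList.2 hjt, rfl⟩))
    (q.asIdeal.map (algebraMap S (Localization.Away (g j)))) q' (by
      rw [← Ideal.under_under (B := S) (q.asIdeal.map (algebraMap S (Localization.Away (g j)))), hc]
      exact (congrArg PrimeSpectrum.asIdeal hq).symm)
  exact ⟨g', hg', ⟨φ.comp (IsScalarTower.toAlgHom R S _)⟩⟩

end Groth.Agent.S9454
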