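import Groth.Statements.S9457
import Mathlib
-- import your own Groth.Agent.* helpers here

set_option autoImplicit false
universe u
open CAlg

open TensorProduct PrimeSpectrum

set_option maxHeartbeats 1000000

namespace Groth.Agent.S9457

/-- the primes over `p` at which the algebra is quasi-finite -/
def isoSet {R : Type u} (S : Type u) [CommRing R] [CommRing S] [Algebra R S] (p : Ideal R) :
    Set (PrimeSpectrum S) :=
  {q | q.asIdeal.comap (algebraMap R S) = p ∧ Algebra.QuasiFiniteAt R q.asIdeal}

theorem finite_of_isolated {X : Type u} [TopologicalSpace X] [TopologicalSpace.NoetherianSpace X] :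
    {x : X | IsOpen {x}}.Finite := by
  have h := TopologicalSpace.NoetherianSpace.isCompact {x : X | IsOpen {x}}
  haveI : CompactSpace {x : X | IsOpen {x}} := isCompact_iff_compactSpace.1 h
  haveI : DiscreteTopology {x : X | IsOpen {x}} := by
    refine discreteTopology_iff_isOpen_singleton.2 fun x => ?_
    refine ⟨{x.1}, x.2, ?_⟩
    ext y
    simp [Subtype.ext_iff]
  haveI : Finite {x : X | IsOpen {x}} := finite_of_compact_of_discrete
  exact Set.toFinite _

theorem isOpen_singleton_of {R S : Type u} [CommRing R] [CommRing S] [Algebra R S] [Algebra.FiniteType R S]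
    (q : PrimeSpectrum S) (hq : Algebra.QuasiFiniteAt R q.asIdeal) (y : PrimeSpectrum R)
    (hy : q.comap (algebraMap R S) = y) :
    IsOpen ({⟨q, hy⟩} : Set ↑(PrimeSpectrum.comap (algebraMap R S) ⁻¹' {y})) := by
  subst hy
  exact (Algebra.quasiFiniteAt_iff_isOpen_singleton_fiber q).1 hq

theorem isoSet_finite {R S : Type u} [CommRing R] [CommRing S] [Algebra R S] [Algebra.FiniteType R S]
    (p : Ideal R) [p.IsPrime] : (isoSet S p).Finite := by
  let y : PrimeSpectrum R := ⟨p, inferInstance⟩
  haveI : IsNoetherianRing (p.Fiber S) := Algebra.FiniteType.isNoetherianRing p.ResidueField _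
  let e := PrimeSpectrum.preimageHomeomorphFiber R S y
  haveI : TopologicalSpace.NoetherianSpace ↑(PrimeSpectrum.comap (algebraMap R S) ⁻¹' {y}) :=
    TopologicalSpace.noetherianSpace_of_surjective e.symm e.symm.continuous e.symm.surjective
  refine ((finite_of_isolated (X := ↑(PrimeSpectrum.comap (algebraMap R S) ⁻¹' {y}))).image Subtype.val).subset ?_
  intro q hq
  exact ⟨⟨q, PrimeSpectrum.ext hq.1⟩, isOpen_singleton_of q hq.2 y (PrimeSpectrum.ext hq.1), rfl⟩

theorem bijective_mapₐ_comp {R R' R'' : Type u} [CommRing R] [CommRing R'] [CommRing R''] [Algebra R R']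
    [Algebra R' R''] [Algebra R R''] [IsScalarTower R R' R''] (p : Ideal R) [p.IsPrime] (P : Ideal R') [P.IsPrime]
    [P.LiesOver p] (Q : Ideal R'') [Q.IsPrime] [Q.LiesOver P] [Q.LiesOver p]
    (hpP : Function.Bijective (Ideal.ResidueField.mapₐ p P (Algebra.ofId _ _) (P.over_def p)))
    (hPQ : Function.Bijective (Ideal.ResidueField.mapₐ P Q (Algebra.ofId _ _) (Q.over_def P))) :
    Function.Bijective (Ideal.ResidueField.mapₐ p Q (Algebra.ofId _ _) (Q.over_def p)) := by
  convert hPQ.comp hpP
  rw [← @AlgHom.coe_restrictScalars' R R', ← AlgHom.coe_comp]; congr 1; ext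

theorem closure_range_eq_top {R R' : Type u} [CommRing R] [CommRing R'] [Algebra R R'] (p : Ideal R) [p.IsPrime]
    (P : Ideal R') [P.IsPrime] [P.LiesOver p]
    (h : Function.Bijective (Ideal.ResidueField.mapₐ p P (Algebra.ofId _ _) (P.over_def p))) :
    Subfield.closure (Set.range (algebraMap R P.ResidueField)) = ⊤ := by
  refine eq_top_iff.2 fun x _ => ?_
  obtain ⟨x, rfl⟩ := h.2 x
  obtain ⟨a, s, hs, rfl⟩ := IsFractionRing.div_surjective (R ⧸ p) x
  obtain ⟨a, rfl⟩ := Ideal.Quotient.mk_surjective a
  obtain ⟨s, rfl⟩ := Ideal.Quotient.mk_surjective s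
  rw [map_div₀]
  have e : ∀ b : R, Ideal.ResidueField.mapₐ p P (Algebra.ofId R R') (P.over_def p)
      (algebraMap (R ⧸ p) p.ResidueField (Ideal.Quotient.mk p b)) = algebraMap R P.ResidueField b := fun b =>
    (Ideal.ResidueField.mapₐ p P (Algebra.ofId R R') (P.over_def p)).commutes b
  rw [e, e]
  exact Subfield.div_mem _ (Subfield.subset_closure ⟨a, rfl⟩) (Subfield.subset_closure ⟨s, rfl⟩)

/-- the isolated points of the fibre of a clopen piece of the base change are fewer -/
theorem card_lt {R S : Type u} [CommRing R] [CommRing S] [Algebra R S] [Algebra.FiniteType R S]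
    (p : Ideal R) [p.IsPrime] (R' : Type u) [CommRing R'] [Algebra R R'] [Algebra.Etale R R']
    (P : Ideal R') [P.IsPrime] [P.LiesOver p]
    (hpP : Function.Bijective (Ideal.ResidueField.mapₐ p P (Algebra.ofId _ _) (P.over_def p)))
    (e : R' ⊗[R] S) (he : IsIdempotentElem e) (P' : Ideal (R' ⊗[R] S)) [P'.IsPrime] [P'.LiesOver P]
    (heP' : e ∉ P')
    (hq : (⟨P'.comap Algebra.TensorProduct.includeRight.toRingHom, Ideal.IsPrime.comap _⟩ : PrimeSpectrum S) ∈ isoSet S p) :
    (isoSet ((R' ⊗[R] S) ⧸ Ideal.span {e}) P).ncard < (isoSet S p).ncard := by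
  let T := R' ⊗[R] S
  let T2 := T ⧸ Ideal.span {e}
  let mk := Ideal.Quotient.mk (Ideal.span {e})
  let f : PrimeSpectrum T2 → PrimeSpectrum S := fun Q =>
    PrimeSpectrum.comap Algebra.TensorProduct.includeRight.toRingHom (PrimeSpectrum.comap mk Q)
  haveI : IsLocalization.Away (1 - e) T2 := by
    have h := IsLocalization.Away.quotient_of_isIdempotentElem he.one_sub
    rw [sub_sub_cancel] at h
    exact h
  have hopen : IsOpenMap f := by
    have h1 : IsOpenMap (PrimeSpectrum.comap mk) :=
      (PrimeSpectrum.localization_away_isOpenEmbedding T2 (1 - e)).isOpenMap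
    have h2 : IsOpenMap (PrimeSpectrum.comap (Algebra.TensorProduct.includeRight : S →ₐ[R] T).toRingHom) := by
      letI : Algebra S T := Algebra.TensorProduct.rightAlgebra
      haveI : Algebra.FinitePresentation S T :=
        (Algebra.FinitePresentation.baseChange (R := R) (A := R') S).equiv
          { (Algebra.TensorProduct.comm R S R').toRingEquiv with commutes' := fun s => by simp [RingHom.algebraMap_toAlgebra] }
      haveI : Module.Flat S T := Module.Flat.of_linearEquiv (M := S ⊗[R] R')
        (AlgEquiv.toLinearEquiv { (Algebra.TensorProduct.comm R S R').toRingEquiv with commutes' := fun s => by simp [RingHom.algebraMap_toAlgebra] }).symm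
      exact PrimeSpectrum.isOpenMap_comap_of_hasGoingDown_of_finitePresentation
    exact h2.comp h1
  have hcont : Continuous f := (PrimeSpectrum.continuous_comap _).comp (PrimeSpectrum.continuous_comap _)
  have hover : ∀ Q : PrimeSpectrum T2, Q.asIdeal.comap (algebraMap R' T2) = P →
      (f Q).asIdeal.comap (algebraMap R S) = p := by
    intro Q hQ
    show ((Q.asIdeal.comap mk).comap Algebra.TensorProduct.includeRight.toRingHom).comap (algebraMap R S) = p
    rw [P.over_def p, ← hQ, Ideal.under, Ideal.comap_comap, Ideal.comap_comap, Ideal.comap_comap]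
    congr 1
    ext r
    show mk (Algebra.TensorProduct.includeRight (algebraMap R S r)) = mk (algebraMap R' T (algebraMap R R' r))
    rw [AlgHom.commutes, ← IsScalarTower.algebraMap_apply]
  have hinj : ∀ Q Q' : PrimeSpectrum T2, Q.asIdeal.comap (algebraMap R' T2) = P →
      Q'.asIdeal.comap (algebraMap R' T2) = P → f Q = f Q' → Q = Q' := by
    intro Q Q' hQ hQ' hff
    haveI : (Q.asIdeal.comap mk).LiesOver P := ⟨by rw [Ideal.under, Ideal.comap_comap]; exact hQ.symm⟩
    haveI : (Q'.asIdeal.comap mk).LiesOver P := ⟨by rw [Ideal.under, Ideal.comap_comap]; exact hQ'.symm⟩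
    have := Ideal.eq_of_comap_eq_comap_of_bijective_residueFieldMap hpP (Q.asIdeal.comap mk)
      (Q'.asIdeal.comap mk) (congrArg PrimeSpectrum.asIdeal hff)
    exact PrimeSpectrum.ext (Ideal.comap_injective_of_surjective mk Ideal.Quotient.mk_surjective this)
  obtain ⟨s, hs, hs'⟩ := Ideal.exists_not_mem_forall_mem_of_ne_of_liesOver p P
  have hmap : ∀ Q ∈ isoSet T2 P, f Q ∈ isoSet S p \ {⟨P'.comap Algebra.TensorProduct.includeRight.toRingHom, Ideal.IsPrime.comap _⟩} := by
    rintro Q ⟨hQ, hQF⟩
    refine ⟨⟨hover Q hQ, ?_⟩, fun h => ?_⟩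
    · have hQop := (Algebra.quasiFiniteAt_iff_isOpen_singleton_fiber Q).1 hQF
      obtain ⟨U, hU, hUeq⟩ := hQop
      let V : Set (PrimeSpectrum T2) := PrimeSpectrum.comap (algebraMap R' T2) ⁻¹' (PrimeSpectrum.basicOpen s : Set (PrimeSpectrum R'))
      have hV : IsOpen V := (PrimeSpectrum.basicOpen s).2.preimage (PrimeSpectrum.continuous_comap _)
      refine Algebra.QuasiFiniteAt.of_isOpen_singleton_fiber (f Q) ⟨f '' (U ∩ V), hopen _ (hU.inter hV), ?_⟩
      ext ⟨x, hx⟩
      simp only [Set.mem_preimage, Set.mem_image, Set.mem_singleton_iff, Subtype.mk.injEq]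
      constructor
      · rintro ⟨z, ⟨hzU, hzV⟩, rfl⟩
        have hzP : z.asIdeal.comap (algebraMap R' T2) = P := by
          by_contra hne
          have hlo : (z.asIdeal.comap (algebraMap R' T2)).LiesOver p := ⟨by
            have h1 : (f z).asIdeal.comap (algebraMap R S) = p :=
              (congrArg PrimeSpectrum.asIdeal (hx : PrimeSpectrum.comap (algebraMap R S) (f z) = _)).trans (hover Q hQ)
            refine h1.symm.trans ?_
            show ((z.asIdeal.comap mk).comap Algebra.TensorProduct.includeRight.toRingHom).comap (algebraMap R S) = _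
            rw [Ideal.under, Ideal.comap_comap, Ideal.comap_comap, Ideal.comap_comap]
            congr 1
            ext r
            show mk (Algebra.TensorProduct.includeRight (algebraMap R S r)) = mk (algebraMap R' T (algebraMap R R' r))
            rw [AlgHom.commutes, ← IsScalarTower.algebraMap_apply]⟩
          exact hzV (hs' _ inferInstance hne hlo)
        have hz : (⟨z, PrimeSpectrum.ext (hzP.trans hQ.symm)⟩ :
            ↑(PrimeSpectrum.comap (algebraMap R' T2) ⁻¹' {Q.comap (algebraMap R' T2)})) ∈ Subtype.val ⁻¹' U := hzU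
        rw [hUeq] at hz
        exact congrArg f (congrArg Subtype.val (Set.mem_singleton_iff.1 hz))
      · rintro rfl
        refine ⟨Q, ⟨?_, ?_⟩, rfl⟩
        · have : (⟨Q, rfl⟩ : ↑(PrimeSpectrum.comap (algebraMap R' T2) ⁻¹' {Q.comap (algebraMap R' T2)})) ∈ Subtype.val ⁻¹' U := by
            rw [hUeq]; rfl
          exact this
        · show s ∉ Q.asIdeal.comap (algebraMap R' T2)
          rw [hQ]
          exact hs
    · haveI : (Q.asIdeal.comap mk).LiesOver P := ⟨by rw [Ideal.under, Ideal.comap_comap]; exact hQ.symm⟩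
      have := Ideal.eq_of_comap_eq_comap_of_bijective_residueFieldMap hpP (Q.asIdeal.comap mk) P'
        (congrArg PrimeSpectrum.asIdeal (Set.mem_singleton_iff.1 h))
      apply heP'
      rw [← this, Ideal.mem_comap, show mk e = 0 from Ideal.Quotient.eq_zero_iff_mem.2 (Ideal.subset_span rfl)]
      exact zero_mem _
  calc (isoSet T2 P).ncard
      ≤ (isoSet S p \ {⟨P'.comap Algebra.TensorProduct.includeRight.toRingHom, Ideal.IsPrime.comap _⟩}).ncard :=
        Set.ncard_le_ncard_of_injOn f hmap (fun Q hQ Q' hQ' h => hinj Q Q' hQ.1 hQ'.1 h)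
          ((isoSet_finite p).sdiff)
    _ < (isoSet S p).ncard := Set.ncard_sdiff_singleton_lt_of_mem hq (isoSet_finite p)

/-- the finite piece -/
theorem unique_piece {R S : Type u} [CommRing R] [CommRing S] [Algebra R S] (p : Ideal R) [p.IsPrime]
    (R' : Type u) [CommRing R'] [Algebra R R'] (P : Ideal R') [P.IsPrime] [P.LiesOver p]
    (hpP : Function.Bijective (Ideal.ResidueField.mapₐ p P (Algebra.ofId _ _) (P.over_def p)))
    (h : ∃! r : Ideal S, r.IsPrime ∧ r.comap (algebraMap R S) = p) :
    ∃! r : Ideal (R' ⊗[R] S), r.IsPrime ∧ r.comap (algebraMap R' (R' ⊗[R] S)) = P := by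
  obtain ⟨r, ⟨hr, hrp⟩, huniq⟩ := h
  haveI : r.LiesOver p := ⟨hrp.symm⟩
  let F := Ideal.fiberIsoOfBijectiveResidueField hpP (S := S)
  refine ⟨(F.symm ⟨r, hr, inferInstance⟩).1, ⟨(F.symm _).2.1, ((F.symm _).2.2.over).symm⟩, fun r' ⟨hr', hr'P⟩ => ?_⟩
  haveI : r'.LiesOver P := ⟨hr'P.symm⟩
  have : F ⟨r', hr', inferInstance⟩ = ⟨r, hr, inferInstance⟩ :=
    Subtype.ext (huniq _ ⟨(F _).2.1, ((F _).2.2.over).symm⟩)
  rw [← this, OrderIso.symm_apply_apply]

/-- a family indexed by `Option` -/
abbrev optFam (A0 : Type u) {ι : Type} (A : ι → Type u) : Option ι → Type u := fun o => o.rec A0 A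

instance optRing (A0 : Type u) {ι : Type} (A : ι → Type u) [CommRing A0] [∀ i, CommRing (A i)] :
    ∀ o, CommRing (optFam A0 A o)
  | none => inferInstanceAs (CommRing A0)
  | some i => inferInstanceAs (CommRing (A i))

instance optAlg {R' : Type u} [CommRing R'] (A0 : Type u) {ι : Type} (A : ι → Type u) [CommRing A0]
    [∀ i, CommRing (A i)] [Algebra R' A0] [∀ i, Algebra R' (A i)] : ∀ o, Algebra R' (optFam A0 A o)
  | none => inferInstanceAs (Algebra R' A0)
  | some i => inferInstanceAs (Algebra R' (A i))

/-- products indexed by `Option` -/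
def piOption {R' : Type u} [CommRing R'] (A0 : Type u) {ι : Type} (A : ι → Type u) [CommRing A0]
    [Algebra R' A0] [∀ i, CommRing (A i)] [∀ i, Algebra R' (A i)] (B : Type u) [CommRing B] [Algebra R' B] :
    (A0 × ((∀ i, A i) × B)) ≃ₐ[R'] ((∀ o, optFam A0 A o) × B) where
  toFun x := (fun o => match o with | none => x.1 | some i => x.2.1 i, x.2.2)
  invFun y := (y.1 none, (fun i => y.1 (some i), y.2))
  left_inv _ := rfl
  right_inv y := by
    refine Prod.ext (funext fun o => ?_) rfl
    cases o <;> rfl
  map_mul' _ _ := by refine Prod.ext (funext fun o => ?_) rfl; cases o <;> rfl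
  map_add' _ _ := by refine Prod.ext (funext fun o => ?_) rfl; cases o <;> rfl
  commutes' _ := by refine Prod.ext (funext fun o => ?_) rfl; cases o <;> rfl

def Dec (R S : Type u) [CommRing R] [CommRing S] [Algebra R S] (p : Ideal R) [p.IsPrime] : Prop :=
  ∃ (R' : Type u) (_ : CommRing R') (_ : Algebra R R') (_ : Algebra.Etale R R') (P : Ideal R')
    (_ : P.IsPrime) (_ : P.LiesOver p) (ι : Type) (_ : Finite ι) (A : ι → Type u) (_ : ∀ i, CommRing (A i))
    (_ : ∀ i, Algebra R' (A i)) (B : Type u) (_ : CommRing B) (_ : Algebra R' B),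
    Function.Bijective (Ideal.ResidueField.mapₐ p P (Algebra.ofId _ _) (P.over_def p)) ∧
    Nonempty ((R' ⊗[R] S) ≃ₐ[R'] ((∀ i, A i) × B)) ∧
      (∀ i, Module.Finite R' (A i) ∧ ∃! r : Ideal (A i), r.IsPrime ∧ r.comap (algebraMap R' (A i)) = P) ∧
      ∀ (q : Ideal B) [q.IsPrime], q.comap (algebraMap R' B) = P → ¬ Algebra.QuasiFiniteAt R' q

theorem dec : ∀ (m : ℕ) (R S : Type u) [CommRing R] [CommRing S] [Algebra R S] [Algebra.FiniteType R S]
    (p : Ideal R) [p.IsPrime], (isoSet S p).ncard = m → Dec R S p := by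
  intro m
  induction m using Nat.strong_induction_on with
  | h m ih =>
    intro R S _ _ _ _ p _ hm
    rcases (isoSet S p).eq_empty_or_nonempty with hemp | ⟨q, hq⟩
    · refine ⟨R, inferInstance, inferInstance, inferInstance, p, inferInstance, ⟨rfl⟩, Empty, inferInstance,
        fun _ => PUnit, inferInstance, inferInstance, R ⊗[R] S, inferInstance, inferInstance, ?_, ⟨?_⟩,
        fun i => i.elim, ?_⟩
      · rw! [Algebra.ofId_self, Ideal.ResidueField.mapₐ_id]; exact Function.bijective_id
      · exact
          { toFun := fun x => (fun i => i.elim, x)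
            invFun := fun x => x.2
            left_inv := fun _ => rfl
            right_inv := fun x => Prod.ext (funext fun i => i.elim) rfl
            map_mul' := fun _ _ => Prod.ext (funext fun i => i.elim) rfl
            map_add' := fun _ _ => Prod.ext (funext fun i => i.elim) rfl
            commutes' := fun _ => Prod.ext (funext fun i => i.elim) rfl }
      · intro q hq hqp hQF
        let l := (Algebra.TensorProduct.lid R S).symm
        have h1 : (⟨q.comap l.toRingHom, Ideal.IsPrime.comap _⟩ : PrimeSpectrum S) ∈ isoSet S p := by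
          refine ⟨?_, inferInstance⟩
          show (q.comap l.toRingHom).comap (algebraMap R S) = p
          rw [Ideal.comap_comap, ← hqp]
          congr 1
          exact RingHom.ext fun r => l.commutes r
        rw [hemp] at h1
        exact h1
    obtain ⟨hqp, hqF⟩ := id hq
    haveI : q.asIdeal.LiesOver p := ⟨hqp.symm⟩
    haveI := hqF
    obtain ⟨R', _, _, _, P, _, _, e, he, P', _, _, hP'q, heP', hpP, hfin, H⟩ :=
      Algebra.exists_etale_isIdempotentElem_forall_liesOver_eq p q.asIdeal
    let T := R' ⊗[R] S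
    let T1 := T ⧸ Ideal.span {1 - e}
    let T2 := T ⧸ Ideal.span {e}
    have hlt := card_lt p R' P hpP e he P' heP' (by
      convert hq using 1
      exact PrimeSpectrum.ext hP'q)
    haveI : Algebra.FiniteType R' T2 := Algebra.FiniteType.of_surjective (Ideal.Quotient.mkₐ R' _)
      Ideal.Quotient.mk_surjective
    obtain ⟨R'', _, _, _, Q, _, _, ι, _, A, _, _, B, _, _, hPQ, ⟨eqv⟩, hA, hB⟩ :=
      ih _ (hm ▸ hlt) R' T2 P rfl
    letI : Algebra R R'' := .compHom _ (algebraMap R R')
    haveI : IsScalarTower R R' R'' := .of_algebraMap_eq' rfl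
    haveI : Algebra.Etale R R'' := .comp R R' R''
    haveI : Q.LiesOver p := .trans _ P _
    haveI : IsLocalization.Away e T1 := IsLocalization.Away.quotient_of_isIdempotentElem he
    haveI : Module.Finite R' T1 := Module.Finite.equiv
      ((IsLocalization.algEquiv (Submonoid.powers e) (Localization.Away e) T1).restrictScalars R').toLinearEquiv
    have hT1 : ∃! r : Ideal T1, r.IsPrime ∧ r.comap (algebraMap R' T1) = P := by
      have hsurj : Function.Surjective (Ideal.Quotient.mk (Ideal.span {1 - e})) := Ideal.Quotient.mk_surjective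
      have h1e : Ideal.span {1 - e} ≤ P' := by
        rw [Ideal.span_singleton_le_iff_mem]
        refine ((‹P'.IsPrime›).mem_or_mem ?_).resolve_left heP'
        rw [mul_sub, mul_one, he.eq, sub_self]
        exact zero_mem _
      have hc : (P'.map (Ideal.Quotient.mk (Ideal.span {1 - e}))).comap (Ideal.Quotient.mk _) = P' := by
        rw [Ideal.comap_map_of_surjective _ hsurj, ← RingHom.ker_eq_comap_bot, Ideal.mk_ker, sup_eq_left.2 h1e]
      refine ⟨P'.map (Ideal.Quotient.mk _), ⟨Ideal.map_isPrime_of_surjective hsurj (by rw [Ideal.mk_ker]; exact h1e), ?_⟩,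
        fun r ⟨hr, hrP⟩ => ?_⟩
      · rw [show algebraMap R' T1 = (Ideal.Quotient.mk _).comp (algebraMap R' T) from rfl, ← Ideal.comap_comap, hc]
        exact (P'.over_def P).symm
      · haveI : (r.comap (Ideal.Quotient.mk (Ideal.span {1 - e}))).LiesOver P := ⟨by
          rw [Ideal.under, Ideal.comap_comap]; exact hrP.symm⟩
        have hne : e ∉ r.comap (Ideal.Quotient.mk (Ideal.span {1 - e})) := fun h => hr.ne_top <| by
          refine (Ideal.eq_top_iff_one r).2 ?_
          have h1 : Ideal.Quotient.mk (Ideal.span {1 - e}) 1 = Ideal.Quotient.mk _ e :=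
            Ideal.Quotient.eq.2 (Ideal.subset_span rfl)
          rw [map_one] at h1
          rw [h1]
          exact h
        rw [← H _ inferInstance inferInstance hne, Ideal.map_comap_of_surjective _ hsurj]
    refine ⟨R'', inferInstance, inferInstance, inferInstance, Q, inferInstance, inferInstance, Option ι,
      inferInstance, (optFam (R'' ⊗[R'] T1) A), inferInstance, inferInstance, B, inferInstance, inferInstance,
      bijective_mapₐ_comp p P Q hpP hPQ, ⟨?_⟩, fun o => ?_, hB⟩
    · let e0 : (T1 × T2) ≃ₐ[R'] T :=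
        (AlgEquiv.prodQuotientOfIsIdempotentElem R' he.one_sub he (by ring) (by rw [sub_mul, one_mul, he.eq, sub_self])).symm
      exact (Algebra.TensorProduct.cancelBaseChange R R' R'' R'' S).symm.trans <|
        (Algebra.TensorProduct.congr AlgEquiv.refl e0.symm).trans <|
        (Algebra.TensorProduct.prodRight R' R'' R'' T1 T2).trans <|
        (AlgEquiv.prodCongr AlgEquiv.refl eqv).trans (piOption (R'' ⊗[R'] T1) A B)
    · match o with
      | none => exact ⟨inferInstanceAs (Module.Finite R'' (R'' ⊗[R'] T1)), unique_piece P R'' Q hPQ hT1⟩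
      | some i => exact hA i

end Groth.Agent.S9457

namespace Groth.Agent.S9457

open TensorProduct in
/-- For a finite type ring map R → S and a prime p of R there are an étale R-algebra R', a prime p' of
R' over p with trivial residue field extension κ(p) = κ(p') (the image of R generates κ(p') as a
field), and a decomposition R' ⊗_R S ≅ A_1 × ⋯ × A_n × B of R'-algebras in which every A_i is finite
over R' with exactly one prime lying over p' and R' → B is quasi-finite at no prime of B lying over
p'. -/
theorem result (R : Type u) [CommRing R]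
    (S : Type u) [CommRing S] [Algebra R S] [Algebra.FiniteType R S] (p : Ideal R) [p.IsPrime] :
    ∃ (R' : Type u) (_ : CommRing R') (_ : Algebra R R') (_ : Algebra.Etale R R') (p' : Ideal R')
      (_ : p'.IsPrime) (_ : p'.LiesOver p) (n : ℕ) (A : Fin n → Type u) (_ : ∀ i, CommRing (A i))
      (_ : ∀ i, Algebra R' (A i)) (B : Type u) (_ : CommRing B) (_ : Algebra R' B),
      Subfield.closure (Set.range (algebraMap R p'.ResidueField)) = ⊤ ∧
      Nonempty ((R' ⊗[R] S) ≃ₐ[R'] ((∀ i, A i) × B)) ∧
        (∀ i, Module.Finite R' (A i) ∧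
          ∃! r : Ideal (A i), r.IsPrime ∧ r.comap (algebraMap R' (A i)) = p') ∧
        ∀ (q : Ideal B) [q.IsPrime], q.comap (algebraMap R' B) = p' →
          ¬ Algebra.QuasiFiniteAt R' q := by
  obtain ⟨R', _, _, _, P, _, _, ι, _, A, _, _, B, _, _, hbij, ⟨eqv⟩, hA, hB⟩ := dec _ R S p rfl
  obtain ⟨n, ⟨σ⟩⟩ := Finite.exists_equiv_fin ι
  refine ⟨R', inferInstance, inferInstance, inferInstance, P, inferInstance, inferInstance, n,
    fun i => A (σ.symm i), inferInstance, inferInstance, B, inferInstance, inferInstance,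
    closure_range_eq_top p P hbij, ⟨?_⟩, fun i => hA (σ.symm i), hB⟩
  exact eqv.trans (AlgEquiv.prodCongr (AlgEquiv.piCongrLeft R' A σ.symm).symm AlgEquiv.refl)

end Groth.Agent.S9457
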