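import Groth.Statements.S9458
import Groth.Agent.Hensel.StrictMap
import Groth.Agent.Hensel.Henselization

set_option autoImplicit false
universe u
open Hensel

namespace Groth.Agent.S9458

/-- Let R → S be of finite type and quasi-finite at a prime q lying over p, and let R_p^h, S_q^h be
henselizations of the local rings, S_q^h carrying the compatible R_p^h-algebra structure (the
canonical local map R_p^h → S_q^h). Then S_q^h is finite over R_p^h. (The published statement also
identifies S_q^h with a localization of R_p^h ⊗_{R_p} S_q; this row states only that S_q^h is finite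
over R_p^h.) -/
theorem result (R : Type u) [CommRing R] (S : Type u)
    [CommRing S] [Algebra R S] [Algebra.FiniteType R S] (p : Ideal R) [p.IsPrime] (q : Ideal S)
    [q.IsPrime] [q.LiesOver p] [Algebra.QuasiFiniteAt R q]
    (Rh : Type u) [CommRing Rh] [IsLocalRing Rh] [Algebra (Localization.AtPrime p) Rh]
    [IsLocalHom (algebraMap (Localization.AtPrime p) Rh)]
    [Hensel.IsHenselization (Localization.AtPrime p) Rh]
    (Sh : Type u) [CommRing Sh] [IsLocalRing Sh] [Algebra (Localization.AtPrime q) Sh]
    [IsLocalHom (algebraMap (Localization.AtPrime q) Sh)]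
    [Hensel.IsHenselization (Localization.AtPrime q) Sh]
    [Algebra (Localization.AtPrime p) (Localization.AtPrime q)]
    [IsScalarTower R (Localization.AtPrime p) (Localization.AtPrime q)]
    [Algebra Rh Sh] [Algebra (Localization.AtPrime p) Sh]
    [IsScalarTower (Localization.AtPrime p) Rh Sh]
    [IsScalarTower (Localization.AtPrime p) (Localization.AtPrime q) Sh] :
    Module.Finite Rh Sh := by
  classical
  haveI := _root_.Hensel.IsHenselization.henselian (R := Localization.AtPrime p) (S := Rh)
  have hlpq : (IsLocalRing.maximalIdeal (Localization.AtPrime q)).comap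
      (algebraMap (Localization.AtPrime p) (Localization.AtPrime q)) = IsLocalRing.maximalIdeal (Localization.AtPrime p) := by
    haveI := Ideal.comap_isPrime (algebraMap (Localization.AtPrime p) (Localization.AtPrime q))
      (IsLocalRing.maximalIdeal (Localization.AtPrime q))
    refine ((IsLocalization.orderEmbedding p.primeCompl (Localization.AtPrime p)).injective ?_)
    change ((IsLocalRing.maximalIdeal (Localization.AtPrime q)).comap _).comap (algebraMap R _) =
      (IsLocalRing.maximalIdeal (Localization.AtPrime p)).comap (algebraMap R _)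
    rw [Ideal.comap_comap, ← IsScalarTower.algebraMap_eq, IsScalarTower.algebraMap_eq R S (Localization.AtPrime q),
      ← Ideal.comap_comap, ← Ideal.under_def, ← Ideal.under_def, IsLocalization.AtPrime.comap_maximalIdeal (Localization.AtPrime q) q]
    rw [← Ideal.under_def (A := R), IsLocalization.AtPrime.comap_maximalIdeal (Localization.AtPrime p) p]
    exact (Ideal.LiesOver.over (P := q) (p := p)).symm
  haveI : IsLocalHom (algebraMap Rh Sh) := by
    refine ((IsLocalRing.local_hom_TFAE (algebraMap Rh Sh)).out 4 0 rfl rfl).1 ?_
    refine ((IsLocalRing.maximalIdeal.isMaximal Rh).eq_of_le (Ideal.comap_ne_top _ (Ideal.IsPrime.ne_top inferInstance)) ?_).symm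
    rw [← Groth.Agent.Hensel.henselization_map_maximalIdeal (R := Localization.AtPrime p) (S := Rh),
      Ideal.map_le_iff_le_comap, Ideal.comap_comap, ← IsScalarTower.algebraMap_eq,
      IsScalarTower.algebraMap_eq (Localization.AtPrime p) (Localization.AtPrime q) Sh, ← Ideal.comap_comap,
      IsLocalRing.maximalIdeal_comap, hlpq]
  obtain ⟨s, hs⟩ := Algebra.FiniteType.out (R := R) (A := S)
  let φ : R →+* Rh := (algebraMap (Localization.AtPrime p) Rh).comp (algebraMap R _)
  let ψ : S →+* Sh := (algebraMap (Localization.AtPrime q) Sh).comp (algebraMap S _)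
  have hc : (algebraMap Rh Sh).comp φ = ψ.comp (algebraMap R S) := by
    refine RingHom.ext fun r => ?_
    change algebraMap Rh Sh (algebraMap (Localization.AtPrime p) Rh (algebraMap R _ r)) =
      algebraMap (Localization.AtPrime q) Sh (algebraMap S _ (algebraMap R S r))
    rw [← IsScalarTower.algebraMap_apply (Localization.AtPrime p) Rh Sh,
      IsScalarTower.algebraMap_apply (Localization.AtPrime p) (Localization.AtPrime q) Sh,
      ← IsScalarTower.algebraMap_apply R (Localization.AtPrime p) (Localization.AtPrime q),
      ← IsScalarTower.algebraMap_apply R S (Localization.AtPrime q)]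
  have hint : ∀ b : S, IsIntegral Rh (ψ b) := fun b =>
    Groth.Agent.Hensel.IntegralSub.isIntegral_image φ ψ hc q
      (fun g hg => IsUnit.map (algebraMap (Localization.AtPrime q) Sh)
        (IsLocalization.map_units (Localization.AtPrime q) (⟨g, hg⟩ : q.primeCompl)))
      (Algebra.ZariskisMainProperty.of_finiteType q) b
  let W : Subalgebra Rh Sh := Algebra.adjoin Rh (ψ '' (s : Set S))
  haveI hfin : Module.Finite Rh W := Module.Finite.iff_fg.2
    (fg_adjoin_of_finite (s.finite_toSet.image _) (by rintro _ ⟨b, -, rfl⟩; exact hint b))
  haveI : Algebra.IsIntegral Rh W := Algebra.IsIntegral.of_finite Rh W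
  have hS : ∀ b : S, ψ b ∈ W := by
    intro b
    have hb : b ∈ Algebra.adjoin R (s : Set S) := by rw [hs]; trivial
    induction hb using Algebra.adjoin_induction with
    | mem x hx => exact Algebra.subset_adjoin ⟨x, hx, rfl⟩
    | algebraMap r => rw [← RingHom.comp_apply ψ, ← hc]; exact W.algebraMap_mem _
    | add x y _ _ hx hy => rw [map_add]; exact W.add_mem hx hy
    | mul x y _ _ hx hy => rw [map_mul]; exact W.mul_mem hx hy
  have htop : W = ⊤ := Groth.Agent.Hensel.IntegralSub.eq_top_of_henselization (R := Localization.AtPrime q) W
    (fun r => Groth.Agent.Hensel.IntegralSub.localization_mem W q (Localization.AtPrime q)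
      (algebraMap (Localization.AtPrime q) Sh) hS r)
  rw [htop] at hfin
  exact Module.Finite.equiv (Subalgebra.topEquiv (R := Rh) (A := Sh)).toLinearEquiv

end Groth.Agent.S9458
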