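import Groth.Statements.S9459
import Groth.Agent.Hensel.HenselTransfer

set_option autoImplicit false
universe u
open Hensel

namespace Groth.Agent.S9459

open TensorProduct in
/-- Let R → S be a ring map, q a prime of S over p, and R^h, S^h henselizations of R_p and S_q, S^h
carrying the compatible R^h-algebra structure (the canonical map R^h → S^h). Let φ : R^h ⊗_R S → S^h
be the induced map and Q the preimage under φ of the maximal ideal (a prime lying over the maximal
ideal of R^h and over q). Then S^h is a henselization of the local ring (R^h ⊗_R S)_Q: for every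
henselization E of (R^h ⊗_R S)_Q there is a ring isomorphism E ≅ S^h compatible with the two maps
from R^h ⊗_R S. -/
theorem result (R : Type u) [CommRing R] (S : Type u)
    [CommRing S] [Algebra R S] (p : Ideal R) [p.IsPrime] (q : Ideal S) [q.IsPrime] [q.LiesOver p]
    (Rh : Type u) [CommRing Rh] [IsLocalRing Rh] [Algebra (Localization.AtPrime p) Rh]
    [IsLocalHom (algebraMap (Localization.AtPrime p) Rh)]
    [Hensel.IsHenselization (Localization.AtPrime p) Rh] [Algebra R Rh]
    [IsScalarTower R (Localization.AtPrime p) Rh]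
    (Sh : Type u) [CommRing Sh] [IsLocalRing Sh] [Algebra (Localization.AtPrime q) Sh]
    [IsLocalHom (algebraMap (Localization.AtPrime q) Sh)]
    [Hensel.IsHenselization (Localization.AtPrime q) Sh] [Algebra S Sh]
    [IsScalarTower S (Localization.AtPrime q) Sh] [Algebra R Sh] [IsScalarTower R S Sh]
    [Algebra Rh Sh] [IsScalarTower R Rh Sh]
    (E : Type u) [CommRing E] [IsLocalRing E]
    [Algebra (Localization.AtPrime (Ideal.comap (Algebra.TensorProduct.lift (IsScalarTower.toAlgHom R Rh Sh) (IsScalarTower.toAlgHom R S Sh)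
          (fun _ _ => Commute.all _ _)) (IsLocalRing.maximalIdeal Sh))) E]
    [IsLocalHom (algebraMap (Localization.AtPrime
      (Ideal.comap (Algebra.TensorProduct.lift (IsScalarTower.toAlgHom R Rh Sh) (IsScalarTower.toAlgHom R S Sh)
          (fun _ _ => Commute.all _ _)) (IsLocalRing.maximalIdeal Sh))) E)]
    [Hensel.IsHenselization (Localization.AtPrime
      (Ideal.comap (Algebra.TensorProduct.lift (IsScalarTower.toAlgHom R Rh Sh) (IsScalarTower.toAlgHom R S Sh)
          (fun _ _ => Commute.all _ _)) (IsLocalRing.maximalIdeal Sh))) E] :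
    ∃ e : E ≃+* Sh, ∀ d : Rh ⊗[R] S,
      e (algebraMap (Localization.AtPrime
        (Ideal.comap (Algebra.TensorProduct.lift (IsScalarTower.toAlgHom R Rh Sh) (IsScalarTower.toAlgHom R S Sh)
          (fun _ _ => Commute.all _ _)) (IsLocalRing.maximalIdeal Sh))) E
        (algebraMap (Rh ⊗[R] S) _ d)) = (Algebra.TensorProduct.lift (IsScalarTower.toAlgHom R Rh Sh) (IsScalarTower.toAlgHom R S Sh)
          (fun _ _ => Commute.all _ _)) d := by
  have hu : ∀ y : (Ideal.comap (Algebra.TensorProduct.lift (IsScalarTower.toAlgHom R Rh Sh) (IsScalarTower.toAlgHom R S Sh) (fun _ _ => Commute.all _ _)) (IsLocalRing.maximalIdeal Sh)).primeCompl, IsUnit ((Algebra.TensorProduct.lift (IsScalarTower.toAlgHom R Rh Sh) (IsScalarTower.toAlgHom R S Sh) (fun _ _ => Commute.all _ _)) y) := fun y ↦ not_not.mp fun hn ↦ y.2 (Ideal.mem_comap.mpr hn)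
  let _ : Algebra (Localization.AtPrime (Ideal.comap (Algebra.TensorProduct.lift (IsScalarTower.toAlgHom R Rh Sh) (IsScalarTower.toAlgHom R S Sh) (fun _ _ => Commute.all _ _)) (IsLocalRing.maximalIdeal Sh))) Sh := (IsLocalization.lift (M := (Ideal.comap (Algebra.TensorProduct.lift (IsScalarTower.toAlgHom R Rh Sh) (IsScalarTower.toAlgHom R S Sh) (fun _ _ => Commute.all _ _)) (IsLocalRing.maximalIdeal Sh)).primeCompl) (S := (Localization.AtPrime (Ideal.comap (Algebra.TensorProduct.lift (IsScalarTower.toAlgHom R Rh Sh) (IsScalarTower.toAlgHom R S Sh) (fun _ _ => Commute.all _ _)) (IsLocalRing.maximalIdeal Sh)))) (g := (Algebra.TensorProduct.lift (IsScalarTower.toAlgHom R Rh Sh) (IsScalarTower.toAlgHom R S Sh) (fun _ _ => Commute.all _ _)).toRingHom) hu).toAlgebra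
  have hDφ : ∀ d, algebraMap (Localization.AtPrime (Ideal.comap (Algebra.TensorProduct.lift (IsScalarTower.toAlgHom R Rh Sh) (IsScalarTower.toAlgHom R S Sh) (fun _ _ => Commute.all _ _)) (IsLocalRing.maximalIdeal Sh))) Sh (algebraMap _ (Localization.AtPrime (Ideal.comap (Algebra.TensorProduct.lift (IsScalarTower.toAlgHom R Rh Sh) (IsScalarTower.toAlgHom R S Sh) (fun _ _ => Commute.all _ _)) (IsLocalRing.maximalIdeal Sh))) d) = (Algebra.TensorProduct.lift (IsScalarTower.toAlgHom R Rh Sh) (IsScalarTower.toAlgHom R S Sh) (fun _ _ => Commute.all _ _)) d := IsLocalization.lift_eq _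
  have hlD : IsLocalHom (algebraMap (Localization.AtPrime (Ideal.comap (Algebra.TensorProduct.lift (IsScalarTower.toAlgHom R Rh Sh) (IsScalarTower.toAlgHom R S Sh) (fun _ _ => Commute.all _ _)) (IsLocalRing.maximalIdeal Sh))) Sh) := by
    refine ((IsLocalRing.local_hom_TFAE (algebraMap (Localization.AtPrime (Ideal.comap (Algebra.TensorProduct.lift (IsScalarTower.toAlgHom R Rh Sh) (IsScalarTower.toAlgHom R S Sh) (fun _ _ => Commute.all _ _)) (IsLocalRing.maximalIdeal Sh))) Sh)).out 2 0 rfl rfl).mp ?_
    rw [← IsLocalization.AtPrime.map_eq_maximalIdeal (Ideal.comap (Algebra.TensorProduct.lift (IsScalarTower.toAlgHom R Rh Sh) (IsScalarTower.toAlgHom R S Sh) (fun _ _ => Commute.all _ _)) (IsLocalRing.maximalIdeal Sh)) (Localization.AtPrime (Ideal.comap (Algebra.TensorProduct.lift (IsScalarTower.toAlgHom R Rh Sh) (IsScalarTower.toAlgHom R S Sh) (fun _ _ => Commute.all _ _)) (IsLocalRing.maximalIdeal Sh))), Ideal.map_map, Ideal.map_le_iff_le_comap]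
    intro d hd
    rw [Ideal.mem_comap, RingHom.comp_apply, hDφ]
    exact hd
  let inR : S →+* (Localization.AtPrime (Ideal.comap (Algebra.TensorProduct.lift (IsScalarTower.toAlgHom R Rh Sh) (IsScalarTower.toAlgHom R S Sh) (fun _ _ => Commute.all _ _)) (IsLocalRing.maximalIdeal Sh))) := (algebraMap (Rh ⊗[R] S) (Localization.AtPrime (Ideal.comap (Algebra.TensorProduct.lift (IsScalarTower.toAlgHom R Rh Sh) (IsScalarTower.toAlgHom R S Sh) (fun _ _ => Commute.all _ _)) (IsLocalRing.maximalIdeal Sh)))).comp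
    (Algebra.TensorProduct.includeRight : S →ₐ[R] Rh ⊗[R] S).toRingHom
  have hin : ∀ s, algebraMap (Localization.AtPrime (Ideal.comap (Algebra.TensorProduct.lift (IsScalarTower.toAlgHom R Rh Sh) (IsScalarTower.toAlgHom R S Sh) (fun _ _ => Commute.all _ _)) (IsLocalRing.maximalIdeal Sh))) Sh (inR s) = algebraMap S Sh s := fun s ↦ by
    change algebraMap (Localization.AtPrime (Ideal.comap (Algebra.TensorProduct.lift (IsScalarTower.toAlgHom R Rh Sh) (IsScalarTower.toAlgHom R S Sh) (fun _ _ => Commute.all _ _)) (IsLocalRing.maximalIdeal Sh))) Sh (algebraMap _ (Localization.AtPrime (Ideal.comap (Algebra.TensorProduct.lift (IsScalarTower.toAlgHom R Rh Sh) (IsScalarTower.toAlgHom R S Sh) (fun _ _ => Commute.all _ _)) (IsLocalRing.maximalIdeal Sh))) ((1 : Rh) ⊗ₜ[R] s)) = _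
    rw [hDφ, Algebra.TensorProduct.lift_tmul]
    simp
  have hqu : ∀ y : q.primeCompl, IsUnit (inR y) := fun y ↦ by
    refine (isUnit_map_iff (algebraMap (Localization.AtPrime (Ideal.comap (Algebra.TensorProduct.lift (IsScalarTower.toAlgHom R Rh Sh) (IsScalarTower.toAlgHom R S Sh) (fun _ _ => Commute.all _ _)) (IsLocalRing.maximalIdeal Sh))) Sh) _).mp ?_
    rw [hin, IsScalarTower.algebraMap_apply S (Localization.AtPrime q) Sh]
    exact (IsLocalization.map_units (Localization.AtPrime q) y).map _
  let ι : Localization.AtPrime q →+* (Localization.AtPrime (Ideal.comap (Algebra.TensorProduct.lift (IsScalarTower.toAlgHom R Rh Sh) (IsScalarTower.toAlgHom R S Sh) (fun _ _ => Commute.all _ _)) (IsLocalRing.maximalIdeal Sh))) := IsLocalization.lift (M := q.primeCompl) hqu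
  have hι : (algebraMap (Localization.AtPrime (Ideal.comap (Algebra.TensorProduct.lift (IsScalarTower.toAlgHom R Rh Sh) (IsScalarTower.toAlgHom R S Sh) (fun _ _ => Commute.all _ _)) (IsLocalRing.maximalIdeal Sh))) Sh).comp ι = algebraMap (Localization.AtPrime q) Sh := by
    refine IsLocalization.ringHom_ext q.primeCompl (RingHom.ext fun s ↦ ?_)
    simp only [RingHom.comp_apply, ι, IsLocalization.lift_eq, hin]
    exact IsScalarTower.algebraMap_apply S (Localization.AtPrime q) Sh s
  have : IsLocalHom ((algebraMap (Localization.AtPrime (Ideal.comap (Algebra.TensorProduct.lift (IsScalarTower.toAlgHom R Rh Sh) (IsScalarTower.toAlgHom R S Sh) (fun _ _ => Commute.all _ _)) (IsLocalRing.maximalIdeal Sh))) Sh).comp ι) := by rw [hι]; infer_instance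
  have hlι : IsLocalHom ι := isLocalHom_of_comp ι (algebraMap (Localization.AtPrime (Ideal.comap (Algebra.TensorProduct.lift (IsScalarTower.toAlgHom R Rh Sh) (IsScalarTower.toAlgHom R S Sh) (fun _ _ => Commute.all _ _)) (IsLocalRing.maximalIdeal Sh))) Sh)
  have hp : ∀ a ∈ p, algebraMap R Sh a ∈ IsLocalRing.maximalIdeal Sh := fun a ha ↦ by
    rw [IsScalarTower.algebraMap_apply R S Sh, IsScalarTower.algebraMap_apply S (Localization.AtPrime q) Sh]
    refine map_nonunit _ _ ?_
    rw [IsLocalization.AtPrime.to_map_mem_maximal_iff (Localization.AtPrime q) q]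
    rwa [← Ideal.mem_comap, ← Ideal.under_def, ← q.over_def p]
  have hlR : IsLocalHom (algebraMap Rh Sh) := by
    refine ((IsLocalRing.local_hom_TFAE (algebraMap Rh Sh)).out 2 0 rfl rfl).mp ?_
    rw [← Groth.Agent.Hensel.henselization_map_maximalIdeal (R := Localization.AtPrime p) (S := Rh),
      ← IsLocalization.AtPrime.map_eq_maximalIdeal p (Localization.AtPrime p), Ideal.map_map,
      Ideal.map_map, RingHom.comp_assoc, ← IsScalarTower.algebraMap_eq, ← IsScalarTower.algebraMap_eq]
    exact Ideal.map_le_iff_le_comap.mpr hp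
  let inL : Rh →+* (Localization.AtPrime (Ideal.comap (Algebra.TensorProduct.lift (IsScalarTower.toAlgHom R Rh Sh) (IsScalarTower.toAlgHom R S Sh) (fun _ _ => Commute.all _ _)) (IsLocalRing.maximalIdeal Sh))) := (algebraMap (Rh ⊗[R] S) (Localization.AtPrime (Ideal.comap (Algebra.TensorProduct.lift (IsScalarTower.toAlgHom R Rh Sh) (IsScalarTower.toAlgHom R S Sh) (fun _ _ => Commute.all _ _)) (IsLocalRing.maximalIdeal Sh)))).comp Algebra.TensorProduct.includeLeftRingHom
  have hinL : ∀ x, algebraMap (Localization.AtPrime (Ideal.comap (Algebra.TensorProduct.lift (IsScalarTower.toAlgHom R Rh Sh) (IsScalarTower.toAlgHom R S Sh) (fun _ _ => Commute.all _ _)) (IsLocalRing.maximalIdeal Sh))) Sh (inL x) = algebraMap Rh Sh x := fun x ↦ by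
    change algebraMap (Localization.AtPrime (Ideal.comap (Algebra.TensorProduct.lift (IsScalarTower.toAlgHom R Rh Sh) (IsScalarTower.toAlgHom R S Sh) (fun _ _ => Commute.all _ _)) (IsLocalRing.maximalIdeal Sh))) Sh (algebraMap _ (Localization.AtPrime (Ideal.comap (Algebra.TensorProduct.lift (IsScalarTower.toAlgHom R Rh Sh) (IsScalarTower.toAlgHom R S Sh) (fun _ _ => Commute.all _ _)) (IsLocalRing.maximalIdeal Sh))) (x ⊗ₜ[R] (1 : S))) = _
    rw [hDφ, Algebra.TensorProduct.lift_tmul]
    simp
  have hinL' : IsLocalHom ((algebraMap (Localization.AtPrime (Ideal.comap (Algebra.TensorProduct.lift (IsScalarTower.toAlgHom R Rh Sh) (IsScalarTower.toAlgHom R S Sh) (fun _ _ => Commute.all _ _)) (IsLocalRing.maximalIdeal Sh))) Sh).comp inL) := by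
    rw [show (algebraMap (Localization.AtPrime (Ideal.comap (Algebra.TensorProduct.lift (IsScalarTower.toAlgHom R Rh Sh) (IsScalarTower.toAlgHom R S Sh) (fun _ _ => Commute.all _ _)) (IsLocalRing.maximalIdeal Sh))) Sh).comp inL = algebraMap Rh Sh from RingHom.ext hinL]; exact hlR
  have hlL : IsLocalHom inL := isLocalHom_of_comp inL (algebraMap (Localization.AtPrime (Ideal.comap (Algebra.TensorProduct.lift (IsScalarTower.toAlgHom R Rh Sh) (IsScalarTower.toAlgHom R S Sh) (fun _ _ => Commute.all _ _)) (IsLocalRing.maximalIdeal Sh))) Sh)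
  have : Hensel.IsHenselization (Localization.AtPrime (Ideal.comap (Algebra.TensorProduct.lift (IsScalarTower.toAlgHom R Rh Sh) (IsScalarTower.toAlgHom R S Sh) (fun _ _ => Commute.all _ _)) (IsLocalRing.maximalIdeal Sh))) Sh := by
    refine Groth.Agent.Hensel.isHenselization_of_factor (R := Localization.AtPrime q) hι
      fun T _ _ f₁ f₂ _ h12 ↦ ?_
    have key : ∀ a, inL (algebraMap (Localization.AtPrime p) Rh (algebraMap R _ a)) =
        ι (algebraMap S _ (algebraMap R S a)) := fun a ↦ by
      rw [← IsScalarTower.algebraMap_apply]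
      simp only [ι, IsLocalization.lift_eq]
      exact congrArg (algebraMap (Rh ⊗[R] S) (Localization.AtPrime (Ideal.comap (Algebra.TensorProduct.lift (IsScalarTower.toAlgHom R Rh Sh) (IsScalarTower.toAlgHom R S Sh) (fun _ _ => Commute.all _ _)) (IsLocalRing.maximalIdeal Sh))))
        ((Algebra.TensorProduct.includeRight : S →ₐ[R] Rh ⊗[R] S).commutes a).symm
    have hL : f₁.comp inL = f₂.comp inL := by
      have e : (f₁.comp inL).comp (algebraMap (Localization.AtPrime p) Rh) =
          (f₂.comp inL).comp (algebraMap (Localization.AtPrime p) Rh) := by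
        refine IsLocalization.ringHom_ext p.primeCompl (RingHom.ext fun a ↦ ?_)
        simp only [RingHom.comp_apply, key]
        exact DFunLike.congr_fun h12 _
      have : IsLocalHom ((f₁.comp inL).comp (algebraMap (Localization.AtPrime p) Rh)) := inferInstance
      exact Groth.Agent.Hensel.isHenselization_ringHom_ext e
    refine IsLocalization.ringHom_ext (Ideal.comap (Algebra.TensorProduct.lift (IsScalarTower.toAlgHom R Rh Sh) (IsScalarTower.toAlgHom R S Sh) (fun _ _ => Commute.all _ _)) (IsLocalRing.maximalIdeal Sh)).primeCompl (RingHom.ext fun d ↦ ?_)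
    induction d using TensorProduct.induction_on with
    | zero => simp
    | add x y hx hy => simp only [RingHom.comp_apply, map_add] at hx hy ⊢; rw [hx, hy]
    | tmul x s =>
      have hd : algebraMap (Rh ⊗[R] S) (Localization.AtPrime (Ideal.comap (Algebra.TensorProduct.lift (IsScalarTower.toAlgHom R Rh Sh) (IsScalarTower.toAlgHom R S Sh) (fun _ _ => Commute.all _ _)) (IsLocalRing.maximalIdeal Sh))) (x ⊗ₜ[R] s) = inL x * ι (algebraMap S _ s) := by
        simp only [ι, IsLocalization.lift_eq]
        change _ = algebraMap _ (Localization.AtPrime (Ideal.comap (Algebra.TensorProduct.lift (IsScalarTower.toAlgHom R Rh Sh) (IsScalarTower.toAlgHom R S Sh) (fun _ _ => Commute.all _ _)) (IsLocalRing.maximalIdeal Sh))) (x ⊗ₜ[R] (1 : S)) * algebraMap _ (Localization.AtPrime (Ideal.comap (Algebra.TensorProduct.lift (IsScalarTower.toAlgHom R Rh Sh) (IsScalarTower.toAlgHom R S Sh) (fun _ _ => Commute.all _ _)) (IsLocalRing.maximalIdeal Sh))) ((1 : Rh) ⊗ₜ[R] s)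
        rw [← map_mul, Algebra.TensorProduct.tmul_mul_tmul, mul_one, one_mul]
      simp only [RingHom.comp_apply]
      rw [hd, map_mul, map_mul]
      exact congrArg₂ (· * ·) (DFunLike.congr_fun hL x) (DFunLike.congr_fun h12 _)
  obtain ⟨e⟩ := Groth.Agent.Hensel.exists_algEquiv_of_isHenselization (R := Localization.AtPrime (Ideal.comap (Algebra.TensorProduct.lift (IsScalarTower.toAlgHom R Rh Sh) (IsScalarTower.toAlgHom R S Sh) (fun _ _ => Commute.all _ _)) (IsLocalRing.maximalIdeal Sh))) (S := E) (S' := Sh)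
  exact ⟨e.toRingEquiv, fun d ↦ (e.commutes _).trans (hDφ d)⟩

end Groth.Agent.S9459
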