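import Groth.Statements.S9461
import Groth.Agent.Hensel.StrictMap

set_option autoImplicit false
universe u
open Hensel

namespace Groth.Agent.S9461

/-- Let R → S be of finite type and quasi-finite at a prime q over p, and R^{sh}, S^{sh} strict
henselizations of R_p and S_q with a compatible local map R^{sh} → S^{sh} (over R). Then R^{sh} →
S^{sh} is finite and its residue field extension is finite and purely inseparable. (The published
statement also identifies S^{sh} with a localization of R^{sh} ⊗_{R_p} S_q; this row states only the
finiteness and the residue-field assertions.) -/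
theorem result (R : Type u) [CommRing R] (S : Type u)
    [CommRing S] [Algebra R S] [Algebra.FiniteType R S] (p : Ideal R) [p.IsPrime] (q : Ideal S)
    [q.IsPrime] [q.LiesOver p] [Algebra.QuasiFiniteAt R q]
    (Rh : Type u) [CommRing Rh] [IsLocalRing Rh] [Algebra (Localization.AtPrime p) Rh]
    [IsLocalHom (algebraMap (Localization.AtPrime p) Rh)]
    [Hensel.IsStrictHenselization (Localization.AtPrime p) Rh] [Algebra R Rh]
    [IsScalarTower R (Localization.AtPrime p) Rh]
    (Sh : Type u) [CommRing Sh] [IsLocalRing Sh] [Algebra (Localization.AtPrime q) Sh]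
    [IsLocalHom (algebraMap (Localization.AtPrime q) Sh)]
    [Hensel.IsStrictHenselization (Localization.AtPrime q) Sh] [Algebra S Sh]
    [IsScalarTower S (Localization.AtPrime q) Sh] [Algebra R Sh] [IsScalarTower R S Sh]
    [Algebra Rh Sh] [IsScalarTower R Rh Sh] [IsLocalHom (algebraMap Rh Sh)] :
    Module.Finite Rh Sh ∧
      Module.Finite (IsLocalRing.ResidueField Rh) (IsLocalRing.ResidueField Sh) ∧
      IsPurelyInseparable (IsLocalRing.ResidueField Rh) (IsLocalRing.ResidueField Sh) := by
  classical
  haveI := _root_.Hensel.IsStrictHenselization.henselian (R := Localization.AtPrime p) (S := Rh)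
  haveI := (_root_.Hensel.IsStrictHenselization.isSepClosure (R := Localization.AtPrime p) (S := Rh)).sep_closed
  obtain ⟨s, hs⟩ := Algebra.FiniteType.out (R := R) (A := S)
  have hint : ∀ b : S, IsIntegral Rh (algebraMap S Sh b) := fun b =>
    Groth.Agent.Hensel.IntegralSub.isIntegral_image (algebraMap R Rh) (algebraMap S Sh)
      (by rw [← IsScalarTower.algebraMap_eq, ← IsScalarTower.algebraMap_eq]) q
      (fun g hg => Groth.Agent.Hensel.StrictMap.isUnit_map q hg) (Algebra.ZariskisMainProperty.of_finiteType q) b
  let W : Subalgebra Rh Sh := Algebra.adjoin Rh (algebraMap S Sh '' (s : Set S))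
  haveI hfin : Module.Finite Rh W := Module.Finite.iff_fg.2
    (fg_adjoin_of_finite (s.finite_toSet.image _) (by rintro _ ⟨b, -, rfl⟩; exact hint b))
  haveI : Algebra.IsIntegral Rh W := Algebra.IsIntegral.of_finite Rh W
  have hS : ∀ b : S, algebraMap S Sh b ∈ W := by
    intro b
    have hb : b ∈ Algebra.adjoin R (s : Set S) := by rw [hs]; trivial
    induction hb using Algebra.adjoin_induction with
    | mem x hx => exact Algebra.subset_adjoin ⟨x, hx, rfl⟩
    | algebraMap r =>
      rw [← IsScalarTower.algebraMap_apply, IsScalarTower.algebraMap_apply R Rh Sh]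
      exact W.algebraMap_mem _
    | add x y _ _ hx hy => rw [map_add]; exact W.add_mem hx hy
    | mul x y _ _ hx hy => rw [map_mul]; exact W.mul_mem hx hy
  have htop : W = ⊤ := Groth.Agent.Hensel.IntegralSub.eq_top_of_strictHenselization (R := Localization.AtPrime q) W
    (fun r => Groth.Agent.Hensel.IntegralSub.localization_mem W q (Localization.AtPrime q)
      (algebraMap (Localization.AtPrime q) Sh)
      (fun b => by rw [← IsScalarTower.algebraMap_apply S (Localization.AtPrime q) Sh]; exact hS b) r)
  haveI hF : Module.Finite Rh Sh := by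
    rw [htop] at hfin
    exact Module.Finite.equiv (Subalgebra.topEquiv (R := Rh) (A := Sh)).toLinearEquiv
  haveI : Module.Finite (IsLocalRing.ResidueField Rh) (IsLocalRing.ResidueField Sh) := by
    haveI : Module.Finite Rh (IsLocalRing.ResidueField Sh) :=
      Module.Finite.of_surjective (IsScalarTower.toAlgHom Rh Sh (IsLocalRing.ResidueField Sh)).toLinearMap
        IsLocalRing.residue_surjective
    exact Module.Finite.of_restrictScalars_finite Rh _ _
  exact ⟨hF, inferInstance, Algebra.IsAlgebraic.isPurelyInseparable_of_isSepClosed⟩

end Groth.Agent.S9461
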