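import Groth.Statements.S9462
import Mathlib
import Groth.Agent.AlgSpLoc.EtaleLift
-- import your own Groth.Agent.* helpers here

set_option autoImplicit false
universe u
open CAlg

namespace Groth.Agent.S9462

open TensorProduct

theorem aux (A' : Type u) [CommRing A'] (A : Type u) [CommRing A]
    [Algebra A' A] (hA : Function.Surjective (algebraMap A' A))
    (hI : RingHom.ker (algebraMap A' A) ^ 2 = ⊥)
    (B' : Type u) [CommRing B'] [Algebra A' B'] (B : Type u) [CommRing B] [Algebra B' B]
    [Algebra A B] [Algebra A' B] [IsScalarTower A' A B] [IsScalarTower A' B' B]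
    (hB : Function.Surjective (algebraMap B' B)) (hJ : RingHom.ker (algebraMap B' B) ^ 2 = ⊥)
    [Algebra.Etale A B]
    (hJI : RingHom.ker (algebraMap B' B) = (RingHom.ker (algebraMap A' A)).map (algebraMap A' B'))
    (hinj : Function.Injective ((RingHom.ker (algebraMap A' A)).subtype.baseChange B')) :
    Algebra.Etale A' B' := by
  classical
  obtain ⟨I, rfl⟩ : ∃ I, I = RingHom.ker (algebraMap A' A) := ⟨_, rfl⟩
  let I := RingHom.ker (algebraMap A' A)
  letI : Algebra (A' ⧸ I) A := (RingHom.kerLift (algebraMap A' A)).toAlgebra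
  have hbij : Function.Bijective (algebraMap (A' ⧸ I) A) :=
    ⟨RingHom.kerLift_injective _, fun y => by
      obtain ⟨x, rfl⟩ := hA y; exact ⟨Ideal.Quotient.mk _ x, rfl⟩⟩
  letI : Algebra (A' ⧸ I) B := ((algebraMap A B).comp (algebraMap (A' ⧸ I) A)).toAlgebra
  haveI : IsScalarTower (A' ⧸ I) A B := IsScalarTower.of_algebraMap_eq' rfl
  haveI : IsScalarTower A' (A' ⧸ I) B := IsScalarTower.of_algebraMap_eq fun x =>
    (IsScalarTower.algebraMap_apply A' A B x)
  haveI : Algebra.Etale (A' ⧸ I) A :=
    Algebra.Etale.of_equiv (AlgEquiv.ofBijective (Algebra.ofId (A' ⧸ I) A) hbij)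
  haveI : Algebra.Etale (A' ⧸ I) B := Algebra.Etale.comp (A' ⧸ I) A B
  obtain ⟨C, _, _, hC, ⟨ψ⟩⟩ := Groth.Agent.AlgSpLoc.exists_etale_lift A' I B
  let π : C →ₐ[A'] B := (ψ.restrictScalars A').toAlgHom.comp Algebra.TensorProduct.includeRight
  let e := Algebra.TensorProduct.quotIdealMapEquivQuotTensor C I
  have hπs : Function.Surjective π := fun b => by
    obtain ⟨z, rfl⟩ := (e.trans ψ).surjective b
    obtain ⟨c, rfl⟩ := Ideal.Quotient.mk_surjective z
    exact ⟨c, rfl⟩
  have hπk : ∀ c, π c = 0 → c ∈ I.map (algebraMap A' C) := by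
    intro c hc
    exact Ideal.Quotient.eq_zero_iff_mem.1 ((e.trans ψ).injective (by rw [map_zero]; exact hc))
  let g : B' →ₐ[A'] B := IsScalarTower.toAlgHom A' B' B
  have hg : Function.Surjective g := hB
  have hgk : RingHom.ker g.toRingHom = RingHom.ker (algebraMap B' B) := rfl
  have hnil : IsNilpotent (RingHom.ker g.toRingHom) := ⟨2, hgk ▸ hJ⟩
  let φ : C →ₐ[A'] B' := Algebra.FormallySmooth.liftOfSurjective π g hg hnil
  have hφ : ∀ c, algebraMap B' B (φ c) = π c := fun c =>
    Algebra.FormallySmooth.liftOfSurjective_apply π g hg hnil c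
  -- mod `I B'` every element comes from `C`
  have hdec : ∀ b : B', ∃ c, b - φ c ∈ I.map (algebraMap A' B') := by
    intro b
    obtain ⟨c, hc⟩ := hπs (algebraMap B' B b)
    refine ⟨c, ?_⟩
    rw [← hJI, RingHom.mem_ker, map_sub, hφ, hc, sub_self]
  have hsurj : Function.Surjective φ := by
    have h1 : ∀ y ∈ I.map (algebraMap A' B'), y ∈ Set.range φ := by
      intro y hy
      change y ∈ Submodule.span B' (algebraMap A' B' '' (I : Set A')) at hy
      rw [← Set.image_univ]
      induction hy using Submodule.span_induction with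
      | mem x hx =>
        obtain ⟨a, -, rfl⟩ := hx
        exact ⟨algebraMap A' C a, trivial, φ.commutes a⟩
      | zero => exact ⟨0, trivial, map_zero _⟩
      | add x y _ _ hx hy =>
        obtain ⟨u, -, rfl⟩ := hx
        obtain ⟨v, -, rfl⟩ := hy
        exact ⟨u + v, trivial, map_add _ _ _⟩
      | smul b x hxmem hx =>
        obtain ⟨u, -, hu⟩ := hx
        obtain ⟨c, hc⟩ := hdec b
        refine ⟨c * u, trivial, ?_⟩
        have h0 : (b - φ c) * x = 0 := by
          have hxI : x ∈ I.map (algebraMap A' B') := hxmem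
          have := Ideal.mul_mem_mul hc hxI
          rwa [← Ideal.map_mul, ← pow_two, hI, Ideal.map_bot, Ideal.mem_bot] at this
        rw [map_mul, hu, smul_eq_mul]
        linear_combination -h0
    intro b
    obtain ⟨c, hc⟩ := hdec b
    obtain ⟨d, hd⟩ := h1 _ hc
    exact ⟨c + d, by rw [map_add, hd, add_sub_cancel]⟩
  have hker : ∀ c, φ c = 0 → c ∈ I.map (algebraMap A' C) := fun c hc =>
    hπk c (by rw [← hφ, hc, map_zero])
  -- `φ ⊗ I` is injective
  have hexact : Function.Exact ((LinearMap.ker φ.toLinearMap).subtype.rTensor I)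
      (φ.toLinearMap.rTensor I) :=
    rTensor_exact I (LinearMap.exact_subtype_ker_map φ.toLinearMap) hsurj
  have hzero : ∀ w, (LinearMap.ker φ.toLinearMap).subtype.rTensor I w = 0 := by
    intro w
    induction w using TensorProduct.induction_on with
    | zero => simp
    | tmul k i =>
      rw [LinearMap.rTensor_tmul, Submodule.subtype_apply]
      have hk := hker k.1 k.2
      replace hk : k.1 ∈ I • (⊤ : Submodule A' C) := by rw [Ideal.smul_top_eq_map]; exact hk
      refine Submodule.smul_induction_on hk (fun a ha c _ => ?_) (fun x y hx hy => ?_)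
      · rw [smul_tmul, show a • i = 0 from Subtype.ext ?_, tmul_zero]
        have : a * (i : A') ∈ I ^ 2 := by rw [pow_two]; exact Ideal.mul_mem_mul ha i.2
        rwa [hI, Ideal.mem_bot] at this
      · rw [add_tmul, hx, hy, add_zero]
    | add x y hx hy => rw [map_add, hx, hy, add_zero]
  have hinjT : Function.Injective (φ.toLinearMap.rTensor I) := by
    rw [injective_iff_map_eq_zero]
    intro z hz
    obtain ⟨w, rfl⟩ := (hexact z).1 hz
    exact hzero w
  have hinjφ : Function.Injective φ := by
    rw [injective_iff_map_eq_zero]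
    intro c hc
    -- `c` is the image of some `z ∈ C ⊗ I`
    have hz : ∃ z : C ⊗[A'] I, (Submodule.subtype I).baseChange C z = c ⊗ₜ[A'] 1 := by
      have hk := hker c hc
      replace hk : c ∈ I • (⊤ : Submodule A' C) := by rw [Ideal.smul_top_eq_map]; exact hk
      refine Submodule.smul_induction_on hk (fun a ha x _ => ⟨x ⊗ₜ ⟨a, ha⟩, ?_⟩)
        (fun x y ⟨z, hz⟩ ⟨w, hw⟩ => ⟨z + w, by rw [map_add, hz, hw, add_tmul]⟩)
      rw [LinearMap.baseChange_tmul, Submodule.subtype_apply, smul_tmul, smul_eq_mul, mul_one]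
    obtain ⟨z, hz⟩ := hz
    have h2 : (Submodule.subtype I).baseChange B' (φ.toLinearMap.rTensor I z) =
        φ.toLinearMap.rTensor A' ((Submodule.subtype I).baseChange C z) := by
      simp only [LinearMap.baseChange_eq_ltensor]
      rw [← LinearMap.comp_apply, ← LinearMap.comp_apply, LinearMap.lTensor_comp_rTensor,
        LinearMap.rTensor_comp_lTensor]
    have h3 : φ.toLinearMap.rTensor I z = 0 := hinj (by
      rw [map_zero, h2, hz, LinearMap.rTensor_tmul, AlgHom.toLinearMap_apply, hc, zero_tmul])
    have h4 : z = 0 := hinjT (h3.trans (map_zero _).symm)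
    rw [h4, map_zero] at hz
    have h5 := congrArg (TensorProduct.rid A' C) hz
    rw [map_zero, TensorProduct.rid_tmul, one_smul] at h5
    exact h5.symm
  exact Algebra.Etale.of_equiv (AlgEquiv.ofBijective φ ⟨hinjφ, hsurj⟩)

end Groth.Agent.S9462

namespace Groth.Agent.S9462

open TensorProduct in
/-- Consider surjections A' → A and B' → B with square-zero kernels I and J and a commutative square A'
→ B', A → B. If A → B is étale and J = I ⊗_A B — that is, J = IB' and the multiplication map B'
⊗_{A'} I → B' is injective — then A' → B' is étale. -/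
theorem result (A' : Type u) [CommRing A'] (A : Type u) [CommRing A]
    [Algebra A' A] (hA : Function.Surjective (algebraMap A' A))
    (hI : RingHom.ker (algebraMap A' A) ^ 2 = ⊥)
    (B' : Type u) [CommRing B'] [Algebra A' B'] (B : Type u) [CommRing B] [Algebra B' B]
    [Algebra A B] [Algebra A' B] [IsScalarTower A' A B] [IsScalarTower A' B' B]
    (hB : Function.Surjective (algebraMap B' B)) (hJ : RingHom.ker (algebraMap B' B) ^ 2 = ⊥)
    [Algebra.Etale A B]
    (hJI : RingHom.ker (algebraMap B' B) = (RingHom.ker (algebraMap A' A)).map (algebraMap A' B'))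
    (hinj : Function.Injective ((RingHom.ker (algebraMap A' A)).subtype.baseChange B')) :
    Algebra.Etale A' B' := by
  exact aux A' A hA hI B' B hB hJ hJI hinj

end Groth.Agent.S9462
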