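import Groth.Statements.S9469
import Groth.Agent.Hensel.EtaleNbhd

set_option autoImplicit false
universe u
open Hensel

namespace Groth.Agent.S9469

/-- Let R be a ring and p a prime of R. Consider pairs (S, q) with S an étale R-algebra and q a prime of
S lying over p such that κ(p) → κ(q) is bijective; a morphism of pairs is an R-algebra map pulling
the second prime back to the first. Then any two parallel morphisms of pairs φ, ψ : (S₁, q₁) → (S₂,
q₂) are coequalized by a morphism of pairs (S₂, q₂) → (S₃, q₃). -/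
theorem result (R : Type u) [CommRing R]
    (p : Ideal R) [p.IsPrime] (S₁ : Type u) [CommRing S₁] [Algebra R S₁] [Algebra.Etale R S₁] (q₁ : Ideal S₁) [q₁.IsPrime] (hq₁ : p = q₁.comap (algebraMap R S₁))
    (hq₁κ : Function.Bijective (Ideal.ResidueField.map p q₁ (algebraMap R S₁) hq₁))
    (S₂ : Type u) [CommRing S₂] [Algebra R S₂] [Algebra.Etale R S₂] (q₂ : Ideal S₂) [q₂.IsPrime] (hq₂ : p = q₂.comap (algebraMap R S₂))
    (hq₂κ : Function.Bijective (Ideal.ResidueField.map p q₂ (algebraMap R S₂) hq₂))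
    (φ ψ : S₁ →ₐ[R] S₂) (hφ : q₂.comap φ.toRingHom = q₁) (hψ : q₂.comap ψ.toRingHom = q₁) :
    ∃ (S₃ : Type u) (_ : CommRing S₃) (_ : Algebra R S₃) (_ : Algebra.Etale R S₃) (q₃ : Ideal S₃)
      (_ : q₃.IsPrime) (hq₃ : p = q₃.comap (algebraMap R S₃)),
      Function.Bijective (Ideal.ResidueField.map p q₃ (algebraMap R S₃) hq₃) ∧
        ∃ χ : S₂ →ₐ[R] S₃, q₃.comap χ.toRingHom = q₂ ∧ χ.comp φ = χ.comp ψ := by
  open Groth.Agent.Hensel in
  obtain ⟨σ₁, hσ₁, hσ₁'⟩ := exists_algHom_of_bijective_map q₁ hq₁ hq₁κ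
  obtain ⟨σ₂, hσ₂, -⟩ := exists_algHom_of_bijective_map q₂ hq₂ hq₂κ
  have hpt : ∀ χ : S₁ →ₐ[R] S₂, q₂.comap χ.toRingHom = q₁ → σ₂.comp χ = σ₁ := by
    intro χ hχ
    have hk : RingHom.ker (σ₂.comp χ).toRingHom = q₁ := by
      rw [← hχ, ← hσ₂]; rfl
    obtain ⟨κ, hκ⟩ : ∃ κ : q₁.ResidueField →+* p.ResidueField,
        ∀ x, κ (algebraMap S₁ q₁.ResidueField x) = σ₂.comp χ x :=
      ⟨Ideal.ResidueField.lift q₁ (σ₂.comp χ).toRingHom hk.ge (fun x hx ↦ by
        rw [Submonoid.mem_comap, IsUnit.mem_submonoid_iff, isUnit_iff_ne_zero]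
        exact fun h ↦ hx (hk.le h)), fun x ↦ Ideal.ResidueField.lift_algebraMap _ _ _ _ _⟩
    have hid : κ.comp (Ideal.ResidueField.map p q₁ (algebraMap R S₁) hq₁) = RingHom.id _ := by
      refine Ideal.ResidueField.ringHom_ext (RingHom.ext fun r ↦ ?_)
      simp [hκ]
    refine AlgHom.ext fun x ↦ ?_
    rw [← hκ x, ← hσ₁' x]
    exact DFunLike.congr_fun hid (σ₁ x)
  obtain ⟨u, hu1, hu2⟩ := exists_away_coequalizing φ ψ
  have hu : σ₂ u = 1 := hu1 _ σ₂.toRingHom
    (congrArg AlgHom.toRingHom ((hpt φ hφ).trans (hpt ψ hψ).symm))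
  let σ₃ : Localization.Away u →ₐ[R] p.ResidueField :=
    IsLocalization.Away.liftAlgHom u (f := σ₂) (by rw [hu]; exact isUnit_one)
  obtain ⟨hq, hbij⟩ := bijective_map_ker σ₃
  have : Algebra.Etale S₂ (Localization.Away u) := Algebra.Etale.of_isLocalizationAway u
  have : Algebra.Etale R (Localization.Away u) := Algebra.Etale.comp R S₂ _
  refine ⟨Localization.Away u, inferInstance, inferInstance, inferInstance,
    RingHom.ker σ₃.toRingHom, RingHom.ker_isPrime _, hq, hbij,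
    IsScalarTower.toAlgHom R S₂ _, ?_, hu2⟩
  rw [← hσ₂]; ext x; simp [RingHom.mem_ker, σ₃, IsLocalization.Away.liftAlgHom]

end Groth.Agent.S9469
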