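import Groth.Statements.S9470
import Groth.Agent.Hensel.HenselAtPrime

set_option autoImplicit false
universe u
open Hensel

namespace Groth.Agent.S9470

/-- Let R be a ring, p a prime of R and R^h a henselization of the local ring R_p, regarded as an
R-algebra through R_p. For pairs (S, q) with S an étale R-algebra and q a prime of S over p such
that κ(p) → κ(q) is bijective: (a) there is exactly one R-algebra map f : S → R^h under which the
maximal ideal pulls back to q; (b) every element of R^h is f(s) for some such pair, map f and s ∈ S;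
(c) if such an f sends s to 0, then some R-algebra map S → S' to another such pair (S', q'), pulling
q' back to q, already sends s to 0. Together with filteredness of the category of pairs this
expresses that R^h is canonically the colimit of S over all pairs (S, q). (The published statement
also records the equal colimit of the local rings S_q.) -/
theorem result (R : Type u) [CommRing R]
    (p : Ideal R) [p.IsPrime] (Rh : Type u) [CommRing Rh] [IsLocalRing Rh]
    [Algebra (Localization.AtPrime p) Rh] [IsLocalHom (algebraMap (Localization.AtPrime p) Rh)]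
    [Hensel.IsHenselization (Localization.AtPrime p) Rh] [Algebra R Rh]
    [IsScalarTower R (Localization.AtPrime p) Rh] :
    (∀ (S : Type u) [CommRing S] [Algebra R S] [Algebra.Etale R S] (q : Ideal S) [q.IsPrime]
        (hq : p = q.comap (algebraMap R S)),
        Function.Bijective (Ideal.ResidueField.map p q (algebraMap R S) hq) →
          ∃! f : S →ₐ[R] Rh, (IsLocalRing.maximalIdeal Rh).comap f.toRingHom = q) ∧
    (∀ x : Rh, ∃ (S : Type u) (_ : CommRing S) (_ : Algebra R S) (_ : Algebra.Etale R S) (q : Ideal S)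
        (_ : q.IsPrime) (hq : p = q.comap (algebraMap R S)),
        Function.Bijective (Ideal.ResidueField.map p q (algebraMap R S) hq) ∧
          ∃ (f : S →ₐ[R] Rh) (s : S), (IsLocalRing.maximalIdeal Rh).comap f.toRingHom = q ∧ f s = x) ∧
    (∀ (S : Type u) [CommRing S] [Algebra R S] [Algebra.Etale R S] (q : Ideal S) [q.IsPrime]
        (hq : p = q.comap (algebraMap R S)),
        Function.Bijective (Ideal.ResidueField.map p q (algebraMap R S) hq) →
          ∀ (f : S →ₐ[R] Rh), (IsLocalRing.maximalIdeal Rh).comap f.toRingHom = q → ∀ s : S, f s = 0 →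
            ∃ (S' : Type u) (_ : CommRing S') (_ : Algebra R S') (_ : Algebra.Etale R S') (q' : Ideal S')
              (_ : q'.IsPrime) (hq' : p = q'.comap (algebraMap R S')),
              Function.Bijective (Ideal.ResidueField.map p q' (algebraMap R S') hq') ∧
                ∃ φ : S →ₐ[R] S', q'.comap φ.toRingHom = q ∧ φ s = 0) := by
  obtain ⟨e, he⟩ := Groth.Agent.Hensel.henselization_atPrime_colimit (p := p) Rh
  let mkf : ∀ (S : Type u) [CommRing S] [Algebra R S] [Algebra.Etale R S],
      (S →ₐ[R] p.ResidueField) → (S →ₐ[R] Rh) := fun S _ _ _ σ ↦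
    (e.toAlgHom.comp (Groth.Agent.Hensel.Hens.of (Groth.Agent.Hensel.Nbhd.mk' S σ))).comp
      (Groth.Agent.Hensel.Nbhd.equiv S σ).symm.toAlgHom
  have hmkf : ∀ (S : Type u) [CommRing S] [Algebra R S] [Algebra.Etale R S]
      (σ : S →ₐ[R] p.ResidueField),
      (IsLocalRing.maximalIdeal Rh).comap (mkf S σ).toRingHom = RingHom.ker σ.toRingHom := by
    intro S _ _ _ σ
    ext x
    rw [Ideal.mem_comap]
    refine (he _).trans ?_
    simp [Groth.Agent.Hensel.Hens.π_of, Groth.Agent.Hensel.Nbhd.pt_mk', RingHom.mem_ker]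
  have huniq : ∀ (S : Type u) [CommRing S] [Algebra R S] [Algebra.Etale R S] (q : Ideal S)
      [q.IsPrime] (hq : p = q.comap (algebraMap R S)),
      Function.Bijective (Ideal.ResidueField.map p q (algebraMap R S) hq) →
        ∀ (σ : S →ₐ[R] p.ResidueField), RingHom.ker σ.toRingHom = q →
          ∀ f : S →ₐ[R] Rh, (IsLocalRing.maximalIdeal Rh).comap f.toRingHom = q → f = mkf S σ := by
    intro S _ _ _ q _ hq hb σ hσ f hf
    let π' := (Groth.Agent.Hensel.Hens.π R p.ResidueField).comp e.symm.toAlgHom
    have hπ : ∀ y : Rh, π' y = 0 ↔ y ∈ IsLocalRing.maximalIdeal Rh := fun y ↦ by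
      conv_rhs => rw [← e.apply_symm_apply y]
      exact (he _).symm
    have hk : ∀ g : S →ₐ[R] Rh, (IsLocalRing.maximalIdeal Rh).comap g.toRingHom = q →
        π'.comp g = σ := fun g hg ↦ by
      refine Groth.Agent.Hensel.algHom_eq_of_ker_eq hb _ σ ?_ hσ
      ext x
      rw [← hg, RingHom.mem_ker, Ideal.mem_comap]
      exact hπ _
    refine Groth.Agent.Hensel.algHom_ext_of_unramified
      (IsLocalRing.jacobson_eq_maximalIdeal ⊥ bot_ne_top).ge fun s ↦ ?_
    rw [← hπ, map_sub, sub_eq_zero]
    have h1 := DFunLike.congr_fun (hk f hf) s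
    have h2 := DFunLike.congr_fun (hk (mkf S σ) ((hmkf S σ).trans hσ)) s
    exact h1.trans h2.symm
  refine ⟨fun S _ _ _ q _ hq hb ↦ ?_, fun x ↦ ?_, fun S _ _ _ q _ hq hb f hf s hs ↦ ?_⟩
  · obtain ⟨σ, hσ, -⟩ := Groth.Agent.Hensel.exists_algHom_of_bijective_map q hq hb
    exact ⟨mkf S σ, (hmkf S σ).trans hσ, fun f hf ↦ huniq S q hq hb σ hσ f hf⟩
  · obtain ⟨z, rfl⟩ := e.surjective x
    obtain ⟨X, s, rfl⟩ := Groth.Agent.Hensel.Hens.exists_rep z
    obtain ⟨hq, hb⟩ := Groth.Agent.Hensel.bijective_map_ker X.point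
    refine ⟨X.carrier, inferInstance, inferInstance, inferInstance, RingHom.ker X.point.toRingHom,
      RingHom.ker_isPrime _, hq, hb, e.toAlgHom.comp (Groth.Agent.Hensel.Hens.of X), s, ?_, rfl⟩
    ext y
    rw [Ideal.mem_comap]
    refine (he _).trans ?_
    simp [Groth.Agent.Hensel.Hens.π_of, RingHom.mem_ker]
  · obtain ⟨σ, hσ, -⟩ := Groth.Agent.Hensel.exists_algHom_of_bijective_map q hq hb
    rw [huniq S q hq hb σ hσ f hf] at hs
    simp only [mkf, AlgHom.comp_apply, AlgEquiv.coe_toAlgHom, EmbeddingLike.map_eq_zero_iff] at hs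
    rw [← map_zero (Groth.Agent.Hensel.Hens.of (Groth.Agent.Hensel.Nbhd.mk' S σ)),
      Groth.Agent.Hensel.Hens.of_eq_iff] at hs
    obtain ⟨Y, g, hg⟩ := hs
    obtain ⟨hq', hb'⟩ := Groth.Agent.Hensel.bijective_map_ker Y.point
    refine ⟨Y.carrier, inferInstance, inferInstance, inferInstance, RingHom.ker Y.point.toRingHom,
      RingHom.ker_isPrime _, hq', hb', g.1.comp (Groth.Agent.Hensel.Nbhd.equiv S σ).symm.toAlgHom,
      ?_, ?_⟩
    · rw [← hσ]
      ext y
      simp [RingHom.mem_ker, Ideal.mem_comap, Groth.Agent.Hensel.Nbhd.pt_hom,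
        Groth.Agent.Hensel.Nbhd.pt_mk']
    · change g.1 ((Groth.Agent.Hensel.Nbhd.equiv S σ).symm s) = 0
      rw [hg, map_zero]

end Groth.Agent.S9470
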