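import Groth.Statements.S9474
import Mathlib
-- import your own Groth.Agent.* helpers here

set_option autoImplicit false
universe u
open CAlg

open TensorProduct MvPolynomial

namespace Groth.Agent.S9474

theorem fu_of_gens (A T : Type u) [CommRing A] [CommRing T] [Algebra A T] {n : ℕ} (x : Fin n → T)
    (hx : Function.Surjective (MvPolynomial.aeval x : MvPolynomial (Fin n) A →ₐ[A] T))
    (g : Fin n → MvPolynomial (Fin n) A) (hg : ∀ i, MvPolynomial.aeval x (g i) = 0)
    (hd : ∀ i j, MvPolynomial.aeval x (pderiv j (g i)) = if i = j then 1 else 0) :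
    Algebra.FormallyUnramified A T := by
  classical
  constructor
  have hsum : ∀ p : MvPolynomial (Fin n) A, KaehlerDifferential.D A T (MvPolynomial.aeval x p) =
      ∑ j, MvPolynomial.aeval x (pderiv j p) • KaehlerDifferential.D A T (x j) := by
    intro p
    induction p using MvPolynomial.induction_on with
    | C a => rw [MvPolynomial.aeval_C, Derivation.map_algebraMap]; simp
    | add p q hp hq => simp only [map_add, hp, hq, add_smul, Finset.sum_add_distrib]
    | mul_X p i hp =>
      rw [map_mul, MvPolynomial.aeval_X, Derivation.leibniz, hp, Finset.smul_sum]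
      have e : ∀ j, MvPolynomial.aeval x (pderiv j (p * X i)) =
          x i * MvPolynomial.aeval x (pderiv j p) + (if i = j then MvPolynomial.aeval x p else 0) := by
        intro j
        rw [Derivation.leibniz, map_add]
        simp only [smul_eq_mul, map_mul, MvPolynomial.aeval_X, pderiv_X, Pi.single_apply]
        rcases eq_or_ne i j with h | h
        · subst h; simp [add_comm]
        · simp [h, Ne.symm h]
      simp only [e, add_smul, Finset.sum_add_distrib, ite_smul, zero_smul, Finset.sum_ite_eq, Finset.mem_univ, if_true, smul_smul]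
      rw [add_comm]
  have hX : ∀ i, KaehlerDifferential.D A T (x i) = 0 := by
    intro i
    have h0 := hsum (g i)
    rw [hg, map_zero] at h0
    simp only [hd, ite_smul, zero_smul, one_smul, Finset.sum_ite_eq, Finset.mem_univ, if_true] at h0
    exact h0.symm
  refine subsingleton_of_forall_eq 0 fun w => ?_
  have : w ∈ Submodule.span T (Set.range (KaehlerDifferential.D A T)) := by
    rw [KaehlerDifferential.span_range_derivation]; trivial
  refine (Submodule.mem_bot T).1 (Submodule.span_le.2 ?_ this)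
  rintro _ ⟨s, rfl⟩
  obtain ⟨p, rfl⟩ := hx s
  show KaehlerDifferential.D A T (MvPolynomial.aeval x p) ∈ (⊥ : Submodule T _)
  rw [Submodule.mem_bot, hsum]
  exact Finset.sum_eq_zero fun j _ => by rw [hX, smul_zero]

theorem main (R : Type u) [CommRing R] (S : Type u)
    [CommRing S] [Algebra R S] [Algebra.Unramified R S] :
    ∃ (R₀ : Type u) (_ : CommRing R₀) (_ : Algebra.FiniteType ℤ R₀) (S₀ : Type u) (_ : CommRing S₀)
      (_ : Algebra R₀ S₀) (_ : Algebra.Unramified R₀ S₀) (_ : Algebra R₀ R)
      (ψ : R ⊗[R₀] S₀ →ₐ[R] S), Function.Surjective ψ := by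
  classical
  haveI : Algebra.FiniteType R S := Algebra.Unramified.finiteType
  haveI : Algebra.FormallyUnramified R S := Algebra.Unramified.formallyUnramified
  obtain ⟨n, f, hf⟩ := Algebra.FiniteType.iff_quotient_mvPolynomial''.1 ‹Algebra.FiniteType R S›
  let P := MvPolynomial (Fin n) R
  letI : Algebra P S := f.toRingHom.toAlgebra
  haveI : IsScalarTower R P S := IsScalarTower.of_algebraMap_eq fun r => (f.commutes r).symm
  have hs : Function.Surjective (algebraMap P S) := hf
  let K := KaehlerDifferential.kerCotangentToTensor R P S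
  have hK : Function.Surjective K := fun w =>
    (KaehlerDifferential.exact_kerCotangentToTensor_mapBaseChange R P S hs w).1 (Subsingleton.elim _ _)
  have hg : ∀ i : Fin n, ∃ g : P, f g = 0 ∧ ∀ j, f (pderiv j g) = if i = j then 1 else 0 := by
    intro i
    obtain ⟨c, hc⟩ := hK ((1 : S) ⊗ₜ[P] KaehlerDifferential.D R P (X i))
    obtain ⟨⟨g, hg⟩, rfl⟩ := Ideal.toCotangent_surjective _ c
    rw [KaehlerDifferential.kerCotangentToTensor_toCotangent] at hc
    refine ⟨g, hg, fun j => ?_⟩
    let φ : S ⊗[P] Ω[P⁄R] →ₗ[S] S := LinearMap.liftBaseChange S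
      ((Algebra.linearMap P S).comp ((Finsupp.lapply j).comp (KaehlerDifferential.mvPolynomialBasis R (Fin n)).repr.toLinearMap))
    have h := congrArg φ hc
    simp only [φ, LinearMap.liftBaseChange_tmul, one_smul, LinearMap.comp_apply, Algebra.linearMap_apply,
      Finsupp.lapply_apply, LinearEquiv.coe_coe, KaehlerDifferential.mvPolynomialBasis_repr_apply] at h
    erw [KaehlerDifferential.mvPolynomialBasis_repr_apply, KaehlerDifferential.mvPolynomialBasis_repr_apply] at h
    rw [show f (pderiv j g) = algebraMap P S (pderiv j g) from rfl, h, pderiv_X]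
    show f ((Pi.single j (1 : P) : Fin n → P) i) = _
    rw [Pi.single_apply]
    split_ifs <;> simp_all
  choose g hg0 hgd using hg
  let cs : Finset R := Finset.univ.biUnion fun i => (g i).coeffs
  let R₀ := Algebra.adjoin ℤ (cs : Set R)
  haveI : Algebra.FiniteType ℤ R₀ := R₀.fg_iff_finiteType.1 (Subalgebra.fg_adjoin_finset cs)
  have hlift : ∀ i, ∃ g₀ : MvPolynomial (Fin n) R₀, MvPolynomial.map (algebraMap R₀ R) g₀ = g i := fun i => by
    refine mem_range_map_iff_coeffs_subset.2 fun c hc => ?_
    exact ⟨⟨c, Algebra.subset_adjoin (Finset.mem_coe.2 (Finset.mem_biUnion.2 ⟨i, Finset.mem_univ _, hc⟩))⟩, rfl⟩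
  choose g₀ hg₀ using hlift
  let e₀ : Fin n × Fin n → MvPolynomial (Fin n) R₀ := fun ij => pderiv ij.2 (g₀ ij.1) - (if ij.1 = ij.2 then 1 else 0)
  let I : Ideal (MvPolynomial (Fin n) R₀) := Ideal.span (Set.range g₀ ∪ Set.range e₀)
  haveI : Algebra.FormallyUnramified R₀ (MvPolynomial (Fin n) R₀ ⧸ I) := by
    have haev : (MvPolynomial.aeval fun i => Ideal.Quotient.mk I (X i) : MvPolynomial (Fin n) R₀ →ₐ[R₀] _) =
        Ideal.Quotient.mkₐ R₀ I := MvPolynomial.algHom_ext fun i => MvPolynomial.aeval_X _ i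
    refine fu_of_gens R₀ _ (fun i => Ideal.Quotient.mk I (X i)) (by rw [haev]; exact Ideal.Quotient.mk_surjective) g₀
      (fun i => ?_) (fun i j => ?_)
    · rw [haev]
      exact Ideal.Quotient.eq_zero_iff_mem.2 (Ideal.subset_span (Or.inl ⟨i, rfl⟩))
    · rw [haev]
      have h : Ideal.Quotient.mk I (e₀ (i, j)) = 0 := Ideal.Quotient.eq_zero_iff_mem.2 (Ideal.subset_span (Or.inr ⟨(i, j), rfl⟩))
      rw [map_sub, sub_eq_zero] at h
      rw [Ideal.Quotient.mkₐ_eq_mk, h]
      split_ifs <;> simp [*]
  haveI : Algebra.FiniteType R₀ (MvPolynomial (Fin n) R₀ ⧸ I) := Algebra.FiniteType.of_surjective (Ideal.Quotient.mkₐ R₀ I) Ideal.Quotient.mk_surjective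
  haveI : Algebra.Unramified R₀ (MvPolynomial (Fin n) R₀ ⧸ I) := ⟨inferInstance, inferInstance⟩
  let u : MvPolynomial (Fin n) R₀ →ₐ[R₀] S := MvPolynomial.aeval fun i => f (X i)
  have hu : ∀ p, u p = f (MvPolynomial.map (algebraMap R₀ R) p) := by
    intro p
    induction p using MvPolynomial.induction_on with
    | C a => simp [u, IsScalarTower.algebraMap_apply R₀ R S]
    | add p q hp hq => rw [map_add, map_add, map_add, hp, hq]
    | mul_X p i hp => rw [map_mul, map_mul, map_mul, hp, map_X]; simp [u]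
  have hI : ∀ z ∈ I, u z = 0 := by
    intro z hz
    refine (Ideal.span_le.2 ?_ : I ≤ RingHom.ker u) hz
    rintro _ (⟨i, rfl⟩ | ⟨⟨i, j⟩, rfl⟩)
    · show u (g₀ i) = 0
      rw [hu, hg₀, hg0]
    · show u (e₀ (i, j)) = 0
      simp only [e₀, map_sub, hu, ← pderiv_map, hg₀, hgd]
      split_ifs <;> simp [*]
  let φ : (MvPolynomial (Fin n) R₀ ⧸ I) →ₐ[R₀] S := Ideal.Quotient.liftₐ I u hI
  let ψ : R ⊗[R₀] (MvPolynomial (Fin n) R₀ ⧸ I) →ₐ[R] S := Algebra.TensorProduct.lift (Algebra.ofId R S) φ (fun _ _ => Commute.all _ _)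
  refine ⟨R₀, inferInstance, inferInstance, (MvPolynomial (Fin n) R₀ ⧸ I), inferInstance, inferInstance, inferInstance, inferInstance, ψ, fun s => ?_⟩
  obtain ⟨p, rfl⟩ := hf s
  induction p using MvPolynomial.induction_on with
  | C r => exact ⟨r ⊗ₜ 1, by simp [ψ]⟩
  | add p q hp hq => obtain ⟨a, ha⟩ := hp; obtain ⟨b, hb⟩ := hq; exact ⟨a + b, by rw [map_add, map_add, ha, hb]⟩
  | mul_X p i hp =>
    obtain ⟨a, ha⟩ := hp
    refine ⟨a * (1 ⊗ₜ Ideal.Quotient.mk I (X i)), ?_⟩
    rw [map_mul, map_mul, ha]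
    congr 1
    simp [ψ, φ, u]

end Groth.Agent.S9474

namespace Groth.Agent.S9474

open TensorProduct in
/-- If R → S is unramified (of finite type with vanishing module of differentials), then there are a
finite type ℤ-algebra R₀, an unramified R₀-algebra S₀, a ring map R₀ → R, and a surjective R-algebra
map from R ⊗_{R₀} S₀ onto S. -/
theorem result (R : Type u) [CommRing R] (S : Type u)
    [CommRing S] [Algebra R S] [Algebra.Unramified R S] :
    ∃ (R₀ : Type u) (_ : CommRing R₀) (_ : Algebra.FiniteType ℤ R₀) (S₀ : Type u) (_ : CommRing S₀)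
      (_ : Algebra R₀ S₀) (_ : Algebra.Unramified R₀ S₀) (_ : Algebra R₀ R)
      (ψ : R ⊗[R₀] S₀ →ₐ[R] S), Function.Surjective ψ := by
  exact Groth.Agent.S9474.main R S

end Groth.Agent.S9474
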