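import Groth.Agent.AlgSpc.Misc2
import Groth.Statements.S9500
-- import your own Groth.Agent.* helpers here

set_option autoImplicit false
set_option backward.isDefEq.respectTransparency false
set_option backward.isDefEq.respectTransparency.types false
universe u
open SchMor

namespace Groth.Agent.S9500

open AlgebraicGeometry in
open CategoryTheory Limits in
/-- Let (k_i)_{i ∈ ι} be a family of fields, X = ∐_i Spec(k_i) the disjoint union, and f : Y → X a
monomorphism of schemes. Then there are a subset J of ι and an isomorphism Y ≅ ∐_{j ∈ J} Spec(k_j)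
over X, where ∐_{j ∈ J} Spec(k_j) maps to X by the coproduct inclusions. -/
theorem result
    {ι : Type u} (k : ι → Type u) [∀ i, Field (k i)]
    {Y : Scheme.{u}} (f : Y ⟶ ∐ fun i => Spec (CommRingCat.of (k i))) [Mono f] :
    ∃ (J : Set ι) (e : Y ≅ ∐ fun j : J => Spec (CommRingCat.of (k j.1))),
      e.hom ≫ Sigma.desc (fun j : J => Sigma.ι (fun i => Spec (CommRingCat.of (k i))) j.1) = f := by
  classical
  let Zc := fun i => Spec (CommRingCat.of (k i))
  let J : Set ι := {i | ∃ y : Y, f y ∈ Set.range (Sigma.ι Zc i)}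
  let d : (∐ fun j : J => Zc j.1) ⟶ ∐ Zc := Sigma.desc fun j : J => Sigma.ι Zc j.1
  haveI : IsOpenImmersion d := isOpenImmersion_sigmaDesc _ _ fun a b hab => by
    have h := disjoint_opensRange_sigmaι Zc a.1 b.1 (fun h => hab (Subtype.ext h))
    simpa [Function.onFun_apply, disjoint_iff, TopologicalSpace.Opens.ext_iff] using h
  have hs : ∀ j : J, ∃ s : Zc j.1 ⟶ Y, s ≫ f = Sigma.ι Zc j.1 := fun j => by
    obtain ⟨y, z, hz⟩ := j.2
    obtain ⟨w, -, -⟩ := Scheme.Pullback.exists_preimage_pullback (f := f) (g := Sigma.ι Zc j.1) y z hz.symm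
    obtain ⟨t, ht⟩ := Groth.Agent.AlgSpc.exists_section_of_mono (pullback.snd f (Sigma.ι Zc j.1)) w
    exact ⟨t ≫ pullback.fst _ _, by rw [Category.assoc, pullback.condition, reassoc_of% ht]⟩
  choose s hs using hs
  let g : (∐ fun j : J => Zc j.1) ⟶ Y := Sigma.desc s
  have hg : g ≫ f = d := Limits.Sigma.hom_ext _ _ fun j => by simp [g, d, hs]
  have hsq : IsPullback (𝟙 (∐ fun j : J => Zc j.1)) g d f := by
    refine ⟨⟨by rw [Category.id_comp, hg]⟩, ⟨PullbackCone.IsLimit.mk _ (fun c => c.fst) (fun c => Category.comp_id _) (fun c => ?_) (fun c m h1 h2 => ?_)⟩⟩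
    · rw [← cancel_mono f, Category.assoc, hg, c.condition]
    · exact (Category.comp_id m).symm.trans h1
  haveI : IsOpenImmersion g := MorphismProperty.of_isPullback hsq inferInstance
  haveI : Surjective g := ⟨fun y => by
    obtain ⟨i, z, hz⟩ := (sigmaOpenCover Zc).exists_eq (f y)
    obtain ⟨j, w, hw⟩ : ∃ (j : J) (w : Zc j.1), Sigma.ι Zc j.1 w = f y := ⟨⟨i, y, z, hz⟩, z, hz⟩
    obtain ⟨p, hp, hp'⟩ := Scheme.exists_preimage_of_isPullback hsq (Sigma.ι (fun j : J => Zc j.1) j w) y (by
      rw [← hw, ← Scheme.Hom.comp_apply, Sigma.ι_desc])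
    exact ⟨p, hp'⟩⟩
  haveI : IsIso g := isIso_of_isOpenImmersion_of_opensRange_eq_top g (TopologicalSpace.Opens.ext g.surjective.range_eq)
  exact ⟨J, (asIso g).symm, by rw [Iso.symm_hom, asIso_inv, IsIso.inv_comp_eq]; exact hg.symm⟩

end Groth.Agent.S9500
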