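import Mathlib
import Groth.Statements.S9502
-- import your own Groth.Agent.* helpers here

set_option autoImplicit false
set_option backward.isDefEq.respectTransparency false
set_option backward.isDefEq.respectTransparency.types false
universe u
open SchMor

namespace Groth.Agent.S9502

open AlgebraicGeometry in
open CategoryTheory in
/-- Let f : X → Y be a morphism of schemes such that (1) the underlying continuous map of f is a
homeomorphism onto a closed subset of Y and (2) the map of sheaves of rings O_Y → f_*O_X is
surjective (locally surjective on sections). Then f is a closed immersion in the sense of locally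
ringed spaces: (1) and (2) hold and (3) the kernel of O_Y → f_*O_X is locally generated by sections,
i.e. around every point of Y there are sections of O_Y killed in f_*O_X whose germs generate the
kernel of the stalk map O_{Y,y} → (f_*O_X)_y at every nearby point y. (For a morphism of schemes (1)
and (2) alone already give surjective stalk maps; the content of this row is condition (3).) -/
theorem result
    {X Y : Scheme.{u}} (f : X ⟶ Y) (h1 : Topology.IsClosedEmbedding f)
    (h2 : TopCat.Presheaf.IsLocallySurjective f.c) :
    LRSImm.IsClosedImmersion f.toLRSHom := by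
  have hs : ∀ x, Function.Surjective (f.stalkMap x) := fun x => by
    have h3 := (TopCat.Presheaf.locally_surjective_iff_surjective_on_stalks f.c).1 h2 (f.base x)
    haveI := TopCat.Presheaf.stalkPushforward.stalkPushforward_iso_of_isInducing CommRingCat h1.isInducing X.presheaf x
    have h4 : Function.Surjective (X.presheaf.stalkPushforward CommRingCat f.base x) :=
      ((ConcreteCategory.isIso_iff_bijective _).1 inferInstance).2
    exact h4.comp h3
  haveI : AlgebraicGeometry.IsClosedImmersion f :=
    { toSurjectiveOnStalks := ⟨hs⟩, isClosedEmbedding := h1 }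
  refine ⟨h1, h2, fun y => ?_⟩
  obtain ⟨_, ⟨U, hU, rfl⟩, hyU, -⟩ := Y.isBasis_affineOpens.exists_subset_of_mem_open (Set.mem_univ y) isOpen_univ
  let U' : Y.affineOpens := ⟨U, hU⟩
  refine ⟨U, hyU, ↥(f.ker.ideal U'), fun j => j.1, fun j => ?_, fun y' hy' => ?_⟩
  · exact RingHom.mem_ker.1 ((Scheme.Hom.ker_apply f U').le j.2)
  refine le_antisymm (Ideal.span_le.2 ?_) fun a ha => ?_
  · rintro _ ⟨j, rfl⟩
    have := RingHom.mem_ker.1 ((Scheme.Hom.ker_apply f U').le j.2)
    refine RingHom.mem_ker.2 ?_
    refine (TopCat.Presheaf.stalkFunctor_map_germ_apply U y' hy' f.c j.1).trans ?_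
    erw [this]
    exact map_zero _
  · obtain ⟨W, hyW, t, ht⟩ := Y.presheaf.germ_exist a
    subst ht
    rw [RingHom.mem_ker] at ha
    erw [TopCat.Presheaf.stalkFunctor_map_germ_apply W y' hyW f.c t] at ha
    obtain ⟨W', hyW', i₁, i₂, e⟩ := TopCat.Presheaf.germ_eq _ y' hyW hyW _ 0 (ha.trans (map_zero _).symm)
    obtain ⟨g, hgW, hyg⟩ := hU.exists_basicOpen_le ⟨y', hyW'⟩ hy'
    have hle : Y.basicOpen g ≤ W := hgW.trans i₁.le
    let t' : Γ(Y, Y.basicOpen g) := Y.presheaf.map (homOfLE hle).op t
    have hker : t' ∈ f.ker.ideal (Y.affineBasicOpen (U := U') g) := by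
      rw [Scheme.Hom.ker_apply, RingHom.mem_ker]
      show (f.app (Y.basicOpen g)).hom (Y.presheaf.map (homOfLE hle).op t) = 0
      rw [← CommRingCat.comp_apply, f.naturality, CommRingCat.comp_apply]
      have e1 : X.presheaf.map ((TopologicalSpace.Opens.map f.base).map i₁).op ((f.app W).hom t) = 0 :=
        e.trans (map_zero _)
      have h6 := congrArg (X.presheaf.map ((TopologicalSpace.Opens.map f.base).map (homOfLE hgW)).op).hom e1
      rw [← CommRingCat.comp_apply, ← Functor.map_comp, map_zero] at h6
      exact h6
    rw [← f.ker.map_ideal_basicOpen U' g] at hker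
    have hg : Y.presheaf.germ W y' hyW t = Y.presheaf.germ (Y.basicOpen g) y' hyg t' :=
      (Y.presheaf.germ_res_apply (homOfLE hle) y' hyg t).symm
    rw [show (Y.presheaf.germ W y' hyW).hom t = (Y.presheaf.germ (Y.basicOpen g) y' hyg).hom t' from hg]
    have h5 := Ideal.mem_map_of_mem (Y.presheaf.germ (Y.basicOpen g) y' hyg).hom hker
    rw [Ideal.map_map] at h5
    refine (Ideal.map_le_iff_le_comap.2 fun s hs => ?_) h5
    refine Ideal.mem_comap.2 ?_
    refine Ideal.subset_span ⟨⟨s, hs⟩, ?_⟩
    exact (Y.presheaf.germ_res_apply (homOfLE (Y.basicOpen_le g)) y' hyg s).symm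

end Groth.Agent.S9502
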