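import Groth.Statements.S9506
import Groth.Agent.LRSImmLib.SchemeStr

set_option autoImplicit false
universe u
open LRSImm

namespace Groth.Agent.S9506

open AlgebraicGeometry in
open CategoryTheory Opposite in
/-- Let R be a commutative ring and i : Z → Spec R a closed immersion of locally ringed spaces (a
homeomorphism onto a closed subset such that O → i_*O_Z is surjective as a map of sheaves with
kernel locally generated by sections). Let I ⊆ R be the kernel of the composite R = Γ(Spec R, O) →
Γ(Z, O_Z). Then Z is identified with Spec(R/I) over Spec R: there is an isomorphism of locally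
ringed spaces Z ≅ Spec(R/I) whose composite with the morphism Spec(R/I) → Spec R induced by R → R/I
is i (in particular the ideal I with this property is unique). -/
theorem result
    (R : Type u) [CommRing R] (Z : LocallyRingedSpace.{u})
    (i : Z ⟶ (Spec (CommRingCat.of R)).toLocallyRingedSpace) (hi : LRSImm.IsClosedImmersion i)
    (I : Ideal R)
    (hI : I = RingHom.ker ((Scheme.ΓSpecIso (CommRingCat.of R)).inv ≫ i.c.app (op ⊤)).hom) :
    ∃ e : Z ≅ (Spec (CommRingCat.of (R ⧸ I))).toLocallyRingedSpace,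
      e.hom ≫ (Spec.map (CommRingCat.ofHom (Ideal.Quotient.mk I))).toLRSHom = i := by
  obtain ⟨e, he⟩ := Groth.Agent.LRSImmLib.exists_subscheme_iso hi
  let J := Groth.Agent.LRSImmLib.kerData i hi.2.2
  let j : Spec (CommRingCat.of (R ⧸ I)) ⟶ Spec (CommRingCat.of R) :=
    Spec.map (CommRingCat.ofHom (Ideal.Quotient.mk I))
  haveI : IsClosedImmersion j := IsClosedImmersion.spec_of_surjective _ Ideal.Quotient.mk_surjective
  have hker : j.ker = J.subschemeι.ker := by
    rw [Scheme.IdealSheafData.ker_subschemeι]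
    refine Scheme.IdealSheafData.ext_of_isAffine ?_
    rw [Scheme.Hom.ker_apply]
    ext x
    show j.app ⊤ x = 0 ↔ i.c.app (op ⊤) x = 0
    obtain ⟨r, rfl⟩ : ∃ r, (Scheme.ΓSpecIso (CommRingCat.of R)).inv r = x :=
      ⟨(Scheme.ΓSpecIso (CommRingCat.of R)).hom x,
        by rw [← ConcreteCategory.comp_apply, Iso.hom_inv_id, ConcreteCategory.id_apply]⟩
    have h1 : j.app ⊤ ((Scheme.ΓSpecIso (CommRingCat.of R)).inv r) =
        (Scheme.ΓSpecIso (CommRingCat.of (R ⧸ I))).inv (Ideal.Quotient.mk I r) :=
      (congrArg (fun φ => φ r)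
        (Scheme.ΓSpecIso_inv_naturality (CommRingCat.ofHom (Ideal.Quotient.mk I)))).symm
    have hinj : Function.Injective (Scheme.ΓSpecIso (CommRingCat.of (R ⧸ I))).inv :=
      (ConcreteCategory.bijective_of_isIso _).1
    have h2 : (Ideal.Quotient.mk I r : R ⧸ I) = 0 ↔
        i.c.app (op ⊤) ((Scheme.ΓSpecIso (CommRingCat.of R)).inv r) = 0 := by
      rw [Ideal.Quotient.eq_zero_iff_mem, hI, RingHom.mem_ker]; rfl
    refine Iff.trans ⟨fun h => ?_, fun h => ?_⟩ h2
    · exact hinj ((h1.symm.trans h).trans (map_zero _).symm)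
    · exact h1.trans ((congrArg _ h).trans (map_zero _))
  let k := IsClosedImmersion.lift j J.subschemeι hker.le
  haveI : IsIso k := IsClosedImmersion.isIso_lift j J.subschemeι hker
  refine ⟨e.symm ≪≫ Scheme.forgetToLocallyRingedSpace.mapIso (asIso k), ?_⟩
  have hk : k ≫ j = J.subschemeι := IsClosedImmersion.lift_fac ..
  refine (Category.assoc _ _ _).trans ?_
  show e.inv ≫ k.toLRSHom ≫ j.toLRSHom = i
  rw [Iso.inv_comp_eq]
  refine Eq.trans ?_ he.symm
  rw [← hk]
  rfl

end Groth.Agent.S9506
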