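import Groth.Statements.S9508
import Mathlib


set_option autoImplicit false
universe u
open SchMor

namespace Groth.Agent.S9508

open AlgebraicGeometry in
open CategoryTheory in
/-- (1) ⇔ (2): A morphism of schemes f : X → S is quasi-separated if and only if, whenever two affine
opens U and V of X both lie in the preimage f⁻¹(W) of one affine open W of S, their intersection U ∩
V is quasi-compact (equivalently, is covered by finitely many affine opens). -/
theorem result
    {X S : Scheme.{u}} (f : X ⟶ S) :
    QuasiSeparated f ↔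
      ∀ (U V : X.affineOpens) (W : S.affineOpens),
        (U : X.Opens) ≤ f ⁻¹ᵁ (W : S.Opens) → (V : X.Opens) ≤ f ⁻¹ᵁ (W : S.Opens) →
          IsCompact ((U : Set X) ∩ (V : Set X)) := by
  constructor
  · intro hf U V W hU hV
    have h := f.isQuasiSeparated_preimage W.2.isQuasiSeparated
    exact h _ _ hU U.1.2 U.2.isCompact hV V.1.2 V.2.isCompact
  · intro H
    apply (HasAffineProperty.iff_of_iSup_eq_top (P := @QuasiSeparated) (fun W : S.affineOpens => W)
      (iSup_affineOpens_eq_top S)).mpr
    intro W
    show QuasiSeparatedSpace (f ⁻¹ᵁ (W : S.Opens)).toScheme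
    rw [quasiSeparatedSpace_iff_forall_affineOpens]
    intro U V
    let j := (f ⁻¹ᵁ (W : S.Opens)).ι
    rw [j.isOpenEmbedding.isInducing.isCompact_iff, Set.image_inter j.isOpenEmbedding.injective]
    refine H ⟨j ''ᵁ U.1, U.2.image_of_isOpenImmersion j⟩ ⟨j ''ᵁ V.1, V.2.image_of_isOpenImmersion j⟩ W ?_ ?_
    all_goals exact Scheme.Opens.ι_image_le _ _

end Groth.Agent.S9508
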