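import Groth.Statements.S9509
import Mathlib


set_option autoImplicit false
universe u
open SchMor

namespace Groth.Agent.S9509

open AlgebraicGeometry in
open CategoryTheory in
/-- (3) ⇒ (1): Let f : X → S be a morphism of schemes. Suppose S is covered by affine opens W_i, each
preimage f⁻¹(W_i) is covered by affine opens V_{i,j}, and any two V_{i,j}, V_{i,j'} with the same
index i meet in a quasi-compact open (one covered by finitely many affine opens). Then f is
quasi-separated. -/
theorem result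
    {X S : Scheme.{u}} (f : X ⟶ S) {ι : Type u} (W : ι → S.affineOpens)
    (hW : ⨆ i, (W i : S.Opens) = ⊤) {κ : ι → Type u} (V : ∀ i, κ i → X.affineOpens)
    (hV : ∀ i, ⨆ j, (V i j : X.Opens) = f ⁻¹ᵁ (W i : S.Opens))
    (hVV : ∀ i (j j' : κ i), IsCompact ((V i j : Set X) ∩ (V i j' : Set X))) :
    QuasiSeparated f := by
  apply (HasAffineProperty.iff_of_iSup_eq_top (P := @QuasiSeparated) W hW).mpr
  intro i
  show QuasiSeparatedSpace (f ⁻¹ᵁ (W i : S.Opens)).toScheme
  let j := (f ⁻¹ᵁ (W i : S.Opens)).ι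
  have hle : ∀ a, (V i a : X.Opens) ≤ f ⁻¹ᵁ (W i : S.Opens) := fun a => by
    rw [← hV i]; exact le_iSup (fun j => (V i j : X.Opens)) a
  apply Scheme.quasiSeparatedSpace_of_isOpenCover (fun a => j ⁻¹ᵁ (V i a : X.Opens))
  · rw [TopologicalSpace.IsOpenCover, eq_top_iff]
    rintro ⟨x, hx⟩ -
    rw [← hV i] at hx
    obtain ⟨a, ha⟩ := TopologicalSpace.Opens.mem_iSup.mp hx
    exact TopologicalSpace.Opens.mem_iSup.mpr ⟨a, ha⟩
  · intro a
    rw [← Scheme.Hom.isAffineOpen_iff_of_isOpenImmersion j, Scheme.Hom.image_preimage_eq_opensRange_inf,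
      Scheme.Opens.opensRange_ι, inf_eq_right.mpr (hle a)]
    exact (V i a).2
  · intro a b
    rw [j.isOpenEmbedding.isInducing.isCompact_iff, Set.image_inter j.isOpenEmbedding.injective]
    have e : ∀ a, j '' (j ⁻¹ᵁ (V i a : X.Opens) : Set _) = (V i a : Set X) := fun a => by
      show j '' (j ⁻¹' (V i a : Set X)) = _
      rw [Set.image_preimage_eq_inter_range, Set.inter_eq_left, Scheme.Opens.range_ι]
      exact hle a
    rw [e, e]
    exact hVV i a b

end Groth.Agent.S9509
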