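import Groth.Statements.S9511
import Mathlib

set_option autoImplicit false
universe u
open LRSImm

namespace Groth.Agent.S9511

open AlgebraicGeometry in
open CategoryTheory TopologicalSpace in
/-- Let X be a locally ringed space and U, V ⊆ X open with X = U ⊔ V (they cover X and are disjoint),
such that the open subspaces X|_U and X|_V are affine schemes. Then X is an affine scheme: the
canonical morphism X → Spec Γ(X, O_X) is an isomorphism of locally ringed spaces. -/
theorem result
    (X : LocallyRingedSpace.{u}) (U V : Opens X.toTopCat) (hUV : IsCompl U V)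
    (A B : CommRingCat.{u})
    (eU : X.restrict U.isOpenEmbedding ≅ (Spec A).toLocallyRingedSpace)
    (eV : X.restrict V.isOpenEmbedding ≅ (Spec B).toLocallyRingedSpace) :
    IsIso X.toΓSpec := by
  have hU : ∀ x : X.toTopCat, x ∉ U → x ∈ V := by
    intro x hx
    have : x ∈ U ⊔ V := by rw [hUV.sup_eq_top]; trivial
    rcases this with h | h
    exacts [(hx h).elim, h]
  let S : Scheme.{u} :=
    { toLocallyRingedSpace := X
      local_affine := fun x => by
        by_cases hx : x ∈ U
        · exact ⟨⟨U, hx⟩, A, ⟨eU⟩⟩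
        · exact ⟨⟨V, hU x hx⟩, B, ⟨eV⟩⟩ }
  let U' : S.Opens := U
  let V' : S.Opens := V
  haveI : IsAffine U'.toScheme :=
    IsAffine.of_isIso (Scheme.fullyFaithfulForgetToLocallyRingedSpace.preimageIso
      (X := U'.toScheme) (Y := Spec A) eU).hom
  haveI : IsAffine V'.toScheme :=
    IsAffine.of_isIso (Scheme.fullyFaithfulForgetToLocallyRingedSpace.preimageIso
      (X := V'.toScheme) (Y := Spec B) eV).hom
  have hU' : IsAffineOpen U' := ‹IsAffine U'.toScheme›
  have hV' : IsAffineOpen V' := ‹IsAffine V'.toScheme›
  have htop : U' ⊔ V' = ⊤ := hUV.sup_eq_top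
  have haff : IsAffineOpen (⊤ : S.Opens) := htop ▸ hU'.sup_of_disjoint hV' hUV.disjoint
  haveI : IsAffine (⊤ : S.Opens).toScheme := haff
  haveI : IsAffine S := IsAffine.of_isIso S.topIso.inv
  exact inferInstanceAs (IsIso (Scheme.forgetToLocallyRingedSpace.map S.toSpecΓ))

end Groth.Agent.S9511
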