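import Groth.Statements.S9532
import Groth.Agent.RlimMilnor.Canonical
-- import your own Groth.Agent.* helpers here

set_option autoImplicit false
universe u
open CategoryTheory CategoryTheory.Limits AlgebraicGeometry Opposite
open Algz

namespace Groth.Agent.S9532

/-- Let A be a Noetherian ring, I ⊆ 𝔞 ideals, U = Spec A ∖ V(𝔞), and let (F_n) belong to Coh(U, I O_U).
Suppose (F_n) admits a canonical extension to Spec A; then the inverse system of A-modules n ↦
H^0(U, F_n) satisfies the Mittag-Leffler condition. -/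
theorem result (A : Type u) [CommRing A] [IsNoetherianRing A] (I 𝔞 : Ideal A) (hI𝔞 : I ≤ 𝔞)
    (G : ℕᵒᵖ ⥤ (↑(LocCoh.puncturedOpen A 𝔞) : Scheme.{u}).Modules) (hG : Formal.IsCohFormal I G)
    (h : Algz.CanonicallyExtends A I (LocCoh.puncturedOpen A 𝔞) G) :
    ARSys.IsML (Algz.sectMod A (LocCoh.puncturedOpen A 𝔞) G) := by
  letI : (Spec (CommRingCat.of A)).Over (Spec (CommRingCat.of A)) := ⟨𝟙 _⟩
  have key : ∀ {P Q N : ModuleCat.{u} A} (f : P ⟶ N) (g : Q ⟶ N),
      LinearMap.range f.hom ≤ LinearMap.range g.hom → imageSubobject f ≤ imageSubobject g := by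
    intro P Q N f g h
    have h0 : f ≫ cokernel.π g = 0 := by
      ext x
      obtain ⟨y, hy⟩ := h ⟨x, rfl⟩
      show cokernel.π g (f x) = 0
      rw [show f x = g y from hy.symm, ← ConcreteCategory.comp_apply, cokernel.condition]
      rfl
    have hk : cokernel.π g ≫ cokernel.desc g (cokernel.π (imageSubobject g).arrow) (by
        have h := factorThruImageSubobject g ≫= cokernel.condition (imageSubobject g).arrow
        rwa [comp_zero, ← Category.assoc, imageSubobject_arrow_comp] at h) =
        cokernel.π (imageSubobject g).arrow := cokernel.π_desc _ _ _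
    refine imageSubobject_le _ (Abelian.monoLift (imageSubobject g).arrow f ?_) (Abelian.monoLift_comp _ _ _)
    rw [← hk, ← Category.assoc, h0, zero_comp]
  intro n
  obtain ⟨r, hr, H⟩ := Groth.Agent.RlimMilnor.CohSys.exists_stable_image_of_canonicallyExtends h n
  refine ⟨r, fun s hs => ?_⟩
  have e : ∀ t, r ≤ t → LinearMap.range (ARSys.shiftMap (Algz.sectMod A (LocCoh.puncturedOpen A 𝔞) G) t n).hom =
      LinearMap.range ((Algz.sectMod A (LocCoh.puncturedOpen A 𝔞) G).map (homOfLE hr).op).hom :=
    fun t ht => H (n + t) (ht.trans (Nat.le_add_left t n))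
  exact le_antisymm (key _ _ ((e s hs).trans (e r le_rfl).symm).le) (key _ _ ((e r le_rfl).trans (e s hs).symm).le)

end Groth.Agent.S9532
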