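import Groth.Statements.S9560
import Groth.Agent.Unram.Descent
import Mathlib.RingTheory.Smooth.Flat
import Mathlib.RingTheory.Etale.Locus

set_option autoImplicit false
universe u
open EtLocal

namespace Groth.Agent.S9560

/-- Suppose A is a Noetherian ring and B is a finite-type A-algebra, and consider a prime q of B lying
over the prime p of A, where B_q carries its A_p-algebra structure. Then B is étale at q over A (the
local ring B_q is formally étale over A) if and only if the local homomorphism A_p → B_q is étale,
which means three things: B_q is A_p-flat, the ideal p B_q equals the maximal ideal of B_q, and the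
residue field of q is a finite separable extension of the residue field of p (that B_q is
essentially of finite type over A_p holds automatically). -/
theorem result (A B : Type u) [CommRing A] [CommRing B]
    [Algebra A B] [IsNoetherianRing A] [Algebra.FiniteType A B]
    (p : Ideal A) [p.IsPrime] (q : Ideal B) [q.IsPrime] [q.LiesOver p]
    [Algebra (Localization.AtPrime p) (Localization.AtPrime q)]
    [Localization.AtPrime.IsLiesOverAlgebra p q] :
    Algebra.IsEtaleAt A q ↔
      Module.Flat (Localization.AtPrime p) (Localization.AtPrime q) ∧
        p.map (algebraMap A (Localization.AtPrime q)) = IsLocalRing.maximalIdeal (Localization.AtPrime q) ∧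
        Module.Finite p.ResidueField q.ResidueField ∧
        Algebra.IsSeparable p.ResidueField q.ResidueField := by
  haveI : Algebra.FinitePresentation A B := Algebra.FinitePresentation.of_finiteType.1 inferInstance
  haveI : IsScalarTower A (Localization.AtPrime p) (Localization.AtPrime q) := inferInstance
  constructor
  · intro h
    haveI := h
    haveI : Algebra.IsUnramifiedAt A q := inferInstanceAs (Algebra.FormallyUnramified A (Localization.AtPrime q))
    obtain ⟨f, hf, hst⟩ := Algebra.IsEtaleAt.exists_isStandardEtale (R := A) q
    haveI : Module.Flat A (Localization.Away f) := inferInstance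
    let φ : Localization.Away f →+* Localization.AtPrime q :=
      IsLocalization.Away.lift f (g := algebraMap B (Localization.AtPrime q))
        (IsLocalization.map_units (Localization.AtPrime q) (⟨f, hf⟩ : q.primeCompl))
    letI := φ.toAlgebra
    haveI : IsScalarTower B (Localization.Away f) (Localization.AtPrime q) :=
      IsScalarTower.of_algebraMap_eq fun x => (IsLocalization.Away.lift_eq f _ x).symm
    haveI : IsScalarTower A (Localization.Away f) (Localization.AtPrime q) :=
      IsScalarTower.to₁₃₄ A B (Localization.Away f) (Localization.AtPrime q)
    haveI : IsLocalization (Algebra.algebraMapSubmonoid (Localization.Away f) q.primeCompl) (Localization.AtPrime q) :=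
      IsLocalization.isLocalization_of_submonoid_le (Localization.Away f) (Localization.AtPrime q)
        (Submonoid.powers f) q.primeCompl (Submonoid.powers_le.2 hf)
    haveI : Module.Flat (Localization.Away f) (Localization.AtPrime q) :=
      IsLocalization.flat _ (Algebra.algebraMapSubmonoid (Localization.Away f) q.primeCompl)
    haveI : Module.Flat A (Localization.AtPrime q) := Module.Flat.trans A (Localization.Away f) _
    have hu := (Algebra.isUnramifiedAt_iff_map_eq A p q).1 inferInstance
    exact ⟨(Module.flat_iff_of_isLocalization (Localization.AtPrime p) p.primeCompl _).2 inferInstance,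
      hu.2, inferInstance, hu.1⟩
  · rintro ⟨hflat, hmap, -, hsep⟩
    haveI := hflat
    haveI : Algebra.IsUnramifiedAt A q := (Algebra.isUnramifiedAt_iff_map_eq A p q).2 ⟨hsep, hmap⟩
    haveI : Module.Flat A (Localization.AtPrime q) := Module.Flat.trans A (Localization.AtPrime p) _
    exact Groth.Agent.Unram.isEtaleAt_of_flat_of_isUnramifiedAt q

end Groth.Agent.S9560
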