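import Groth.Statements.S9564
import Groth.Agent.Unram.Descent
import Mathlib.RingTheory.Unramified.LocalStructure
import Mathlib.RingTheory.Localization.LocalizationLocalization

set_option autoImplicit false
universe u
open EtLocal

namespace Groth.Agent.S9564

/-- Let A → B be an unramified homomorphism of Noetherian local rings, i.e. a local homomorphism with B
essentially of finite type over A, m_A B = m_B, and residue field of B finite separable over that of
A. Then there are a standard étale A-algebra B' = A[t]_g/(f) (f monic and f' invertible in B'), a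
prime 𝔮 of B' and an ideal I of the localization of B' at 𝔮 such that B is isomorphic as an
A-algebra to the quotient of that localization by I (existence of an isomorphism). -/
theorem result (A B : Type u) [CommRing A] [CommRing B]
    [IsLocalRing A] [IsLocalRing B] [IsNoetherianRing A] [IsNoetherianRing B] [Algebra A B]
    [IsLocalHom (algebraMap A B)] [Algebra.EssFiniteType A B]
    (hm : (IsLocalRing.maximalIdeal A).map (algebraMap A B) = IsLocalRing.maximalIdeal B)
    [Module.Finite (IsLocalRing.ResidueField A) (IsLocalRing.ResidueField B)]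
    [Algebra.IsSeparable (IsLocalRing.ResidueField A) (IsLocalRing.ResidueField B)] :
    ∃ (P : StandardEtalePair A) (𝔮 : Ideal P.Ring) (_ : 𝔮.IsPrime) (I : Ideal (Localization.AtPrime 𝔮)),
      Nonempty (B ≃ₐ[A] (Localization.AtPrime 𝔮 ⧸ I)) := by
  haveI : Algebra.FormallyUnramified A B := Algebra.FormallyUnramified.iff_map_maximalIdeal_eq.2 ⟨inferInstance, hm⟩
  let C := Algebra.EssFiniteType.subalgebra A B
  let M := Algebra.EssFiniteType.submonoid A B
  haveI : Algebra.FinitePresentation A C := Algebra.FinitePresentation.of_finiteType.1 inferInstance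
  let q : Ideal C := (IsLocalRing.maximalIdeal B).comap (algebraMap C B)
  haveI : IsLocalization.AtPrime B (IsLocalRing.maximalIdeal B) :=
    IsLocalization.self fun x hx => not_not.1 hx
  haveI hBq : IsLocalization.AtPrime B q :=
    IsLocalization.isLocalization_isLocalization_atPrime_isLocalization M B (IsLocalRing.maximalIdeal B)
  let e : Localization.AtPrime q ≃ₐ[A] B := (IsLocalization.algEquiv q.primeCompl (Localization.AtPrime q) B).restrictScalars A
  haveI : Algebra.IsUnramifiedAt A q := Algebra.FormallyUnramified.of_equiv e.symm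
  obtain ⟨f, hf, P, φ, hφ⟩ := Algebra.IsUnramifiedAt.exists_hasStandardEtaleSurjectionOn (R := A) q
  let χ : Localization.Away f →+* B := IsLocalization.Away.lift f (g := algebraMap C B)
    (IsLocalization.map_units B (⟨f, hf⟩ : q.primeCompl))
  letI := χ.toAlgebra
  haveI : IsScalarTower C (Localization.Away f) B :=
    IsScalarTower.of_algebraMap_eq fun x => (IsLocalization.Away.lift_eq f _ x).symm
  haveI : IsScalarTower A (Localization.Away f) B := IsScalarTower.to₁₃₄ A C (Localization.Away f) B
  haveI hloc : IsLocalization (Algebra.algebraMapSubmonoid (Localization.Away f) q.primeCompl) B :=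
    IsLocalization.isLocalization_of_submonoid_le (Localization.Away f) B
      (Submonoid.powers f) q.primeCompl (Submonoid.powers_le.2 hf)
  let ρ : P.Ring →ₐ[A] B := (IsScalarTower.toAlgHom A (Localization.Away f) B).comp φ
  let 𝔮 : Ideal P.Ring := (IsLocalRing.maximalIdeal B).comap ρ.toRingHom
  have hu : ∀ y : 𝔮.primeCompl, IsUnit (ρ y) := fun y => not_not.1 y.2
  let ψ : Localization.AtPrime 𝔮 →ₐ[A] B := IsLocalization.liftAlgHom (f := ρ) hu
  have hψ : ∀ r, ψ (algebraMap P.Ring _ r) = ρ r := fun r => IsLocalization.lift_eq _ _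
  have hsurj : Function.Surjective ψ := by
    intro b
    obtain ⟨c, ⟨_, m, hm', rfl⟩, rfl⟩ := IsLocalization.exists_mk'_eq (Algebra.algebraMapSubmonoid (Localization.Away f) q.primeCompl) b
    obtain ⟨r, rfl⟩ := hφ c
    obtain ⟨s, hs⟩ := hφ (algebraMap C (Localization.Away f) m)
    have hsu : IsUnit (ρ s) := by
      show IsUnit (algebraMap (Localization.Away f) B (φ s))
      rw [hs]
      exact IsLocalization.map_units B (⟨_, m, hm', rfl⟩ : Algebra.algebraMapSubmonoid (Localization.Away f) q.primeCompl)
    have hs𝔮 : s ∈ 𝔮.primeCompl := fun h => h hsu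
    refine ⟨IsLocalization.mk' _ r (⟨s, hs𝔮⟩ : 𝔮.primeCompl), ?_⟩
    rw [IsLocalization.eq_mk'_iff_mul_eq]
    have h1 := congrArg ψ (IsLocalization.mk'_spec (Localization.AtPrime 𝔮) r (⟨s, hs𝔮⟩ : 𝔮.primeCompl))
    rw [map_mul, hψ, hψ] at h1
    show _ * algebraMap (Localization.Away f) B (algebraMap C _ m) = _
    rw [← hs]
    exact h1
  exact ⟨P, 𝔮, inferInstance, RingHom.ker ψ, ⟨(Ideal.quotientKerAlgEquivOfSurjective hsurj).symm⟩⟩

end Groth.Agent.S9564
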