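import Groth.Statements.S9567
import Mathlib.AlgebraicGeometry.Morphisms.Etale
import Mathlib.RingTheory.Etale.StandardEtale
import Mathlib.RingTheory.Unramified.LocalStructure

set_option autoImplicit false
universe u
open EtLocal

namespace Groth.Agent.S9567

open AlgebraicGeometry CategoryTheory in
/-- Let φ : X ⟶ Y be any morphism of schemes, x a point of X and V an affine open neighbourhood of φ(x),
with ring R = Γ(Y, V). If φ is étale on some open neighbourhood of x, then there are an affine open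
neighbourhood U of x with φ(U) ⊆ V, a monic polynomial p over R and an open immersion j of U into
Spec of (R[t]/(p))[1/p′] (the localization of R[t]/(p) away from the image of the derivative of p)
such that j followed by the projection to Spec R is the morphism U → Spec R induced by φ. -/
theorem result {X Y : Scheme.{u}} (φ : X ⟶ Y) (x : X)
    (V : Y.Opens) (hV : IsAffineOpen V) (hxV : φ.base x ∈ V)
    (hφ : ∃ W : X.Opens, x ∈ W ∧ Etale (W.ι ≫ φ)) :
    ∃ (U : X.Opens) (hU : IsAffineOpen U) (_ : x ∈ U) (e : U ≤ φ ⁻¹ᵁ V)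
      (p : Polynomial Γ(Y, V)) (_ : p.Monic)
      (j : U.toScheme ⟶ Spec (CommRingCat.of (Localization.Away (AdjoinRoot.mk p (Polynomial.derivative p))))),
      IsOpenImmersion j ∧
        j ≫ Spec.map (CommRingCat.ofHom
            (algebraMap Γ(Y, V) (Localization.Away (AdjoinRoot.mk p (Polynomial.derivative p))))) =
          hU.isoSpec.hom ≫ Spec.map (φ.appLE V U e) := by
  obtain ⟨W, hxW, hW⟩ := hφ
  obtain ⟨U, hU, hxU, hUle⟩ := exists_isAffineOpen_mem_and_subset (U := W ⊓ φ ⁻¹ᵁ V) (x := x) ⟨hxW, hxV⟩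
  have hUW : U ≤ W := fun y hy => (hUle hy).1
  have hUV : U ≤ φ ⁻¹ᵁ V := fun y hy => (hUle hy).2
  haveI : Etale (W.ι ≫ φ) := hW
  haveI : Etale (U.ι ≫ φ) := by
    rw [← X.homOfLE_ι hUW, CategoryTheory.Category.assoc]
    infer_instance
  have het : (φ.appLE V U hUV).hom.Etale := by
    rw [← HasRingHomProperty.Spec_iff (P := @Etale)]
    have he : Etale (Spec.map (φ.appLE V U hUV) ≫ hV.fromSpec) := by
      rw [hV.SpecMap_appLE_fromSpec φ hU hUV]
      rw [← hU.isoSpec_inv_ι, CategoryTheory.Category.assoc]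
      infer_instance
    exact Etale.of_comp _ hV.fromSpec
  letI := (φ.appLE V U hUV).hom.toAlgebra
  haveI : Algebra.Etale Γ(Y, V) Γ(X, U) := het
  obtain ⟨f, hf, hst⟩ := Algebra.IsEtaleAt.exists_isStandardEtale (R := Γ(Y, V)) (hU.primeIdealOf ⟨x, hxU⟩).asIdeal
  haveI := hst
  let U' : X.Opens := X.basicOpen f
  have hU' : IsAffineOpen U' := hU.basicOpen f
  have hxU' : x ∈ U' := by
    have h0 : ¬ f ∈ (hU.primeIdealOf ⟨x, hxU⟩).asIdeal := hf
    have h1 : hU.primeIdealOf ⟨x, hxU⟩ ∈ hU.fromSpec ⁻¹ᵁ X.basicOpen f := by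
      rw [hU.fromSpec_preimage_basicOpen]; exact h0
    have h2 : hU.fromSpec (hU.primeIdealOf ⟨x, hxU⟩) ∈ X.basicOpen f := h1
    rwa [hU.fromSpec_primeIdealOf] at h2
  have e : U' ≤ φ ⁻¹ᵁ V := (X.basicOpen_le f).trans hUV
  let Q := Algebra.IsStandardEtale.nonempty_standardEtalePresentation (R := Γ(Y, V)) (S := Localization.Away f) |>.some
  let P : StandardEtalePair Γ(Y, V) := Q.P
  let Le := Localization.Away (AdjoinRoot.mk P.f P.g)
  letI : Algebra Γ(X, U) Γ(X, U') := (X.presheaf.map (CategoryTheory.homOfLE (X.basicOpen_le f)).op).hom.toAlgebra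
  haveI : IsLocalization.Away f Γ(X, U') := hU.isLocalization_basicOpen f
  letI : Algebra Γ(Y, V) Γ(X, U') := (φ.appLE V U' e).hom.toAlgebra
  haveI : IsScalarTower Γ(Y, V) Γ(X, U) Γ(X, U') := by
    refine IsScalarTower.of_algebraMap_eq fun r => ?_
    exact (congrArg (fun g => g.hom r) (φ.appLE_map hUV (CategoryTheory.homOfLE (X.basicOpen_le f)).op)).symm
  let ε : Le ≃ₐ[Γ(Y, V)] Γ(X, U') := (P.equivAwayAdjoinRoot.symm.trans Q.equivRing.symm).trans
    ((IsLocalization.algEquiv (Submonoid.powers f) (Localization.Away f) Γ(X, U')).restrictScalars Γ(Y, V))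
  let d := AdjoinRoot.mk P.f (Polynomial.derivative P.f)
  have hdu : IsUnit (algebraMap (AdjoinRoot P.f) Le d) := by
    have hm := P.hasMap_X.map P.equivAwayAdjoinRoot.toAlgHom
    have h1 := hm.isUnit_derivative_f
    have h2 : P.equivAwayAdjoinRoot.toAlgHom P.X = algebraMap (AdjoinRoot P.f) Le (AdjoinRoot.root P.f) :=
      by simp [StandardEtalePair.equivAwayAdjoinRoot]; rfl
    rw [h2, Polynomial.aeval_algebraMap_apply, AdjoinRoot.aeval_eq] at h1
    exact h1
  let χ : Localization.Away d →+* Le := IsLocalization.Away.lift d hdu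
  have hχ : χ.comp (algebraMap (AdjoinRoot P.f) (Localization.Away d)) = algebraMap (AdjoinRoot P.f) Le :=
    IsLocalization.Away.lift_comp d hdu
  haveI : IsOpenImmersion (Spec.map (CommRingCat.ofHom χ)) := by
    haveI : IsOpenImmersion (Spec.map (CommRingCat.ofHom (algebraMap (AdjoinRoot P.f) (Localization.Away d)))) :=
      IsOpenImmersion.of_isLocalization d
    haveI h3 : IsOpenImmersion (Spec.map (CommRingCat.ofHom (algebraMap (AdjoinRoot P.f) Le))) :=
      IsOpenImmersion.of_isLocalization (AdjoinRoot.mk P.f P.g)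
    have : IsOpenImmersion (Spec.map (CommRingCat.ofHom χ) ≫
        Spec.map (CommRingCat.ofHom (algebraMap (AdjoinRoot P.f) (Localization.Away d)))) := by
      rw [← Spec.map_comp, ← CommRingCat.ofHom_comp, hχ]; exact h3
    exact IsOpenImmersion.of_comp _ (Spec.map (CommRingCat.ofHom (algebraMap (AdjoinRoot P.f) (Localization.Away d))))
  let eI : CommRingCat.of Le ≅ Γ(X, U') := ε.toRingEquiv.toCommRingCatIso
  refine ⟨U', hU', hxU', e, P.f, P.monic_f,
    hU'.isoSpec.hom ≫ Spec.map eI.hom ≫ Spec.map (CommRingCat.ofHom χ), inferInstance, ?_⟩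
  simp only [CategoryTheory.Category.assoc, ← Spec.map_comp]
  congr 2
  ext r
  show ε (χ (algebraMap Γ(Y, V) (Localization.Away d) r)) = _
  rw [IsScalarTower.algebraMap_apply Γ(Y, V) (AdjoinRoot P.f) (Localization.Away d),
    show χ (algebraMap (AdjoinRoot P.f) (Localization.Away d) _) = algebraMap (AdjoinRoot P.f) Le _ from IsLocalization.Away.lift_eq d hdu _,
    ← IsScalarTower.algebraMap_apply, ε.commutes]
  rfl

end Groth.Agent.S9567
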