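import Groth.Statements.S9568
import Mathlib.RingTheory.Kaehler.Basic
import Mathlib.Algebra.Module.LocalizedModule.Submodule

set_option autoImplicit false
universe u
open EtLocal

namespace Groth.Agent.S9568

/-- Let A be a ring, φ a surjection from the polynomial ring P = A[x_1, …, x_n] onto an A-algebra B with
kernel I, q a prime of B and 𝔮 its preimage in P. Then the localization at q of the module of
differentials Ω_{B/A} vanishes if and only if the images of the differentials dg, g ∈ I, span the
localization of Ω_{P/A} at 𝔮 over P_𝔮. (Geometrically: for f locally of finite type, the stalk of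
Ω_{X/Y} at x vanishes iff near x the scheme X is a closed subscheme of an affine space over the base
cut out by an ideal whose germs at the point have differentials generating the stalk of Ω of the
affine space; the published statement also lists the equivalence with f being unramified at x and
with the diagonal being a local isomorphism at x, which this row does not restate. The published
statement asks for one such presentation near the point; this row states the equivalence for every
presentation, which is what the published proof shows and which implies the existential form.) -/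
theorem result {A B : Type u} [CommRing A] [CommRing B]
    [Algebra A B] (n : ℕ) (φ : MvPolynomial (Fin n) A →ₐ[A] B) (hφ : Function.Surjective φ)
    (q : Ideal B) [q.IsPrime] :
    Subsingleton (LocalizedModule q.primeCompl (KaehlerDifferential A B)) ↔
      Submodule.span (Localization.AtPrime (q.comap φ.toRingHom))
        ((LocalizedModule.mkLinearMap (q.comap φ.toRingHom).primeCompl
            (KaehlerDifferential A (MvPolynomial (Fin n) A))) ''
          ((KaehlerDifferential.D A (MvPolynomial (Fin n) A)) '' (RingHom.ker φ.toRingHom : Set (MvPolynomial (Fin n) A)))) = ⊤ := by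
  letI : Algebra (MvPolynomial (Fin n) A) B := φ.toRingHom.toAlgebra
  haveI : IsScalarTower A (MvPolynomial (Fin n) A) B := IsScalarTower.of_algebraMap_eq fun a => (φ.commutes a).symm
  set P := MvPolynomial (Fin n) A
  set D := KaehlerDifferential.D A P
  let N : Submodule P (KaehlerDifferential A P) := Submodule.span P (D '' (RingHom.ker φ.toRingHom : Set P))
  have hdg : ∀ g : P, φ g = 0 → D g ∈ N := fun g hg => Submodule.subset_span ⟨g, hg, rfl⟩
  have hI : ∀ g : P, φ g = 0 → ∀ m : KaehlerDifferential A P, g • m ∈ N := by
    intro g hg m
    have hm : m ∈ Submodule.span P (Set.range D) := by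
      rw [KaehlerDifferential.span_range_derivation]; trivial
    induction hm using Submodule.span_induction with
    | mem x hx =>
      obtain ⟨h, rfl⟩ := hx
      have e : g • D h = D (g * h) - h • D g := by rw [Derivation.leibniz, add_sub_cancel_right]
      rw [e]
      exact N.sub_mem (hdg _ (by rw [map_mul, hg, zero_mul])) (N.smul_mem _ (hdg g hg))
    | zero => rw [smul_zero]; exact N.zero_mem
    | add x y _ _ hx hy => rw [smul_add]; exact N.add_mem hx hy
    | smul a x _ hx => rw [smul_comm]; exact N.smul_mem _ hx
  let π := KaehlerDifferential.map A A P B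
  have hπ : Function.Surjective π := KaehlerDifferential.map_surjective_of_surjective A A P B hφ
  have hker : ∀ m, π m = 0 ↔ m ∈ N := by
    intro m
    constructor
    · intro hm
      have hm' : m ∈ LinearMap.ker π := hm
      rw [KaehlerDifferential.ker_map_of_surjective A P B hφ] at hm'
      obtain ⟨v, hv, rfl⟩ := hm'
      obtain ⟨σ, hσ⟩ := hφ.hasRightInverse
      have e1 : N.mkQ ∘ₗ Finsupp.linearCombination P D =
          (Finsupp.linearCombination P fun b => N.mkQ (D (σ b))) ∘ₗ Finsupp.lmapDomain P P φ := by
        apply Finsupp.lhom_ext
        intro p c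
        simp only [LinearMap.comp_apply, Finsupp.linearCombination_single, Finsupp.lmapDomain_apply,
          Finsupp.mapDomain_single, Submodule.mkQ_apply, Submodule.Quotient.mk_smul]
        congr 1
        rw [Submodule.Quotient.eq, ← map_sub]
        exact hdg _ (by rw [map_sub, hσ, sub_self])
      rw [← Submodule.Quotient.mk_eq_zero]
      refine (LinearMap.congr_fun e1 v).trans ?_
      rw [LinearMap.comp_apply, Finsupp.linearCombination_apply]
      refine Finset.sum_eq_zero fun b _ => ?_
      show _ • Submodule.Quotient.mk _ = 0
      rw [← Submodule.Quotient.mk_smul, Submodule.Quotient.mk_eq_zero]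
      refine hI _ ?_ _
      exact DFunLike.congr_fun hv b
    · intro hm
      refine (show N ≤ LinearMap.ker π from Submodule.span_le.2 ?_) hm
      rintro _ ⟨g, hg, rfl⟩
      show π (D g) = 0
      rw [KaehlerDifferential.map_D]
      exact (congrArg _ hg).trans (map_zero _)
  let 𝔮 : Ideal P := q.comap φ.toRingHom
  rw [LocalizedModule.subsingleton_iff]
  have hspan : Submodule.span (Localization.AtPrime 𝔮)
      (LocalizedModule.mkLinearMap 𝔮.primeCompl (KaehlerDifferential A P) '' (D '' (RingHom.ker φ.toRingHom : Set P))) =
      N.localized' (Localization.AtPrime 𝔮) 𝔮.primeCompl (LocalizedModule.mkLinearMap 𝔮.primeCompl _) :=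
    (Submodule.localized'_span ..).symm
  rw [hspan]
  constructor
  · intro h
    rw [eq_top_iff]
    intro z _
    obtain ⟨⟨m, s⟩, rfl⟩ := IsLocalizedModule.mk'_surjective 𝔮.primeCompl
      (LocalizedModule.mkLinearMap 𝔮.primeCompl (KaehlerDifferential A P)) z
    obtain ⟨r, hr, hr0⟩ := h (π m)
    obtain ⟨r', rfl⟩ := hφ r
    refine ⟨r' • m, (hker _).1 ?_, ⟨r', hr⟩ * s, ?_⟩
    · rw [map_smul, ← algebraMap_smul B r' (π m)]; exact hr0
    · exact IsLocalizedModule.mk'_cancel_left (f := LocalizedModule.mkLinearMap 𝔮.primeCompl _) m ⟨r', hr⟩ s
  · intro h w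
    obtain ⟨m, rfl⟩ := hπ w
    have hm := h.ge (x := LocalizedModule.mkLinearMap 𝔮.primeCompl _ m) trivial
    obtain ⟨m', hm', s, hs⟩ := hm
    rw [IsLocalizedModule.mk'_eq_iff, Submonoid.smul_def, ← map_smul, IsLocalizedModule.eq_iff_exists 𝔮.primeCompl] at hs
    obtain ⟨c, hc⟩ := hs
    refine ⟨φ (c * s), (c * s).2, ?_⟩
    show algebraMap P B _ • π m = 0
    rw [algebraMap_smul, ← map_smul, hker, mul_smul]
    rw [Submonoid.smul_def, Submonoid.smul_def] at hc
    first
      | (rw [← hc]; exact N.smul_mem _ hm')
      | (rw [hc]; exact N.smul_mem _ hm')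

end Groth.Agent.S9568
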