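import Groth.Statements.S9571
-- import your own Groth.Agent.* helpers here

set_option autoImplicit false
universe u
open CategoryTheory CategoryTheory.Limits AlgebraicGeometry TopologicalSpace Opposite
open Constr

namespace Groth.Agent.S9571

/-- Let S be a graded ring, X = Proj S and d ≥ 1; let W_d be the union of the opens D_+(ab) over pairs
of homogeneous a, b with deg a = deg b + d (the open over which the twisting sheaves O_X(nd) are
invertible with compatible multiplications). For n ≥ 1 and f homogeneous of degree nd, with s the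
section of O_X(nd) over W_d defined by f, the non-vanishing locus (W_d)_s equals D_+(f) ∩ W_d.
Pointwise: for p in some D_+(ab) as above, p ∈ D_+(f) if and only if the value f/1 of s at p
generates the module of degree-nd fractions at p (the span of the fractions c/t with t ∉ p and deg c
= deg t + nd, over the degree-zero local ring at p). -/
theorem result {R A : Type u} [CommRing R] [CommRing A] [Algebra R A] (𝒜 : ℕ → Submodule R A) [GradedAlgebra 𝒜]
    {d : ℕ} (hd : 0 < d) {i j : ℕ} {a b : A} (ha : a ∈ 𝒜 i) (hb : b ∈ 𝒜 j) (hij : i = j + d)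
    (p : ProjectiveSpectrum 𝒜) (hp : p ∈ ProjectiveSpectrum.basicOpen 𝒜 (a * b))
    {n : ℕ} (hn : 0 < n) (f : 𝒜 (n * d)) :
    p ∈ ProjectiveSpectrum.basicOpen 𝒜 (f : A) ↔
      Submodule.span (Twist.A0 𝒜 p) {(Twist.globalOf 𝒜 f).1 ⟨p, trivial⟩} = ⊤ := by
  classical
  have hab : a * b ∉ p.asHomogeneousIdeal.toIdeal := hp
  have hanin : a ∉ p.asHomogeneousIdeal.toIdeal := fun h => hab (Ideal.mul_mem_right _ _ h)
  have hbnin : b ∉ p.asHomogeneousIdeal.toIdeal := fun h => hab (Ideal.mul_mem_left _ _ h)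
  constructor
  · intro hf
    have hf' : (f : A) ∉ p.asHomogeneousIdeal.toIdeal := hf
    refine eq_top_iff.2 ?_
    rintro ⟨q, hq⟩ -
    suffices q ∈ Submodule.map (Twist.twistAt 𝒜 ((n * d : ℕ) : ℤ) p).subtype
        (Submodule.span (Twist.A0 𝒜 p) {(Twist.globalOf 𝒜 f).1 ⟨p, trivial⟩}) by
      obtain ⟨y, hy, rfl⟩ := this
      exact hy
    refine Submodule.span_le.2 ?_ hq
    rintro _ ⟨i', j', c, t, ht, hij', rfl⟩
    have hdeg : i' = j' + n * d := by exact_mod_cast hij'
    let z : Twist.A0 𝒜 p := HomogeneousLocalization.mk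
      ⟨i', c, ⟨t.1 * f.1, by rw [hdeg]; exact SetLike.mul_mem_graded t.2 f.2⟩,
        fun h => (p.isPrime.mem_or_mem h).elim ht hf'⟩
    refine ⟨z • (Twist.globalOf 𝒜 f).1 ⟨p, trivial⟩, Submodule.smul_mem _ z (Submodule.subset_span rfl), ?_⟩
    show ((z • (Twist.globalOf 𝒜 f).1 ⟨p, trivial⟩ : Twist.twistAt 𝒜 _ p) : Twist.Loc 𝒜 p) = _
    rw [Twist.coe_smul_val, HomogeneousLocalization.val_mk]
    show Localization.mk (c.1) _ * Localization.mk (f.1) _ = _
    rw [Localization.mk_mul, Localization.mk_eq_mk_iff, Localization.r_iff_exists]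
    exact ⟨1, by simp; ring⟩
  · intro htop
    show (f : A) ∉ p.asHomogeneousIdeal.toIdeal
    intro hf
    have hbn : b ^ n ∉ p.asHomogeneousIdeal.toIdeal := fun h => hbnin (p.isPrime.mem_of_pow_mem n h)
    have hmem : (Localization.mk (a ^ n) ⟨b ^ n, hbn⟩ : Twist.Loc 𝒜 p) ∈ Twist.twistAt 𝒜 ((n * d : ℕ) : ℤ) p :=
      Submodule.subset_span ⟨n * i, n * j, ⟨a ^ n, by simpa using SetLike.pow_mem_graded n ha⟩,
        ⟨b ^ n, by simpa using SetLike.pow_mem_graded n hb⟩, hbn, by subst hij; push_cast; ring, rfl⟩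
    obtain ⟨z, hz⟩ := Submodule.mem_span_singleton.1
      (htop.ge (Submodule.mem_top (x := (⟨_, hmem⟩ : Twist.twistAt 𝒜 ((n * d : ℕ) : ℤ) p))))
    have h := congrArg Subtype.val hz
    rw [Twist.coe_smul_val] at h
    have hunit : IsUnit (Localization.mk (a ^ n) ⟨b ^ n, hbn⟩ : Twist.Loc 𝒜 p) := by
      rw [Localization.mk_eq_mk']
      exact (IsLocalization.AtPrime.isUnit_mk'_iff (Localization.AtPrime p.asHomogeneousIdeal.toIdeal)
        p.asHomogeneousIdeal.toIdeal (a ^ n) ⟨b ^ n, hbn⟩).2 fun h => hanin (p.isPrime.mem_of_pow_mem n h)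
    replace h : z.val * (Localization.mk (f : A) 1 : Twist.Loc 𝒜 p) = Localization.mk (a ^ n) ⟨b ^ n, hbn⟩ := h
    rw [← h, IsUnit.mul_iff] at hunit
    have := hunit.2
    rw [Localization.mk_eq_mk', IsLocalization.AtPrime.isUnit_mk'_iff _ p.asHomogeneousIdeal.toIdeal] at this
    exact this hf

end Groth.Agent.S9571
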