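import Groth.Statements.S9575
import Groth.Agent.ProjUPLib.FrameTriv
-- import your own Groth.Agent.* helpers here

set_option autoImplicit false
universe u
open CategoryTheory CategoryTheory.Limits AlgebraicGeometry TopologicalSpace Opposite
open Constr

namespace Groth.Agent.S9575

/-- Let S be a graded ring, X = Proj S, d ≥ 1, and a, b homogeneous elements with deg a = deg b + d.
Then for every integer n the restriction of the twisting sheaf O_X(nd) to the standard open D_+(ab)
is isomorphic to the structure sheaf of D_+(ab): it is free of rank one, generated by the section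
(a/b)^n. (This is the invertibility half of the fact that D_+(ab) lies in the open W_d where the
O_X(nd) are invertible with compatible multiplications; existence of an isomorphism only. The
compatibility of the multiplication maps O_X(nd) ⊗ O_X(md) → O_X(nd+md) on this open, and the
converse statement that the largest such open is the union of the D_+(ab), are not stated here.) -/
theorem result {R A : Type u} [CommRing R] [CommRing A] [Algebra R A] (𝒜 : ℕ → Submodule R A) [GradedAlgebra 𝒜]
    {d : ℕ} (hd : 0 < d) {i j : ℕ} {a b : A} (ha : a ∈ 𝒜 i) (hb : b ∈ 𝒜 j) (hij : i = j + d) (n : ℤ) :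
    Nonempty ((Twist.twist 𝒜 (n * d)).restrict (Proj.basicOpen 𝒜 (a * b)).ι ≅
      Coh.structureModule ↑(Proj.basicOpen 𝒜 (a * b))) := by
  have hna : ∀ x : (Proj.basicOpen 𝒜 (a * b)), a ∉ x.1.asHomogeneousIdeal := fun x h ↦
    x.2 (Ideal.mul_mem_right _ _ h)
  have hnb : ∀ x : (Proj.basicOpen 𝒜 (a * b)), b ∉ x.1.asHomogeneousIdeal := fun x h ↦
    x.2 (Ideal.mul_mem_left _ _ h)
  obtain ⟨k, rfl | rfl⟩ := Int.eq_nat_or_neg n
  · exact Groth.Agent.ProjUPLib.nonempty_triv_of_isFrame (Groth.Agent.ProjUPLib.isFrame_fracSec 𝒜 _ _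
      ⟨a ^ k, SetLike.pow_mem_graded k ha⟩ ⟨b ^ k, SetLike.pow_mem_graded k hb⟩
      (fun x h ↦ hnb x (x.1.isPrime.mem_of_pow_mem k h)) (fun x h ↦ hna x (x.1.isPrime.mem_of_pow_mem k h))
      (by simp only [smul_eq_mul, hij]; push_cast; ring))
  · exact Groth.Agent.ProjUPLib.nonempty_triv_of_isFrame (Groth.Agent.ProjUPLib.isFrame_fracSec 𝒜 _ _
      ⟨b ^ k, SetLike.pow_mem_graded k hb⟩ ⟨a ^ k, SetLike.pow_mem_graded k ha⟩
      (fun x h ↦ hna x (x.1.isPrime.mem_of_pow_mem k h)) (fun x h ↦ hnb x (x.1.isPrime.mem_of_pow_mem k h))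
      (by simp only [smul_eq_mul, hij]; push_cast; ring))

end Groth.Agent.S9575
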