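import Groth.Statements.S9576
import Groth.Agent.ProjCoord.Basic
-- import your own Groth.Agent.* helpers here

set_option autoImplicit false
universe u
open CategoryTheory CategoryTheory.Limits AlgebraicGeometry TopologicalSpace Opposite
open Constr

namespace Groth.Agent.S9576

/-- For a ring R and n ≥ 0, projective n-space Proj R[T_0, …, T_n] is covered by the n + 1 standard
opens D_+(T_i), and each D_+(T_i) = Spec R[T_0, …, T_n]_(T_i) is an affine n-space: the ring
homomorphism from the polynomial ring over R in the variables T_j, j ≠ i, to the degree-zero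
localization R[T_0, …, T_n]_(T_i), sending T_j to T_j/T_i and a constant r to r/1, is bijective.
(The published statement is over ℤ; this row is over any ring R.) -/
theorem result (n : ℕ) (R : Type u) [CommRing R] :
    (⨆ i : Fin (n + 1), Proj.basicOpen (CohB1.polyGrading n R) (MvPolynomial.X i)) = ⊤ ∧
      ∀ i : Fin (n + 1), Function.Bijective
        (MvPolynomial.eval₂Hom
          ((HomogeneousLocalization.fromZeroRingHom (CohB1.polyGrading n R) (Submonoid.powers (MvPolynomial.X i))).comp
            (algebraMap R (CohB1.polyGrading n R 0)))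
          (fun j : {j : Fin (n + 1) // j ≠ i} =>
            (HomogeneousLocalization.mk ⟨1, ⟨MvPolynomial.X j.1, MvPolynomial.isHomogeneous_X R j.1⟩,
              ⟨MvPolynomial.X i, MvPolynomial.isHomogeneous_X R i⟩, ⟨1, pow_one _⟩⟩ :
              HomogeneousLocalization.Away (CohB1.polyGrading n R) (MvPolynomial.X i)))) := by
  classical
  open Groth.Agent.ProjCoord in
  refine ⟨?_, fun i => ?_⟩
  · rw [eq_top_iff]
    rintro (x : ProjectiveSpectrum (CohB1.polyGrading n R)) -
    refine Opens.mem_iSup.2 ?_
    by_contra! H
    refine x.not_irrelevant_le (irrelevant_le_span_X.trans (Ideal.span_le.2 ?_))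
    rintro _ ⟨i, rfl⟩
    by_contra hn
    exact H i hn
  · suffices hsuff : Function.Bijective (MvPolynomial.eval₂Hom (Groth.Agent.ProjCoord.const i)
      (fun j : {j : Fin (n + 1) // j ≠ i} => Groth.Agent.ProjCoord.ratio (R := R) i j.1)) by
      convert hsuff using 5
      all_goals first
        | rfl
        | (apply HomogeneousLocalization.val_injective; simp [Groth.Agent.ProjCoord.ratio])
    let v : Fin (n + 1) → MvPolynomial {j : Fin (n + 1) // j ≠ i} R :=
      fun k => if h : k = i then 1 else MvPolynomial.X ⟨k, h⟩
    have hvi : v i = 1 := dif_pos rfl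
    have hu : IsUnit (MvPolynomial.eval₂Hom (MvPolynomial.C) v (MvPolynomial.X i)) := by
      rw [MvPolynomial.eval₂Hom_X', hvi]
      exact isUnit_one
    let g := Groth.Agent.ProjCoord.awayEval (𝒜 := CohB1.polyGrading n R) (MvPolynomial.eval₂Hom (MvPolynomial.C) v) hu
    have hr : ∀ k, g (Groth.Agent.ProjCoord.ratio i k) = v k := fun k => by
      simpa [hvi] using Groth.Agent.ProjCoord.awayEval_ratio MvPolynomial.C v i k hu
    have hc : ∀ r, g (Groth.Agent.ProjCoord.const i r) = MvPolynomial.C r := fun r =>
      RingHom.congr_fun (Groth.Agent.ProjCoord.awayEval_const MvPolynomial.C v i hu) r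
    set e := MvPolynomial.eval₂Hom (Groth.Agent.ProjCoord.const i)
      (fun j : {j : Fin (n + 1) // j ≠ i} => Groth.Agent.ProjCoord.ratio (R := R) i j.1) with he
    have h1 : g.comp e = RingHom.id _ := by
      refine MvPolynomial.ringHom_ext (fun r => ?_) (fun j => ?_)
      · simp [he, hc]
      · simp [he, hr, v, j.2]
    have h2 : e.comp g = RingHom.id _ := by
      refine Groth.Agent.ProjCoord.away_hom_ext _ _ (RingHom.ext fun r => ?_) (fun k => ?_)
      · simp [he, hc]
      · by_cases hk : k = i
        · subst hk
          simp [hr, v, Groth.Agent.ProjCoord.ratio_self]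
        · simp [he, hr, v, hk]
    exact ⟨Function.LeftInverse.injective (g := g) fun x => RingHom.congr_fun h1 x,
      Function.RightInverse.surjective (g := g) fun x => RingHom.congr_fun h2 x⟩

end Groth.Agent.S9576
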