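import Groth.Statements.S9580
import Groth.Agent.ProjUPLib.AmpleO1
import Groth.Agent.EGA2G.ProjBasic
-- import your own Groth.Agent.* helpers here

set_option autoImplicit false
universe u
open CategoryTheory CategoryTheory.Limits AlgebraicGeometry TopologicalSpace Opposite
open Constr

namespace Groth.Agent.S9580

open Groth.Agent.ProjUPLib

/-- Let S be a graded ring, X = Proj S and Y ⊆ X a quasi-compact open subscheme. Then there is an
integer d ≥ 1 such that Y is contained in the open W_d, the union of the standard opens D_+(ab) over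
homogeneous a, b with deg a = deg b + d, and such that the restriction O_Y(nd) of O_X(nd) to Y is
invertible for every integer n. (The remaining assertions — the multiplication maps among the
O_Y(nd) and M~(nd) are isomorphisms, D_+(f) ∩ Y = Y_s, and the loci Y_s form a basis — are not
stated here.) -/
theorem result {R A : Type u} [CommRing R] [CommRing A] [Algebra R A] (𝒜 : ℕ → Submodule R A) [GradedAlgebra 𝒜]
    (Y : (Proj 𝒜).Opens) (hY : IsCompact (Y : Set (Proj 𝒜))) :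
    ∃ d : ℕ, 0 < d ∧
      (∀ y : Proj 𝒜, y ∈ Y → ∃ (i j : ℕ) (a b : A), a ∈ 𝒜 i ∧ b ∈ 𝒜 j ∧ i = j + d ∧ y ∈ Proj.basicOpen 𝒜 (a * b)) ∧
      ∀ n : ℤ, PicF.IsInvertible ((Twist.twist 𝒜 (n * d)).restrict Y.ι) := by
  classical
  obtain ⟨t, ht⟩ := hY.elim_finite_subcover
    (fun i : Σ e : {e : ℕ // 0 < e}, 𝒜 e.1 ↦ (Proj.basicOpen 𝒜 (i.2 : A) : Set (Proj 𝒜))) (fun i ↦ (Proj.basicOpen 𝒜 (i.2 : A)).2)
    (fun y _ ↦ by
      obtain ⟨i, hi⟩ := TopologicalSpace.Opens.mem_iSup.mp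
        ((Groth.Agent.EGA2G.iSup_basicOpen_pos_eq_top 𝒜).ge (Set.mem_univ y))
      exact Set.mem_iUnion.mpr ⟨⟨⟨i.1.1, i.1.2⟩, i.2⟩, hi⟩)
  have hcov : ∀ y ∈ Y, ∃ f : A, f ∈ 𝒜 (∏ i ∈ t, i.1.1) ∧ y ∈ Proj.basicOpen 𝒜 f := by
    intro y hy
    obtain ⟨i, hit, hyi⟩ := Set.mem_iUnion₂.mp (ht hy)
    obtain ⟨k, hk⟩ : i.1.1 ∣ ∏ j ∈ t, j.1.1 := Finset.dvd_prod_of_mem (fun j : Σ e : {e : ℕ // 0 < e}, 𝒜 e.1 ↦ j.1.1) hit
    refine ⟨(i.2 : A) ^ k, ?_, ?_⟩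
    · rw [hk, mul_comm]
      exact SetLike.pow_mem_graded k i.2.2
    · intro h
      exact hyi (y.isPrime.mem_of_pow_mem k h)
  refine ⟨∏ i ∈ t, i.1.1, Finset.prod_pos fun i _ ↦ i.1.2, fun y hy ↦ ?_, fun n ↦ ?_⟩
  · obtain ⟨f, hf, hyf⟩ := hcov y hy
    exact ⟨_, 0, f, 1, hf, SetLike.GradedOne.one_mem, (Nat.zero_add _).symm, by rwa [mul_one]⟩
  · refine isInvertible_of_local_frames fun x ↦ ?_
    obtain ⟨f, hf, hxf⟩ := hcov x.1 x.2
    obtain ⟨e, he⟩ := exists_isFrame_twist 𝒜 _ ⟨f, hf⟩ n rfl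
    obtain ⟨b, hb⟩ := exists_isFrame_restrict Y.ι he
    exact ⟨_, hxf, b, hb⟩

end Groth.Agent.S9580
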