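import Groth.Statements.S9581
import Mathlib
import Groth.Agent.WeakAss.Basic
-- import your own Groth.Agent.* helpers here

set_option autoImplicit false
universe u
open CAlg

namespace Groth.Agent.S9581

/-- (1) ⇔ (3): for a ring R, an R-module M and a prime p of R, the prime p is weakly associated to M
(minimal among the primes containing the annihilator of some element of M) if and only if the
localization M_p contains an element whose annihilator in R_p has radical equal to the maximal ideal
p R_p. -/
theorem result {R : Type u} [CommRing R] (M : Type u) [AddCommGroup M] [Module R M] (p : Ideal R) [p.IsPrime] :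
    p ∈ FlatCA.weakAss R M ↔ IsAssociatedPrime (IsLocalRing.maximalIdeal (Localization.AtPrime p)) (LocalizedModule p.primeCompl M) := by
  constructor
  · intro h
    obtain ⟨-, m, h1, h2⟩ := Groth.Agent.WeakAss.mem_weakAss_iff.mp h
    refine ⟨inferInstance, LocalizedModule.mkLinearMap p.primeCompl M m, ?_⟩
    refine le_antisymm (fun x hx => ?_) (IsLocalRing.le_maximalIdeal fun hc => ?_)
    · obtain ⟨⟨a, t⟩, hat⟩ := IsLocalization.surj p.primeCompl x
      have ha : a ∈ p := by
        rw [← IsLocalization.AtPrime.to_map_mem_maximal_iff (Localization.AtPrime p) p a, ← hat]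
        exact Ideal.mul_mem_right _ _ hx
      obtain ⟨s, hs, n, hn⟩ := h2 a ha
      refine ⟨n, ?_⟩
      rw [Submodule.mem_colon_singleton, Submodule.mem_bot]
      have hu : IsUnit (algebraMap R (Localization.AtPrime p) s * algebraMap R (Localization.AtPrime p) (t : R) ^ n) :=
        (IsLocalization.map_units _ (⟨s, hs⟩ : p.primeCompl)).mul ((IsLocalization.map_units _ t).pow n)
      rw [← hu.smul_eq_zero, smul_smul, show algebraMap R (Localization.AtPrime p) s * algebraMap R (Localization.AtPrime p) (t : R) ^ n * x ^ n
        = algebraMap R (Localization.AtPrime p) s * (x * algebraMap R (Localization.AtPrime p) (t : R)) ^ n by ring,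
        hat, ← map_pow, ← map_mul, algebraMap_smul, ← map_smul, hn, map_zero]
    · rw [Ideal.radical_eq_top, Ideal.eq_top_iff_one, Submodule.mem_colon_singleton, one_smul, Submodule.mem_bot,
        IsLocalizedModule.eq_zero_iff p.primeCompl (LocalizedModule.mkLinearMap p.primeCompl M)] at hc
      obtain ⟨⟨s, hs⟩, hsm⟩ := hc
      exact hs (h1 s hsm)
  · rintro ⟨-, x, hx⟩
    obtain ⟨⟨m, t⟩, hmt⟩ := IsLocalizedModule.surj p.primeCompl (LocalizedModule.mkLinearMap p.primeCompl M) x
    refine Groth.Agent.WeakAss.mem_weakAss_iff.mpr ⟨inferInstance, m, fun r hr => ?_, fun a ha => ?_⟩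
    · by_contra hrp
      have h0 : (1 : Localization.AtPrime p) ∈ ((⊥ : Submodule (Localization.AtPrime p) _).colon {x}).radical := by
        refine ⟨1, ?_⟩
        rw [pow_one, Submodule.mem_colon_singleton, Submodule.mem_bot, one_smul]
        have hu := (IsLocalization.map_units (Localization.AtPrime p) (⟨r, hrp⟩ * t : p.primeCompl))
        rw [← hu.smul_eq_zero, algebraMap_smul, Submonoid.coe_mul, mul_smul,
          show (t : R) • x = LocalizedModule.mkLinearMap p.primeCompl M m from hmt, ← map_smul, hr, map_zero]
      rw [← hx] at h0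
      exact (IsLocalRing.maximalIdeal.isMaximal _).ne_top ((Ideal.eq_top_iff_one _).mpr h0)
    · have h0 : algebraMap R (Localization.AtPrime p) a ∈ IsLocalRing.maximalIdeal _ :=
        (IsLocalization.AtPrime.to_map_mem_maximal_iff _ p a).mpr ha
      rw [hx] at h0
      obtain ⟨n, hn⟩ := h0
      rw [Submodule.mem_colon_singleton, Submodule.mem_bot, ← map_pow, algebraMap_smul] at hn
      have h1 : LocalizedModule.mkLinearMap p.primeCompl M (a ^ n • m) = 0 := by
        rw [map_smul, ← hmt, Submonoid.smul_def, smul_comm, hn, smul_zero]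
      rw [IsLocalizedModule.eq_zero_iff p.primeCompl (LocalizedModule.mkLinearMap p.primeCompl M)] at h1
      obtain ⟨⟨s, hs⟩, hsm⟩ := h1
      exact ⟨s, hs, n, by rw [mul_smul]; exact hsm⟩

end Groth.Agent.S9581
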