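import Groth.Statements.S9582
import Mathlib
import Groth.Agent.WeakAss.Basic
-- import your own Groth.Agent.* helpers here

set_option autoImplicit false
universe u
open CAlg

namespace Groth.Agent.S9582

/-- For a reduced ring R, the primes weakly associated to the R-module R (primes minimal over the
annihilator of some element) are exactly the minimal primes of R. -/
theorem result {R : Type u} [CommRing R] [IsReduced R] :
    FlatCA.weakAss R R = minimalPrimes R := by
  ext p
  constructor
  · intro h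
    obtain ⟨hp, m, h1, h2⟩ := Groth.Agent.WeakAss.mem_weakAss_iff.mp h
    have hkey : ∀ a ∈ p, ∃ s ∉ p, s * a * m = 0 := fun a ha => by
      obtain ⟨s, hs, n, hn⟩ := h2 a ha
      refine ⟨s, hs, IsNilpotent.eq_zero ⟨n + 1, ?_⟩⟩
      rw [show (s * a * m) ^ (n + 1) = (s * a ^ n) • m * (s ^ n * a * m ^ n) by rw [smul_eq_mul]; ring, hn, zero_mul]
    have hm : m ∉ p := fun hm => by
      obtain ⟨s, hs, hsm⟩ := hkey m hm
      refine hs (h1 s (IsNilpotent.eq_zero ⟨2, ?_⟩))
      rw [smul_eq_mul, show (s * m) ^ 2 = s * m * m * s by ring, hsm, zero_mul]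
    refine ⟨⟨hp, bot_le⟩, fun q ⟨hq, _⟩ hqp a ha => ?_⟩
    obtain ⟨s, hs, hsa⟩ := hkey a ha
    have h3 : s * m * a ∈ q := by rw [mul_right_comm, hsa]; exact zero_mem q
    exact (hq.mem_or_mem h3).resolve_left fun h' => (hq.mem_or_mem h').elim (fun h'' => hs (hqp h'')) (fun h'' => hm (hqp h''))
  · intro h
    have := h.1.1
    obtain ⟨-, h2⟩ := Groth.Agent.WeakAss.mem_minimalPrimes_iff_exists_mul_pow_mem.mp h
    refine Groth.Agent.WeakAss.mem_weakAss_iff.mpr ⟨this, 1, fun r hr => by simp only [smul_eq_mul, mul_one] at hr; rw [hr]; exact zero_mem p, fun a ha => ?_⟩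
    obtain ⟨s, hs, n, hn⟩ := h2 a ha
    exact ⟨s, hs, n, by simpa using hn⟩

end Groth.Agent.S9582
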