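import Groth.Statements.S9584
import Mathlib
import Groth.Agent.WeakAss.Basic
-- import your own Groth.Agent.* helpers here

set_option autoImplicit false
universe u
open CAlg

namespace Groth.Agent.S9584

/-- For a ring R and an R-module M, M has no weakly associated prime (no prime minimal over the
annihilator of an element) if and only if M = 0. -/
theorem result {R : Type u} [CommRing R] (M : Type u) [AddCommGroup M] [Module R M] :
    FlatCA.weakAss R M = ∅ ↔ Subsingleton M := by
  refine ⟨fun h => ⟨fun a b => ?_⟩, fun h => Set.eq_empty_iff_forall_notMem.mpr fun p hp => ?_⟩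
  · by_contra hab
    obtain ⟨p, hp, -⟩ := Groth.Agent.WeakAss.exists_mem_weakAss_of_smul_eq_zero (sub_ne_zero.mpr hab) (zero_smul R (a - b))
    rw [h] at hp; exact hp
  · obtain ⟨hp', m, h1, -⟩ := Groth.Agent.WeakAss.mem_weakAss_iff.mp hp
    exact hp'.ne_top (p.eq_top_iff_one.mpr (h1 1 (Subsingleton.elim _ _)))

end Groth.Agent.S9584
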