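import Groth.Statements.S9585
import Mathlib
import Groth.Agent.WeakAss.Basic
-- import your own Groth.Agent.* helpers here

set_option autoImplicit false
universe u
open CAlg

namespace Groth.Agent.S9585

/-- For a ring R and an R-module M, an element of R lies in some weakly associated prime of M exactly
when multiplication by it on M is not injective; in other words the union of the weakly associated
primes of M equals the set of zerodivisors on M. -/
theorem result {R : Type u} [CommRing R] (M : Type u) [AddCommGroup M] [Module R M] :
    ⋃ q ∈ FlatCA.weakAss R M, (q : Set R) = {f : R | ¬ IsSMulRegular M f} := by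
  ext f
  simp only [Set.mem_iUnion, Set.mem_setOf_eq, SetLike.mem_coe, exists_prop]
  constructor
  · rintro ⟨q, hq, hf⟩ h
    exact Groth.Agent.WeakAss.notMem_of_isSMulRegular hq h hf
  · intro h
    simp only [IsSMulRegular, Function.Injective, not_forall] at h
    obtain ⟨x, y, hxy, hne⟩ := h
    exact Groth.Agent.WeakAss.exists_mem_weakAss_of_smul_eq_zero (sub_ne_zero.mpr hne) (by rw [smul_sub, sub_eq_zero]; exact hxy)

end Groth.Agent.S9585
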