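import Groth.Statements.S9587
import Mathlib
import Groth.Agent.WeakAss.Basic
-- import your own Groth.Agent.* helpers here

set_option autoImplicit false
universe u
open CAlg

namespace Groth.Agent.S9587

/-- For a ring R, an ideal I of R and an R/I-module M, regarded as an R-module through R → R/I, the
primes of R weakly associated to M are exactly the inverse images of the primes of R/I weakly
associated to M. -/
theorem result {R : Type u} [CommRing R] (I : Ideal R) (M : Type u) [AddCommGroup M] [Module (R ⧸ I) M] [Module R M] [IsScalarTower R (R ⧸ I) M] :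
    FlatCA.weakAss R M = Ideal.comap (Ideal.Quotient.mk I) '' FlatCA.weakAss (R ⧸ I) M := by
  have hsmul : ∀ (r : R) (x : M), Ideal.Quotient.mk I r • x = r • x := fun r x => algebraMap_smul (R ⧸ I) r x
  ext p
  constructor
  · intro hp
    obtain ⟨hp', m, h1, h2⟩ := Groth.Agent.WeakAss.mem_weakAss_iff.mp hp
    have hI : I ≤ p := fun r hr => h1 r (by rw [← hsmul, Ideal.Quotient.eq_zero_iff_mem.mpr hr, zero_smul])
    have hker : RingHom.ker (Ideal.Quotient.mk I) ≤ p := by rwa [Ideal.mk_ker]
    have hc : (p.map (Ideal.Quotient.mk I)).comap (Ideal.Quotient.mk I) = p := by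
      rw [Ideal.comap_map_of_surjective _ Ideal.Quotient.mk_surjective, sup_eq_left]; exact hker
    have hP := Ideal.map_isPrime_of_surjective Ideal.Quotient.mk_surjective hker
    refine ⟨p.map (Ideal.Quotient.mk I), Groth.Agent.WeakAss.mem_weakAss_iff.mpr ⟨hP, m, fun r hr => ?_, fun a ha => ?_⟩, hc⟩
    · obtain ⟨r, rfl⟩ := Ideal.Quotient.mk_surjective r
      rw [hsmul] at hr
      exact Ideal.mem_map_of_mem _ (h1 r hr)
    · obtain ⟨a, rfl⟩ := Ideal.Quotient.mk_surjective a
      obtain ⟨s, hs, n, hn⟩ := h2 a (hc ▸ ha)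
      refine ⟨Ideal.Quotient.mk I s, fun h => hs (hc ▸ h), n, ?_⟩
      rw [← map_pow, ← map_mul, hsmul, hn]
  · rintro ⟨q, hq, rfl⟩
    obtain ⟨hq', m, h1, h2⟩ := Groth.Agent.WeakAss.mem_weakAss_iff.mp hq
    refine Groth.Agent.WeakAss.mem_weakAss_iff.mpr ⟨hq'.comap _, m, fun r hr => h1 _ (by rw [hsmul, hr]), fun a ha => ?_⟩
    obtain ⟨s, hs, n, hn⟩ := h2 _ ha
    obtain ⟨s, rfl⟩ := Ideal.Quotient.mk_surjective s
    exact ⟨s, hs, n, by rw [← hsmul, map_mul, map_pow, hn]⟩

end Groth.Agent.S9587
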