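import Groth.Statements.S9591
import Mathlib
import Groth.Agent.WeakAss.Basic
-- import your own Groth.Agent.* helpers here

set_option autoImplicit false
universe u
open CAlg

namespace Groth.Agent.S9591

/-- For a ring R and an R-module M, the map from M to the product of the localizations M_p over all
primes p weakly associated to M is injective: an element vanishing in every such M_p is zero. -/
theorem result {R : Type u} [CommRing R] {M : Type u} [AddCommGroup M] [Module R M] (x : M) (hx : ∀ (p : Ideal R) [p.IsPrime], p ∈ FlatCA.weakAss R M → LocalizedModule.mkLinearMap p.primeCompl M x = 0) :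
    x = 0 := by
  by_contra hne
  have hne' : (Submodule.span R {x}).annihilator ≠ ⊤ := fun h => hne <| by
    simpa using (Submodule.mem_annihilator_span_singleton x (1 : R)).mp (h ▸ Submodule.mem_top)
  obtain ⟨q, hq⟩ := Ideal.nonempty_minimalPrimes hne'
  have := hq.1.1
  have h0 := hx q ⟨x, hq⟩
  rw [IsLocalizedModule.eq_zero_iff q.primeCompl (LocalizedModule.mkLinearMap q.primeCompl M)] at h0
  obtain ⟨⟨s, hs⟩, hsx⟩ := h0
  exact hs (hq.1.2 ((Submodule.mem_annihilator_span_singleton x s).mpr hsx))

end Groth.Agent.S9591
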