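import Groth.Statements.S9597
import Mathlib
-- import your own Groth.Agent.* helpers here

set_option autoImplicit false
universe u
open CAlg

namespace Groth.Agent.S9597

/-- Let R be a Noetherian ring, M a finite R-module whose associated primes are pairwise incomparable
under inclusion (M has no embedded associated primes), and I the annihilator of M. Then the
associated primes of R/I, viewed as a module over itself, are again pairwise incomparable: R/I has
no embedded primes either. -/
theorem result {R : Type u} [CommRing R] [IsNoetherianRing R] (M : Type u) [AddCommGroup M] [Module R M] [Module.Finite R M] (hM : ∀ p ∈ associatedPrimes R M, ∀ q ∈ associatedPrimes R M, p ≤ q → p = q) :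
    ∀ p ∈ associatedPrimes (R ⧸ Module.annihilator R M) (R ⧸ Module.annihilator R M), ∀ q ∈ associatedPrimes (R ⧸ Module.annihilator R M) (R ⧸ Module.annihilator R M), p ≤ q → p = q := by
  classical
  let I := Module.annihilator R M
  have hass : ∀ P ∈ associatedPrimes (R ⧸ I) (R ⧸ I), P.comap (Ideal.Quotient.mk I) ∈ associatedPrimes R M := by
    intro P hP
    obtain ⟨hPp, x, hx⟩ := isAssociatedPrime_iff.1 hP
    obtain ⟨y, rfl⟩ := Ideal.Quotient.mk_surjective x
    obtain ⟨s, hs⟩ := Module.Finite.fg_top (R := R) (M := M)
    haveI := hPp
    have e : P.comap (Ideal.Quotient.mk I) = s.inf fun m => (⊥ : Submodule R M).colon {y • m} := by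
      ext r
      rw [Ideal.mem_comap, hx, Submodule.mem_colon_singleton, Submodule.mem_bot, smul_eq_mul, ← map_mul,
        Ideal.Quotient.eq_zero_iff_mem, Submodule.mem_finsetInf]
      simp only [Submodule.mem_colon_singleton, Submodule.mem_bot, smul_smul]
      refine ⟨fun h m _ => Module.mem_annihilator.1 h m, fun h => Module.mem_annihilator.2 fun m => ?_⟩
      have hm : m ∈ Submodule.span R (s : Set M) := hs ▸ Submodule.mem_top
      induction hm using Submodule.span_induction with
      | mem z hz => exact h z hz
      | zero => exact smul_zero _
      | add a b _ _ ha hb => rw [smul_add, ha, hb, add_zero]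
      | smul a b _ hb => rw [smul_comm, hb, smul_zero]
    have hprime : (P.comap (Ideal.Quotient.mk I)).IsPrime := Ideal.comap_isPrime _ _
    obtain ⟨m, hm, hle⟩ := hprime.inf_le'.1 e.ge
    exact isAssociatedPrime_iff.2 ⟨hprime, y • m, le_antisymm (e.trans_le (Finset.inf_le hm)) hle⟩
  intro p hp q hq hpq
  exact Ideal.comap_injective_of_surjective _ Ideal.Quotient.mk_surjective
    (hM _ (hass p hp) _ (hass q hq) (Ideal.comap_mono hpq))
end Groth.Agent.S9597
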