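import Groth.Statements.S9598
import Mathlib
-- import your own Groth.Agent.* helpers here

set_option autoImplicit false
universe u
open CAlg

namespace Groth.Agent.S9598

/-- For a field k and a finite type k-algebra S with dim S > 0, some element of S is a nonzerodivisor
and a nonunit. -/
theorem result {k S : Type u} [Field k] [CommRing S] [Algebra k S] [Algebra.FiniteType k S] (hdim : 0 < ringKrullDim S) :
    ∃ f : S, f ∈ nonZeroDivisors S ∧ ¬ IsUnit f := by
  classical
  have : IsNoetherianRing S := Algebra.FiniteType.isNoetherianRing k S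
  have : IsJacobsonRing S := isJacobsonRing_of_finiteType (A := k)
  by_contra! hc
  refine absurd ((Ring.krullDimLE_zero_iff).mpr fun P hP => ?_ : Ring.KrullDimLE 0 S) ?_
  · have hmax : ∀ J : Ideal S, J.IsMaximal → J ∈ associatedPrimes S S := by
      intro J hJ
      obtain ⟨q, hq, hle⟩ := (J.subset_union_prime_finite (associatedPrimes.finite S S)
        (f := id) 0 0 (fun p hp _ _ => hp.isPrime)).mp (by
          show (J : Set S) ⊆ ⋃ p ∈ associatedPrimes S S, (p : Set S)
          rw [biUnion_associatedPrimes_eq_compl_nonZeroDivisors]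
          intro x hx hx0
          exact hJ.ne_top (Ideal.eq_top_of_isUnit_mem _ hx (hc x hx0)))
      exact hJ.eq_of_le hq.isPrime.ne_top hle ▸ hq
    have hfin : {J : Ideal S | P ≤ J ∧ J.IsMaximal}.Finite :=
      (associatedPrimes.finite S S).subset fun J hJ => hmax J hJ.2
    have key : hfin.toFinset.inf id ≤ P := by
      refine le_of_le_of_eq ?_ (isJacobsonRing_iff_prime_eq.mp ‹_› P hP)
      rw [Finset.inf_id_eq_sInf, Set.Finite.coe_toFinset]
      exact le_rfl
    obtain ⟨q, hq, hqp⟩ := hP.inf_le'.mp key
    obtain ⟨hPq, hqm⟩ := hfin.mem_toFinset.mp hq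
    exact le_antisymm hqp hPq ▸ hqm
  · intro h0
    have := (Ring.krullDimLE_iff (R := S) (n := 0)).mp h0
    exact absurd (lt_of_lt_of_le hdim this) (lt_irrefl _)

end Groth.Agent.S9598
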