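import Groth.Statements.S9599
import Mathlib.RingTheory.AdicCompletion.Exactness
import Mathlib.RingTheory.Flat.Equalizer
import Mathlib.LinearAlgebra.TensorProduct.Quotient

set_option autoImplicit false
universe u
open CAlg

namespace Groth.Agent.S9599

/-- For a ring R, an ideal I of R and a short exact sequence 0 → K → M → N → 0 of R-modules with N flat
over R, the induced sequence of I-adic completions 0 → K^ → M^ → N^ → 0 is again short exact. -/
theorem result {R : Type u} [CommRing R] (I : Ideal R) {K M N : Type u} [AddCommGroup K] [Module R K] [AddCommGroup M] [Module R M] [AddCommGroup N] [Module R N] [Module.Flat R N] (i : K →ₗ[R] M) (g : M →ₗ[R] N) (hi : Function.Injective i) (hg : Function.Surjective g) (hig : Function.Exact i g) :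
    Function.Injective (AdicCompletion.map I i) ∧ Function.Exact (AdicCompletion.map I i) (AdicCompletion.map I g) ∧ Function.Surjective (AdicCompletion.map I g) := by
  have hpull : ∀ n (a : K), i a ∈ (I ^ n • ⊤ : Submodule R M) → a ∈ (I ^ n • ⊤ : Submodule R K) := by
    intro n a ha
    have h := LinearMap.lTensor_injective_of_exact_of_flat g hg i hi hig (R ⧸ I ^ n)
    have hz : (TensorProduct.quotTensorEquivQuotSMul M (I ^ n))
        ((LinearMap.lTensor (R ⧸ I ^ n) i) ((1 : R ⧸ I ^ n) ⊗ₜ[R] a)) = 0 := by
      rw [LinearMap.lTensor_tmul, TensorProduct.quotTensorEquivQuotSMul_mk_one_tmul,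
        Submodule.Quotient.mk_eq_zero]
      exact ha
    rw [LinearEquiv.map_eq_zero_iff, ← (LinearMap.lTensor (R ⧸ I ^ n) i).map_zero] at hz
    have h2 := congrArg (TensorProduct.quotTensorEquivQuotSMul K (I ^ n)) (h hz)
    rwa [map_zero, TensorProduct.quotTensorEquivQuotSMul_mk_one_tmul, Submodule.Quotient.mk_eq_zero] at h2
  refine ⟨?_, ?_, AdicCompletion.map_surjective I hg⟩
  · rw [injective_iff_map_eq_zero]
    intro x
    apply AdicCompletion.induction_on I K x (fun a ↦ ?_)
    intro hx
    refine AdicCompletion.mk_zero_of _ _ _ ⟨0, fun n _ ↦ ⟨n, le_rfl, n, le_rfl, hpull n _ ?_⟩⟩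
    simpa using congrArg (fun x ↦ x.val n) hx
  · refine LinearMap.exact_of_comp_eq_zero_of_ker_le_range ?_ fun y => ?_
    · rw [AdicCompletion.map_comp, hig.linearMap_comp_eq_zero, AdicCompletion.map_zero]
    · apply AdicCompletion.induction_on I M y (fun b ↦ ?_)
      intro hz
      have hb : ∀ n, ∃ a : K, i a - b n ∈ (I ^ n • ⊤ : Submodule R M) := fun n => by
        have h0 : g (b n) ∈ (I ^ n • ⊤ : Submodule R N) := by
          simpa using congrArg (fun x ↦ x.val n) hz
        rw [show (⊤ : Submodule R N) = Submodule.map g ⊤ by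
          rw [Submodule.map_top, LinearMap.range_eq_top.mpr hg], ← Submodule.map_smul''] at h0
        obtain ⟨m, hm, hgm⟩ := Submodule.mem_map.mp h0
        obtain ⟨a, ha⟩ := (hig (b n - m)).mp (by rw [map_sub, hgm, sub_self])
        exact ⟨a, by rw [ha, sub_sub_cancel_left]; exact neg_mem hm⟩
      choose a ha using hb
      refine ⟨AdicCompletion.mk I K (AdicCompletion.AdicCauchySequence.mk I K a fun n => ?_), ?_⟩
      · rw [SModEq.sub_mem]
        refine hpull n _ ?_
        rw [map_sub]
        have h1 := ha n
        have h2 := Submodule.smul_mono_left (Ideal.pow_le_pow_right (Nat.le_succ n)) (ha (n + 1))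
        have h3 := SModEq.sub_mem.mp (b.2 (Nat.le_succ n))
        have := sub_mem (add_mem h1 h3) h2
        convert this using 1
        abel
      · ext n
        suffices h : Submodule.Quotient.mk (p := (I ^ n • ⊤ : Submodule R M)) (i (a n)) =
            Submodule.Quotient.mk (p := (I ^ n • ⊤ : Submodule R M)) (b n) by
          simp [h]
        exact (Submodule.Quotient.eq _).mpr (ha n)


end Groth.Agent.S9599
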