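import Groth.Statements.S9600
import Mathlib
-- import your own Groth.Agent.* helpers here

set_option autoImplicit false
universe u
open CAlg

namespace Groth.Agent.S9600

/-- Let R be a ring, I an ideal of R and 0 → M → N → Q → 0 a short exact sequence of R-modules in which
Q is killed by some power I^c of I. Then on I-adic completions the map M^ → N^ is injective, N^ → Q^
is surjective with kernel equal to the image of M^, and the canonical map Q → Q^ is bijective; so 0
→ M^ → N^ → Q → 0 is again short exact. -/
theorem result {R : Type u} [CommRing R] (I : Ideal R) {M N Q : Type u} [AddCommGroup M] [Module R M] [AddCommGroup N] [Module R N] [AddCommGroup Q] [Module R Q] (i : M →ₗ[R] N) (g : N →ₗ[R] Q) (hi : Function.Injective i) (hg : Function.Surjective g) (hig : Function.Exact i g) (c : ℕ) (hc : ∀ x ∈ I ^ c, ∀ q : Q, x • q = 0) :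
    Function.Injective (AdicCompletion.map I i) ∧ Function.Exact (AdicCompletion.map I i) (AdicCompletion.map I g) ∧ Function.Surjective (AdicCompletion.map I g) ∧ Function.Bijective (AdicCompletion.of I Q) := by
  have hgi : g ∘ₗ i = 0 := hig.linearMap_comp_eq_zero
  have hbot : ∀ n, c ≤ n → (I ^ n • ⊤ : Submodule R Q) = ⊥ := fun n hn => by
    rw [eq_bot_iff]; exact Submodule.smul_le.mpr fun r hr q _ => (hc r (Ideal.pow_le_pow_right hn hr) q).symm ▸ zero_mem _
  have hrange : (I ^ c • ⊤ : Submodule R N) ≤ LinearMap.range i := fun x hx => by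
    refine (hig x).mp ?_
    have := Submodule.mem_map_of_mem (f := g) hx
    rw [Submodule.map_smul'', Submodule.map_top, LinearMap.range_eq_top.mpr hg, hbot c le_rfl] at this
    simpa using this
  have hpull : ∀ n (a : M), i a ∈ (I ^ (n + c) • ⊤ : Submodule R N) → a ∈ (I ^ n • ⊤ : Submodule R M) := by
    intro n a ha
    rw [pow_add, Submodule.mul_smul] at ha
    have h1 : i a ∈ (I ^ n • ⊤ : Submodule R M).map i := by
      rw [Submodule.map_smul'', Submodule.map_top]
      exact smul_mono_right _ hrange ha
    obtain ⟨b, hb, hba⟩ := Submodule.mem_map.mp h1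
    exact hi hba ▸ hb
  refine ⟨?_, ?_, AdicCompletion.map_surjective I hg, ?_, ?_⟩
  · rw [injective_iff_map_eq_zero]
    intro x
    apply AdicCompletion.induction_on I M x (fun a ↦ ?_)
    intro hx
    refine AdicCompletion.mk_zero_of _ _ _ ⟨0, fun n _ ↦ ⟨n + c, by omega, n, le_rfl, hpull n _ ?_⟩⟩
    simpa using congrArg (fun x ↦ x.val (n + c)) hx
  · refine LinearMap.exact_of_comp_eq_zero_of_ker_le_range ?_ fun y => ?_
    · rw [AdicCompletion.map_comp, hgi, AdicCompletion.map_zero]
    · apply AdicCompletion.induction_on I N y (fun b ↦ ?_)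
      intro hz
      have hb : ∀ n, c ≤ n → g (b n) = 0 := fun n hn => by
        have := congrArg (fun x ↦ x.val n) hz
        simpa [hbot n hn] using this
      choose a ha using fun n => (hig (b (n + c))).mp (hb (n + c) (by omega))
      refine ⟨AdicCompletion.mk I M (AdicCompletion.AdicCauchySequence.mk I M a fun n => ?_), ?_⟩
      · rw [SModEq.sub_mem]
        refine hpull n _ ?_
        rw [map_sub, ha, ha, ← SModEq.sub_mem]
        exact b.2 (show n + c ≤ n + 1 + c by omega)
      · ext n
        suffices h : Submodule.Quotient.mk (p := (I ^ n • ⊤ : Submodule R N)) (i (a n)) =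
            Submodule.Quotient.mk (p := (I ^ n • ⊤ : Submodule R N)) (b (n + c)) by
          simp [h, AdicCompletion.AdicCauchySequence.mk_eq_mk (show n ≤ n + c by omega)]
        rw [ha]
  · intro x y hxy
    have := congrArg (fun z => z.val c) hxy
    simp only [AdicCompletion.of_apply, Submodule.mkQ_apply, Submodule.Quotient.eq, hbot c le_rfl,
      Submodule.mem_bot] at this
    exact sub_eq_zero.mp this
  · refine AdicCompletion.of_surjective_iff.mpr ⟨fun f hf => ⟨f c, fun n => ?_⟩⟩
    rcases le_total n c with h | h
    · exact hf h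
    · have h2 : f c ≡ f n [SMOD (I ^ c • ⊤ : Submodule R Q)] := hf h
      rw [hbot c le_rfl, SModEq.bot] at h2
      rw [h2]

end Groth.Agent.S9600
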