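import Groth.Statements.S9601
import Mathlib.RingTheory.AdicCompletion.Basic

set_option autoImplicit false
universe u
open CAlg

namespace Groth.Agent.S9601

/-- For a ring R, an ideal I of R and an R-module M, let M^ be the I-adic completion and K_n the kernel
of the projection M^ → M/IⁿM. The completion M^ is I-adically complete exactly when K_n = Iⁿ M^
holds for every n ≥ 1. -/
theorem result {R : Type u} [CommRing R] (I : Ideal R) (M : Type u) [AddCommGroup M] [Module R M] :
    IsAdicComplete I (AdicCompletion I M) ↔ ∀ n : ℕ, 1 ≤ n → LinearMap.ker (AdicCompletion.eval I M n) = I ^ n • (⊤ : Submodule R (AdicCompletion I M)) := by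
  constructor
  · intro hc n _
    refine le_antisymm (fun x hx => ?_) ?_
    · rw [LinearMap.mem_ker] at hx
      choose r hr using fun m => Submodule.Quotient.mk_surjective _ (AdicCompletion.eval I M m x)
      have hmem : ∀ {m : ℕ} {a : M}, a ∈ (I ^ m • ⊤ : Submodule R M) →
          AdicCompletion.of I M a ∈ (I ^ m • ⊤ : Submodule R (AdicCompletion I M)) := fun {m a} ha => by
        have := Submodule.mem_map_of_mem (f := AdicCompletion.of I M) ha
        rw [Submodule.map_smul''] at this
        exact (Submodule.smul_mono le_rfl le_top) this
      have hr' : ∀ {a b : ℕ}, a ≤ b → r b - r a ∈ (I ^ a • ⊤ : Submodule R M) := fun {a b} hab => by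
        rw [← Submodule.Quotient.eq, hr a]
        have := AdicCompletion.transitionMap_comp_eval_apply I M hab x
        rw [← AdicCompletion.eval_apply, ← hr b] at this
        simpa using this
      obtain ⟨y, hy⟩ := hc.toIsPrecomplete.prec (f := fun m => AdicCompletion.of I M (r m))
        (fun {a b} hab => by
          rw [SModEq.sub_mem, ← neg_mem_iff, neg_sub, ← map_sub]
          exact hmem (hr' hab))
      have hxy : y = x := by
        refine AdicCompletion.ext fun m => ?_
        have h1 := hy m
        rw [SModEq.sub_mem] at h1
        have h2 : AdicCompletion.eval I M m (AdicCompletion.of I M (r m) - y) = 0 := by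
          have := Submodule.mem_map_of_mem (f := AdicCompletion.eval I M m) h1
          rw [Submodule.map_smul''] at this
          have h3 : (I ^ m • ⊤ : Submodule R (M ⧸ (I ^ m • ⊤ : Submodule R M))) = ⊥ := by
            rw [← Submodule.range_mkQ (I ^ m • ⊤ : Submodule R M), ← Submodule.map_top,
              ← Submodule.map_smul'', Submodule.mkQ_map_self]
          have h4 := (Submodule.smul_mono le_rfl le_top) this
          rw [h3] at h4
          exact (Submodule.mem_bot R).mp h4
        rw [map_sub, sub_eq_zero, AdicCompletion.eval_of, Submodule.mkQ_apply, hr m] at h2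
        exact h2.symm
      have h1 := hy n
      rw [SModEq.sub_mem, hxy, ← neg_mem_iff, neg_sub] at h1
      have h2 : r n ∈ (I ^ n • ⊤ : Submodule R M) := by
        rw [← Submodule.Quotient.mk_eq_zero, hr n, hx]
      have := add_mem h1 (hmem h2)
      rwa [sub_add_cancel] at this
    · intro x hx
      refine Submodule.smul_induction_on hx (fun a ha m _ => ?_) fun a b ha hb => add_mem ha hb
      obtain ⟨q, hq⟩ := Submodule.Quotient.mk_surjective _ (AdicCompletion.eval I M n m)
      rw [LinearMap.mem_ker, map_smul, ← hq, ← Submodule.Quotient.mk_smul, Submodule.Quotient.mk_eq_zero]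
      exact Submodule.smul_mem_smul ha trivial
  · intro h
    refine @IsAdicComplete.mk _ _ I _ _ _ inferInstance ⟨fun f hf => ?_⟩
    have hker : ∀ n, LinearMap.ker (AdicCompletion.eval I M n) = I ^ n • (⊤ : Submodule R (AdicCompletion I M)) := by
      intro n
      rcases Nat.eq_zero_or_pos n with rfl | hn
      · refine Eq.trans ?_ (show (⊤ : Submodule R (AdicCompletion I M)) = I ^ 0 • ⊤ by simp)
        refine top_le_iff.mp fun z _ => LinearMap.mem_ker.mpr ?_
        obtain ⟨q, hq⟩ := Submodule.Quotient.mk_surjective _ (AdicCompletion.eval I M 0 z)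
        rw [← hq, Submodule.Quotient.mk_eq_zero]
        simp
      · exact h n hn
    let L : AdicCompletion I M := ⟨fun n => AdicCompletion.eval I M n (f n), fun {a b} hab => by
      have h1 := hf hab
      rw [SModEq.sub_mem, ← hker, LinearMap.mem_ker, map_sub, sub_eq_zero] at h1
      exact (AdicCompletion.transitionMap_comp_eval_apply I M hab (f b)).trans h1.symm⟩
    refine ⟨L, fun n => ?_⟩
    rw [SModEq.sub_mem, ← hker, LinearMap.mem_ker, map_sub]
    exact sub_self _


end Groth.Agent.S9601
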