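import Groth.Statements.S9602
import Mathlib
-- import your own Groth.Agent.* helpers here

set_option autoImplicit false
universe u
open CAlg

namespace Groth.Agent.S9602

/-- Let R be a ring, I an ideal of R and R^ = lim R/Iⁿ the I-adic completion. An element of R^ whose
image in R/I is invertible is itself invertible in R^; and the kernel of R^ → R/I as well as the
extended ideal I R^ both lie inside the Jacobson radical of R^. -/
theorem result {R : Type u} [CommRing R] (I : Ideal R) :
    (∀ x : AdicCompletion I R, IsUnit (AdicCompletion.evalOneₐ I x) → IsUnit x) ∧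
      RingHom.ker (AdicCompletion.evalOneₐ I).toRingHom ≤ (⊥ : Ideal (AdicCompletion I R)).jacobson ∧
      I.map (algebraMap R (AdicCompletion I R)) ≤ (⊥ : Ideal (AdicCompletion I R)).jacobson := by
  classical
  have hu : ∀ x : AdicCompletion I R, IsUnit (AdicCompletion.evalOneₐ I x) → IsUnit x := by
    intro x hx
    obtain ⟨a, rfl⟩ := AdicCompletion.mk_surjective I R x
    have key : ∀ n, ∃ b, a.1 n * b - 1 ∈ I ^ n := by
      intro n
      rcases Nat.eq_zero_or_pos n with hn | hn
      · subst hn; exact ⟨0, by rw [pow_zero, Ideal.one_eq_top]; exact Submodule.mem_top⟩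
      have h1 : IsUnit (Ideal.Quotient.mk I (a.1 n)) := by
        have h2 : AdicCompletion.evalOneₐ I (AdicCompletion.mk I R a) = Ideal.Quotient.mk I (a.1 n) := by
          rw [← AdicCompletion.factorₐ_evalₐ_one, AdicCompletion.evalₐ_mk, Ideal.Quotient.factor_mk,
            Ideal.Quotient.eq]
          have h3 := a.2 hn
          rw [SModEq.sub_mem, smul_eq_mul, Ideal.mul_top, pow_one] at h3
          exact h3
        rwa [h2] at hx
      obtain ⟨c, hc⟩ := h1.exists_right_inv
      obtain ⟨c, rfl⟩ := Ideal.Quotient.mk_surjective c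
      rw [← map_mul, ← map_one (Ideal.Quotient.mk I), Ideal.Quotient.eq] at hc
      obtain ⟨q, hq⟩ := sub_dvd_pow_sub_pow (1 : R) (1 - a.1 n * c) n
      rw [sub_sub_cancel, one_pow] at hq
      refine ⟨c * q, ?_⟩
      rw [← mul_assoc, ← hq, show (1 : R) - (1 - a.1 n * c) ^ n - 1 = -(1 - a.1 n * c) ^ n by ring]
      exact neg_mem (Ideal.pow_mem_pow (by rw [← neg_sub]; exact neg_mem hc) n)
    choose b hb using key
    have hbc : ∀ {m n}, m ≤ n → b m ≡ b n [SMOD (I ^ m • ⊤ : Submodule R R)] := by
      intro m n hmn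
      rw [SModEq.sub_mem, smul_eq_mul, Ideal.mul_top]
      have h1 := a.2 hmn
      rw [SModEq.sub_mem, smul_eq_mul, Ideal.mul_top] at h1
      have h2 := hb m
      have h3 := Ideal.pow_le_pow_right hmn (hb n)
      rw [show b m - b n = b m * (a.1 n * b n - 1) * (-1) + b n * (a.1 m * b m - 1) +
          b m * b n * (-(a.1 m - a.1 n)) by ring]
      exact add_mem (add_mem (Ideal.mul_mem_right _ _ (Ideal.mul_mem_left _ _ h3))
        (Ideal.mul_mem_left _ _ h2)) (Ideal.mul_mem_left _ _ (neg_mem h1))
    refine IsUnit.of_mul_eq_one (AdicCompletion.mk I R ⟨b, hbc⟩) (AdicCompletion.ext_evalₐ fun n => ?_)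
    rw [map_mul, map_one, AdicCompletion.evalₐ_mk, AdicCompletion.evalₐ_mk, ← map_mul,
      ← map_one (Ideal.Quotient.mk (I ^ n)), Ideal.Quotient.eq]
    exact hb n
  have hker : RingHom.ker (AdicCompletion.evalOneₐ I).toRingHom ≤
      (⊥ : Ideal (AdicCompletion I R)).jacobson := by
    intro x hx
    rw [Ideal.mem_jacobson_bot]
    intro y
    refine hu _ ?_
    rw [map_add, map_mul, map_one, show AdicCompletion.evalOneₐ I x = 0 from hx, zero_mul, zero_add]
    exact isUnit_one
  refine ⟨hu, hker, le_trans (Ideal.map_le_iff_le_comap.2 fun r hr => ?_) hker⟩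
  rw [Ideal.mem_comap, RingHom.mem_ker]
  exact (congrArg (fun g => g r) (AdicCompletion.evalOneₐ_comp_algebraMap_eq_mk I)).trans
    (Ideal.Quotient.eq_zero_iff_mem.2 hr)

end Groth.Agent.S9602
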