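import Groth.Statements.S9603
import Mathlib.RingTheory.AdicCompletion.Exactness
import Mathlib.RingTheory.Ideal.Operations
import Mathlib.RingTheory.Finiteness.Ideal
import Mathlib.Algebra.BigOperators.Intervals

set_option autoImplicit false
universe u
open CAlg

namespace Groth.Agent.S9603

/-- For a ring A, elements f_1, …, f_r generating an ideal I and an A-module M, if the canonical map
from M to its (f_i)-adic completion is surjective for every i, then the canonical map from M to its
I-adic completion is surjective. -/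
theorem result {A : Type u} [CommRing A] {r : ℕ} (f : Fin r → A) (M : Type u) [AddCommGroup M] [Module A M] (h : ∀ i, Function.Surjective (AdicCompletion.of (Ideal.span {f i}) M)) :
    Function.Surjective (AdicCompletion.of (Ideal.span (Set.range f)) M) := by
  classical
  have hpre : ∀ i, IsPrecomplete (Ideal.span {f i}) M := fun i => AdicCompletion.of_surjective_iff.mp (h i)
  refine AdicCompletion.of_surjective_iff.mpr ⟨fun a ha => ?_⟩
  let I := Ideal.span (Set.range f)
  have hN : ∀ n, ∃ N, I ^ N ≤ Ideal.span (Set.range fun i => f i ^ n) := fun n => by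
    refine Ideal.exists_pow_le_of_le_radical_of_fg ?_ (Submodule.fg_span (Set.finite_range f))
    rw [Ideal.span_le]
    rintro _ ⟨i, rfl⟩
    exact ⟨n, Ideal.subset_span ⟨i, rfl⟩⟩
  choose N hN using hN
  let P : ℕ → ℕ := fun n => ∑ j ∈ Finset.range (n + 1), (N j + 1)
  have hPn : ∀ n, N n ≤ P n ∧ n ≤ P n ∧ P n ≤ P (n + 1) := fun n => by
    refine ⟨?_, ?_, ?_⟩
    · exact (Nat.le_succ _).trans (Finset.single_le_sum (f := fun j => N j + 1) (fun _ _ => Nat.zero_le _) (Finset.self_mem_range_succ n))
    · calc n ≤ ∑ _j ∈ Finset.range (n + 1), 1 := by simp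
        _ ≤ P n := Finset.sum_le_sum fun j _ => Nat.le_add_left 1 _
    · exact Finset.sum_le_sum_of_subset (Finset.range_mono (Nat.le_succ _))
  have hd : ∀ n, ∃ e : Fin r → M, a (P (n + 1)) - a (P n) = ∑ i, f i ^ n • e i := fun n => by
    have h1 : a (P (n + 1)) - a (P n) ∈ (I ^ P n • ⊤ : Submodule A M) := by
      have h0 := SModEq.sub_mem.mp (ha (hPn n).2.2)
      rw [← neg_mem_iff, neg_sub]
      exact h0
    have h2 := Submodule.smul_mono_left ((Ideal.pow_le_pow_right (hPn n).1).trans (hN n)) h1
    refine Submodule.smul_induction_on h2 (fun c hc m _ => ?_) ?_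
    · obtain ⟨w, rfl⟩ := (Ideal.mem_span_range_iff_exists_fun (R := A)).mp hc
      exact ⟨fun i => w i • m, by rw [Finset.sum_smul]; simp only [smul_smul, mul_comm]⟩
    · rintro u v ⟨e₁, rfl⟩ ⟨e₂, rfl⟩
      exact ⟨e₁ + e₂, by simp [Finset.sum_add_distrib]⟩
  choose e he using hd
  let s : Fin r → ℕ → M := fun i n => ∑ j ∈ Finset.range n, f i ^ j • e j i
  have hL : ∀ i, ∃ L, ∀ n, s i n ≡ L [SMOD (Ideal.span {f i} ^ n • ⊤ : Submodule A M)] := fun i => by
    refine (hpre i).prec fun {m n} hmn => ?_
    rw [SModEq.sub_mem, ← neg_mem_iff, neg_sub]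
    simp only [s]
    rw [← Finset.sum_Ico_eq_sub _ hmn]
    refine Submodule.sum_mem _ fun j hj => ?_
    refine Submodule.smul_mem_smul ?_ trivial
    exact Ideal.pow_le_pow_right (Finset.mem_Ico.mp hj).1 (Ideal.pow_mem_pow (Ideal.mem_span_singleton_self _) j)
  choose L hL using hL
  have hb : ∀ n, a (P n) = a (P 0) + ∑ i, s i n := by
    intro n
    induction n with
    | zero => simp [s]
    | succ n ih =>
      simp only [s, Finset.sum_range_succ, Finset.sum_add_distrib]
      rw [← he n, ← add_assoc]
      simp only [s] at ih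
      rw [← ih, add_sub_cancel]
  refine ⟨a (P 0) + ∑ i, L i, fun n => ?_⟩
  refine (ha (hPn n).2.1).trans ?_
  rw [hb n, SModEq.sub_mem, add_sub_add_left_eq_sub, ← Finset.sum_sub_distrib]
  refine Submodule.sum_mem _ fun i _ => ?_
  exact Submodule.smul_mono_left (Ideal.pow_right_mono
    (Ideal.span_mono (Set.singleton_subset_iff.mpr (Set.mem_range_self i))) n) (SModEq.sub_mem.mp (hL i n))


end Groth.Agent.S9603
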