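import Groth.Statements.S9604
import Mathlib
-- import your own Groth.Agent.* helpers here

set_option autoImplicit false
universe u
open CAlg

namespace Groth.Agent.S9604

/-- Let R be a ring and I, J ideals of R with I^c ⊆ J and J^d ⊆ I for some integers c, d > 0. Then for
an R-module, being complete in the I-adic topology is equivalent to being complete in the J-adic
topology. -/
theorem result {R : Type u} [CommRing R] (I J : Ideal R) (c d : ℕ) (hc : 0 < c) (hd : 0 < d) (hI : I ^ c ≤ J) (hJ : J ^ d ≤ I) (M : Type u) [AddCommGroup M] [Module R M] :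
    IsAdicComplete I M ↔ IsAdicComplete J M := by
  have key : ∀ (I J : Ideal R) (c d : ℕ), 0 < c → 0 < d → I ^ c ≤ J → J ^ d ≤ I →
      IsAdicComplete I M → IsAdicComplete J M := by
    intro I J c d hc hd hI hJ _
    have hJn : ∀ n, (J ^ (d * n) • ⊤ : Submodule R M) ≤ I ^ n • ⊤ := fun n =>
      Submodule.smul_mono_left (by rw [pow_mul]; exact Ideal.pow_right_mono hJ n)
    have hIn : ∀ n, (I ^ (c * n) • ⊤ : Submodule R M) ≤ J ^ n • ⊤ := fun n =>
      Submodule.smul_mono_left (by rw [pow_mul]; exact Ideal.pow_right_mono hI n)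
    haveI : IsHausdorff J M := ⟨fun x hx => IsHausdorff.haus ‹IsAdicComplete I M›.toIsHausdorff x
      fun n => (hx (d * n)).mono (hJn n)⟩
    haveI : IsPrecomplete J M := ⟨fun f hf => by
      obtain ⟨L, hL⟩ := IsPrecomplete.prec ‹IsAdicComplete I M›.toIsPrecomplete
        (f := fun n => f (d * n)) (fun {m n} hmn => (hf (Nat.mul_le_mul_left d hmn)).mono (hJn m))
      refine ⟨L, fun n => ?_⟩
      have h1 := (hL (c * n)).mono (hIn n)
      exact (hf (show n ≤ d * (c * n) from
        (Nat.le_mul_of_pos_left n hc).trans (Nat.le_mul_of_pos_left _ hd))).trans h1⟩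
    exact { }
  exact ⟨key I J c d hc hd hI hJ, key J I d c hd hc hJ hI⟩

end Groth.Agent.S9604
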