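import Groth.Statements.S9605
import Mathlib
-- import your own Groth.Agent.* helpers here

set_option autoImplicit false
universe u
open CAlg

namespace Groth.Agent.S9605

/-- For a ring R, an ideal I of R, an I-adically complete R-module M and a submodule K of M, the
quotient M/K is I-adically complete if and only if K = ⋂ₙ (K + IⁿM). -/
theorem result {R : Type u} [CommRing R] (I : Ideal R) (M : Type u) [AddCommGroup M] [Module R M] [IsAdicComplete I M] (K : Submodule R M) :
    IsAdicComplete I (M ⧸ K) ↔ K = ⨅ n : ℕ, K ⊔ I ^ n • (⊤ : Submodule R M) := by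
  have : IsPrecomplete I (M ⧸ K) := AdicCompletion.of_surjective_iff.mp (fun y => by
    obtain ⟨x, rfl⟩ := AdicCompletion.map_surjective I K.mkQ_surjective y
    obtain ⟨m, rfl⟩ := AdicCompletion.of_surjective I M x
    exact ⟨K.mkQ m, by ext n; simp⟩)
  have hmem : ∀ (n : ℕ) (x : M), K.mkQ x ∈ (I ^ n • ⊤ : Submodule R (M ⧸ K)) ↔
      x ∈ K ⊔ I ^ n • (⊤ : Submodule R M) := fun n x => by
    rw [← Submodule.comap_map_mkQ, Submodule.mem_comap, Submodule.map_smul'', Submodule.map_top,
      Submodule.range_mkQ]
  constructor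
  · intro h
    refine le_antisymm (le_iInf fun n => le_sup_left) fun x hx => ?_
    refine (Submodule.Quotient.mk_eq_zero K).mp (h.toIsHausdorff.haus _ fun n => ?_)
    exact SModEq.zero.mpr ((hmem n x).mpr ((Submodule.mem_iInf _).mp hx n))
  · intro h
    have : IsHausdorff I (M ⧸ K) := ⟨fun y hy => by
      obtain ⟨x, rfl⟩ := K.mkQ_surjective y
      refine (Submodule.Quotient.mk_eq_zero K).mpr ?_
      rw [h]
      exact (Submodule.mem_iInf _).mpr fun n => (hmem n x).mp (SModEq.zero.mp (hy n))⟩
    exact { }

end Groth.Agent.S9605
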