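import Groth.Statements.S9606
import Mathlib
-- import your own Groth.Agent.* helpers here

set_option autoImplicit false
universe u
open CAlg

namespace Groth.Agent.S9606

theorem main {R S : Type u} [CommRing R] [CommRing S] [Algebra R S]
    (hgen : Algebra.adjoin R {x : S | x ^ 2 ∈ Set.range (algebraMap R S) ∧ x ^ 3 ∈ Set.range (algebraMap R S)} = ⊤)
    (hker : ∀ r : R, algebraMap R S r = 0 → IsNilpotent r) :
    IsHomeomorph (PrimeSpectrum.comap (algebraMap R S)) ∧
      ∀ (q : Ideal S) [q.IsPrime], Function.Bijective (Ideal.ResidueField.map (q.comap (algebraMap R S)) q (algebraMap R S) rfl) := by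
  have hint : (algebraMap R S).IsIntegral := by
    intro x
    have hx : x ∈ integralClosure R S := by
      have : x ∈ Algebra.adjoin R {x : S | x ^ 2 ∈ Set.range (algebraMap R S) ∧ x ^ 3 ∈ Set.range (algebraMap R S)} := by
        rw [hgen]; trivial
      refine Algebra.adjoin_le ?_ this
      rintro y ⟨⟨a, ha⟩, -⟩
      exact IsIntegral.of_pow two_pos (ha ▸ isIntegral_algebraMap)
    exact hx
  -- images of generators
  have key : ∀ (p : Ideal R) [p.IsPrime] (q : Ideal S) [q.IsPrime] (h : p = q.comap (algebraMap R S)) (x : S),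
      x ^ 2 ∈ Set.range (algebraMap R S) → x ^ 3 ∈ Set.range (algebraMap R S) →
      ∀ a b, algebraMap R S a = x ^ 2 → algebraMap R S b = x ^ 3 →
      algebraMap S q.ResidueField x =
        Ideal.ResidueField.map p q (algebraMap R S) h (algebraMap R p.ResidueField b / algebraMap R p.ResidueField a) := by
    intro p _ q _ h x _ _ a b ha hb
    rw [map_div₀, Ideal.ResidueField.map_algebraMap, Ideal.ResidueField.map_algebraMap, ha, hb, map_pow, map_pow]
    rcases eq_or_ne (algebraMap S q.ResidueField x) 0 with h0 | h0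
    · rw [h0]; simp
    · field_simp
  have hsurj : ∀ (p : Ideal R) [p.IsPrime] (q : Ideal S) [q.IsPrime] (h : p = q.comap (algebraMap R S)) (s : S),
      ∃ c, Ideal.ResidueField.map p q (algebraMap R S) h c = algebraMap S q.ResidueField s := by
    intro p _ q _ h s
    have : s ∈ Algebra.adjoin R {x : S | x ^ 2 ∈ Set.range (algebraMap R S) ∧ x ^ 3 ∈ Set.range (algebraMap R S)} := by
      rw [hgen]; trivial
    induction this using Algebra.adjoin_induction with
    | mem x hx =>
      obtain ⟨⟨a, ha⟩, b, hb⟩ := hx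
      exact ⟨_, (key p q h x ⟨a, ha⟩ ⟨b, hb⟩ a b ha hb).symm⟩
    | algebraMap r => exact ⟨_, Ideal.ResidueField.map_algebraMap p q _ h r⟩
    | add x y _ _ hx hy => obtain ⟨c, hc⟩ := hx; obtain ⟨d, hd⟩ := hy; exact ⟨c + d, by rw [map_add, map_add, hc, hd]⟩
    | mul x y _ _ hx hy => obtain ⟨c, hc⟩ := hx; obtain ⟨d, hd⟩ := hy; exact ⟨c * d, by rw [map_mul, map_mul, hc, hd]⟩
  have hinj : ∀ (p : Ideal R) [p.IsPrime] (q₁ q₂ : Ideal S) [q₁.IsPrime] [q₂.IsPrime]
      (h₁ : p = q₁.comap (algebraMap R S)) (h₂ : p = q₂.comap (algebraMap R S)) (s : S),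
      ∃ c, Ideal.ResidueField.map p q₁ (algebraMap R S) h₁ c = algebraMap S q₁.ResidueField s ∧
        Ideal.ResidueField.map p q₂ (algebraMap R S) h₂ c = algebraMap S q₂.ResidueField s := by
    intro p _ q₁ q₂ _ _ h₁ h₂ s
    have : s ∈ Algebra.adjoin R {x : S | x ^ 2 ∈ Set.range (algebraMap R S) ∧ x ^ 3 ∈ Set.range (algebraMap R S)} := by
      rw [hgen]; trivial
    induction this using Algebra.adjoin_induction with
    | mem x hx =>
      obtain ⟨⟨a, ha⟩, b, hb⟩ := hx
      exact ⟨_, (key p q₁ h₁ x ⟨a, ha⟩ ⟨b, hb⟩ a b ha hb).symm, (key p q₂ h₂ x ⟨a, ha⟩ ⟨b, hb⟩ a b ha hb).symm⟩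
    | algebraMap r => exact ⟨_, Ideal.ResidueField.map_algebraMap p q₁ _ h₁ r, Ideal.ResidueField.map_algebraMap p q₂ _ h₂ r⟩
    | add x y _ _ hx hy =>
      obtain ⟨c, hc, hc'⟩ := hx; obtain ⟨d, hd, hd'⟩ := hy
      exact ⟨c + d, by rw [map_add, map_add, hc, hd], by rw [map_add, map_add, hc', hd']⟩
    | mul x y _ _ hx hy =>
      obtain ⟨c, hc, hc'⟩ := hx; obtain ⟨d, hd, hd'⟩ := hy
      exact ⟨c * d, by rw [map_mul, map_mul, hc, hd], by rw [map_mul, map_mul, hc', hd']⟩
  refine ⟨(isHomeomorph_iff_continuous_isClosedMap_bijective).2 ⟨PrimeSpectrum.continuous_comap _,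
    PrimeSpectrum.isClosedMap_comap_of_isIntegral _ hint, ?_, ?_⟩, fun q _ => ⟨RingHom.injective _, ?_⟩⟩
  · intro q₁ q₂ he
    have h2 : q₁.asIdeal.comap (algebraMap R S) = q₂.asIdeal.comap (algebraMap R S) := congrArg PrimeSpectrum.asIdeal he
    apply PrimeSpectrum.ext
    ext s
    obtain ⟨c, hc1, hc2⟩ := hinj (q₁.asIdeal.comap (algebraMap R S)) q₁.asIdeal q₂.asIdeal rfl h2 s
    rw [← Ideal.algebraMap_residueField_eq_zero, ← hc1, ← Ideal.algebraMap_residueField_eq_zero, ← hc2, map_eq_zero, map_eq_zero]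
  · intro p
    have hle : RingHom.ker (algebraMap R S) ≤ p.asIdeal := fun r hr =>
      nilpotent_iff_mem_prime.1 (hker r hr) _ p.2
    haveI : Algebra.IsIntegral R S := ⟨hint⟩
    obtain ⟨Q, -, hQp, hQ⟩ := Ideal.exists_ideal_over_prime_of_isIntegral p.asIdeal (⊥ : Ideal S) hle
    exact ⟨⟨Q, hQp⟩, PrimeSpectrum.ext hQ⟩
  · intro z
    obtain ⟨a, b, -, rfl⟩ := IsFractionRing.div_surjective (A := S ⧸ q) z
    obtain ⟨a, rfl⟩ := Ideal.Quotient.mk_surjective a
    obtain ⟨b, rfl⟩ := Ideal.Quotient.mk_surjective b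
    obtain ⟨c, hc⟩ := hsurj (q.comap (algebraMap R S)) q rfl a
    obtain ⟨d, hd⟩ := hsurj (q.comap (algebraMap R S)) q rfl b
    exact ⟨c / d, by rw [map_div₀, hc, hd]; rfl⟩

end Groth.Agent.S9606

namespace Groth.Agent.S9606

/-- Let R → S be a ring map with locally nilpotent kernel such that S is generated over R by elements x
with x² and x³ in the image of R. Then the induced map on spectra is a homeomorphism and every
residue field map κ(p) → κ(q), for q a prime of S with inverse image p, is bijective. -/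
theorem result {R S : Type u} [CommRing R] [CommRing S] [Algebra R S]
    (hgen : Algebra.adjoin R {x : S | x ^ 2 ∈ Set.range (algebraMap R S) ∧ x ^ 3 ∈ Set.range (algebraMap R S)} = ⊤)
    (hker : ∀ r : R, algebraMap R S r = 0 → IsNilpotent r) :
    IsHomeomorph (PrimeSpectrum.comap (algebraMap R S)) ∧
      ∀ (q : Ideal S) [q.IsPrime], Function.Bijective (Ideal.ResidueField.map (q.comap (algebraMap R S)) q (algebraMap R S) rfl) := by
  exact Groth.Agent.S9606.main hgen hker

end Groth.Agent.S9606
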