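import Groth.Statements.S9607
import Mathlib
-- import your own Groth.Agent.* helpers here

set_option autoImplicit false
universe u
open CAlg

open MvPolynomial

namespace Groth.Agent.S9607

/-- `p^a ∣ p^v * choose`-type bound -/
theorem dvd_choose (p a c i : ℕ) (hp : p.Prime) (hc : c ≤ a) (hi : ¬ p ^ c ∣ i) (hia : i ≤ p ^ a) :
    p ^ (a - c) ∣ Nat.choose (p ^ a) i := by
  obtain ⟨v, u, hu, rfl⟩ := Nat.exists_eq_pow_mul_and_not_dvd (n := i) (by rintro rfl; exact hi (dvd_zero _)) p hp.ne_one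
  have hv : v < c := by
    by_contra h
    exact hi (dvd_mul_of_dvd_left (pow_dvd_pow p (not_lt.1 h)) u)
  have hiu : p ^ v * u = (p ^ v * u - 1) + 1 := by
    have : 0 < p ^ v * u := Nat.pos_of_ne_zero fun h => hi (h ▸ dvd_zero _)
    omega
  have key : p ^ a ∣ p ^ v * u * Nat.choose (p ^ a) (p ^ v * u) := by
    have hpa : p ^ a = (p ^ a - 1) + 1 := by have := pow_pos hp.pos a; omega
    have := Nat.add_one_mul_choose_eq (p ^ a - 1) (p ^ v * u - 1)
    rw [← hiu, ← hpa] at this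
    rw [mul_comm (p ^ v * u), ← this]
    exact dvd_mul_right _ _
  rw [mul_assoc, show p ^ a = p ^ v * p ^ (a - v) by rw [← pow_add]; congr 1; omega] at key
  have h2 := (Nat.mul_dvd_mul_iff_left (pow_pos hp.pos v)).1 key
  rw [← show p ^ a = p ^ v * p ^ (a - v) by rw [← pow_add]; congr 1; omega] at h2
  exact (pow_dvd_pow p (by omega)).trans (((hp.coprime_iff_not_dvd.2 hu).pow_left _).dvd_of_dvd_mul_left h2)

theorem main (p : ℕ) (hp : p.Prime) (n m : ℕ) :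
    ∃ a : ℕ, ((X 0 + X 1 : MvPolynomial (Fin 2) ℤ) ^ (p ^ a) ∈ Algebra.adjoin ℤ ({X 0 ^ (p ^ n), (p : MvPolynomial (Fin 2) ℤ) ^ n * X 0, X 1 ^ (p ^ m), (p : MvPolynomial (Fin 2) ℤ) ^ m * X 1} : Set (MvPolynomial (Fin 2) ℤ)) ∧
      (p : MvPolynomial (Fin 2) ℤ) ^ a * (X 0 + X 1) ∈ Algebra.adjoin ℤ ({X 0 ^ (p ^ n), (p : MvPolynomial (Fin 2) ℤ) ^ n * X 0, X 1 ^ (p ^ m), (p : MvPolynomial (Fin 2) ℤ) ^ m * X 1} : Set (MvPolynomial (Fin 2) ℤ))) := by
  set A := Algebra.adjoin ℤ ({X 0 ^ (p ^ n), (p : MvPolynomial (Fin 2) ℤ) ^ n * X 0, X 1 ^ (p ^ m), (p : MvPolynomial (Fin 2) ℤ) ^ m * X 1} : Set (MvPolynomial (Fin 2) ℤ)) with hA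
  have h1 : (X 0 : MvPolynomial (Fin 2) ℤ) ^ (p ^ n) ∈ A := Algebra.subset_adjoin (by simp)
  have h2 : (p : MvPolynomial (Fin 2) ℤ) ^ n * X 0 ∈ A := Algebra.subset_adjoin (by simp)
  have h3 : (X 1 : MvPolynomial (Fin 2) ℤ) ^ (p ^ m) ∈ A := Algebra.subset_adjoin (by simp)
  have h4 : (p : MvPolynomial (Fin 2) ℤ) ^ m * X 1 ∈ A := Algebra.subset_adjoin (by simp)
  have hp' : (p : MvPolynomial (Fin 2) ℤ) ∈ A := natCast_mem A p
  let b := n * p ^ n + m * p ^ m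
  let a := n + m + b
  refine ⟨a, ?_, ?_⟩
  · rw [add_pow]
    refine sum_mem fun i hi => ?_
    rw [Finset.mem_range] at hi
    set j := p ^ a - i with hj
    set q := i / p ^ n
    set r := i % p ^ n
    set q' := j / p ^ m
    set r' := j % p ^ m
    obtain ⟨C, hC⟩ : p ^ (n * r + m * r') ∣ Nat.choose (p ^ a) i := by
      by_cases h : p ^ (n + m) ∣ i
      · have hr : r = 0 := Nat.mod_eq_zero_of_dvd ((pow_dvd_pow p (Nat.le_add_right n m)).trans h)
        have hr' : r' = 0 := Nat.mod_eq_zero_of_dvd ((pow_dvd_pow p (Nat.le_add_left m n)).trans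
          (Nat.dvd_sub (pow_dvd_pow p (by omega)) h))
        simp [hr, hr']
      · refine (pow_dvd_pow p ?_).trans (dvd_choose p a (n + m) i hp (by omega) h (by omega))
        have e1 : n * r ≤ n * p ^ n := Nat.mul_le_mul_left n (Nat.mod_lt _ (pow_pos hp.pos n)).le
        have e2 : m * r' ≤ m * p ^ m := Nat.mul_le_mul_left m (Nat.mod_lt _ (pow_pos hp.pos m)).le
        omega
    have e : (X 0 : MvPolynomial (Fin 2) ℤ) ^ i * X 1 ^ j * (Nat.choose (p ^ a) i : MvPolynomial (Fin 2) ℤ) =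
        (X 0 ^ (p ^ n)) ^ q * ((p : MvPolynomial (Fin 2) ℤ) ^ n * X 0) ^ r *
          ((X 1 ^ (p ^ m)) ^ q' * ((p : MvPolynomial (Fin 2) ℤ) ^ m * X 1) ^ r') * (C : MvPolynomial (Fin 2) ℤ) := by
      rw [hC, ← Nat.div_add_mod i (p ^ n), ← Nat.div_add_mod j (p ^ m)]
      push_cast
      ring
    rw [e]
    exact mul_mem (mul_mem (mul_mem (pow_mem h1 _) (pow_mem h2 _)) (mul_mem (pow_mem h3 _) (pow_mem h4 _))) (natCast_mem A C)
  · rw [mul_add, show a = (a - n) + n by omega, pow_add, mul_assoc]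
    refine add_mem (mul_mem (pow_mem hp' _) h2) ?_
    rw [← pow_add, show (a - n) + n = (a - m) + m by omega, pow_add, mul_assoc]
    exact mul_mem (pow_mem hp' _) h4

end Groth.Agent.S9607

namespace Groth.Agent.S9607

/-- For a prime number p and integers n, m > 0 there exists an integer a such that (x + y)^(p^a) and p^a
(x + y) both belong to the subring ℤ[x^(p^n), p^n x, y^(p^m), p^m y] of the polynomial ring ℤ[x, y]. -/
theorem result (p : ℕ) (hp : p.Prime) (n m : ℕ) (hn : 0 < n) (hm : 0 < m) :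
    ∃ a : ℕ, ((MvPolynomial.X 0 + MvPolynomial.X 1 : MvPolynomial (Fin 2) ℤ) ^ (p ^ a) ∈ Algebra.adjoin ℤ ({MvPolynomial.X 0 ^ (p ^ n), (p : MvPolynomial (Fin 2) ℤ) ^ n * MvPolynomial.X 0, MvPolynomial.X 1 ^ (p ^ m), (p : MvPolynomial (Fin 2) ℤ) ^ m * MvPolynomial.X 1} : Set (MvPolynomial (Fin 2) ℤ)) ∧
      (p : MvPolynomial (Fin 2) ℤ) ^ a * (MvPolynomial.X 0 + MvPolynomial.X 1) ∈ Algebra.adjoin ℤ ({MvPolynomial.X 0 ^ (p ^ n), (p : MvPolynomial (Fin 2) ℤ) ^ n * MvPolynomial.X 0, MvPolynomial.X 1 ^ (p ^ m), (p : MvPolynomial (Fin 2) ℤ) ^ m * MvPolynomial.X 1} : Set (MvPolynomial (Fin 2) ℤ))) := by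
  exact Groth.Agent.S9607.main p hp n m

end Groth.Agent.S9607
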