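import Groth.Statements.S9608
import Mathlib
-- import your own Groth.Agent.* helpers here

set_option autoImplicit false
universe u
open CAlg

namespace Groth.Agent.S9608

/-- Let k'/k be a field extension and p a prime number. Then k' is generated over k by elements x for
which some n > 0 has x^(p^n) ∈ k and p^n x ∈ k, if and only if either k' = k, or k has
characteristic p and k'/k is purely inseparable. -/
theorem result {k k' : Type u} [Field k] [Field k'] [Algebra k k'] (p : ℕ) (hp : p.Prime) :
    IntermediateField.adjoin k {x : k' | ∃ n : ℕ, 0 < n ∧ x ^ (p ^ n) ∈ Set.range (algebraMap k k') ∧ (p : k') ^ n * x ∈ Set.range (algebraMap k k')} = ⊤ ↔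
      (Function.Surjective (algebraMap k k') ∨ (CharP k p ∧ IsPurelyInseparable k k')) := by
  by_cases hp0 : (p : k) = 0
  · haveI : CharP k p := by
      obtain ⟨q, hq⟩ := CharP.exists k
      have hdvd : q ∣ p := (CharP.cast_eq_zero_iff k q p).1 hp0
      rcases (Nat.dvd_prime hp).1 hdvd with h | h
      · subst h; exact absurd hq (fun hq => CharP.char_ne_one k 1 rfl)
      · subst h; exact hq
    haveI : ExpChar k p := ExpChar.prime hp
    have hp' : (p : k') = 0 := by rw [← map_natCast (algebraMap k k'), hp0, map_zero]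
    constructor
    · intro h
      refine Or.inr ⟨inferInstance, ?_⟩
      haveI : IsPurelyInseparable k (IntermediateField.adjoin k {x : k' | ∃ n : ℕ, 0 < n ∧ x ^ (p ^ n) ∈ Set.range (algebraMap k k') ∧ (p : k') ^ n * x ∈ Set.range (algebraMap k k')}) :=
        (IntermediateField.isPurelyInseparable_adjoin_iff_pow_mem k k' p).2 fun x ⟨n, _, hx, _⟩ => ⟨n, hx⟩
      rw [isPurelyInseparable_iff_pow_mem k p]
      intro x
      obtain ⟨n, c, hc⟩ := IsPurelyInseparable.pow_mem k p (⟨x, h ▸ IntermediateField.mem_top⟩ : IntermediateField.adjoin k {x : k' | ∃ n : ℕ, 0 < n ∧ x ^ (p ^ n) ∈ Set.range (algebraMap k k') ∧ (p : k') ^ n * x ∈ Set.range (algebraMap k k')})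
      exact ⟨n, c, congrArg Subtype.val hc⟩
    · intro h
      refine eq_top_iff.2 fun x _ => ?_
      rcases h with h | ⟨-, h⟩
      · obtain ⟨c, rfl⟩ := h x
        exact (IntermediateField.adjoin k _).algebraMap_mem c
      · haveI := h
        obtain ⟨n, c, hc⟩ := IsPurelyInseparable.pow_mem k p x
        refine IntermediateField.subset_adjoin k _ ⟨n + 1, n.succ_pos, ⟨c ^ p, ?_⟩, ⟨0, ?_⟩⟩
        · rw [map_pow, hc, ← pow_mul, pow_succ]
        · rw [hp', zero_pow n.succ_ne_zero, zero_mul, map_zero]
  · have hiff : IntermediateField.adjoin k {x : k' | ∃ n : ℕ, 0 < n ∧ x ^ (p ^ n) ∈ Set.range (algebraMap k k') ∧ (p : k') ^ n * x ∈ Set.range (algebraMap k k')} = ⊥ := by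
      rw [IntermediateField.adjoin_eq_bot_iff]
      rintro x ⟨n, -, -, c, hc⟩
      refine IntermediateField.mem_bot.2 ⟨c / (p : k) ^ n, ?_⟩
      have hne : (p : k') ≠ 0 := by
        rw [← map_natCast (algebraMap k k')]; exact (map_ne_zero _).2 hp0
      rw [map_div₀, map_pow, map_natCast, hc]
      field_simp
    rw [hiff]
    constructor
    · intro h
      refine Or.inl fun x => ?_
      exact IntermediateField.mem_bot.1 (h ▸ IntermediateField.mem_top : x ∈ (⊥ : IntermediateField k k'))
    · rintro (h | ⟨h, -⟩)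
      · exact eq_top_iff.2 fun x _ => IntermediateField.mem_bot.2 (h x)
      · exact absurd (CharP.cast_eq_zero k p) hp0
end Groth.Agent.S9608
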