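import Groth.Statements.S9609
import Mathlib
-- import your own Groth.Agent.* helpers here

set_option autoImplicit false
universe u
open CAlg

namespace Groth.Agent.S9609

open TensorProduct

variable {R S R' : Type u} [CommRing R] [CommRing S] [CommRing R'] [Algebra R S] [Algebra R R']

/-- All primes over `p'` give the same purely inseparable "value" to every element. -/
theorem exists_value (hinj : Function.Injective (PrimeSpectrum.comap (algebraMap R S)))
    (hpi : ∀ (q : Ideal S) [q.IsPrime] (x : q.ResidueField), ∃ n : ℕ, x ^ (ringExpChar (q.comap (algebraMap R S)).ResidueField) ^ n ∈ Set.range (Ideal.ResidueField.map (q.comap (algebraMap R S)) q (algebraMap R S) rfl))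
    (p' : Ideal R') [p'.IsPrime] (z : R' ⊗[R] S) :
    ∃ (n : ℕ) (c : p'.ResidueField), ∀ (q' : Ideal (R' ⊗[R] S)) [q'.IsPrime]
      (h : p' = q'.comap (algebraMap R' (R' ⊗[R] S))),
      algebraMap (R' ⊗[R] S) q'.ResidueField z ^ (ringExpChar p'.ResidueField) ^ n =
        Ideal.ResidueField.map p' q' (algebraMap R' (R' ⊗[R] S)) h c := by
  classical
  let e := ringExpChar p'.ResidueField
  haveI : ExpChar p'.ResidueField e := inferInstance
  by_cases hne : ∃ (q' : Ideal (R' ⊗[R] S)) (_ : q'.IsPrime), p' = q'.comap (algebraMap R' (R' ⊗[R] S))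
  swap
  · exact ⟨0, 0, fun q' hq' h => absurd ⟨q', hq', h⟩ hne⟩
  obtain ⟨q₀, hq₀, h₀⟩ := hne
  have hexp : ∀ (q' : Ideal (R' ⊗[R] S)) [q'.IsPrime] (_ : p' = q'.comap (algebraMap R' (R' ⊗[R] S))),
      ExpChar q'.ResidueField e := fun q' _ h =>
    expChar_of_injective_ringHom (Ideal.ResidueField.map p' q' (algebraMap R' (R' ⊗[R] S)) h).injective e
  induction z using TensorProduct.induction_on with
  | zero =>
    refine ⟨0, 0, fun q' _ h => ?_⟩
    simp
  | tmul r' s =>
    let incl : S →+* R' ⊗[R] S := (Algebra.TensorProduct.includeRight : S →ₐ[R] R' ⊗[R] S).toRingHom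
    have hincl : incl.comp (algebraMap R S) = (algebraMap R' (R' ⊗[R] S)).comp (algebraMap R R') := by
      ext r
      exact ((Algebra.TensorProduct.includeRight : S →ₐ[R] R' ⊗[R] S).commutes r).trans
        (IsScalarTower.algebraMap_apply R R' (R' ⊗[R] S) r)
    let q : Ideal S := q₀.comap incl
    have hq : ∀ (q' : Ideal (R' ⊗[R] S)) [q'.IsPrime] (_ : p' = q'.comap (algebraMap R' (R' ⊗[R] S))),
        q = q'.comap incl := fun q' hq' h => by
      have := @hinj ⟨q, inferInstance⟩ ⟨q'.comap incl, inferInstance⟩ (by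
        apply PrimeSpectrum.ext
        change q.comap (algebraMap R S) = (q'.comap incl).comap (algebraMap R S)
        simp only [q, Ideal.comap_comap]
        rw [hincl, ← Ideal.comap_comap, ← Ideal.comap_comap, ← h₀, ← h])
      exact congrArg PrimeSpectrum.asIdeal this
    obtain ⟨n, y, hy⟩ := hpi q (algebraMap S q.ResidueField s)
    have hp : q.comap (algebraMap R S) = p'.comap (algebraMap R R') := by
      simp only [q, h₀, Ideal.comap_comap, hincl]
    let j := Ideal.ResidueField.map (q.comap (algebraMap R S)) p' (algebraMap R R') hp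
    haveI : ExpChar (q.comap (algebraMap R S)).ResidueField e := RingHom.expChar j j.injective e
    rw [ringExpChar.eq (q.comap (algebraMap R S)).ResidueField e] at hy
    refine ⟨n, algebraMap R' p'.ResidueField r' ^ e ^ n * j y, fun q' hq' h => ?_⟩
    have hsplit : r' ⊗ₜ[R] s = algebraMap R' (R' ⊗[R] S) r' *
        (Algebra.TensorProduct.includeRight : S →ₐ[R] R' ⊗[R] S).toRingHom s := by simp
    rw [hsplit, map_mul, mul_pow, map_mul, map_pow, Ideal.ResidueField.map_algebraMap]
    congr 1
    let ψ := Ideal.ResidueField.map q q' (Algebra.TensorProduct.includeRight : S →ₐ[R] R' ⊗[R] S).toRingHom (hq q' h)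
    have hsq : ψ.comp (Ideal.ResidueField.map (q.comap (algebraMap R S)) q (algebraMap R S) rfl) =
        (Ideal.ResidueField.map p' q' (algebraMap R' (R' ⊗[R] S)) h).comp j := by
      apply Ideal.ResidueField.ringHom_ext
      ext r
      simp only [RingHom.comp_apply, ψ, j, Ideal.ResidueField.map_algebraMap]
      congr 1
      exact ((Algebra.TensorProduct.includeRight : S →ₐ[R] R' ⊗[R] S).commutes r).trans
        (IsScalarTower.algebraMap_apply R R' (R' ⊗[R] S) r)
    have := congrArg ψ hy
    rw [map_pow, Ideal.ResidueField.map_algebraMap] at this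
    rw [← this]
    exact RingHom.congr_fun hsq y
  | add a b ha hb =>
    obtain ⟨m, c, hc⟩ := ha
    obtain ⟨n, d, hd⟩ := hb
    refine ⟨m + n, c ^ e ^ n + d ^ e ^ m, fun q' _ h => ?_⟩
    haveI := hexp q' h
    rw [map_add, add_pow_expChar_pow, map_add, map_pow, map_pow, ← hc q' h, ← hd q' h, ← pow_mul, ← pow_mul,
      ← pow_add, ← pow_add, add_comm n m]

end Groth.Agent.S9609

namespace Groth.Agent.S9609

open TensorProduct in
/-- Let R → S be a ring map which is injective on spectra and whose residue field extensions κ(p) → κ(q)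
(q a prime of S with inverse image p) are purely inseparable: every element of κ(q) has a power with
exponent a power of the characteristic exponent lying in the image of κ(p). Then, given an arbitrary
R-algebra R', the induced map R' → R' ⊗_R S is likewise injective on spectra and has purely
inseparable residue field extensions. -/
theorem result {R S R' : Type u} [CommRing R] [CommRing S] [CommRing R'] [Algebra R S] [Algebra R R']
    (hinj : Function.Injective (PrimeSpectrum.comap (algebraMap R S)))
    (hpi : ∀ (q : Ideal S) [q.IsPrime] (x : q.ResidueField), ∃ n : ℕ, x ^ (ringExpChar (q.comap (algebraMap R S)).ResidueField) ^ n ∈ Set.range (Ideal.ResidueField.map (q.comap (algebraMap R S)) q (algebraMap R S) rfl)) :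
    Function.Injective (PrimeSpectrum.comap (algebraMap R' (R' ⊗[R] S))) ∧
      ∀ (q' : Ideal (R' ⊗[R] S)) [q'.IsPrime] (x : q'.ResidueField), ∃ n : ℕ, x ^ (ringExpChar (q'.comap (algebraMap R' (R' ⊗[R] S))).ResidueField) ^ n ∈ Set.range (Ideal.ResidueField.map (q'.comap (algebraMap R' (R' ⊗[R] S))) q' (algebraMap R' (R' ⊗[R] S)) rfl) := by
  classical
  constructor
  · intro P₁ P₂ h
    have h1 : P₁.asIdeal.comap (algebraMap R' (R' ⊗[R] S)) = P₂.asIdeal.comap (algebraMap R' (R' ⊗[R] S)) :=
      congrArg PrimeSpectrum.asIdeal h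
    apply PrimeSpectrum.ext
    ext z
    obtain ⟨n, c, hc⟩ := Groth.Agent.S9609.exists_value hinj hpi (P₁.asIdeal.comap (algebraMap R' (R' ⊗[R] S))) z
    have key : ∀ (P : Ideal (R' ⊗[R] S)) [P.IsPrime]
        (hP : P₁.asIdeal.comap (algebraMap R' (R' ⊗[R] S)) = P.comap (algebraMap R' (R' ⊗[R] S))),
        z ∈ P ↔ c = 0 := fun P _ hP => by
      rw [← Ideal.algebraMap_residueField_eq_zero, ← map_eq_zero (Ideal.ResidueField.map _ P _ hP),
        ← hc P hP]
      exact (pow_eq_zero_iff (pow_ne_zero _ (expChar_pos (P₁.asIdeal.comap (algebraMap R' (R' ⊗[R] S))).ResidueField _).ne')).symm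
    rw [key P₁.asIdeal rfl, key P₂.asIdeal h1]
  · intro q' _ x
    let p' := q'.comap (algebraMap R' (R' ⊗[R] S))
    let e := ringExpChar p'.ResidueField
    let φ := Ideal.ResidueField.map p' q' (algebraMap R' (R' ⊗[R] S)) rfl
    obtain ⟨⟨a, b⟩, hab⟩ := IsLocalization.surj (nonZeroDivisors ((R' ⊗[R] S) ⧸ q')) x
    obtain ⟨u, hu⟩ := Ideal.Quotient.mk_surjective a
    obtain ⟨v, hv⟩ := Ideal.Quotient.mk_surjective (b : (R' ⊗[R] S) ⧸ q')
    have hx : x * algebraMap _ q'.ResidueField v = algebraMap _ q'.ResidueField u := by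
      rw [IsScalarTower.algebraMap_apply (R' ⊗[R] S) ((R' ⊗[R] S) ⧸ q') q'.ResidueField,
        IsScalarTower.algebraMap_apply (R' ⊗[R] S) ((R' ⊗[R] S) ⧸ q') q'.ResidueField u,
        Ideal.Quotient.algebraMap_eq, hu, hv]
      exact hab
    have hv0 : algebraMap _ q'.ResidueField v ≠ 0 := by
      rw [ne_eq, Ideal.algebraMap_residueField_eq_zero, ← Ideal.Quotient.eq_zero_iff_mem, hv]
      exact nonZeroDivisors.ne_zero b.2
    obtain ⟨m, c, hc⟩ := Groth.Agent.S9609.exists_value hinj hpi p' u
    obtain ⟨n, d, hd⟩ := Groth.Agent.S9609.exists_value hinj hpi p' v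
    refine ⟨m + n, c ^ e ^ n / d ^ e ^ m, ?_⟩
    show φ (c ^ e ^ n / d ^ e ^ m) = x ^ e ^ (m + n)
    rw [map_div₀, map_pow, map_pow, ← hc q' rfl, ← hd q' rfl, ← pow_mul, ← pow_mul, ← pow_add, ← pow_add,
      add_comm n m, div_eq_iff (pow_ne_zero _ hv0), ← mul_pow, hx]

end Groth.Agent.S9609
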