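import Groth.Statements.S9610
import Mathlib
-- import your own Groth.Agent.* helpers here

set_option autoImplicit false
universe u
open CAlg

namespace Groth.Agent.S9610

/-- Let k be a field and V a nonzero k-vector space with dim_k V < #k as cardinals. Then every k-linear
endomorphism T of V admits a monic polynomial P over k for which P(T) is not invertible. -/
theorem result {k V : Type u} [Field k] [AddCommGroup V] [Module k V] [Nontrivial V] (hV : Module.rank k V < Cardinal.mk k) (T : Module.End k V) :
    ∃ P : Polynomial k, P.Monic ∧ ¬ IsUnit (Polynomial.aeval T P) := by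
  classical
  by_contra! hc
  obtain ⟨v, hv⟩ := exists_ne (0 : V)
  have hu : ∀ a : k, ∃ w, Polynomial.aeval T (Polynomial.X - Polynomial.C a) w = v := fun a =>
    ((Module.End.isUnit_iff _).mp (hc _ (Polynomial.monic_X_sub_C a))).2 v
  choose w hw using hu
  refine absurd (LinearIndependent.cardinal_le_rank (R := k) (v := w) ?_) (not_le.mpr hV)
  rw [linearIndependent_iff']
  intro s c hs a ha
  by_contra hca
  let Q : Polynomial k := ∑ b ∈ s, Polynomial.C (c b) * ∏ b' ∈ s.erase b, (Polynomial.X - Polynomial.C b')
  have hQv : Polynomial.aeval T Q v = 0 := by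
    have : ∀ b ∈ s, Polynomial.aeval T (Polynomial.C (c b) * ∏ b' ∈ s.erase b, (Polynomial.X - Polynomial.C b')) v =
        Polynomial.aeval T (∏ b' ∈ s, (Polynomial.X - Polynomial.C b')) (c b • w b) := by
      intro b hb
      rw [map_smul, ← Finset.prod_erase_mul _ _ hb, map_mul, map_mul, Polynomial.aeval_C]
      rw [Module.End.mul_apply, Module.End.mul_apply, hw b]
      simp [Module.algebraMap_end_apply]
    simp only [Q, map_sum, LinearMap.sum_apply]
    rw [Finset.sum_congr rfl this, ← map_sum, hs, map_zero]
  have hQa : Q.eval a ≠ 0 := by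
    simp only [Q, Polynomial.eval_finset_sum, Polynomial.eval_mul, Polynomial.eval_C, Polynomial.eval_prod,
      Polynomial.eval_sub, Polynomial.eval_X]
    rw [Finset.sum_eq_single_of_mem a ha]
    · exact mul_ne_zero hca (Finset.prod_ne_zero_iff.mpr fun b hb => sub_ne_zero.mpr (Finset.ne_of_mem_erase hb).symm)
    · intro b _ hba
      exact mul_eq_zero_of_right _ (Finset.prod_eq_zero (Finset.mem_erase.mpr ⟨hba.symm, ha⟩) (sub_self a))
  have hQ0 : Q ≠ 0 := fun h => hQa (by simp [h])
  have hunit := hc _ (Polynomial.monic_mul_leadingCoeff_inv hQ0)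
  refine hv (((Module.End.isUnit_iff _).mp hunit).1 (a₁ := v) (a₂ := 0) ?_)
  rw [map_zero, mul_comm, map_mul, Module.End.mul_apply, hQv, map_zero]

end Groth.Agent.S9610
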