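import Groth.Statements.S9611
import Mathlib
-- import your own Groth.Agent.* helpers here

set_option autoImplicit false
universe u
open CAlg

namespace Groth.Agent.S9611

/-- Let R be a Jacobson ring, p a prime ideal of R which is not maximal, and f an element of R not in p.
Then the set of primes of R containing p and not containing f is infinite. -/
theorem result {R : Type u} [CommRing R] [IsJacobsonRing R] (p : Ideal R) [p.IsPrime] (hp : ¬ p.IsMaximal) (f : R) (hf : f ∉ p) :
    {q : PrimeSpectrum R | p ≤ q.asIdeal ∧ f ∉ q.asIdeal}.Infinite := by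
  intro hfin
  classical
  obtain ⟨s, hs⟩ := hfin.exists_finset_coe
  apply hp
  let t := s.filter fun q => q.asIdeal.IsMaximal
  have key : t.inf (fun q => q.asIdeal) ≤ p := by
    intro x hx
    refine (Ideal.IsPrime.mem_or_mem ‹p.IsPrime› (x := x) (y := f) ?_).resolve_right hf
    rw [← (isJacobsonRing_iff_prime_eq.mp ‹_› p ‹_›)]
    refine Submodule.mem_sInf.mpr fun J ⟨hpJ, hJ⟩ => ?_
    by_cases hfJ : f ∈ J
    · exact Ideal.mul_mem_left J x hfJ
    · refine Ideal.mul_mem_right f J (Finset.inf_le (f := fun q : PrimeSpectrum R => q.asIdeal)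
        (b := ⟨J, hJ.isPrime⟩) ?_ hx)
      refine Finset.mem_filter.mpr ⟨?_, hJ⟩
      rw [← Finset.mem_coe, hs]; exact ⟨hpJ, hfJ⟩
  obtain ⟨q, hq, hqp⟩ := (Ideal.IsPrime.inf_le' ‹p.IsPrime›).mp key
  obtain ⟨hqs, hqm⟩ := Finset.mem_filter.mp hq
  rw [← Finset.mem_coe, hs] at hqs
  exact le_antisymm hqp hqs.1 ▸ hqm

end Groth.Agent.S9611
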