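import Groth.Statements.S9613
import Mathlib
-- import your own Groth.Agent.* helpers here

set_option autoImplicit false
universe u
open CAlg

namespace Groth.Agent.S9613

theorem main {R K : Type u} [CommRing R] [Field K] [Algebra R K] (hinj : Function.Injective (algebraMap R K))
    [Algebra.FiniteType R K] :
    ∃ f : R, f ≠ 0 ∧ ∃ Rf : Subalgebra R K, IsLocalization.Away f Rf ∧ IsField Rf ∧ Module.Finite Rf K := by
  classical
  haveI : IsDomain R := Function.Injective.isDomain (algebraMap R K) hinj
  haveI : FaithfulSMul R K := (faithfulSMul_iff_algebraMap_injective R K).2 hinj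
  let F := FractionRing R
  letI : Algebra F K := FractionRing.liftAlgebra R K
  haveI : Algebra.FiniteType F K := Algebra.FiniteType.of_restrictScalars_finiteType R F K
  haveI : Module.Finite F K := finite_of_finite_type_of_isJacobsonRing F K
  obtain ⟨G, hG⟩ := ‹Algebra.FiniteType R K›.out
  have hx : ∀ x : K, ∃ g : R, g ≠ 0 ∧ IsIntegral R (g • x) := fun x => by
    obtain ⟨⟨g, hg⟩, h⟩ := IsIntegral.exists_multiple_integral_of_isLocalization (nonZeroDivisors R)
      x (Algebra.IsIntegral.isIntegral (R := F) x)
    exact ⟨g, nonZeroDivisors.ne_zero hg, h⟩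
  choose g hg0 hg using hx
  let f := ∏ x ∈ G, g x
  have hf : f ≠ 0 := Finset.prod_ne_zero_iff.2 fun x _ => hg0 x
  let l : Localization.Away f →ₐ[R] K :=
    IsLocalization.liftAlgHom (M := Submonoid.powers f) (f := Algebra.ofId R K) fun y => by
      refine isUnit_iff_ne_zero.2 fun h => ?_
      obtain ⟨n, hn⟩ := y.2
      have h' : algebraMap R K (f ^ n) = 0 := by rw [show f ^ n = ↑y from hn]; exact h
      exact pow_ne_zero n hf ((map_eq_zero_iff _ hinj).1 h')
  have hlinj : Function.Injective l := by
    show Function.Injective (IsLocalization.lift _)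
    rw [IsLocalization.lift_injective_iff]
    intro x y
    refine ⟨fun h => ?_, fun h => ?_⟩
    · rw [IsLocalization.injective (Localization.Away f) (Submonoid.powers_le.2 (mem_nonZeroDivisors_of_ne_zero hf)) h]
    · rw [hinj h]
  let e : Localization.Away f ≃ₐ[R] l.range := AlgEquiv.ofInjective l hlinj
  haveI hloc : IsLocalization.Away f l.range := IsLocalization.isLocalization_of_algEquiv (Submonoid.powers f) e
  haveI : Algebra.IsIntegral l.range K := by
    refine ⟨fun x => ?_⟩
    have hx : x ∈ Algebra.adjoin R (G : Set K) := hG ▸ trivial
    induction hx using Algebra.adjoin_induction with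
    | mem y hy =>
      have hdvd : g y ∣ f := Finset.dvd_prod_of_mem g hy
      obtain ⟨u, hu⟩ := (isUnit_of_dvd_unit (map_dvd (algebraMap R l.range) hdvd)
        (IsLocalization.Away.algebraMap_isUnit f)).exists_left_inv
      have h1 : IsIntegral l.range (g y • y) := IsIntegral.tower_top (hg y)
      have h2 := (isIntegral_algebraMap (R := l.range) (A := K) (x := u)).mul h1
      rwa [Algebra.smul_def, ← mul_assoc, IsScalarTower.algebraMap_apply R l.range K, ← map_mul, hu, map_one, one_mul] at h2
    | algebraMap r => rw [IsScalarTower.algebraMap_apply R l.range K]; exact isIntegral_algebraMap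
    | add a b _ _ ha hb => exact ha.add hb
    | mul a b _ _ ha hb => exact ha.mul hb
  haveI : Algebra.FiniteType l.range K := Algebra.FiniteType.of_restrictScalars_finiteType R _ _
  exact ⟨f, hf, l.range, hloc,
    isField_of_isIntegral_of_isField (S := K) Subtype.val_injective (Field.toIsField K),
    Algebra.IsIntegral.finite⟩

end Groth.Agent.S9613

namespace Groth.Agent.S9613

/-- Let R → K be an injective ring map into a field K which makes K an R-algebra of finite type. Then
for some nonzero f ∈ R the localization R_f is a field over which K is finite; here R_f is realised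
as the R-subalgebra of K that is a localization of R away from f. -/
theorem result {R K : Type u} [CommRing R] [Field K] [Algebra R K] (hinj : Function.Injective (algebraMap R K)) [Algebra.FiniteType R K] :
    ∃ f : R, f ≠ 0 ∧ ∃ Rf : Subalgebra R K, IsLocalization.Away f Rf ∧ IsField Rf ∧ Module.Finite Rf K := by
  exact main hinj

end Groth.Agent.S9613
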