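import Groth.Statements.S9614
import Mathlib
-- import your own Groth.Agent.* helpers here

set_option autoImplicit false
universe u
open CAlg

namespace Groth.Agent.S9614

/-- Let S be an ℕ-graded ring and M a finitely generated graded S-module, graded in nonnegative degrees
(the source allows all integer degrees). If x_1, …, x_n are homogeneous elements of M which generate
M modulo S₊ M (S₊ the irrelevant ideal), then x_1, …, x_n generate M. -/
theorem result {R S : Type u} [CommRing R] [CommRing S] [Algebra R S] (𝒜 : ℕ → Submodule R S) [GradedAlgebra 𝒜]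
    (M : Type u) [AddCommGroup M] [Module R M] [Module S M] [IsScalarTower R S M] [Module.Finite S M] (ℳ : ℕ → Submodule R M) [DirectSum.Decomposition ℳ] [SetLike.GradedSMul 𝒜 ℳ]
    {n : ℕ} (x : Fin n → M) (hx : ∀ i, SetLike.IsHomogeneousElem ℳ (x i))
    (h : Submodule.span S (Set.range x) ⊔ (HomogeneousIdeal.irrelevant 𝒜).toIdeal • (⊤ : Submodule S M) = ⊤) :
    Submodule.span S (Set.range x) = ⊤ := by
  classical
  set N := Submodule.span S (Set.range x)
  suffices H : ∀ d, ∀ y ∈ ℳ d, y ∈ N by
    rw [eq_top_iff]
    intro y _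
    rw [← DirectSum.sum_support_decompose ℳ y]
    exact sum_mem fun d _ => H d _ (SetLike.coe_mem _)
  intro d
  induction d using Nat.strong_induction_on with
  | _ d ih =>
    intro y hy
    have hcomp : ∀ (j : ℕ) (m : M), m ∈ ℳ j → ∀ s : S, (∀ e, ∀ t ∈ 𝒜 e, e + j = d → (∃ u ∈ 𝒜 e, (DirectSum.decompose 𝒜 s e : S) = u ∧ t = u) → t • m ∈ N) →
        (DirectSum.decompose ℳ (s • m) d : M) ∈ N := by
      intro j m hm s hs
      rw [← DirectSum.sum_support_decompose 𝒜 s, Finset.sum_smul, DirectSum.decompose_sum]
      rw [DFinsupp.finset_sum_apply, AddSubmonoidClass.coe_finsetSum]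
      refine sum_mem fun e _ => ?_
      have hem : (DirectSum.decompose 𝒜 s e : S) • m ∈ ℳ (e + j) := by
        simpa [vadd_eq_add] using SetLike.GradedSMul.smul_mem (A := 𝒜) (B := ℳ) (SetLike.coe_mem (DirectSum.decompose 𝒜 s e)) hm
      by_cases hd : e + j = d
      · rw [DirectSum.decompose_of_mem_same ℳ (hd ▸ hem)]
        exact hs e _ (SetLike.coe_mem _) hd ⟨_, SetLike.coe_mem _, rfl, rfl⟩
      · rw [DirectSum.decompose_of_mem_ne ℳ hem hd]
        exact zero_mem _
    let P : AddSubmonoid M :=
      { carrier := {z | (DirectSum.decompose ℳ z d : M) ∈ N}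
        zero_mem' := by simp
        add_mem' := fun ha hb => by
          simp only [Set.mem_setOf_eq, DirectSum.decompose_add, DirectSum.add_apply, AddMemClass.coe_add] at *
          exact add_mem ha hb }
    have hN : ∀ z ∈ N, z ∈ P := by
      intro z hz
      obtain ⟨c, rfl⟩ := (Submodule.mem_span_range_iff_exists_fun S).1 hz
      refine sum_mem fun i _ => ?_
      obtain ⟨j, hj⟩ := hx i
      exact hcomp j _ hj _ fun e t _ _ _ => N.smul_mem t (Submodule.subset_span ⟨i, rfl⟩)
    have hI : ∀ z ∈ (HomogeneousIdeal.irrelevant 𝒜).toIdeal • (⊤ : Submodule S M), z ∈ P := by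
      intro z hz
      refine Submodule.smul_induction_on hz ?_ (fun a b ha hb => P.add_mem ha hb)
      · intro s hs m _
        rw [← DirectSum.sum_support_decompose ℳ m, Finset.smul_sum]
        refine sum_mem fun j _ => hcomp j _ (SetLike.coe_mem _) s fun e t _ hd ht => ?_
        obtain ⟨u, -, hu, rfl⟩ := ht
        rcases Nat.eq_zero_or_pos e with rfl | he
        · have : t = 0 := by
            rw [← hu]
            exact hs
          rw [this, zero_smul]; exact zero_mem _
        · exact N.smul_mem t (ih j (by omega) _ (SetLike.coe_mem _))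
    obtain ⟨a, ha, b, hb, hab⟩ := Submodule.mem_sup.1 (h.symm ▸ Submodule.mem_top : y ∈ N ⊔ _)
    have := P.add_mem (hN a ha) (hI b hb)
    rw [hab] at this
    rwa [← DirectSum.decompose_of_mem_same ℳ hy]
end Groth.Agent.S9614
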