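import Groth.Statements.S9615
import Mathlib
-- import your own Groth.Agent.* helpers here

set_option autoImplicit false
universe u
open CAlg

namespace Groth.Agent.S9615

open Polynomial in
/-- The homomorphism `S → S[X]` sending a homogeneous element of degree `i` to `C s * X ^ i`. -/
noncomputable def toPoly {S : Type u} [CommRing S] (𝒮 : ℕ → AddSubgroup S) [GradedRing 𝒮] :
    S →+* Polynomial S :=
  (DirectSum.toSemiring (fun i => (monomial i).toAddMonoidHom.comp (𝒮 i).subtype)
    (by show monomial 0 (1 : S) = 1; exact monomial_zero_one)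
    (fun {i j} a b => (monomial_mul_monomial i j (a : S) (b : S)).symm)).comp
    (DirectSum.decomposeRingEquiv 𝒮).toRingHom

theorem toPoly_of_mem {S : Type u} [CommRing S] (𝒮 : ℕ → AddSubgroup S) [GradedRing 𝒮] {i : ℕ} {x : S}
    (hx : x ∈ 𝒮 i) : toPoly 𝒮 x = Polynomial.monomial i x := by
  have e : DirectSum.decomposeRingEquiv 𝒮 x = DirectSum.decompose 𝒮 x := rfl
  simp only [toPoly, RingHom.comp_apply, RingEquiv.toRingHom_eq_coe, RingHom.coe_coe,
    e, DirectSum.decompose_of_mem 𝒮 hx, DirectSum.toSemiring_of]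
  rfl

theorem coeff_toPoly {S : Type u} [CommRing S] (𝒮 : ℕ → AddSubgroup S) [GradedRing 𝒮] (x : S) (i : ℕ) :
    (toPoly 𝒮 x).coeff i = ((DirectSum.decompose 𝒮 x i : 𝒮 i) : S) := by
  induction x using DirectSum.Decomposition.inductionOn 𝒮 with
  | zero => simp
  | @homogeneous j m =>
    rw [toPoly_of_mem 𝒮 m.2, Polynomial.coeff_monomial]
    by_cases h : j = i
    · subst h; simp
    · rw [if_neg h, DirectSum.decompose_of_mem_ne 𝒮 m.2 h]
  | add a b ha hb => simp [map_add, Polynomial.coeff_add, ha, hb]


/-- Let R → S be a homomorphism of ℕ-graded rings, i.e. the structure map carries each graded piece R_i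
into S_i. If an element s of S is integral over R, then each homogeneous component of s is integral
over R; so the integral closure of R in S is a graded subring of S. -/
theorem result {R S : Type u} [CommRing R] [CommRing S] [Algebra R S] (ℛ : ℕ → AddSubgroup R) [GradedRing ℛ] (𝒮 : ℕ → AddSubgroup S) [GradedRing 𝒮]
    (hmap : ∀ i : ℕ, ∀ r ∈ ℛ i, algebraMap R S r ∈ 𝒮 i) (s : S) (hs : IsIntegral R s) (i : ℕ) :
    IsIntegral R ((DirectSum.decompose 𝒮 s i : 𝒮 i) : S) := by
  classical
  have hcomm : (toPoly 𝒮).comp (algebraMap R S) =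
      (Polynomial.mapRingHom (algebraMap R S)).comp (toPoly ℛ) := by
    ext r
    induction r using DirectSum.Decomposition.inductionOn ℛ with
    | zero => simp
    | @homogeneous j m =>
      simp only [RingHom.comp_apply, toPoly_of_mem ℛ m.2, toPoly_of_mem 𝒮 (hmap j _ m.2),
        Polynomial.coe_mapRingHom, Polynomial.map_monomial]
    | add a b ha hb => simp only [map_add, Polynomial.coeff_add, ha, hb]
  have hint : (Polynomial.mapRingHom (algebraMap R S)).IsIntegralElem (toPoly 𝒮 s) := by
    obtain ⟨p, hpm, hp⟩ := hs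
    refine ⟨p.map (toPoly ℛ), hpm.map _, ?_⟩
    rw [Polynomial.eval₂_map, ← hcomm, ← Polynomial.hom_eval₂, hp, map_zero]
  letI : Algebra (Polynomial R) (Polynomial S) := (Polynomial.mapRingHom (algebraMap R S)).toAlgebra
  have := (Polynomial.isIntegral_iff_isIntegral_coeff (R := R) (S := S)).1 hint i
  rwa [coeff_toPoly] at this

end Groth.Agent.S9615
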