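import Groth.Statements.S9616
import Mathlib
-- import your own Groth.Agent.* helpers here

set_option autoImplicit false
universe u
open CAlg

namespace Groth.Agent.S9616

/-- Let S be an ℕ-graded ring, p_1, …, p_r homogeneous prime ideals of S and I ⊆ S₊ a homogeneous ideal
not contained in any p_i. Then there is a homogeneous element x ∈ I of positive degree with x ∉ p_i
for all i. -/
theorem result {R S : Type u} [CommRing R] [CommRing S] [Algebra R S] (𝒜 : ℕ → Submodule R S) [GradedAlgebra 𝒜]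
    {r : ℕ} (p : Fin r → HomogeneousIdeal 𝒜) (hp : ∀ i, (p i).toIdeal.IsPrime) (I : HomogeneousIdeal 𝒜) (hI : I ≤ HomogeneousIdeal.irrelevant 𝒜) (h : ∀ i, ¬ I ≤ p i) :
    ∃ x : S, ∃ d : ℕ, 0 < d ∧ x ∈ 𝒜 d ∧ x ∈ I ∧ ∀ i, x ∉ p i := by
  classical
  have hdecomp : ∀ (J : HomogeneousIdeal 𝒜) (q : HomogeneousIdeal 𝒜), ¬ J ≤ q →
      ∃ d, ∃ y ∈ 𝒜 d, y ∈ J ∧ y ∉ q := by
    intro J q hJ
    by_contra hc
    push Not at hc
    refine hJ fun y hy => ?_
    rw [← DirectSum.sum_support_decompose 𝒜 y]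
    exact sum_mem fun d _ => hc d _ (SetLike.coe_mem _) (J.isHomogeneous d hy)
  suffices h' : ∀ (k : ℕ) (s : Finset (Fin r)), s.card = k →
      ∃ x : S, ∃ d : ℕ, 0 < d ∧ x ∈ 𝒜 d ∧ x ∈ I ∧ ∀ i ∈ s, x ∉ p i by
    obtain ⟨x, d, h1, h2, h3, h4⟩ := h' _ Finset.univ rfl
    exact ⟨x, d, h1, h2, h3, fun i => h4 i (Finset.mem_univ i)⟩
  intro k
  induction k using Nat.strong_induction_on with
  | _ k ih =>
    intro s hs
    rcases s.eq_empty_or_nonempty with rfl | ⟨i, hi⟩
    · exact ⟨0, 1, one_pos, zero_mem _, zero_mem _, by simp⟩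
    have hlt : (s.erase i).card < k := hs ▸ Finset.card_erase_lt_of_mem hi
    by_cases hq : ∃ j ∈ s.erase i, p j ≤ p i
    · obtain ⟨j, hj, hji⟩ := hq
      obtain ⟨x, d, h1, h2, h3, h4⟩ := ih (s.erase j).card (hs ▸ Finset.card_erase_lt_of_mem (Finset.mem_of_mem_erase hj)) _ rfl
      refine ⟨x, d, h1, h2, h3, fun a ha => ?_⟩
      by_cases haj : a = j
      · subst haj
        exact fun hx => h4 i (Finset.mem_erase.2 ⟨fun e => (Finset.ne_of_mem_erase hj) e.symm, hi⟩) (hji hx)
      · exact h4 a (Finset.mem_erase.2 ⟨haj, ha⟩)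
    obtain ⟨x, d, h1, h2, h3, h4⟩ := ih _ hlt _ rfl
    by_cases hx : x ∈ p i
    swap
    · refine ⟨x, d, h1, h2, h3, fun a ha => ?_⟩
      by_cases hai : a = i
      · exact hai ▸ hx
      · exact h4 a (Finset.mem_erase.2 ⟨hai, ha⟩)
    push Not at hq
    obtain ⟨e, y, hy, hyI, hyp⟩ := hdecomp I (p i) (h i)
    have he : 0 < e := by
      refine Nat.pos_of_ne_zero fun h0 => hyp ?_
      subst h0
      have hz : GradedRing.proj 𝒜 0 y = 0 := hI hyI
      rw [GradedRing.proj_apply, DirectSum.decompose_of_mem_same _ hy] at hz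
      rw [hz]
      exact zero_mem _
    have hprod : ∀ t : Finset (Fin r), t ⊆ s.erase i →
        ∃ d', ∃ z ∈ 𝒜 d', z ∉ p i ∧ ∀ j ∈ t, z ∈ p j := by
      intro t
      induction t using Finset.induction_on with
      | empty => exact fun _ => ⟨0, 1, SetLike.one_mem_graded _, fun h1 => (hp i).ne_top
          ((Ideal.eq_top_iff_one _).2 h1), by simp⟩
      | insert j t _ iht =>
        intro ht
        obtain ⟨d', z, hz, hzp, hzt⟩ := iht fun a ha => ht (Finset.mem_insert_of_mem ha)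
        obtain ⟨c, w, hw, hwj, hwi⟩ := hdecomp (p j) (p i) (hq j (ht (Finset.mem_insert_self _ _)))
        refine ⟨c + d', w * z, SetLike.mul_mem_graded hw hz, fun hm => ((hp i).mem_or_mem hm).elim hwi hzp,
          fun a ha => ?_⟩
        rcases Finset.mem_insert.1 ha with rfl | ha
        · exact (p a).toIdeal.mul_mem_right _ hwj
        · exact (p a).toIdeal.mul_mem_left _ (hzt a ha)
    obtain ⟨d', z, hz, hzp, hzt⟩ := hprod _ subset_rfl
    refine ⟨x ^ (e + d') + (y * z) ^ d, (e + d') * d, Nat.mul_pos (by omega) h1, ?_, ?_, fun a ha => ?_⟩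
    · refine add_mem ?_ ?_
      · simpa using SetLike.pow_mem_graded (e + d') h2
      · simpa [Nat.mul_comm] using SetLike.pow_mem_graded d (SetLike.mul_mem_graded hy hz)
    · exact add_mem (I.toIdeal.pow_mem_of_mem h3 _ (by omega))
        (I.toIdeal.pow_mem_of_mem (I.toIdeal.mul_mem_right _ hyI) _ h1)
    · intro hmem
      by_cases hai : a = i
      · subst hai
        have := (Ideal.add_mem_iff_right _ ((p a).toIdeal.pow_mem_of_mem hx _ (by omega))).1 hmem
        exact ((hp a).mem_or_mem ((hp a).mem_of_pow_mem _ this)).elim hyp hzp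
      · have ha' : a ∈ s.erase i := Finset.mem_erase.2 ⟨hai, ha⟩
        have := (Ideal.add_mem_iff_left _ ((p a).toIdeal.pow_mem_of_mem
          ((p a).toIdeal.mul_mem_left _ (hzt a ha')) _ h1)).1 hmem
        exact h4 a ha' ((hp a).mem_of_pow_mem _ this)
end Groth.Agent.S9616
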