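import Groth.Statements.S9617
import Mathlib
-- import your own Groth.Agent.* helpers here

set_option autoImplicit false
universe u
open CAlg

namespace Groth.Agent.S9617

open DirectSum

variable {A S : Type u} [CommRing A] [CommRing S] [Algebra A S] (𝒜 : ℕ → Submodule A S) [GradedAlgebra 𝒜]

/-- the monomials of degree `k` in finitely many homogeneous generators of positive degree -/
def words (G : Finset (ℕ × S)) : ℕ → Set S
  | 0 => {1}
  | k + 1 => {x | ∃ p ∈ G, ∃ h : 0 < p.1 ∧ p.1 ≤ k + 1, ∃ w ∈ words G (k + 1 - p.1), x = p.2 * w}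
termination_by k => k
decreasing_by omega

theorem finite_words (G : Finset (ℕ × S)) (k : ℕ) : (words G k).Finite := by
  induction k using Nat.strong_induction_on with
  | h k ih =>
    cases k with
    | zero => rw [words]; exact Set.finite_singleton 1
    | succ k =>
      have : words G (k + 1) ⊆ ⋃ p ∈ (G.filter fun p => 0 < p.1 ∧ p.1 ≤ k + 1 : Finset (ℕ × S)),
          (fun w => p.2 * w) '' words G (k + 1 - p.1) := by
        intro x hx
        rw [words] at hx
        obtain ⟨p, hp, h, w, hw, rfl⟩ := hx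
        exact Set.mem_biUnion (x := p) (Finset.mem_filter.2 ⟨hp, h⟩) ⟨w, hw, rfl⟩
      refine Set.Finite.subset (Set.Finite.biUnion (Finset.finite_toSet _) fun p hp => ?_) this
      exact (ih _ (by have := (Finset.mem_filter.1 hp).2; omega)).image _

theorem finite_piece (h0 : ∀ s ∈ 𝒜 0, s ∈ Set.range (algebraMap A S)) [Algebra.FiniteType A S] (k : ℕ) :
    (𝒜 k).FG := by
  classical
  obtain ⟨F, hF⟩ := ‹Algebra.FiniteType A S›.out
  let G0 : Finset (ℕ × S) := F.biUnion fun s => (decompose 𝒜 s).support.image fun i => (i, (decompose 𝒜 s i : S))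
  let G : Finset (ℕ × S) := G0.filter fun p => 0 < p.1
  have hG0 : ∀ p ∈ G0, p.2 ∈ 𝒜 p.1 := fun p hp => by
    obtain ⟨s, -, hp⟩ := Finset.mem_biUnion.1 hp
    obtain ⟨i, -, rfl⟩ := Finset.mem_image.1 hp
    exact (decompose 𝒜 s i).2
  have htop : Algebra.adjoin A ((fun p : ℕ × S => p.2) '' (G : Set (ℕ × S))) = ⊤ := by
    refine top_unique (hF ▸ Algebra.adjoin_le fun s hs => ?_)
    rw [← DirectSum.sum_support_decompose 𝒜 s]
    refine sum_mem fun i hi => ?_
    rcases Nat.eq_zero_or_pos i with rfl | hipos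
    · obtain ⟨a, ha⟩ := h0 _ (decompose 𝒜 s 0).2
      rw [← ha]
      exact Subalgebra.algebraMap_mem _ a
    · refine Algebra.subset_adjoin ⟨(i, _), Finset.mem_filter.2 ⟨Finset.mem_biUnion.2 ⟨s, hs, Finset.mem_image.2 ⟨i, hi, rfl⟩⟩, hipos⟩, rfl⟩
  have hmon : ∀ w ∈ Submonoid.closure ((fun p : ℕ × S => p.2) '' (G : Set (ℕ × S))),
      ∃ d, w ∈ 𝒜 d ∧ w ∈ words G d := by
    intro w hw
    induction hw using Submonoid.closure_induction_left with
    | one => exact ⟨0, SetLike.one_mem_graded 𝒜, by rw [words]; rfl⟩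
    | mul_left g hg w _ ih =>
      obtain ⟨p, hp, rfl⟩ := hg
      obtain ⟨d, hwd, hwW⟩ := ih
      have hp' := (Finset.mem_filter.1 (Finset.mem_coe.1 hp))
      refine ⟨p.1 + d, SetLike.mul_mem_graded (hG0 p hp'.1) hwd, ?_⟩
      obtain ⟨e, he⟩ : ∃ e, p.1 + d = e + 1 := ⟨p.1 + d - 1, by have := hp'.2; omega⟩
      rw [he, words]
      refine ⟨p, hp, ⟨hp'.2, by omega⟩, w, ?_, rfl⟩
      rwa [show e + 1 - p.1 = d by omega]
  refine ⟨((finite_words G k).toFinset.filter fun x => x ∈ 𝒜 k), le_antisymm (Submodule.span_le.2 fun x hx => ?_) fun x hx => ?_⟩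
  · exact (Finset.mem_filter.1 (Finset.mem_coe.1 hx)).2
  · have hx' : x ∈ Submodule.span A (Submonoid.closure ((fun p : ℕ × S => p.2) '' (G : Set (ℕ × S))) : Set S) := by
      rw [← Algebra.adjoin_eq_span, htop]; trivial
    have : ∀ y ∈ Submodule.span A (Submonoid.closure ((fun p : ℕ × S => p.2) '' (G : Set (ℕ × S))) : Set S),
        (decompose 𝒜 y k : S) ∈ Submodule.span A (((finite_words G k).toFinset.filter fun x => x ∈ 𝒜 k : Finset S) : Set S) := by
      intro y hy
      induction hy using Submodule.span_induction with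
      | mem w hw =>
        obtain ⟨d, hwd, hwW⟩ := hmon w hw
        rcases eq_or_ne d k with rfl | hne
        · rw [decompose_of_mem_same 𝒜 hwd]
          exact Submodule.subset_span (Finset.mem_filter.2 ⟨(finite_words G d).mem_toFinset.2 hwW, hwd⟩)
        · rw [decompose_of_mem_ne 𝒜 hwd hne]
          exact zero_mem _
      | zero => simp
      | add a b _ _ ha hb => rw [decompose_add, DirectSum.add_apply, Submodule.coe_add]; exact add_mem ha hb
      | smul c a _ ha => rw [decompose_smul, DFinsupp.smul_apply, Submodule.coe_smul]; exact Submodule.smul_mem _ c ha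
    have h1 := this x hx'
    rwa [decompose_of_mem_same 𝒜 hx] at h1

theorem finite_module_piece (h0 : ∀ s ∈ 𝒜 0, s ∈ Set.range (algebraMap A S)) [Algebra.FiniteType A S]
    (M : Type u) [AddCommGroup M] [Module A M] [Module S M] [IsScalarTower A S M] [Module.Finite S M]
    (ℳ : ℕ → Submodule A M) [DirectSum.Decomposition ℳ] [SetLike.GradedSMul 𝒜 ℳ] (n : ℕ) : (ℳ n).FG := by
  classical
  obtain ⟨F, hF⟩ := Module.Finite.fg_top (R := S) (M := M)
  let H : Finset (ℕ × M) := F.biUnion fun m => (decompose ℳ m).support.image fun i => (i, (decompose ℳ m i : M))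
  have hH : ∀ p ∈ H, p.2 ∈ ℳ p.1 := fun p hp => by
    obtain ⟨m, -, hp⟩ := Finset.mem_biUnion.1 hp
    obtain ⟨i, -, rfl⟩ := Finset.mem_image.1 hp
    exact (decompose ℳ m i).2
  have htop : Submodule.span S ((fun p : ℕ × M => p.2) '' (H : Set (ℕ × M))) = ⊤ := by
    refine top_unique (hF ▸ Submodule.span_le.2 fun m hm => ?_)
    rw [← DirectSum.sum_support_decompose ℳ m]
    exact sum_mem fun i hi => Submodule.subset_span
      ⟨(i, _), Finset.mem_biUnion.2 ⟨m, hm, Finset.mem_image.2 ⟨i, hi, rfl⟩⟩, rfl⟩
  let H' := H.filter fun p => p.1 ≤ n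
  let N : Submodule A M := ⨆ p ∈ H', (𝒜 (n - p.1)).map ((LinearMap.toSpanSingleton S M p.2).restrictScalars A)
  have hN : N.FG := Submodule.fg_biSup H' _ fun p _ => (finite_piece 𝒜 h0 _).map _
  suffices ℳ n = N by rw [this]; exact hN
  refine le_antisymm (fun x hx => ?_) (iSup₂_le fun p hp => ?_)
  · have : ∀ (y : M), (decompose ℳ y n : M) ∈ N := by
      intro y
      have hy : y ∈ Submodule.span S ((fun p : ℕ × M => p.2) '' (H : Set (ℕ × M))) := by rw [htop]; trivial
      induction hy using Submodule.span_induction with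
      | mem w hw =>
        obtain ⟨p, hp, rfl⟩ := hw
        rcases eq_or_ne p.1 n with h | h
        · rw [← h, decompose_of_mem_same ℳ (hH p hp)]
          refine Submodule.mem_iSup_of_mem p (Submodule.mem_iSup_of_mem (Finset.mem_filter.2 ⟨hp, h.le⟩) ?_)
          exact ⟨1, by rw [← h, Nat.sub_self]; exact SetLike.one_mem_graded 𝒜, one_smul S _⟩
        · rw [decompose_of_mem_ne ℳ (hH p hp) h]; exact zero_mem _
      | zero => simp
      | add a b _ _ ha hb => rw [decompose_add, DirectSum.add_apply, Submodule.coe_add]; exact add_mem ha hb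
      | smul s a ha' hih =>
        clear x hx y hih
        induction ha' using Submodule.span_induction generalizing s with
        | mem w hw =>
          obtain ⟨p, hp, rfl⟩ := hw
          conv => arg 2; rw [← DirectSum.sum_support_decompose 𝒜 s, Finset.sum_smul, decompose_sum]
          rw [DFinsupp.finset_sum_apply, Submodule.coe_sum]
          refine sum_mem fun i _ => ?_
          have hmem : ((decompose 𝒜 s i : S) • p.2) ∈ ℳ (i + p.1) :=
            SetLike.GradedSMul.smul_mem (decompose 𝒜 s i).2 (hH p hp)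
          rcases eq_or_ne (i + p.1) n with h | h
          · rw [← h, decompose_of_mem_same ℳ hmem]
            refine Submodule.mem_iSup_of_mem p (Submodule.mem_iSup_of_mem (Finset.mem_filter.2 ⟨hp, by omega⟩) ?_)
            exact ⟨_, by rw [← h, Nat.add_sub_cancel_right]; exact (decompose 𝒜 s i).2, rfl⟩
          · rw [decompose_of_mem_ne ℳ hmem h]; exact zero_mem _
        | zero => simp
        | add a b _ _ ha hb => rw [smul_add, decompose_add, DirectSum.add_apply, Submodule.coe_add]; exact add_mem (ha s) (hb s)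
        | smul c a _ ha => rw [smul_smul]; exact ha (s * c)
    have h1 := this x
    rwa [decompose_of_mem_same ℳ hx] at h1
  · rintro _ ⟨s, hs, rfl⟩
    have hp' := Finset.mem_filter.1 hp
    have h2 : s • p.2 ∈ ℳ (n - p.1 + p.1) := SetLike.GradedSMul.smul_mem hs (hH p hp'.1)
    rwa [Nat.sub_add_cancel hp'.2] at h2

end Groth.Agent.S9617

namespace Groth.Agent.S9617

/-- Let S be an ℕ-graded ring, presented as a graded algebra over a ring A mapping onto S₀, such that S
is of finite type over A, i.e. over S₀. If M is a finitely generated graded S-module, graded in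
nonnegative degrees (the source allows all integer degrees), then each graded piece M_n is a finite
module over A, i.e. over S₀. -/
theorem result {A S : Type u} [CommRing A] [CommRing S] [Algebra A S] (𝒜 : ℕ → Submodule A S) [GradedAlgebra 𝒜]
    (h0 : ∀ s ∈ 𝒜 0, s ∈ Set.range (algebraMap A S)) [Algebra.FiniteType A S]
    (M : Type u) [AddCommGroup M] [Module A M] [Module S M] [IsScalarTower A S M] [Module.Finite S M] (ℳ : ℕ → Submodule A M) [DirectSum.Decomposition ℳ] [SetLike.GradedSMul 𝒜 ℳ] (n : ℕ) :
    Module.Finite A (ℳ n) := by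
  exact Module.Finite.iff_fg.2 (finite_module_piece 𝒜 h0 M ℳ n)

end Groth.Agent.S9617
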