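import Groth.Statements.S9618
import Mathlib
import Groth.Agent.SpecIdem.Components
-- import your own Groth.Agent.* helpers here

set_option autoImplicit false
universe u
open CAlg

namespace Groth.Agent.S9618

/-- For a ring R and a subset T of Spec R the following are equivalent: (1) T is closed and contains the
connected component of each of its points; (2) T can be written as an intersection of subsets of
Spec R that are both open and closed; (3) T is the common zero locus of some set of idempotent
elements of R (equivalently, of the ideal they generate). -/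
theorem result {R : Type u} [CommRing R] (T : Set (PrimeSpectrum R)) :
    [IsClosed T ∧ ∀ x ∈ T, connectedComponent x ⊆ T,
      ∃ U : Set (Set (PrimeSpectrum R)), (∀ u ∈ U, IsClopen u) ∧ T = ⋂₀ U,
      ∃ E : Set R, (∀ e ∈ E, IsIdempotentElem e) ∧ T = PrimeSpectrum.zeroLocus E].TFAE := by
  tfae_have 1 → 2 := fun ⟨hT, hTc⟩ => by
    refine ⟨{u | IsClopen u ∧ T ⊆ u}, fun u hu => hu.1, subset_antisymm ?_ ?_⟩
    · exact fun x hx u hu => hu.2 hx
    · intro x hx
      by_contra hxT
      obtain ⟨U, hU, hTU, hxU⟩ := Groth.Agent.SpecIdem.subset_clopen_compl_of_notMem hT hTc hxT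
      exact hxU (hx U ⟨hU, hTU⟩)
  tfae_have 2 → 3 := fun ⟨U, hU, hT⟩ => by
    refine ⟨{e | IsIdempotentElem e ∧ T ⊆ PrimeSpectrum.zeroLocus {e}}, fun e he => he.1, subset_antisymm ?_ ?_⟩
    · intro x hx e he
      simpa using he.2 hx
    · intro x hx
      rw [hT]
      intro u hu
      obtain ⟨e, he, rfl⟩ := PrimeSpectrum.isClopen_iff_zeroLocus.mp (hU u hu)
      have hTe : T ⊆ PrimeSpectrum.zeroLocus {e} := hT ▸ Set.sInter_subset_of_mem hu
      simpa using hx ⟨he, hTe⟩
  tfae_have 3 → 1 := fun ⟨E, hE, hT⟩ => by
    subst hT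
    refine ⟨PrimeSpectrum.isClosed_zeroLocus E, fun x hx y hy e he => ?_⟩
    have hcl : IsClopen (PrimeSpectrum.zeroLocus ({e} : Set R)) :=
      PrimeSpectrum.isClopen_iff_zeroLocus.mpr ⟨e, hE e he, rfl⟩
    simpa using hcl.connectedComponent_subset (show x ∈ PrimeSpectrum.zeroLocus {e} by simpa using hx he) hy
  tfae_finish

end Groth.Agent.S9618
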