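import Groth.Statements.S9621
import Mathlib
-- import your own Groth.Agent.* helpers here

set_option autoImplicit false
universe u
open CAlg

namespace Groth.Agent.S9621

/-- Let R be a ring, p a minimal prime of R and W a quasi-compact open subset of Spec R not containing
p. Then there is an f ∈ R, f ∉ p, whose basic open D(f) is disjoint from W. -/
theorem result {R : Type u} [CommRing R] (p : PrimeSpectrum R) (hp : p.asIdeal ∈ minimalPrimes R) (W : Set (PrimeSpectrum R)) (hWo : IsOpen W) (hWc : IsCompact W) (hpW : p ∉ W) :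
    ∃ f : R, f ∉ p.asIdeal ∧ Disjoint (PrimeSpectrum.basicOpen f : Set (PrimeSpectrum R)) W := by
  classical
  obtain ⟨t, rfl⟩ := PrimeSpectrum.isCompact_isOpen_iff.mp ⟨hWc, hWo⟩
  have htp : (t : Set R) ⊆ p.asIdeal := by simpa [PrimeSpectrum.mem_zeroLocus] using hpW
  have : Ring.KrullDimLE 0 (Localization.AtPrime p.asIdeal) := Ring.KrullDimLE.of_isLocalization p.asIdeal hp _
  have key : ∀ a ∈ t, ∃ s : R, s ∉ p.asIdeal ∧ ∃ n : ℕ, s * a ^ n = 0 := by
    intro a ha
    obtain ⟨n, hn⟩ := (Ring.KrullDimLE.isNilpotent_iff_mem_maximalIdeal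
      (x := algebraMap R (Localization.AtPrime p.asIdeal) a)).mpr
      ((IsLocalization.AtPrime.to_map_mem_maximal_iff _ p.asIdeal a).mpr (htp ha))
    rw [← map_pow, IsLocalization.map_eq_zero_iff p.asIdeal.primeCompl] at hn
    obtain ⟨s, hs⟩ := hn
    exact ⟨s, s.2, n, hs⟩
  choose s hs n hn using key
  refine ⟨∏ a ∈ t.attach, s a.1 a.2, fun h => ?_, Set.disjoint_left.mpr fun q hq hqW => hqW fun a ha => ?_⟩
  · obtain ⟨a, _, ha⟩ := p.2.prod_mem_iff.mp h
    exact hs a.1 a.2 ha
  · have : s a ha * a ^ n a ha ∈ q.asIdeal := by rw [hn]; exact zero_mem _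
    refine q.2.mem_of_pow_mem _ ((q.2.mem_or_mem this).resolve_left fun h => hq ?_)
    exact Ideal.mem_of_dvd _ (Finset.dvd_prod_of_mem (fun a : t => s a.1 a.2) (Finset.mem_attach t ⟨a, ha⟩)) h

end Groth.Agent.S9621
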