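import Groth.Statements.S9622
import Mathlib
-- import your own Groth.Agent.* helpers here

set_option autoImplicit false
universe u
open CAlg

namespace Groth.Agent.S9622

/-- Let R → S be a ring map whose target S is a local Artinian ring, and write m for the maximal ideal
of S. Then S is a finite R-module exactly when S/m is, and S is an R-algebra of finite type exactly
when S/m is. -/
theorem result {R S : Type u} [CommRing R] [CommRing S] [Algebra R S] [IsArtinianRing S] [IsLocalRing S] :
    (Module.Finite R S ↔ Module.Finite R (S ⧸ IsLocalRing.maximalIdeal S)) ∧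
      (Algebra.FiniteType R S ↔ Algebra.FiniteType R (S ⧸ IsLocalRing.maximalIdeal S)) := by
  classical
  set m := IsLocalRing.maximalIdeal S with hm
  obtain ⟨N, hN⟩ : IsNilpotent m := IsArtinianRing.isNilpotent_jacobson_bot (R := S) |> fun h => by
    rwa [IsLocalRing.jacobson_eq_maximalIdeal _ bot_ne_top] at h
  refine ⟨⟨fun _ => inferInstance, fun h => ?_⟩, ⟨fun _ => inferInstance, fun h => ?_⟩⟩
  · obtain ⟨G, hG⟩ := Module.Finite.fg_top (R := R) (M := S ⧸ m)
    obtain ⟨F, hF⟩ := IsNoetherian.noetherian m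
    choose lift hlift using Ideal.Quotient.mk_surjective (I := m)
    let W0 : Submodule R S := Submodule.span R ((G.image lift : Finset S) : Set S)
    let W : ℕ → Submodule R S := fun k => W0 * (Submodule.span R (F : Set S)) ^ k
    have hW0 : ∀ s : S, ∃ a ∈ W0, s - a ∈ m := by
      intro s
      have : (Ideal.Quotient.mk m s) ∈ W0.map (Ideal.Quotient.mkₐ R m).toLinearMap := by
        refine (show (⊤ : Submodule R (S ⧸ m)) ≤ _ from ?_) trivial
        rw [← hG, Submodule.span_le]
        intro y hy
        exact ⟨lift y, Submodule.subset_span (by simp only [Finset.coe_image]; exact ⟨y, hy, rfl⟩), hlift y⟩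
      obtain ⟨a, ha, hae⟩ := this
      exact ⟨a, ha, Ideal.Quotient.eq.mp hae.symm⟩
    have hstep : ∀ k, ∀ u ∈ m ^ k, ∃ a ∈ W k, u - a ∈ m ^ (k + 1) := by
      intro k
      induction k with
      | zero => intro u _; simpa [W] using hW0 u
      | succ k ih =>
        intro u hu
        rw [pow_succ] at hu
        induction hu using Submodule.mul_induction_on' with
        | mem_mul_mem p hp q hq =>
          rw [← hF] at hq
          induction hq using Submodule.span_induction generalizing p with
          | mem z hz =>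
            obtain ⟨a, ha, hap⟩ := ih p hp
            refine ⟨a * z, ?_, ?_⟩
            · show a * z ∈ W0 * _ ^ (k + 1)
              rw [pow_succ, ← mul_assoc]
              exact Submodule.mul_mem_mul ha (Submodule.subset_span hz)
            · rw [← sub_mul, pow_succ]
              exact Ideal.mul_mem_mul hap (hF ▸ Submodule.subset_span hz)
          | zero => exact ⟨0, zero_mem _, by simp⟩
          | add z₁ z₂ _ _ h₁ h₂ =>
            obtain ⟨a₁, ha₁, h₁⟩ := h₁ p hp
            obtain ⟨a₂, ha₂, h₂⟩ := h₂ p hp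
            exact ⟨a₁ + a₂, add_mem ha₁ ha₂, by convert add_mem h₁ h₂ using 1; ring⟩
          | smul c z _ h₁ =>
            obtain ⟨a₁, ha₁, h₁⟩ := h₁ (p * c) (Ideal.mul_mem_right _ _ hp)
            exact ⟨a₁, ha₁, by rwa [smul_eq_mul, ← mul_assoc]⟩
        | add p _ q _ hp hq =>
          obtain ⟨a₁, ha₁, h₁⟩ := hp
          obtain ⟨a₂, ha₂, h₂⟩ := hq
          exact ⟨a₁ + a₂, add_mem ha₁ ha₂, by convert add_mem h₁ h₂ using 1; ring⟩
    have hWfg : ∀ k, (W k).FG := by
      intro k
      induction k with
      | zero => simpa [W, W0] using Submodule.fg_span (R := R) (M := S) (G.image lift).finite_toSet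
      | succ k ih =>
        show (W0 * _ ^ (k + 1)).FG
        rw [pow_succ, ← mul_assoc]
        exact ih.mul (Submodule.fg_span F.finite_toSet)
    have hall : ∀ k, ∃ V : Submodule R S, V.FG ∧ ∀ s, ∃ a ∈ V, s - a ∈ m ^ k := by
      intro k
      induction k with
      | zero => exact ⟨⊥, Submodule.fg_bot, fun s => ⟨0, zero_mem _, by simp⟩⟩
      | succ k ih =>
        obtain ⟨V, hV, hVs⟩ := ih
        refine ⟨V ⊔ W k, hV.sup (hWfg k), fun s => ?_⟩
        obtain ⟨a, ha, hk⟩ := hVs s
        obtain ⟨b, hb, hk'⟩ := hstep k _ hk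
        exact ⟨a + b, Submodule.add_mem_sup ha hb, by rwa [← sub_sub]⟩
    obtain ⟨V, hV, hVs⟩ := hall N
    refine ⟨(eq_top_iff.mpr fun s _ => ?_ : V = ⊤) ▸ hV⟩
    obtain ⟨a, ha, hsa⟩ := hVs s
    rw [hN] at hsa
    have hsa0 : s - a = 0 := by simpa using hsa
    rw [sub_eq_zero.mp hsa0]
    exact ha
  · obtain ⟨G, hG⟩ := h.out
    obtain ⟨F, hF⟩ := IsNoetherian.noetherian m
    choose lift hlift using Ideal.Quotient.mk_surjective (I := m)
    let A := Algebra.adjoin R ((G.image lift ∪ F : Finset S) : Set S)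
    have hA0 : ∀ s : S, ∃ a ∈ A, s - a ∈ m := by
      intro s
      have : (Ideal.Quotient.mk m s) ∈ A.map (Ideal.Quotient.mkₐ R m) := by
        refine (show (⊤ : Subalgebra R (S ⧸ m)) ≤ _ from ?_) trivial
        rw [← hG, Algebra.adjoin_le_iff]
        intro y hy
        exact ⟨lift y, Algebra.subset_adjoin (by simp only [Finset.coe_union, Finset.coe_image]; exact Or.inl ⟨y, hy, rfl⟩), hlift y⟩
      obtain ⟨a, ha, hae⟩ := this
      exact ⟨a, ha, Ideal.Quotient.eq.mp hae.symm⟩
    have hstep : ∀ k, ∀ u ∈ m ^ k, ∃ a ∈ A, u - a ∈ m ^ (k + 1) := by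
      intro k
      induction k with
      | zero => intro u _; simpa using hA0 u
      | succ k ih =>
        intro u hu
        rw [pow_succ] at hu
        induction hu using Submodule.mul_induction_on' with
        | mem_mul_mem p hp q hq =>
          rw [← hF] at hq
          induction hq using Submodule.span_induction generalizing p with
          | mem z hz =>
            obtain ⟨a, ha, hap⟩ := ih p hp
            refine ⟨a * z, A.mul_mem ha (Algebra.subset_adjoin (by simp only [Finset.coe_union]; exact Or.inr hz)), ?_⟩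
            rw [← sub_mul, pow_succ]
            exact Ideal.mul_mem_mul hap (hF ▸ Submodule.subset_span hz)
          | zero => exact ⟨0, A.zero_mem, by simp⟩
          | add z₁ z₂ _ _ h₁ h₂ =>
            obtain ⟨a₁, ha₁, h₁⟩ := h₁ p hp
            obtain ⟨a₂, ha₂, h₂⟩ := h₂ p hp
            exact ⟨a₁ + a₂, A.add_mem ha₁ ha₂, by convert add_mem h₁ h₂ using 1; ring⟩
          | smul c z _ h₁ =>
            obtain ⟨a₁, ha₁, h₁⟩ := h₁ (p * c) (Ideal.mul_mem_right _ _ hp)
            exact ⟨a₁, ha₁, by rwa [smul_eq_mul, ← mul_assoc]⟩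
        | add p _ q _ hp hq =>
          obtain ⟨a₁, ha₁, h₁⟩ := hp
          obtain ⟨a₂, ha₂, h₂⟩ := hq
          exact ⟨a₁ + a₂, A.add_mem ha₁ ha₂, by convert add_mem h₁ h₂ using 1; ring⟩
    have hall : ∀ k s, ∃ a ∈ A, s - a ∈ m ^ k := by
      intro k
      induction k with
      | zero => intro s; exact ⟨0, A.zero_mem, by simp⟩
      | succ k ih =>
        intro s
        obtain ⟨a, ha, hk⟩ := ih s
        obtain ⟨b, hb, hk'⟩ := hstep k _ hk
        exact ⟨a + b, A.add_mem ha hb, by rwa [← sub_sub]⟩
    refine ⟨⟨G.image lift ∪ F, eq_top_iff.mpr fun s _ => ?_⟩⟩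
    obtain ⟨a, ha, hsa⟩ := hall N s
    rw [hN] at hsa
    have hsa0 : s - a = 0 := by simpa using hsa
    rw [sub_eq_zero.mp hsa0]
    exact ha

end Groth.Agent.S9622
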