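import Groth.Statements.S9624
import Mathlib
-- import your own Groth.Agent.* helpers here

set_option autoImplicit false
universe u
open CAlg

open TensorProduct

namespace Groth.Agent.S9624

variable {k R S : Type u} [Field k] [CommRing R] [CommRing S] [Algebra k R] [Algebra k S]

theorem fibre_connected (hS : ∀ (k' : Type u) [Field k'] [Algebra k k'], ConnectedSpace (PrimeSpectrum (k' ⊗[k] S)))
    (p : PrimeSpectrum R) : IsConnected (PrimeSpectrum.comap (algebraMap R (R ⊗[k] S)) ⁻¹' {p}) := by
  let e : p.asIdeal.Fiber (R ⊗[k] S) ≃+* p.asIdeal.ResidueField ⊗[k] S :=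
    (Algebra.TensorProduct.cancelBaseChange k R p.asIdeal.ResidueField p.asIdeal.ResidueField S).toRingEquiv
  have h0 := hS p.asIdeal.ResidueField
  have hF : ConnectedSpace (PrimeSpectrum (p.asIdeal.Fiber (R ⊗[k] S))) :=
    (PrimeSpectrum.homeomorphOfRingEquiv e.symm).surjective.connectedSpace
      (PrimeSpectrum.homeomorphOfRingEquiv e.symm).continuous
  exact isConnected_iff_connectedSpace.2 ((PrimeSpectrum.preimageHomeomorphFiber R (R ⊗[k] S) p).symm.surjective.connectedSpace
    (PrimeSpectrum.preimageHomeomorphFiber R (R ⊗[k] S) p).symm.continuous)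

end Groth.Agent.S9624

namespace Groth.Agent.S9624

open TensorProduct in
/-- Let k be a field, S a geometrically connected k-algebra (the spectrum of k' ⊗_k S is connected for
every field extension k'/k) and R any k-algebra. Then the map R → R ⊗_k S induces a bijection on
idempotents: each idempotent of R ⊗_k S comes from exactly one idempotent of R. Here the test fields
range over field extensions in the universe of k; this is equivalent to the unrestricted notion,
since an algebraic closure of k suffices as a test. -/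
theorem result {k R S : Type u} [Field k] [CommRing R] [CommRing S] [Algebra k R] [Algebra k S]
    (hS : ∀ (k' : Type u) [Field k'] [Algebra k k'], ConnectedSpace (PrimeSpectrum (k' ⊗[k] S)))
    (x : R ⊗[k] S) (hx : IsIdempotentElem x) :
    ∃! e : R, IsIdempotentElem e ∧ algebraMap R (R ⊗[k] S) e = x := by
  let f := PrimeSpectrum.comap (algebraMap R (R ⊗[k] S))
  have hf : IsOpenMap f := PrimeSpectrum.isOpenMap_comap_algebraMap_tensorProduct_of_field
  let U : Set (PrimeSpectrum (R ⊗[k] S)) := (PrimeSpectrum.basicOpen x : Set _)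
  have hU : IsClopen U := by
    have := (PrimeSpectrum.isIdempotentElemEquivClopens ⟨x, hx⟩).2
    exact this
  have hpre : ∀ a b, f a = f b → a ∈ U → b ∈ U := by
    intro a b hab ha
    have hc := (Groth.Agent.S9624.fibre_connected hS (f a)).isPreconnected
    exact hc.subset_isClopen hU ⟨a, rfl, ha⟩ (show f b = f a from hab.symm)
  have hsurj : Function.Surjective f := fun p =>
    (Groth.Agent.S9624.fibre_connected hS p).nonempty
  have hV : IsClopen (f '' U) := by
    refine ⟨?_, hf _ hU.2⟩
    have : (f '' U)ᶜ = f '' Uᶜ := by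
      ext p
      constructor
      · intro hp
        obtain ⟨a, rfl⟩ := hsurj p
        exact ⟨a, fun h => hp ⟨a, h, rfl⟩, rfl⟩
      · rintro ⟨a, ha, rfl⟩ ⟨b, hb, hab⟩
        exact ha (hpre b a hab hb)
    rw [← isOpen_compl_iff, this]
    exact hf _ hU.1.isOpen_compl
  obtain ⟨e, he, hVe⟩ := PrimeSpectrum.exists_idempotent_basicOpen_eq_of_isClopen hV
  have hmap : ∀ e' : R, IsIdempotentElem e' → (algebraMap R (R ⊗[k] S) e' = x ↔ f '' U = (PrimeSpectrum.basicOpen e' : Set _)) := by
    intro e' he'
    constructor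
    · intro h
      ext p
      obtain ⟨a, rfl⟩ := hsurj p
      simp only [Set.mem_image, SetLike.mem_coe, PrimeSpectrum.mem_basicOpen]
      refine ⟨fun ⟨b, hb, hab⟩ hc => ?_, fun hc => ⟨a, ?_, rfl⟩⟩
      · have hb' : x ∉ b.asIdeal := hb
        rw [← hab] at hc
        exact hb' (h ▸ hc)
      · show x ∉ a.asIdeal
        rw [← h]; exact hc
    · intro h
      obtain ⟨z, -, hz⟩ := PrimeSpectrum.existsUnique_idempotent_basicOpen_eq_of_isClopen hU
      have h1 : U = (PrimeSpectrum.basicOpen (algebraMap R (R ⊗[k] S) e') : Set _) := by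
        ext a
        show a ∈ U ↔ a ∈ f ⁻¹' (PrimeSpectrum.basicOpen e' : Set _)
        rw [← h]
        exact ⟨fun ha => ⟨a, ha, rfl⟩, fun ⟨b, hb, hab⟩ => hpre b a hab hb⟩
      exact (hz _ ⟨he'.map _, h1⟩).trans (hz x ⟨hx, rfl⟩).symm
  refine ⟨e, ⟨he, (hmap e he).2 hVe⟩, fun e' h => ?_⟩
  obtain ⟨z, -, hz⟩ := PrimeSpectrum.existsUnique_idempotent_basicOpen_eq_of_isClopen hV
  exact (hz e' ⟨h.1, (hmap e' h.1).1 h.2⟩).trans (hz e ⟨he, hVe⟩).symm

end Groth.Agent.S9624
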