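import Groth.Statements.S9626
import Mathlib
-- import your own Groth.Agent.* helpers here

set_option autoImplicit false
universe u
open CAlg

open TensorProduct

namespace Groth.Agent.S9626

variable {k R S : Type u} [Field k] [CommRing R] [CommRing S] [Algebra k R] [Algebra k S]

theorem fibre_least (hS : ∀ (k' : Type u) [Field k'] [Algebra k k'], IrreducibleSpace (PrimeSpectrum (k' ⊗[k] S)))
    (p : PrimeSpectrum R) : ∃ q₀ : PrimeSpectrum (R ⊗[k] S), PrimeSpectrum.comap (algebraMap R _) q₀ = p ∧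
      ∀ q : PrimeSpectrum (R ⊗[k] S), PrimeSpectrum.comap (algebraMap R _) q = p → q₀ ≤ q := by
  let F := p.asIdeal.Fiber (R ⊗[k] S)
  let e : F ≃+* p.asIdeal.ResidueField ⊗[k] S :=
    (Algebra.TensorProduct.cancelBaseChange k R p.asIdeal.ResidueField p.asIdeal.ResidueField S).toRingEquiv
  have h0 := hS p.asIdeal.ResidueField
  have hF : IrreducibleSpace (PrimeSpectrum F) :=
    (PrimeSpectrum.homeomorphOfRingEquiv e.symm).surjective.irreducibleSpace
      (PrimeSpectrum.homeomorphOfRingEquiv e.symm).continuous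
  have hN : (nilradical F).IsPrime := PrimeSpectrum.irreducibleSpace_iff_isPrime_nilradical.1 hF
  let o := PrimeSpectrum.preimageOrderIsoFiber R (R ⊗[k] S) p
  refine ⟨(o.symm ⟨_, hN⟩).1, (o.symm ⟨_, hN⟩).2, fun q hq => ?_⟩
  have : o.symm ⟨_, hN⟩ ≤ ⟨q, hq⟩ := by
    rw [o.symm_apply_le]
    exact fun x hx => nilpotent_iff_mem_prime.1 (mem_nilradical.1 hx) _ (o ⟨q, hq⟩).2
  exact this

end Groth.Agent.S9626

namespace Groth.Agent.S9626

open TensorProduct in
/-- Let k be a field, S a k-algebra with Spec(k' ⊗_k S) irreducible for every field extension k'/k, and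
R any k-algebra. Then Spec(R ⊗_k S) → Spec(R) induces a bijection on irreducible components: taking
inverse images along R → R ⊗_k S maps the set of minimal primes of R ⊗_k S bijectively onto the set
of minimal primes of R. Here the test fields range over field extensions in the universe of k; this
is equivalent to the unrestricted notion, since an algebraic closure of k suffices as a test. -/
theorem result {k R S : Type u} [Field k] [CommRing R] [CommRing S] [Algebra k R] [Algebra k S]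
    (hS : ∀ (k' : Type u) [Field k'] [Algebra k k'], IrreducibleSpace (PrimeSpectrum (k' ⊗[k] S))) :
    Set.BijOn (Ideal.comap (algebraMap R (R ⊗[k] S))) (minimalPrimes (R ⊗[k] S)) (minimalPrimes R) := by
  refine ⟨?_, ?_, ?_⟩
  · intro q hq
    haveI := hq.1.1
    refine ⟨⟨Ideal.IsPrime.comap _, bot_le⟩, ?_⟩
    rintro p' ⟨hp', -⟩ hle
    haveI := hp'
    haveI : q.LiesOver (q.comap (algebraMap R (R ⊗[k] S))) := ⟨rfl⟩
    obtain ⟨q', hq'le, hq', hlo⟩ := Ideal.exists_ideal_le_liesOver_of_le (p := p') (q := q.comap (algebraMap R (R ⊗[k] S))) q hle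
    have := hq.2 ⟨hq', bot_le⟩ hq'le
    rw [hlo.over]
    exact Ideal.comap_mono this
  · intro q₁ h₁ q₂ h₂ he
    haveI := h₁.1.1
    haveI := h₂.1.1
    obtain ⟨q₀, h0, hmin⟩ := Groth.Agent.S9626.fibre_least hS ⟨q₁.comap (algebraMap R (R ⊗[k] S)), inferInstance⟩
    have l1 := hmin ⟨q₁, inferInstance⟩ rfl
    have l2 := hmin ⟨q₂, inferInstance⟩ (PrimeSpectrum.ext he.symm)
    exact congrArg PrimeSpectrum.asIdeal ((le_antisymm l1 (h₁.2 ⟨q₀.2, bot_le⟩ l1)).symm.trans (le_antisymm l2 (h₂.2 ⟨q₀.2, bot_le⟩ l2)))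
  · intro p hp
    obtain ⟨q₀, h0, hmin⟩ := Groth.Agent.S9626.fibre_least hS ⟨p, hp.1.1⟩
    refine ⟨q₀.asIdeal, ⟨⟨q₀.2, bot_le⟩, ?_⟩, congrArg PrimeSpectrum.asIdeal h0⟩
    rintro q' ⟨hq', -⟩ hle
    haveI := hq'
    have h1 : q'.comap (algebraMap R (R ⊗[k] S)) ≤ p :=
      (Ideal.comap_mono hle).trans_eq (congrArg PrimeSpectrum.asIdeal h0)
    have h2 := hp.2 ⟨Ideal.IsPrime.comap _, bot_le⟩ h1
    exact hmin ⟨q', hq'⟩ (PrimeSpectrum.ext (le_antisymm h1 h2))

end Groth.Agent.S9626
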