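import Groth.Statements.S9627
import Mathlib
-- import your own Groth.Agent.* helpers here

set_option autoImplicit false
universe u
open CAlg

namespace Groth.Agent.S9627

open TensorProduct in
/-- Let K/k be a field extension such that Spec(k' ⊗_k K) is irreducible for every field extension k'/k,
and let S be a K-algebra such that Spec(K' ⊗_K S) is irreducible for every field extension K'/K.
Then Spec(k' ⊗_k S) is irreducible for every field extension k'/k: S is geometrically irreducible
over k. Here the test fields k'/k and K'/K range over field extensions in the common universe of k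
and K; this is equivalent to the unrestricted notions, since an algebraic closure of the base field
suffices as a test. -/
theorem result {k K S : Type u} [Field k] [Field K] [Algebra k K] [CommRing S] [Algebra K S] [Algebra k S] [IsScalarTower k K S]
    (hK : ∀ (k' : Type u) [Field k'] [Algebra k k'], IrreducibleSpace (PrimeSpectrum (k' ⊗[k] K)))
    (hS : ∀ (K' : Type u) [Field K'] [Algebra K K'], IrreducibleSpace (PrimeSpectrum (K' ⊗[K] S))) :
    ∀ (k' : Type u) [Field k'] [Algebra k k'], IrreducibleSpace (PrimeSpectrum (k' ⊗[k] S)) := by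
  intro k' _ _
  have h1 := hK k'
  let R := k' ⊗[k] K
  letI : Algebra K R := Algebra.TensorProduct.rightAlgebra
  have hN : (nilradical R).IsPrime := PrimeSpectrum.irreducibleSpace_iff_isPrime_nilradical.1 h1
  let Rb := R ⧸ nilradical R
  let F := FractionRing Rb
  have hF := hS F
  let g : R ⊗[K] S →ₐ[K] Rb ⊗[K] S := Algebra.TensorProduct.map (Ideal.Quotient.mkₐ K (nilradical R)) (AlgHom.id K S)
  let j : Rb ⊗[K] S →ₐ[K] F ⊗[K] S := Algebra.TensorProduct.map (IsScalarTower.toAlgHom K Rb F) (AlgHom.id K S)
  have hj : Function.Injective j := Module.Flat.rTensor_preserves_injective_linearMap (M := S)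
    (IsScalarTower.toAlgHom K Rb F).toLinearMap (IsFractionRing.injective Rb F)
  have hg : ∀ z, g z = 0 → IsNilpotent z := by
    intro z hz
    have h2 : z ∈ RingHom.ker g := hz
    rw [Algebra.TensorProduct.rTensor_ker _ (Ideal.Quotient.mkₐ_surjective K _)] at h2
    refine mem_nilradical.1 (?_ : z ∈ nilradical (R ⊗[K] S))
    have : RingHom.ker (Ideal.Quotient.mkₐ K (nilradical R)) = nilradical R := Ideal.Quotient.mkₐ_ker K _
    rw [this] at h2
    refine Ideal.map_le_iff_le_comap.2 (fun r hr => ?_) h2
    exact mem_nilradical.2 ((mem_nilradical.1 hr).map _)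
  have hF' : (nilradical (F ⊗[K] S)).IsPrime := PrimeSpectrum.irreducibleSpace_iff_isPrime_nilradical.1 hF
  have e : nilradical (R ⊗[K] S) = Ideal.comap (j.comp g) (nilradical (F ⊗[K] S)) := by
    ext z
    simp only [mem_nilradical, Ideal.mem_comap]
    refine ⟨fun h => h.map _, fun h => ?_⟩
    obtain ⟨n, hn⟩ := h
    have : g (z ^ n) = 0 := hj (by rw [map_zero, ← hn, AlgHom.comp_apply, map_pow, map_pow])
    obtain ⟨m, hm⟩ := hg _ this
    exact ⟨n * m, by rw [pow_mul, hm]⟩
  have : IrreducibleSpace (PrimeSpectrum (R ⊗[K] S)) := by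
    rw [PrimeSpectrum.irreducibleSpace_iff_isPrime_nilradical, e]
    exact Ideal.IsPrime.comap _
  let eq : S ⊗[k] k' ≃+* k' ⊗[k] S := (Algebra.TensorProduct.comm k S k').toRingEquiv
  let e2 : R ⊗[K] S ≃+* k' ⊗[k] S :=
    ((Algebra.TensorProduct.comm K R S).toRingEquiv.trans
      ((Algebra.TensorProduct.congr (AlgEquiv.refl : S ≃ₐ[K] S) (show R ≃ₐ[K] K ⊗[k] k' from
        AlgEquiv.ofRingEquiv (f := (Algebra.TensorProduct.comm k k' K).toRingEquiv) (fun x => by
          rw [Algebra.TensorProduct.algebraMap_apply]; rfl))).toRingEquiv.trans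
        (Algebra.TensorProduct.cancelBaseChange k K S S k').toRingEquiv)).trans eq
  exact (PrimeSpectrum.homeomorphOfRingEquiv e2).surjective.irreducibleSpace (PrimeSpectrum.homeomorphOfRingEquiv e2).continuous
end Groth.Agent.S9627
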