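import Groth.Statements.S9629
import Mathlib
import Groth.Agent.FormalIrred.Basic
-- import your own Groth.Agent.* helpers here

set_option autoImplicit false
universe u
open CAlg

namespace Groth.Agent.S9629

open TensorProduct in
/-- For a field k and a k-algebra S the following are equivalent: (1) S is geometrically integral, i.e.
k' ⊗_k S is an integral domain for every field extension k'/k; (2) k' ⊗_k S is an integral domain
for every finite field extension k'/k; (3) k̄ ⊗_k S is an integral domain for the algebraic closure
k̄ of k. Here the test fields range over field extensions in the universe of k; this is equivalent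
to the unrestricted notion, since an algebraic closure of k suffices as a test. -/
theorem result {k S : Type u} [Field k] [CommRing S] [Algebra k S] :
    [∀ (k' : Type u) [Field k'] [Algebra k k'], IsDomain (k' ⊗[k] S),
      ∀ (k' : Type u) [Field k'] [Algebra k k'] [Module.Finite k k'], IsDomain (k' ⊗[k] S),
      IsDomain (AlgebraicClosure k ⊗[k] S)].TFAE := by
  tfae_have 1 → 3 := fun h => h (AlgebraicClosure k)
  tfae_have 3 → 2 := by
    intro h L _ _ _
    let φ : L →ₐ[k] AlgebraicClosure k := IsAlgClosed.lift
    exact Function.Injective.isDomain (Algebra.TensorProduct.map φ (AlgHom.id k S))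
      (Module.Flat.rTensor_preserves_injective_linearMap (M := S) φ.toLinearMap φ.toRingHom.injective)
  tfae_have 2 → 1 := by
    intro h K _ _
    exact Groth.Agent.FormalIrred.isDomain_of_finite k S (fun L _ _ hL => @h L _ _ hL) K
  tfae_finish
end Groth.Agent.S9629
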