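import Groth.Statements.S9634
import Mathlib
import Groth.Agent.RegLocus.GeomRedTrans
-- import your own Groth.Agent.* helpers here

set_option autoImplicit false
universe u
open CAlg

namespace Groth.Agent.S9634

open TensorProduct in
theorem descend (k S : Type u) [Field k] [CommRing S] [Algebra k S] (kp kb : Type u) [Field kp] [PerfectField kp]
    [Algebra k kp] [Field kb] [Algebra k kb] [Algebra kp kb] [IsScalarTower k kp kb] [_root_.IsReduced (kp ⊗[k] S)] :
    _root_.IsReduced (kb ⊗[k] S) := by
  have : _root_.IsReduced (kb ⊗[kp] (kp ⊗[k] S)) :=
    Groth.Agent.GeomRed.isReduced_tensorProduct_of_perfectField kp kb (kp ⊗[k] S)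
  exact isReduced_of_injective (Algebra.TensorProduct.cancelBaseChange k kp kp kb S).symm.toAlgHom
    (Algebra.TensorProduct.cancelBaseChange k kp kp kb S).symm.injective

open TensorProduct in
/-- (1) ⇔ (4) ⇔ (5): for a field k and a k-algebra S the following are equivalent: (1) the ring k' ⊗_k S
is reduced whenever k'/k is a finite purely inseparable field extension; (4) S is geometrically
reduced in Mathlib's sense, which over a field amounts to k̄ ⊗_k S being reduced for an algebraic
closure k̄; (5) K ⊗_k S is reduced for all field extensions K/k. In (1) and (5) the test fields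
range over field extensions in the universe of k; this is equivalent to the unrestricted notion,
since an algebraic closure of k suffices as a test. -/
theorem result {k S : Type u} [Field k] [CommRing S] [Algebra k S] :
    [∀ (k' : Type u) [Field k'] [Algebra k k'] [Module.Finite k k'] [IsPurelyInseparable k k'], IsReduced (k' ⊗[k] S),
      Algebra.IsGeometricallyReduced k S,
      ∀ (K : Type u) [Field K] [Algebra k K], IsReduced (K ⊗[k] S)].TFAE := by
  tfae_have 3 → 1 := fun h k' _ _ _ _ => h k'
  tfae_have 2 → 3 := fun h K _ _ => Groth.Agent.RegLocus.isReduced_tensor_field k S K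
  tfae_have 1 → 2 := by
    intro h
    rw [Algebra.isGeometricallyReduced_field_iff]
    let kb := AlgebraicClosure k
    let kp := perfectClosure k kb
    have : IsReduced (S ⊗[k] kp) := by
      apply IsReduced.tensorProduct_of_flat_of_forall_fg
      intro B hB
      have : Algebra.FiniteType k B := B.fg_iff_finiteType.mp hB
      have : Algebra.IsIntegral k B := ⟨fun x => (isIntegral_algHom_iff B.val Subtype.val_injective).1
        (Algebra.IsIntegral.isIntegral _)⟩
      have : Module.Finite k B := Algebra.IsIntegral.finite
      letI : Field B := fieldOfFiniteDimensional k B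
      have : IsPurelyInseparable k B := by
        let φ : B →ₐ[k] kp := B.val
        letI : Algebra B kp := φ.toRingHom.toAlgebra
        haveI : IsScalarTower k B kp := IsScalarTower.of_algebraMap_eq fun x => (φ.commutes x).symm
        exact IsPurelyInseparable.tower_bot k B kp
      have := h B
      exact isReduced_of_injective (Algebra.TensorProduct.comm k S B).toAlgHom (Algebra.TensorProduct.comm k S B).injective
    have : IsReduced (kp ⊗[k] S) :=
      isReduced_of_injective (Algebra.TensorProduct.comm k kp S).toAlgHom (Algebra.TensorProduct.comm k kp S).injective
    exact descend k S kp kb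
  tfae_finish
end Groth.Agent.S9634
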