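import Groth.Statements.S9635
import Mathlib
import Groth.Agent.RegLocus.GeomRedTrans
import Groth.Agent.GeomRegH.Basic
-- import your own Groth.Agent.* helpers here

set_option autoImplicit false
universe u
open CAlg

open TensorProduct

namespace Groth.Agent.S9635

variable {k k' A : Type u} [Field k] [Field k'] [Algebra k k'] [Algebra.IsSeparable k k'] [CommRing A] [Algebra k' A]
  [Algebra k A] [IsScalarTower k k' A] (K : Type u) [Field K]

theorem toBase [Algebra k' K] [Algebra k K] [IsScalarTower k k' K] (h : _root_.IsReduced (K ⊗[k] A)) :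
    _root_.IsReduced (K ⊗[k'] A) := by
  let π : K ⊗[k] A →ₐ[k] K ⊗[k'] A := Algebra.TensorProduct.productMap
    ((Algebra.TensorProduct.includeLeft : K →ₐ[k'] K ⊗[k'] A).restrictScalars k)
    ((Algebra.TensorProduct.includeRight : A →ₐ[k'] K ⊗[k'] A).restrictScalars k)
  have hπ : ∀ (x : K) (y : A), π (x ⊗ₜ y) = x ⊗ₜ y := fun x y => by simp [π]
  let G : Set (K ⊗[k] A) := Set.range fun a : k' => algebraMap k' K a ⊗ₜ (1 : A) - (1 : K) ⊗ₜ algebraMap k' A a
  let J : Ideal (K ⊗[k] A) := Ideal.span G
  have hJker : ∀ z, z ∈ J → π z = 0 := by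
    intro z hz
    refine (Ideal.span_le.2 ?_ : J ≤ RingHom.ker π) hz
    rintro _ ⟨a, rfl⟩
    simp only [SetLike.mem_coe, RingHom.mem_ker, map_sub, hπ]
    rw [Algebra.algebraMap_eq_smul_one, Algebra.algebraMap_eq_smul_one, smul_tmul, sub_self]
  let ι : K ⊗[k] A →+* (K ⊗[k] A) ⧸ J := Ideal.Quotient.mk J
  let lft : K ⊗[k'] A →+ (K ⊗[k] A) ⧸ J := TensorProduct.liftAddHom
    { toFun := fun x => { toFun := fun y => ι (x ⊗ₜ y), map_zero' := by simp, map_add' := fun y z => by simp [tmul_add] }
      map_zero' := by ext; simp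
      map_add' := fun x z => by ext; simp [add_tmul] }
    (fun a x y => by
      simp only [AddMonoidHom.coe_mk, ZeroHom.coe_mk]
      rw [show ι ((a • x) ⊗ₜ[k] y) = ι ((algebraMap k' K a ⊗ₜ[k] (1 : A)) * (x ⊗ₜ y)) by simp [Algebra.smul_def],
        show ι (x ⊗ₜ[k] (a • y)) = ι (((1 : K) ⊗ₜ[k] algebraMap k' A a) * (x ⊗ₜ y)) by simp [Algebra.smul_def],
        map_mul, map_mul]
      congr 1
      exact (Ideal.Quotient.eq.2 (Ideal.subset_span ⟨a, rfl⟩)))
  have hl : ∀ z, lft (π z) = ι z := by
    intro z
    induction z using TensorProduct.induction_on with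
    | zero => simp
    | tmul x y => rw [hπ]; rfl
    | add x y hx hy => rw [map_add, map_add, map_add, hx, hy]
  have hsurj : Function.Surjective π := by
    intro w
    induction w using TensorProduct.induction_on with
    | zero => exact ⟨0, map_zero _⟩
    | tmul x y => exact ⟨_, hπ x y⟩
    | add x y hx hy =>
      obtain ⟨a, rfl⟩ := hx; obtain ⟨b, rfl⟩ := hy; exact ⟨a + b, map_add _ _ _⟩
  -- J is generated by idempotents
  have hgen : ∀ a : k', ∃ e ∈ J, e * (algebraMap k' K a ⊗ₜ (1 : A) - (1 : K) ⊗ₜ algebraMap k' A a) =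
      algebraMap k' K a ⊗ₜ (1 : A) - (1 : K) ⊗ₜ algebraMap k' A a := by
    intro a
    let u : k' →ₐ[k] K ⊗[k] A := (Algebra.TensorProduct.includeLeft : K →ₐ[k] K ⊗[k] A).comp (IsScalarTower.toAlgHom k k' K)
    let v : k' →ₐ[k] K ⊗[k] A := (Algebra.TensorProduct.includeRight : A →ₐ[k] K ⊗[k] A).comp (IsScalarTower.toAlgHom k k' A)
    let f := (minpoly k a).map (algebraMap k (K ⊗[k] A))
    let d := u a - v a
    have hd : d ∈ J := Ideal.subset_span ⟨a, rfl⟩
    have hfu : ∀ (w : k' →ₐ[k] K ⊗[k] A), f.eval (w a) = 0 := fun w => by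
      rw [Polynomial.eval_map_algebraMap, Polynomial.aeval_algHom_apply, minpoly.aeval, map_zero]
    obtain ⟨c, hc⟩ := Polynomial.binomExpansion f (v a) d
    rw [show v a + d = u a by simp [d], hfu u, hfu v, zero_add] at hc
    have hun : IsUnit (f.derivative.eval (v a)) := by
      rw [Polynomial.derivative_map, Polynomial.eval_map_algebraMap, Polynomial.aeval_algHom_apply]
      exact (isUnit_iff_ne_zero.2 ((Algebra.IsSeparable.isSeparable k a).aeval_derivative_ne_zero (minpoly.aeval k a))).map v
    obtain ⟨w, hw⟩ := hun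
    refine ⟨-(↑w⁻¹ * c * d), J.neg_mem (J.mul_mem_left _ hd), ?_⟩
    show -(↑w⁻¹ * c * d) * d = d
    rw [← hw] at hc
    have : d = ↑w⁻¹ * (↑w * d) := by rw [← mul_assoc, Units.inv_mul, one_mul]
    calc -(↑w⁻¹ * c * d) * d = ↑w⁻¹ * (↑w * d) := by linear_combination (↑w⁻¹ : K ⊗[k] A) * hc
      _ = d := this.symm
  let J' : Ideal (K ⊗[k] A) :=
    { carrier := {y | ∃ e ∈ J, e * y = y}
      zero_mem' := ⟨0, J.zero_mem, mul_zero _⟩
      add_mem' := by
        rintro a b ⟨e, he, hea⟩ ⟨e', he', hea'⟩
        refine ⟨e + e' - e * e', J.sub_mem (J.add_mem he he') (J.mul_mem_right _ he), ?_⟩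
        linear_combination (1 - e') * hea + (1 - e) * hea'
      smul_mem' := by
        rintro c a ⟨e, he, hea⟩
        exact ⟨e, he, by simp only [smul_eq_mul]; linear_combination c * hea⟩ }
  have hJJ : J ≤ J' := Ideal.span_le.2 (by rintro _ ⟨a, rfl⟩; exact hgen a)
  have hker : ∀ z, π z = 0 → z ∈ J := fun z hz => by
    have := hl z; rw [hz, map_zero] at this; exact Ideal.Quotient.eq_zero_iff_mem.1 this.symm
  constructor
  intro w hw
  obtain ⟨x, rfl⟩ := hsurj w
  obtain ⟨n, hn⟩ := hw
  rw [← map_pow] at hn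
  obtain ⟨e, he, hex⟩ := hJJ (hker _ hn)
  have hnil : IsNilpotent ((1 - e) * x) := ⟨n + 1, by
    rw [mul_pow]
    linear_combination -((1 - e) ^ n * x) * hex⟩
  have hx : x = e * x := by linear_combination hnil.eq_zero
  rw [hx, map_mul, hJker e he, zero_mul]

theorem ofBase [Algebra k K] (h : ∀ (L : Type u) [Field L] [Algebra k' L], _root_.IsReduced (L ⊗[k'] A)) :
    _root_.IsReduced (K ⊗[k] A) := by
  haveI : Algebra.IsGeometricallyReduced k k' := Groth.Agent.GeomRegH.isGeometricallyReduced_of_isSeparable k k'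
  have : _root_.IsReduced (K ⊗[k] k') := Groth.Agent.RegLocus.isReduced_tensor_field k k' K
  let R := k' ⊗[k] K
  have : _root_.IsReduced R :=
    isReduced_of_injective (Algebra.TensorProduct.comm k k' K).toAlgHom (Algebra.TensorProduct.comm k k' K).injective
  have hA : _root_.IsReduced (A ⊗[k'] R) := by
    have : ∀ p : PrimeSpectrum R, _root_.IsReduced (A ⊗[k'] p.asIdeal.ResidueField) := fun p =>
      have := h p.asIdeal.ResidueField
      isReduced_of_injective (Algebra.TensorProduct.comm k' A p.asIdeal.ResidueField).toAlgHom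
        (Algebra.TensorProduct.comm k' A _).injective
    refine Groth.Agent.GeomRed.isReduced_baseChange_of_family (F := fun p : PrimeSpectrum R => p.asIdeal.ResidueField)
      (fun p => IsScalarTower.toAlgHom k' R p.asIdeal.ResidueField) fun a ha => ?_
    apply IsNilpotent.eq_zero
    rw [nilpotent_iff_mem_prime]
    intro P hP
    exact Ideal.algebraMap_residueField_eq_zero.1 (ha ⟨P, hP⟩)
  let e : K ⊗[k] A ≃+* A ⊗[k'] R :=
    (Algebra.TensorProduct.comm k K A).toRingEquiv.trans
      (Algebra.TensorProduct.cancelBaseChange k k' k' A K).symm.toRingEquiv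
  exact isReduced_of_injective e e.injective

end Groth.Agent.S9635

namespace Groth.Agent.S9635

open TensorProduct in
/-- Let k ⊆ k' be fields with k' separable algebraic over k, and A a k'-algebra. Then A is geometrically
reduced over k (K ⊗_k A reduced for all field extensions K/k) if and only if A is geometrically
reduced over k' (K ⊗_{k'} A reduced for all field extensions K/k'). Here the test fields K range
over field extensions (of k, respectively of k') in the common universe of k and k'; this is
equivalent to the unrestricted notions, since an algebraic closure of the base field suffices as a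
test. -/
theorem result {k k' A : Type u} [Field k] [Field k'] [Algebra k k'] [Algebra.IsSeparable k k'] [CommRing A] [Algebra k' A] [Algebra k A] [IsScalarTower k k' A] :
    (∀ (K : Type u) [Field K] [Algebra k K], IsReduced (K ⊗[k] A)) ↔
      ∀ (K : Type u) [Field K] [Algebra k' K], IsReduced (K ⊗[k'] A) := by
  constructor
  · intro h K _ _
    letI : Algebra k K := ((algebraMap k' K).comp (algebraMap k k')).toAlgebra
    haveI : IsScalarTower k k' K := IsScalarTower.of_algebraMap_eq' rfl
    exact Groth.Agent.S9635.toBase K (h K)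
  · intro h K _ _
    exact Groth.Agent.S9635.ofBase K h

end Groth.Agent.S9635
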