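import Groth.Statements.S9636
import Mathlib.RingTheory.Unramified.Finite
import Mathlib.RingTheory.Etale.Field
import Mathlib.RingTheory.Kaehler.Basic
import Mathlib.RingTheory.Localization.Basic

set_option autoImplicit false
universe u
open CAlg

namespace Groth.Agent.S9636

open TensorProduct in
/-- Let k'/k be a separable algebraic field extension. Then for some multiplicative subset S of k' ⊗_k
k' the multiplication map k' ⊗_k k' → k' is a localization at S: there is a ring isomorphism S⁻¹(k'
⊗_k k') ≅ k' carrying the localization map to the multiplication map. -/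
theorem result {k k' : Type u} [Field k] [Field k'] [Algebra k k'] [Algebra.IsSeparable k k'] :
    ∃ (S : Submonoid (k' ⊗[k] k')) (e : Localization S ≃+* k'), ∀ x : k' ⊗[k] k', e (algebraMap (k' ⊗[k] k') (Localization S) x) = Algebra.TensorProduct.lmul' (S := k') k x := by
  classical
  let μ := Algebra.TensorProduct.lmul' (S := k') k
  haveI : (RingHom.ker μ.toRingHom).IsPrime := RingHom.ker_isPrime _
  let S : Submonoid (k' ⊗[k] k') := (RingHom.ker μ.toRingHom).primeCompl
  have hunit : ∀ s : S, IsUnit (μ.toRingHom s) := fun s => isUnit_iff_ne_zero.mpr s.2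
  have hμ1 : ∀ c : k', μ (c ⊗ₜ 1) = c := fun c => by simp [μ, Algebra.TensorProduct.lmul'_apply_tmul]
  let J : Ideal (k' ⊗[k] k') :=
    { carrier := {x | ∃ s ∈ S, s * x = 0}
      zero_mem' := ⟨1, S.one_mem, mul_zero _⟩
      add_mem' := fun {a b} ⟨s, hs, hsa⟩ ⟨t, ht, htb⟩ => ⟨s * t, S.mul_mem hs ht, by
        rw [mul_add, mul_right_comm, hsa, zero_mul, mul_assoc, htb, mul_zero, add_zero]⟩
      smul_mem' := fun c x ⟨s, hs, hsx⟩ => ⟨s, hs, by rw [smul_eq_mul, mul_left_comm, hsx, mul_zero]⟩ }
  have hJ : RingHom.ker μ.toRingHom ≤ J := by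
    show KaehlerDifferential.ideal k k' ≤ J
    rw [← KaehlerDifferential.span_range_eq_ideal, Ideal.span_le]
    rintro _ ⟨a, rfl⟩
    let L := IntermediateField.adjoin k ({a} : Set k')
    haveI : FiniteDimensional k L :=
      IntermediateField.adjoin.finiteDimensional (Algebra.IsSeparable.isIntegral k a)
    haveI : Algebra.IsSeparable k L := Algebra.isSeparable_tower_bot_of_isSeparable k L k'
    haveI : Algebra.FormallyEtale k L := (Algebra.FormallyEtale.iff_isSeparable k L).mpr inferInstance
    let j := Algebra.TensorProduct.map L.val L.val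
    refine ⟨j (Algebra.FormallyUnramified.elem k L), fun hmem => ?_, ?_⟩
    · have h1 : μ.comp j = L.val.comp (Algebra.TensorProduct.lmul' k) :=
        Algebra.TensorProduct.ext' fun x y => by simp [μ, j]
      have h2 : μ (j (Algebra.FormallyUnramified.elem k L)) = 1 := by
        rw [← AlgHom.comp_apply, h1, AlgHom.comp_apply, Algebra.FormallyUnramified.lmul_elem, map_one]
      exact one_ne_zero (h2.symm.trans hmem)
    · let a' : L := ⟨a, IntermediateField.mem_adjoin_simple_self k a⟩
      have h3 := congrArg j (Algebra.FormallyUnramified.one_tmul_sub_tmul_one_mul_elem (R := k) a')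
      rw [map_mul, map_sub, map_zero] at h3
      simpa [j, a', mul_comm] using h3
  let f : Localization S →+* k' := IsLocalization.lift hunit
  have hf : ∀ x, f (algebraMap _ _ x) = μ x := fun x => IsLocalization.lift_eq hunit x
  refine ⟨S, RingEquiv.ofBijective f ⟨?_, fun c => ⟨algebraMap (k' ⊗[k] k') (Localization S) (c ⊗ₜ[k] (1 : k')), ?_⟩⟩, hf⟩
  · rw [injective_iff_map_eq_zero]
    intro z hz
    obtain ⟨⟨x, s⟩, hxs⟩ := IsLocalization.surj S z
    have h1 := congrArg f hxs
    rw [map_mul, hz, zero_mul, hf] at h1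
    obtain ⟨t, ht, htx⟩ := hJ (RingHom.mem_ker.mpr h1.symm)
    have h2 : algebraMap (k' ⊗[k] k') (Localization S) x = 0 :=
      (IsLocalization.map_eq_zero_iff S _ x).mpr ⟨⟨t, ht⟩, htx⟩
    exact (IsUnit.mul_left_eq_zero (IsLocalization.map_units _ s)).mp (hxs.trans h2)
  · rw [hf, hμ1]


end Groth.Agent.S9636
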