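import Groth.Statements.S9637
import Mathlib
-- import your own Groth.Agent.* helpers here

set_option autoImplicit false
universe u
open CAlg

namespace Groth.Agent.S9637

/-- Let R be a local Noetherian ring, I an ideal contained in its maximal ideal, and M a finite
R-module. Then I contains an M-regular element (one acting injectively on M) if and only if no
associated prime of M contains I. -/
theorem result {R : Type u} [CommRing R] [IsNoetherianRing R] [IsLocalRing R] (I : Ideal R) (hI : I ≤ IsLocalRing.maximalIdeal R) (M : Type u) [AddCommGroup M] [Module R M] [Module.Finite R M] :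
    (∃ x ∈ I, IsSMulRegular M x) ↔ ∀ q ∈ associatedPrimes R M, ¬ I ≤ q := by
  constructor
  · rintro ⟨x, hxI, hx⟩ q hq hle
    have : x ∈ {r : R | ∃ y : M, y ≠ 0 ∧ r • y = 0} := by
      rw [← biUnion_associatedPrimes_eq_zero_divisors]
      exact Set.mem_biUnion hq (hle hxI)
    obtain ⟨y, hy, hxy⟩ := this
    exact hy (hx (by simpa using hxy))
  · intro h
    by_contra! hc
    have hsub : (I : Set R) ⊆ ⋃ p ∈ associatedPrimes R M, (p : Set R) := by
      intro x hx
      rw [biUnion_associatedPrimes_eq_zero_divisors]
      by_contra hxz
      refine hc x hx fun a b hab => ?_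
      by_contra hne
      exact hxz ⟨a - b, sub_ne_zero.mpr hne, by
        rw [smul_sub]; exact sub_eq_zero.mpr hab⟩
    obtain ⟨q, hq, hle⟩ := (I.subset_union_prime_finite (associatedPrimes.finite R M)
      (f := id) 0 0 (fun p hp _ _ => hp.isPrime)).mp hsub
    exact h q hq hle

end Groth.Agent.S9637
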