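import Groth.Statements.S9641
import Mathlib
-- import your own Groth.Agent.* helpers here

set_option autoImplicit false
universe u
open CAlg

namespace Groth.Agent.S9641

open TensorProduct in
/-- Let k be a field and R, S two k-algebras. If R ⊗_k S is not reduced then there are finitely
generated k-subalgebras R' ⊆ R and S' ⊆ S such that R' ⊗_k S' is not reduced. -/
theorem result {k R S : Type u} [Field k] [CommRing R] [CommRing S] [Algebra k R] [Algebra k S] (h : ¬ IsReduced (R ⊗[k] S)) :
    ∃ (R' : Subalgebra k R) (S' : Subalgebra k S), R'.FG ∧ S'.FG ∧ ¬ IsReduced (R' ⊗[k] S') := by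
  classical
  rw [isReduced_iff] at h
  push Not at h
  obtain ⟨z, ⟨N, hN⟩, hz⟩ := h
  obtain ⟨s, hs⟩ := TensorProduct.exists_finset z
  let R' := Algebra.adjoin k ((s.image Prod.fst : Finset R) : Set R)
  let S' := Algebra.adjoin k ((s.image Prod.snd : Finset S) : Set S)
  refine ⟨R', S', Subalgebra.fg_adjoin_finset _, Subalgebra.fg_adjoin_finset _, fun hred => hz ?_⟩
  let φ : R' ⊗[k] S' →ₐ[k] R ⊗[k] S := Algebra.TensorProduct.map R'.val S'.val
  have hφ : Function.Injective φ :=
    TensorProduct.map_injective_of_flat_flat (R'.val.toLinearMap) (S'.val.toLinearMap)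
      Subtype.val_injective Subtype.val_injective
  obtain ⟨w, hw⟩ : ∃ w, φ w = z := by
    rw [hs]
    refine (AlgHom.mem_range _).1 (Subalgebra.sum_mem _ fun p hp => ?_)
    exact ⟨⟨p.1, Algebra.subset_adjoin (Finset.mem_image_of_mem _ hp)⟩ ⊗ₜ
      ⟨p.2, Algebra.subset_adjoin (Finset.mem_image_of_mem _ hp)⟩, rfl⟩
  have hw0 : w = 0 := hred.eq_zero _ ⟨N, hφ (by rw [map_pow, hw, hN, map_zero])⟩
  rw [← hw, hw0, map_zero]

end Groth.Agent.S9641
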