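import Groth.Statements.S9642
import Mathlib
-- import your own Groth.Agent.* helpers here

set_option autoImplicit false
universe u
open CAlg

namespace Groth.Agent.S9642

/-- In the general form stated there: let R → S be a ring map inducing an open map Spec(S) → Spec(R),
with Spec(R) irreducible, such that for a dense set of primes p of R the fibre ring κ(p) ⊗_R S has
irreducible spectrum. Then Spec(S) is irreducible. The flat and finitely presented case is the
special case in which the map on spectra is open by fppf-openness. -/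
theorem result {R S : Type u} [CommRing R] [CommRing S] [Algebra R S]
    (hopen : IsOpenMap (PrimeSpectrum.comap (algebraMap R S))) [IrreducibleSpace (PrimeSpectrum R)]
    (D : Set (PrimeSpectrum R)) (hD : Dense D) (hfib : ∀ p ∈ D, IrreducibleSpace (PrimeSpectrum (p.asIdeal.Fiber S))) :
    IrreducibleSpace (PrimeSpectrum S) := by
  have key : IsPreirreducible (Set.univ : Set (PrimeSpectrum S)) := by
    intro U V hU hV hUne hVne
    rw [Set.univ_inter] at hUne hVne ⊢
    obtain ⟨z, hz1, hz2⟩ := (IrreducibleSpace.isIrreducible_univ (PrimeSpectrum R)).2 _ _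
      (hopen U hU) (hopen V hV) (by rw [Set.univ_inter]; exact hUne.image _) (by rw [Set.univ_inter]; exact hVne.image _)
    obtain ⟨p, hp, hpD⟩ := hD.inter_open_nonempty _ ((hopen U hU).inter (hopen V hV)) ⟨z, hz2⟩
    obtain ⟨⟨a, ha, hap⟩, ⟨b, hb, hbp⟩⟩ := hp
    haveI := hfib p hpD
    let e := PrimeSpectrum.preimageHomeomorphFiber R S p
    have hU' : IsOpen (e.symm ⁻¹' (Subtype.val ⁻¹' U)) := (hU.preimage continuous_subtype_val).preimage e.symm.continuous
    have hV' : IsOpen (e.symm ⁻¹' (Subtype.val ⁻¹' V)) := (hV.preimage continuous_subtype_val).preimage e.symm.continuous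
    obtain ⟨q, -, hqU, hqV⟩ := (IrreducibleSpace.isIrreducible_univ _).2 _ _ hU' hV'
      ⟨e ⟨a, hap⟩, trivial, by simpa using ha⟩ ⟨e ⟨b, hbp⟩, trivial, by simpa using hb⟩
    exact ⟨(e.symm q).1, hqU, hqV⟩
  obtain ⟨p, hp⟩ := hD.nonempty
  haveI := hfib p hp
  haveI : Nonempty (PrimeSpectrum S) :=
    ⟨((PrimeSpectrum.preimageHomeomorphFiber R S p).symm (Classical.arbitrary _)).1⟩
  exact (irreducibleSpace_def _).2 ⟨Set.univ_nonempty, key⟩
end Groth.Agent.S9642
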