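import Groth.Statements.S9643
import Mathlib
-- import your own Groth.Agent.* helpers here

set_option autoImplicit false
universe u
open CAlg

namespace Groth.Agent.S9643

/-- Let R be a Noetherian ring, M a finite R-module and 0 = M_0 ⊆ M_1 ⊆ ⋯ ⊆ M_n = M a chain of
submodules whose successive quotients M_i/M_{i-1} are isomorphic to R/p_i for prime ideals p_i. Then
the primes minimal among p_1, …, p_n are exactly the primes minimal in the support of M. -/
theorem result {R : Type u} [CommRing R] [IsNoetherianRing R] (M : Type u) [AddCommGroup M] [Module R M] [Module.Finite R M]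
    {n : ℕ} (N : Fin (n + 1) → Submodule R M) (hN : Monotone N) (h0 : N 0 = ⊥) (hlast : N (Fin.last n) = ⊤)
    (p : Fin n → PrimeSpectrum R)
    (hquot : ∀ i : Fin n, Nonempty ((↥(N i.succ) ⧸ Submodule.comap (N i.succ).subtype (N i.castSucc)) ≃ₗ[R] (R ⧸ (p i).asIdeal))) :
    {q : PrimeSpectrum R | Minimal (fun x => x ∈ Set.range p) q} = {q : PrimeSpectrum R | Minimal (fun x => x ∈ Module.support R M) q} := by
  have hsub : ∀ j : Fin (n + 1), Module.support R (N j) ⊆ {q | ∃ i, p i ≤ q} := by
    intro j
    induction j using Fin.induction with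
    | zero =>
      rw [h0, Module.support_eq_empty]
      exact Set.empty_subset _
    | succ i ih =>
      intro q hq
      let A := Submodule.comap (N i.succ).subtype (N i.castSucc)
      rw [Module.support_of_exact (LinearMap.exact_subtype_mkQ A) A.injective_subtype A.mkQ_surjective] at hq
      rcases hq with hq | hq
      · exact ih (by rwa [← LinearEquiv.support_eq (Submodule.comapSubtypeEquivOfLe (hN i.castSucc_le_succ))])
      · obtain ⟨e⟩ := hquot i
        rw [LinearEquiv.support_eq e, Module.support_eq_zeroLocus, Ideal.annihilator_quotient] at hq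
        exact ⟨i, hq⟩
  have hmem : ∀ i, p i ∈ Module.support R M := by
    intro i
    obtain ⟨e⟩ := hquot i
    have h1 : p i ∈ Module.support R (N i.succ) := by
      refine Module.support_subset_of_surjective _ (Submodule.mkQ_surjective (Submodule.comap (N i.succ).subtype (N i.castSucc))) ?_
      rw [LinearEquiv.support_eq e, Module.support_eq_zeroLocus, Ideal.annihilator_quotient]
      exact fun x hx => hx
    exact Module.support_subset_of_injective _ (N i.succ).injective_subtype h1
  have hsup : ∀ q ∈ Module.support R M, ∃ i, p i ≤ q := by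
    intro q hq
    refine hsub (Fin.last n) ?_
    rw [LinearEquiv.support_eq (LinearEquiv.ofTop _ hlast)]
    exact hq
  ext q
  constructor
  · rintro ⟨⟨i, rfl⟩, hmin⟩
    refine ⟨hmem i, fun x hx hxq => ?_⟩
    obtain ⟨j, hj⟩ := hsup x hx
    exact (hmin ⟨j, rfl⟩ (hj.trans hxq)).trans hj
  · rintro ⟨hq, hmin⟩
    obtain ⟨i, hi⟩ := hsup q hq
    have := le_antisymm hi (hmin (hmem i) hi)
    subst this
    exact ⟨⟨i, rfl⟩, fun x ⟨j, hj⟩ hxq => hmin (hj ▸ hmem j) hxq⟩

end Groth.Agent.S9643
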