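import Groth.Statements.S9644
import Mathlib
-- import your own Groth.Agent.* helpers here

set_option autoImplicit false
universe u
open CAlg

namespace Groth.Agent.S9644

/-- Let R be a Noetherian ring and M a finite R-module. Among the submodules K' of M whose support is
nowhere dense inside Supp(M) there is a largest one, K. The quotient M' = M/K then satisfies
Supp(M') = Supp(M), its associated primes are pairwise incomparable (no embedded ones), and whenever
f ∈ R belongs to every embedded associated prime of M the localized map M_f → M'_f is bijective. -/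
theorem result {R : Type u} [CommRing R] [IsNoetherianRing R] (M : Type u) [AddCommGroup M] [Module R M] [Module.Finite R M] :
    ∃ K : Submodule R M,
      IsGreatest {K' : Submodule R M | ∀ U : Set (PrimeSpectrum R), IsOpen U → U ∩ Module.support R M ⊆ closure (Module.support R ↥K') → U ∩ Module.support R M = ∅} K ∧
      Module.support R (M ⧸ K) = Module.support R M ∧
      (∀ p ∈ associatedPrimes R (M ⧸ K), ∀ q ∈ associatedPrimes R (M ⧸ K), p ≤ q → p = q) ∧
      ∀ f : R, (∀ p ∈ associatedPrimes R M, ¬ Minimal (fun x => x ∈ associatedPrimes R M) p → f ∈ p) →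
        Function.Bijective (LocalizedModule.map (Submonoid.powers f) K.mkQ) := by
  classical
  let Ann := Module.annihilator R M
  have hsupp : ∀ p : PrimeSpectrum R, p ∈ Module.support R M ↔ Ann ≤ p.asIdeal := fun p =>
    Module.mem_support_iff_of_finite
  let K : Submodule R M :=
    { carrier := {x | ∀ p ∈ Ann.minimalPrimes, ∃ s ∉ p, s • x = 0}
      zero_mem' := fun p hp => ⟨1, fun h => hp.1.1.ne_top ((Ideal.eq_top_iff_one p).2 h), smul_zero _⟩
      add_mem' := fun {x y} hx hy p hp => by
        obtain ⟨s, hs, hsx⟩ := hx p hp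
        obtain ⟨t, ht, hty⟩ := hy p hp
        exact ⟨s * t, fun h => (hp.1.1.mem_or_mem h).elim hs ht, by
          rw [smul_add, mul_comm, mul_smul, hsx, smul_zero, zero_add, mul_comm, mul_smul, hty, smul_zero]⟩
      smul_mem' := fun r x hx p hp => by
        obtain ⟨s, hs, hsx⟩ := hx p hp
        exact ⟨s, hs, by rw [smul_comm, hsx, smul_zero]⟩ }
  -- every point of the support lies over a minimal one
  have hbelow : ∀ q : Ideal R, q.IsPrime → Ann ≤ q → ∃ p ∈ Ann.minimalPrimes, p ≤ q := fun q hq h =>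
    haveI := hq
    Ideal.exists_minimalPrimes_le h
  have hKsupp : ∀ q : PrimeSpectrum R, q ∈ Module.support R K → q.asIdeal ∉ Ann.minimalPrimes := by
    intro q hq hmin
    rw [Module.mem_support_iff'] at hq
    obtain ⟨x, hx⟩ := hq
    obtain ⟨s, hs, hsx⟩ := x.2 _ hmin
    exact hx s hs (Subtype.ext hsx)
  have hclosed : ∀ N : Submodule R M, closure (Module.support R N) = Module.support R N := fun N => by
    rw [Module.support_eq_zeroLocus]
    exact (PrimeSpectrum.isClosed_zeroLocus _).closure_eq
  have hquot : ∀ p ∈ Ann.minimalPrimes, ∀ x : M,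
      (∀ s ∉ p, s • x ≠ 0) → ∀ s ∉ p, s • x ∉ K := by
    intro p hp x hx s hs hK
    obtain ⟨t, ht, htx⟩ := hK p hp
    exact hx (t * s) (fun h => (hp.1.1.mem_or_mem h).elim ht hs) (by rw [mul_smul, htx])
  have hsuppQ : Module.support R (M ⧸ K) = Module.support R M := by
    refine Set.Subset.antisymm (Module.support_subset_of_surjective K.mkQ K.mkQ_surjective) fun q hq => ?_
    obtain ⟨p, hp, hpq⟩ := hbelow q.asIdeal q.2 ((hsupp q).1 hq)
    refine Module.mem_support_mono (p := ⟨p, hp.1.1⟩) hpq ?_
    obtain ⟨x, hx⟩ := Module.mem_support_iff'.1 ((hsupp ⟨p, hp.1.1⟩).2 hp.1.2)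
    refine Module.mem_support_iff'.2 ⟨K.mkQ x, fun s hs h => hquot p hp x hx s hs ?_⟩
    rwa [← map_smul, Submodule.mkQ_apply, Submodule.Quotient.mk_eq_zero] at h
  have hass : ∀ q ∈ associatedPrimes R (M ⧸ K), q ∈ Ann.minimalPrimes := by
    intro q hq
    obtain ⟨hqp, y, hy⟩ := isAssociatedPrime_iff.1 hq
    obtain ⟨x, rfl⟩ := K.mkQ_surjective y
    have hxK : x ∉ K := fun h => hqp.ne_top (by
      rw [hy, show K.mkQ x = 0 from (Submodule.Quotient.mk_eq_zero K).2 h, Ideal.eq_top_iff_one,
        Submodule.mem_colon_singleton, smul_zero]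
      exact Submodule.zero_mem _)
    have hxK' : ¬ ∀ p ∈ Ann.minimalPrimes, ∃ s ∉ p, s • x = 0 := hxK
    push Not at hxK'
    obtain ⟨p, hp, hxp⟩ := hxK'
    have hqle : q ≤ p := fun r hr => by
      by_contra hrp
      rw [hy, Submodule.mem_colon_singleton, Submodule.mem_bot, ← map_smul, Submodule.mkQ_apply,
        Submodule.Quotient.mk_eq_zero] at hr
      exact hquot p hp x hxp r hrp hr
    have hAq : Ann ≤ q := fun r hr => by
      rw [hy, Submodule.mem_colon_singleton, Submodule.mem_bot, ← map_smul,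
        Module.mem_annihilator.1 hr x, map_zero]
    exact (le_antisymm hqle (hp.2 ⟨hqp, hAq⟩ hqle)) ▸ hp
  refine ⟨K, ⟨?_, ?_⟩, hsuppQ, ?_, ?_⟩
  · intro U hU hsub
    rw [hclosed] at hsub
    rw [Set.eq_empty_iff_forall_notMem]
    rintro q ⟨hqU, hqM⟩
    obtain ⟨p, hp, hpq⟩ := hbelow q.asIdeal q.2 ((hsupp q).1 hqM)
    have hpU : (⟨p, hp.1.1⟩ : PrimeSpectrum R) ∈ U :=
      hU.stableUnderGeneralization ((PrimeSpectrum.le_iff_specializes _ _).1 hpq) hqU
    exact hKsupp _ (hsub ⟨hpU, (hsupp _).2 hp.1.2⟩) hp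
  · intro K' hK' x hx p hp
    by_contra hcon
    push Not at hcon
    have hpK : (⟨p, hp.1.1⟩ : PrimeSpectrum R) ∈ Module.support R K' :=
      Module.mem_support_iff'.2 ⟨⟨x, hx⟩, fun s hs h => hcon s hs (congrArg Subtype.val h)⟩
    let C : Set (PrimeSpectrum R) := ⋃ p' ∈ Ann.minimalPrimes \ {p}, PrimeSpectrum.zeroLocus (p' : Set R)
    have hC : IsClosed C := ((Ann.finite_minimalPrimes_of_isNoetherianRing R).subset Set.diff_subset).isClosed_biUnion
      fun p' _ => PrimeSpectrum.isClosed_zeroLocus _
    have hsub : Cᶜ ∩ Module.support R M ⊆ closure (Module.support R K') := by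
      rintro q ⟨hqC, hqM⟩
      obtain ⟨p', hp', hp'q⟩ := hbelow q.asIdeal q.2 ((hsupp q).1 hqM)
      refine subset_closure ?_
      by_cases h : p' = p
      · subst h; exact Module.mem_support_mono (p := ⟨p', hp'.1.1⟩) hp'q hpK
      · exact absurd (Set.mem_biUnion (show p' ∈ Ann.minimalPrimes \ {p} from ⟨hp', h⟩) hp'q) hqC
    have := hK' _ hC.isOpen_compl hsub
    refine Set.eq_empty_iff_forall_notMem.1 this ⟨p, hp.1.1⟩ ⟨fun hpC => ?_, (hsupp _).2 hp.1.2⟩
    simp only [C, Set.mem_iUnion, PrimeSpectrum.mem_zeroLocus, SetLike.coe_subset_coe] at hpC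
    obtain ⟨p', ⟨hp', hne⟩, hle⟩ := hpC
    exact hne (le_antisymm hle (hp.2 hp'.1 hle))
  · intro p hp q hq hpq
    exact le_antisymm hpq ((hass q hq).2 (hass p hp).1 hpq)
  · intro f hf
    have hkill : ∀ k ∈ K, ∃ n : ℕ, f ^ n • k = 0 := by
      intro k hk
      obtain ⟨n, hn⟩ : f ∈ (Module.annihilator R K).radical := by
        rw [← Ideal.sInf_minimalPrimes, Submodule.mem_sInf]
        intro q hq
        have hqK : q ∈ associatedPrimes R K :=
          Module.associatedPrimes.minimalPrimes_annihilator_subset_associatedPrimes R K hq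
        refine hf q (IsAssociatedPrime.map_of_injective K.subtype hqK K.injective_subtype) fun hmin => ?_
        have hqs : (⟨q, hq.1.1⟩ : PrimeSpectrum R) ∈ Module.support R K :=
          Module.mem_support_iff_of_finite.2 hq.1.2
        have hqM := Module.support_subset_of_injective K.subtype K.injective_subtype hqs
        obtain ⟨p, hp, hpq⟩ := hbelow q hq.1.1 ((hsupp _).1 hqM)
        have hpA := Module.associatedPrimes.minimalPrimes_annihilator_subset_associatedPrimes R M hp
        have : p = q := le_antisymm hpq (hmin.2 hpA hpq)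
        exact hKsupp _ hqs (this ▸ hp)
      exact ⟨n, congrArg Subtype.val (Module.mem_annihilator.1 hn ⟨k, hk⟩)⟩
    refine ⟨?_, LocalizedModule.map_surjective _ _ K.mkQ_surjective⟩
    rw [injective_iff_map_eq_zero]
    intro z hz
    induction z using LocalizedModule.induction_on with
    | _ m s =>
      rw [LocalizedModule.map_mk, ← LocalizedModule.zero_mk s, LocalizedModule.mk_eq] at hz
      obtain ⟨⟨u, ⟨a, rfl⟩⟩, hu⟩ := hz
      simp only [Submonoid.smul_def, smul_zero, Submodule.mkQ_apply] at hu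
      rw [← Submodule.Quotient.mk_smul, ← Submodule.Quotient.mk_smul, Submodule.Quotient.mk_eq_zero] at hu
      obtain ⟨n, hn⟩ := hkill _ hu
      rw [← LocalizedModule.zero_mk s, LocalizedModule.mk_eq]
      refine ⟨⟨f ^ (n + a), ⟨n + a, rfl⟩⟩, ?_⟩
      simp only [Submonoid.smul_def, smul_zero]
      rw [pow_add, mul_smul]
      exact hn

end Groth.Agent.S9644
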