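import Groth.Statements.S9645
import Mathlib
-- import your own Groth.Agent.* helpers here

set_option autoImplicit false
universe u
open CAlg

namespace Groth.Agent.S9645

/-- Integral closure commutes with localization. Let A → B be a ring map, S a multiplicative subset of
A, and A_S, B_S the localizations of A at S and of B at the image of S. Then an element x of B_S is
integral over A_S if and only if x·s = b for some s ∈ S and some b ∈ B integral over A (images taken
in B_S); that is, the integral closure of A_S in B_S is S⁻¹B' for B' the integral closure of A in B. -/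
theorem result {A B As Bs : Type u} [CommRing A] [CommRing B] [CommRing As] [CommRing Bs] [Algebra A B] [Algebra A As] [Algebra B Bs] [Algebra As Bs] [Algebra A Bs] [IsScalarTower A B Bs] [IsScalarTower A As Bs]
    (S : Submonoid A) [IsLocalization S As] [IsLocalization (Algebra.algebraMapSubmonoid B S) Bs] (x : Bs) :
    IsIntegral As x ↔ ∃ b : B, IsIntegral A b ∧ ∃ s ∈ S, x * algebraMap A Bs s = algebraMap B Bs b := by
  constructor
  · intro hx
    obtain ⟨⟨m, hm⟩, hmx⟩ := IsIntegral.exists_multiple_integral_of_isLocalization S _ hx
    obtain ⟨⟨b, _, t, ht, rfl⟩, hb⟩ := IsLocalization.surj (Algebra.algebraMapSubmonoid B S) x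
    simp only at hb
    rw [← IsScalarTower.algebraMap_apply] at hb
    have hb' : IsIntegral A (algebraMap B Bs (m • b)) := by
      have h1 : algebraMap B Bs (m • b) = algebraMap A Bs t * (m • x) := by
        rw [Algebra.smul_def, map_mul, ← IsScalarTower.algebraMap_apply, ← hb, Algebra.smul_def]
        ring
      rw [h1]
      exact isIntegral_algebraMap.mul (by simpa [Submonoid.smul_def] using hmx)
    obtain ⟨v, hv, hv'⟩ := IsLocalization.exists_isIntegral_smul_of_isIntegral_map (Sₘ := Bs) S hb'
    refine ⟨v • m • b, hv', v * (m * t), S.mul_mem hv (S.mul_mem hm ht), ?_⟩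
    rw [Algebra.smul_def, Algebra.smul_def, map_mul, map_mul, map_mul, map_mul,
      ← IsScalarTower.algebraMap_apply, ← IsScalarTower.algebraMap_apply, ← hb]
    ring
  · rintro ⟨b, hb, s, hs, h⟩
    obtain ⟨u, hu⟩ := IsLocalization.map_units As (⟨s, hs⟩ : S)
    have h1 : IsIntegral As (algebraMap B Bs b) := (hb.map (IsScalarTower.toAlgHom A B Bs)).tower_top
    have h2 : x = algebraMap As Bs (↑u⁻¹ : As) * algebraMap B Bs b := by
      have hu' : algebraMap A Bs s = algebraMap As Bs ↑u := by
        rw [hu, ← IsScalarTower.algebraMap_apply]
      rw [← h, hu', mul_comm x, ← mul_assoc, ← map_mul, Units.inv_mul, map_one, one_mul]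
    rw [h2]
    exact isIntegral_algebraMap.mul h1

end Groth.Agent.S9645
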