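import Groth.Statements.S9646
import Mathlib
-- import your own Groth.Agent.* helpers here

set_option autoImplicit false
universe u
open CAlg

namespace Groth.Agent.S9646

/-- (2) ⇒ (1): let R → S be a ring map and x ∈ S. If for every prime ideal p of R the image of x in S_p
(the localization of S at the image of R ∖ p) is integral over R_p, then x is integral over R. Here
R_p and S_p are any rings satisfying the localization universal properties. -/
theorem result {R S : Type u} [CommRing R] [CommRing S] [Algebra R S] (x : S)
    (h : ∀ (p : Ideal R) [p.IsPrime] (Rp Sp : Type u) [CommRing Rp] [CommRing Sp] [Algebra R Rp] [Algebra S Sp] [Algebra Rp Sp] [Algebra R Sp] [IsScalarTower R S Sp] [IsScalarTower R Rp Sp] [IsLocalization.AtPrime Rp p] [IsLocalization (Algebra.algebraMapSubmonoid S p.primeCompl) Sp], IsIntegral Rp (algebraMap S Sp x)) :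
    IsIntegral R x := by
  let I : Ideal R :=
    { carrier := {r | IsIntegral R (r • x)}
      add_mem' := fun {a b} ha hb => by simp only [Set.mem_setOf_eq, add_smul]; exact ha.add hb
      zero_mem' := by simp only [Set.mem_setOf_eq, zero_smul]; exact isIntegral_zero
      smul_mem' := fun c a ha => by
        simp only [Set.mem_setOf_eq, smul_eq_mul, mul_smul]; exact ha.smul c }
  suffices hI : (1 : R) ∈ I by simpa [I] using hI
  rw [← Ideal.eq_top_iff_one]
  by_contra hne
  obtain ⟨p, hp, hle⟩ := Ideal.exists_le_maximal I hne
  let Sp := Localization (Algebra.algebraMapSubmonoid S p.primeCompl)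
  letI : Algebra (Localization.AtPrime p) Sp := localizationAlgebra p.primeCompl S
  have h1 := h p (Localization.AtPrime p) Sp
  obtain ⟨⟨m, hm⟩, hmx⟩ := IsIntegral.exists_multiple_integral_of_isLocalization p.primeCompl _ h1
  have h2 : IsIntegral R (algebraMap S Sp (m • x)) := by
    rw [Algebra.smul_def, map_mul, ← IsScalarTower.algebraMap_apply, ← Algebra.smul_def]
    simpa [Submonoid.smul_def] using hmx
  obtain ⟨v, hv, hv'⟩ := IsLocalization.exists_isIntegral_smul_of_isIntegral_map (Sₘ := Sp) p.primeCompl h2
  exact (p.primeCompl.mul_mem hv hm) (hle (show IsIntegral R ((v * m) • x) by rwa [mul_smul]))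

end Groth.Agent.S9646
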