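import Groth.Statements.S9649
import Mathlib
import Groth.Agent.PBasis.Separable
-- import your own Groth.Agent.* helpers here

set_option autoImplicit false
universe u
open CAlg

namespace Groth.Agent.S9649

theorem aux {k K : Type u} [Field k] [Field K] [Algebra k K]
    (h : ∃ (ι : Type u) (x : ι → K), IsTranscendenceBasis k x ∧ Algebra.IsSeparable (IntermediateField.adjoin k (Set.range x)) K)
    (K' : IntermediateField k K) (hK' : ∃ s : Finset K, IntermediateField.adjoin k (s : Set K) = K') :
    ∃ (ι : Type u) (x : ι → K'), IsTranscendenceBasis k x ∧ Algebra.IsSeparable (IntermediateField.adjoin k (Set.range x)) K' := by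
  obtain ⟨ι, x, hx, hsep⟩ := h
  haveI : Algebra.FormallySmooth k K := Algebra.FormallySmooth.of_algebraicIndependent_of_isSeparable hx.1
  haveI : Algebra.IsGeometricallyReduced k K :=
    Groth.Agent.PBasis.formallySmooth_iff_isGeometricallyReduced.1 inferInstance
  haveI : Algebra.IsGeometricallyReduced k K' :=
    Algebra.IsGeometricallyReduced.of_injective K'.val Subtype.val_injective
  haveI : Algebra.EssFiniteType k K' := IntermediateField.essFiniteType_iff.2
    (by obtain ⟨s, hs⟩ := hK'; exact ⟨s, hs⟩)
  suffices hs : ∃ s : Finset K', IsTranscendenceBasis k ((↑) : s → K') ∧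
      Algebra.IsSeparable (IntermediateField.adjoin k (s : Set K')) K' by
    obtain ⟨s, hs1, hs2⟩ := hs
    refine ⟨s, (↑), hs1, ?_⟩
    rwa [Subtype.range_coe_subtype, Finset.setOf_mem]
  obtain _ | ⟨p, hp, hk⟩ := CharP.exists' k
  · exact exists_isTranscendenceBasis_and_isSeparable_of_perfectField _ _
  · haveI := hk
    haveI : CharP K' p := charP_of_injective_algebraMap (algebraMap k K').injective p
    haveI : ExpChar k p := ExpChar.prime hp.out
    letI : Algebra (ULift.{u} (ZMod p)) k :=
      ((ZMod.castHom (dvd_refl p) k).comp ULift.ringEquiv.toRingHom).toAlgebra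
    letI : Algebra (ULift.{u} (ZMod p)) K' :=
      ((algebraMap k K').comp (algebraMap (ULift.{u} (ZMod p)) k)).toAlgebra
    haveI : IsScalarTower (ULift.{u} (ZMod p)) k K' := IsScalarTower.of_algebraMap_eq' rfl
    obtain ⟨S, hS⟩ := Groth.Agent.PBasis.exists_pBasis p (ULift.{u} (ZMod p)) k
    refine exists_isTranscendenceBasis_and_isSeparable_of_linearIndepOn_pow_of_essFiniteType p hp.out
      (fun s hs => ?_)
    let e := s.equivFin.symm
    have h1 : LinearIndependent k fun j => ((e j : K')) ^ p :=
      Groth.Agent.PBasis.linearIndependent_pow_of_isPIndependent p _ hS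
        (Groth.Agent.PBasis.isPIndependent_of_isGeometricallyReduced p _ hS.1)
        (fun j => (e j : K')) (LinearIndependent.comp hs e e.injective)
    have h2 := h1.comp e.symm e.symm.injective
    simpa [Function.comp_def, LinearIndepOn] using h2

end Groth.Agent.S9649

namespace Groth.Agent.S9649

/-- A separably generated field extension is separable. Precisely: let K/k be a field extension
admitting a transcendence basis x over whose generated subfield k(x) the field K is separable
algebraic; then every finitely generated subextension K' of K/k also admits such a transcendence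
basis. -/
theorem result {k K : Type u} [Field k] [Field K] [Algebra k K]
    (h : ∃ (ι : Type u) (x : ι → K), IsTranscendenceBasis k x ∧ Algebra.IsSeparable (IntermediateField.adjoin k (Set.range x)) K)
    (K' : IntermediateField k K) (hK' : ∃ s : Finset K, IntermediateField.adjoin k (s : Set K) = K') :
    ∃ (ι : Type u) (x : ι → K'), IsTranscendenceBasis k x ∧ Algebra.IsSeparable (IntermediateField.adjoin k (Set.range x)) K' := by
  exact aux h K' hK'

end Groth.Agent.S9649
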