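import Groth.Statements.S9650
import Mathlib
-- import your own Groth.Agent.* helpers here

set_option autoImplicit false
universe u
open CAlg

namespace Groth.Agent.S9650

/-- Let K/k be a finitely generated field extension that is separably generated, i.e. admits a
transcendence basis over whose generated subfield K is separable algebraic. Then K is generated over
k by finitely many elements x_1, …, x_r, y such that the x_i form a transcendence basis of K/k and y
is separable over the subfield k(x_1, …, x_r). -/
theorem result {k K : Type u} [Field k] [Field K] [Algebra k K]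
    (hfg : ∃ s : Finset K, IntermediateField.adjoin k (s : Set K) = ⊤)
    (hsep : ∃ (ι : Type u) (x : ι → K), IsTranscendenceBasis k x ∧ Algebra.IsSeparable (IntermediateField.adjoin k (Set.range x)) K) :
    ∃ (r : ℕ) (x : Fin r → K) (y : K), IsTranscendenceBasis k x ∧ IntermediateField.adjoin k (insert y (Set.range x)) = ⊤ ∧ IsSeparable (IntermediateField.adjoin k (Set.range x)) y := by
  classical
  obtain ⟨s, hs⟩ := hfg
  obtain ⟨ι, x, hx, hsep⟩ := hsep
  haveI : Algebra.IsAlgebraic (Algebra.adjoin k (s : Set K)) K := by
    constructor
    intro z
    have hz : z ∈ IntermediateField.adjoin k (s : Set K) := hs ▸ IntermediateField.mem_top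
    obtain ⟨a, ha, b, hb, rfl⟩ := IntermediateField.mem_adjoin_iff_div.1 hz
    rcases eq_or_ne b 0 with rfl | hb0
    · simpa using isAlgebraic_zero
    refine ⟨Polynomial.C (⟨b, hb⟩ : Algebra.adjoin k (s : Set K)) * Polynomial.X - Polynomial.C (⟨a, ha⟩ : Algebra.adjoin k (s : Set K)), ?_, ?_⟩
    · intro h
      have := congrArg (fun q => Polynomial.coeff q 1) h
      simp at this
      exact hb0 (congrArg Subtype.val this)
    · simp [mul_div_cancel₀ _ hb0]
  obtain ⟨t, hts, ht⟩ := exists_isTranscendenceBasis_subset (R := k) (s : Set K)
  haveI : Finite t := (s.finite_toSet.subset hts).to_subtype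
  haveI : Finite ι := by
    have h := hx.cardinalMk_eq ht
    exact Cardinal.lt_aleph0_iff_finite.1 (h ▸ Cardinal.lt_aleph0_of_finite t)
  obtain ⟨r, ⟨e⟩⟩ := Finite.exists_equiv_fin ι
  let L := IntermediateField.adjoin k (Set.range x)
  haveI : Algebra.IsSeparable L K := hsep
  haveI : FiniteDimensional L K := by
    have h1 : IntermediateField.adjoin L (s : Set K) = ⊤ := by
      rw [← IntermediateField.restrictScalars_eq_top_iff (K := k), IntermediateField.adjoin_adjoin_left, eq_top_iff, ← hs]
      exact IntermediateField.adjoin.mono _ _ _ Set.subset_union_right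
    haveI := IntermediateField.finiteDimensional_adjoin (K := L) (S := (s : Set K)) fun z _ => Algebra.IsIntegral.isIntegral z
    rw [h1] at this
    exact LinearEquiv.finiteDimensional IntermediateField.topEquiv.toLinearEquiv
  obtain ⟨y, hy⟩ := Field.exists_primitive_element L K
  have hrange : Set.range (x ∘ e.symm) = Set.range x := by rw [Set.range_comp, e.symm.surjective.range_eq, Set.image_univ]
  refine ⟨r, x ∘ e.symm, y, hx.comp_equiv e.symm, ?_, ?_⟩
  · have h2 := congrArg (IntermediateField.restrictScalars k) hy
    rw [IntermediateField.adjoin_adjoin_left, IntermediateField.restrictScalars_top] at h2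
    rw [hrange, Set.insert_eq, Set.union_comm]
    exact h2
  · rw [hrange]
    exact Algebra.IsSeparable.isSeparable L y
end Groth.Agent.S9650
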