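import Groth.Statements.S9651
import Mathlib
import Groth.Agent.GenFree.Algebra
import Groth.Agent.ConstrSets.Basic
-- import your own Groth.Agent.* helpers here

set_option autoImplicit false
universe u
open CAlg

namespace Groth.Agent.S9651

theorem isConstructible_preimage_comap' {R S : Type u} [CommRing R] [CommRing S] (φ : R →+* S)
    {s : Set (PrimeSpectrum R)} (hs : Topology.IsConstructible s) :
    Topology.IsConstructible (PrimeSpectrum.comap φ ⁻¹' s) := by
  refine hs.preimage (PrimeSpectrum.continuous_comap φ) fun t ht htc => ?_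
  rw [QuasiSeparatedSpace.isRetrocompact_iff_isCompact ht] at htc
  rw [QuasiSeparatedSpace.isRetrocompact_iff_isCompact (ht.preimage (PrimeSpectrum.continuous_comap φ))]
  classical
  obtain ⟨F, hF⟩ := PrimeSpectrum.isCompact_isOpen_iff.1 ⟨htc, ht⟩
  exact (PrimeSpectrum.isCompact_isOpen_iff.2 ⟨F.image φ, by
    rw [← hF, Set.preimage_compl, PrimeSpectrum.preimage_comap_zeroLocus, Finset.coe_image]⟩).1

/-- Let R → S be a ring map of finite type, f : Spec(S) → Spec(R) the induced map and E ⊆ Spec(S) a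
constructible subset. If ξ ∈ f(E) then f(E) ∩ cl{ξ} contains an open dense subset of the closure
cl{ξ}: some open U of Spec(R) has U ∩ cl{ξ} dense in cl{ξ} and contained in f(E). -/
theorem result {R S : Type u} [CommRing R] [CommRing S] [Algebra R S] [Algebra.FiniteType R S]
    (E : Set (PrimeSpectrum S)) (hE : Topology.IsConstructible E) (ξ : PrimeSpectrum R) (hξ : ξ ∈ PrimeSpectrum.comap (algebraMap R S) '' E) :
    ∃ U : Set (PrimeSpectrum R), IsOpen U ∧ closure ({ξ} : Set (PrimeSpectrum R)) ⊆ closure (U ∩ closure {ξ}) ∧ U ∩ closure {ξ} ⊆ PrimeSpectrum.comap (algebraMap R S) '' E := by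
  classical
  obtain ⟨y, hy, rfl⟩ := hξ
  let ξ := PrimeSpectrum.comap (algebraMap R S) y
  let R' := R ⧸ ξ.asIdeal
  let J := ξ.asIdeal.map (algebraMap R S)
  let S' := S ⧸ J
  let φ : R' →+* S' := Ideal.quotientMap J (algebraMap R S) Ideal.le_comap_map
  letI : Algebra R' S' := φ.toAlgebra
  haveI : IsScalarTower R R' S' := IsScalarTower.of_algebraMap_eq fun _ ↦ rfl
  haveI : Algebra.FiniteType R' S' := Algebra.FiniteType.of_restrictScalars_finiteType R R' S'
  obtain ⟨f, -, hf0, -, -, hfp, -⟩ := Groth.Agent.GenFree.exists_generic_freeness (R := R') S' S' (one_ne_zero)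
  have hfp' := Groth.Agent.GenFree.finitePresentation_awayMap S' f hfp
  let R'' := Localization.Away f
  let S'' := Localization.Away (algebraMap R' S' f)
  let g : R'' →+* S'' := Localization.awayMap (algebraMap R' S') f
  let h : S →+* S'' := (algebraMap S' S'').comp (Ideal.Quotient.mk J)
  let j : R →+* R'' := (algebraMap R' R'').comp (Ideal.Quotient.mk ξ.asIdeal)
  have hsq : g.comp j = h.comp (algebraMap R S) := by
    ext x
    show g (algebraMap R' R'' (Ideal.Quotient.mk ξ.asIdeal x)) = algebraMap S' S'' (algebraMap R' S' (Ideal.Quotient.mk ξ.asIdeal x))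
    simp only [g, Localization.awayMap, IsLocalization.Away.map, IsLocalization.map_eq]; rfl
  have hC := PrimeSpectrum.isConstructible_comap_image hfp'
    (s := PrimeSpectrum.comap h ⁻¹' E) (isConstructible_preimage_comap' h hE)
  set C := PrimeSpectrum.comap g '' (PrimeSpectrum.comap h ⁻¹' E)
  haveI : IsDomain R'' := IsLocalization.isDomain_localization (powers_le_nonZeroDivisors_of_noZeroDivisors hf0)
  obtain ⟨z, hz⟩ : y ∈ Set.range (PrimeSpectrum.comap h) := by
    have hJ : J ≤ y.asIdeal := Ideal.map_comap_le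
    obtain ⟨y', hy'⟩ : y ∈ Set.range (PrimeSpectrum.comap (Ideal.Quotient.mk J)) := by
      rw [range_comap_of_surjective _ _ Ideal.Quotient.mk_surjective, Ideal.mk_ker]
      exact hJ
    have hy'f : y' ∈ Set.range (PrimeSpectrum.comap (algebraMap S' S'')) := by
      rw [PrimeSpectrum.localization_away_comap_range S'' (algebraMap R' S' f)]
      intro hmem
      obtain ⟨f₀, rfl⟩ := Ideal.Quotient.mk_surjective f
      apply hf0
      rw [Ideal.Quotient.eq_zero_iff_mem]
      show algebraMap R S f₀ ∈ y.asIdeal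
      rw [← hy']
      exact hmem
    obtain ⟨z, hz⟩ := hy'f
    exact ⟨z, by rw [← hy', ← hz]; rfl⟩
  have hxi : PrimeSpectrum.comap j (PrimeSpectrum.comap g z) = ξ := by
    rw [← PrimeSpectrum.comap_comp_apply, hsq, PrimeSpectrum.comap_comp_apply, hz]
  have hinj : Function.Injective (PrimeSpectrum.comap j) :=
    ((PrimeSpectrum.comap_injective_of_surjective _ (Ideal.Quotient.mk_surjective (I := ξ.asIdeal))).comp
      (PrimeSpectrum.localization_comap_injective R'' (Submonoid.powers f)))
  have hbot : PrimeSpectrum.comap g z = (⊥ : PrimeSpectrum R'') := by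
    apply hinj
    rw [hxi]
    apply PrimeSpectrum.ext
    show ξ.asIdeal = Ideal.comap j ⊥
    rw [← RingHom.ker_eq_comap_bot, ← RingHom.comap_ker,
      (RingHom.injective_iff_ker_eq_bot _).mp (IsLocalization.injective R'' (powers_le_nonZeroDivisors_of_noZeroDivisors hf0)),
      ← RingHom.ker_eq_comap_bot, Ideal.mk_ker]
  haveI : IrreducibleSpace (PrimeSpectrum R'') := PrimeSpectrum.irreducibleSpace
  obtain ⟨U, hU, hUne, hUC⟩ := Groth.Agent.ConstrSets.exists_open_of_dense' hC
    (Z := Set.univ) (IrreducibleSpace.isIrreducible_univ _) (by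
      rw [Set.inter_univ]
      intro x _
      have : (⊥ : PrimeSpectrum R'') ∈ C := hbot ▸ ⟨z, by rw [Set.mem_preimage, hz]; exact hy, rfl⟩
      exact closure_mono (Set.singleton_subset_iff.mpr this)
        ((PrimeSpectrum.le_iff_mem_closure _ _).mp bot_le))
  have hopen : IsOpen (PrimeSpectrum.comap (algebraMap R' R'') '' U) :=
    (PrimeSpectrum.localization_away_isOpenEmbedding R'' f).isOpenMap _ hU
  obtain ⟨W, hW, hWe⟩ := (PrimeSpectrum.isClosedEmbedding_comap_of_surjective _ _
    (Ideal.Quotient.mk_surjective (I := ξ.asIdeal))).isInducing.isOpen_iff.mp hopen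
  have hcl : closure ({ξ} : Set (PrimeSpectrum R)) = PrimeSpectrum.zeroLocus ξ.asIdeal := by
    rw [← PrimeSpectrum.zeroLocus_vanishingIdeal_eq_closure, PrimeSpectrum.vanishingIdeal_singleton]
  have hsub : ∀ x ∈ W ∩ closure {ξ}, ∃ u ∈ U, PrimeSpectrum.comap j u = x := by
    rintro x ⟨hxW, hx⟩
    obtain ⟨x', rfl⟩ : x ∈ Set.range (PrimeSpectrum.comap (Ideal.Quotient.mk ξ.asIdeal)) := by
      rw [range_comap_of_surjective _ _ Ideal.Quotient.mk_surjective, Ideal.mk_ker, ← hcl]
      exact hx
    have : x' ∈ PrimeSpectrum.comap (algebraMap R' R'') '' U := hWe ▸ hxW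
    obtain ⟨u, hu, rfl⟩ := this
    exact ⟨u, hu, rfl⟩
  refine ⟨W, hW, ?_, fun x hx ↦ ?_⟩
  · refine Groth.Agent.ConstrSets.subset_closure_open_inter (isIrreducible_singleton.closure) hW ?_
    obtain ⟨u, hu, -⟩ := hUne
    refine ⟨PrimeSpectrum.comap j u, ?_, ?_⟩
    · show PrimeSpectrum.comap (algebraMap R' R'') u ∈ PrimeSpectrum.comap (Ideal.Quotient.mk ξ.asIdeal) ⁻¹' W
      rw [hWe]; exact ⟨u, hu, rfl⟩
    · rw [hcl, PrimeSpectrum.comap_comp_apply]
      intro a ha
      show Ideal.Quotient.mk ξ.asIdeal a ∈ (PrimeSpectrum.comap (algebraMap R' R'') u).asIdeal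
      rw [Ideal.Quotient.eq_zero_iff_mem.mpr ha]
      exact zero_mem _
  · obtain ⟨u, hu, rfl⟩ := hsub x hx
    obtain ⟨w, hw, rfl⟩ := hUC ⟨hu, trivial⟩
    exact ⟨PrimeSpectrum.comap h w, hw, by rw [← PrimeSpectrum.comap_comp_apply, ← hsq, PrimeSpectrum.comap_comp_apply]⟩
end Groth.Agent.S9651
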