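import Groth.Statements.S9652
import Mathlib
import Groth.Agent.H2Jac.Basic
-- import your own Groth.Agent.* helpers here

set_option autoImplicit false
universe u
open CAlg

namespace Groth.Agent.S9652

/-- Let R and S be Jacobson rings, R → S a ring map of finite type with induced map f : Spec(S) →
Spec(R), and E ⊆ Spec(S) a constructible subset. Writing T₀ for the set of points of a subspace T
which are closed in T, one has f(E)₀ = f(E₀) = (Spec R)₀ ∩ f(E). -/
theorem result {R S : Type u} [CommRing R] [CommRing S] [Algebra R S] [IsJacobsonRing R] [IsJacobsonRing S] [Algebra.FiniteType R S]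
    (E : Set (PrimeSpectrum S)) (hE : Topology.IsConstructible E) :
    {x | x ∈ PrimeSpectrum.comap (algebraMap R S) '' E ∧ closure {x} ∩ PrimeSpectrum.comap (algebraMap R S) '' E = {x}} =
        PrimeSpectrum.comap (algebraMap R S) '' {y | y ∈ E ∧ closure {y} ∩ E = {y}} ∧
      PrimeSpectrum.comap (algebraMap R S) '' {y | y ∈ E ∧ closure {y} ∩ E = {y}} =
        {x | IsClosed ({x} : Set (PrimeSpectrum R))} ∩ PrimeSpectrum.comap (algebraMap R S) '' E := by
  set f := PrimeSpectrum.comap (algebraMap R S)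
  have hE0 : {y | y ∈ E ∧ closure {y} ∩ E = {y}} = {y | y ∈ E ∧ IsClosed ({y} : Set (PrimeSpectrum S))} := by
    ext y
    refine ⟨fun ⟨h1, h2⟩ ↦ ⟨h1, Groth.Agent.H2Jac.isClosed_of_closure_inter hE h1 h2⟩, fun ⟨h1, h2⟩ ↦ ⟨h1, ?_⟩⟩
    rw [h2.closure_eq]; exact Set.inter_eq_left.mpr (Set.singleton_subset_iff.mpr h1)
  have h1 : f '' {y | y ∈ E ∧ closure {y} ∩ E = {y}} = {x | IsClosed ({x} : Set (PrimeSpectrum R))} ∩ f '' E := by
    rw [hE0]
    ext x
    constructor
    · rintro ⟨y, ⟨h1, h2⟩, rfl⟩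
      exact ⟨Groth.Agent.H2Jac.isClosed_image h2, y, h1, rfl⟩
    · rintro ⟨h1, h2⟩
      obtain ⟨y, hy, hyc, rfl⟩ := Groth.Agent.H2Jac.exists_closed_over hE h1 h2
      exact ⟨y, ⟨hy, hyc⟩, rfl⟩
  refine ⟨?_, h1⟩
  rw [h1]
  ext x
  constructor
  · rintro ⟨hx, hcl⟩
    refine ⟨?_, hx⟩
    obtain ⟨U, hU, hd, hsub⟩ := Groth.Agent.S9651.result E hE x hx
    have hle : U ∩ closure {x} ⊆ {x} := fun w hw ↦ hcl.subset ⟨hw.2, hsub hw⟩
    have hxU : x ∈ U := by
      by_contra h
      have h0 : U ∩ closure {x} = ∅ := Set.eq_empty_iff_forall_notMem.mpr fun w hw ↦ h (hle hw ▸ hw.1)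
      have := hd (subset_closure rfl)
      rw [h0, closure_empty] at this
      exact this
    refine isClosed_singleton_of_isLocallyClosed_singleton ?_
    rw [show ({x} : Set _) = U ∩ closure {x} from
      (hle.antisymm (Set.singleton_subset_iff.mpr ⟨hxU, subset_closure rfl⟩)).symm]
    exact hU.isLocallyClosed.inter isClosed_closure.isLocallyClosed
  · rintro ⟨hx, hx'⟩
    refine ⟨hx', ?_⟩
    rw [IsClosed.closure_eq hx]
    exact Set.inter_eq_left.mpr (Set.singleton_subset_iff.mpr hx')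
end Groth.Agent.S9652
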