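import Groth.Statements.S9653
import Mathlib
import Groth.Agent.GenFree.Algebra
import Groth.Agent.ConstrSets.Basic
import Groth.Agent.S9651
import Groth.Agent.S9652
-- import your own Groth.Agent.* helpers here

set_option autoImplicit false
universe u
open CAlg

open PrimeSpectrum Topology

namespace Groth.Agent.S9653

theorem isConstructible_preimage_comap' {R S : Type u} [CommRing R] [CommRing S] (φ : R →+* S)
    {s : Set (PrimeSpectrum R)} (hs : Topology.IsConstructible s) :
    Topology.IsConstructible (PrimeSpectrum.comap φ ⁻¹' s) := by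
  refine hs.preimage (PrimeSpectrum.continuous_comap φ) fun t ht htc => ?_
  rw [QuasiSeparatedSpace.isRetrocompact_iff_isCompact ht] at htc
  rw [QuasiSeparatedSpace.isRetrocompact_iff_isCompact (ht.preimage (PrimeSpectrum.continuous_comap φ))]
  classical
  obtain ⟨F, hF⟩ := PrimeSpectrum.isCompact_isOpen_iff.1 ⟨htc, ht⟩
  exact (PrimeSpectrum.isCompact_isOpen_iff.2 ⟨F.image φ, by
    rw [← hF, Set.preimage_compl, PrimeSpectrum.preimage_comap_zeroLocus, Finset.coe_image]⟩).1


theorem mem_image_of_dense {R S : Type u} [CommRing R] [CommRing S] [Algebra R S] [Algebra.FiniteType R S]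
    (E : Set (PrimeSpectrum S)) (hE : IsConstructible E) (ξ : PrimeSpectrum R)
    (hd : closure ({ξ} : Set (PrimeSpectrum R)) ⊆
      closure (closure {ξ} ∩ comap (algebraMap R S) '' E)) : ξ ∈ comap (algebraMap R S) '' E := by
  classical
  let R' := R ⧸ ξ.asIdeal
  let J := ξ.asIdeal.map (algebraMap R S)
  let S' := S ⧸ J
  let φ : R' →+* S' := Ideal.quotientMap J (algebraMap R S) Ideal.le_comap_map
  letI : Algebra R' S' := φ.toAlgebra
  haveI : IsScalarTower R R' S' := IsScalarTower.of_algebraMap_eq fun _ ↦ rfl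
  haveI : Algebra.FiniteType R' S' := Algebra.FiniteType.of_restrictScalars_finiteType R R' S'
  obtain ⟨f, -, hf0, -, -, hfp, -⟩ := Groth.Agent.GenFree.exists_generic_freeness (R := R') S' S' (one_ne_zero)
  have hfp' := Groth.Agent.GenFree.finitePresentation_awayMap S' f hfp
  let R'' := Localization.Away f
  let S'' := Localization.Away (algebraMap R' S' f)
  let g : R'' →+* S'' := Localization.awayMap (algebraMap R' S') f
  let h : S →+* S'' := (algebraMap S' S'').comp (Ideal.Quotient.mk J)
  let j : R →+* R'' := (algebraMap R' R'').comp (Ideal.Quotient.mk ξ.asIdeal)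
  have hsq : g.comp j = h.comp (algebraMap R S) := by
    ext x
    show g (algebraMap R' R'' (Ideal.Quotient.mk ξ.asIdeal x)) = algebraMap S' S'' (algebraMap R' S' (Ideal.Quotient.mk ξ.asIdeal x))
    simp only [g, Localization.awayMap, IsLocalization.Away.map, IsLocalization.map_eq]; rfl
  have hC := PrimeSpectrum.isConstructible_comap_image hfp'
    (s := comap h ⁻¹' E) (isConstructible_preimage_comap' h hE)
  set C := comap g '' (comap h ⁻¹' E)
  haveI : IsDomain R'' := IsLocalization.isDomain_localization (powers_le_nonZeroDivisors_of_noZeroDivisors hf0)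
  obtain ⟨f₀, hf₀⟩ := Ideal.Quotient.mk_surjective f
  have hξf : ξ ∈ (basicOpen f₀ : Set (PrimeSpectrum R)) := fun hm ↦ hf0 (by
    rw [← hf₀, Ideal.Quotient.eq_zero_iff_mem]; exact hm)
  have hind : IsInducing (comap j) :=
    (isClosedEmbedding_comap_of_surjective _ _ (Ideal.Quotient.mk_surjective (I := ξ.asIdeal))).isInducing.comp
      (localization_away_isOpenEmbedding R'' f).isInducing
  have hcover : ∀ w ∈ (basicOpen f₀ : Set (PrimeSpectrum R)) ∩ (closure {ξ} ∩ comap (algebraMap R S) '' E),
      w ∈ comap j '' C := by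
    rintro w ⟨hw1, hw2, y, hy, rfl⟩
    have hJ : J ≤ y.asIdeal := by
      rw [Ideal.map_le_iff_le_comap]
      exact (PrimeSpectrum.le_iff_mem_closure ξ _).mpr hw2
    obtain ⟨y', hy'⟩ : y ∈ Set.range (comap (Ideal.Quotient.mk J)) := by
      rw [range_comap_of_surjective _ _ Ideal.Quotient.mk_surjective, Ideal.mk_ker]
      exact hJ
    obtain ⟨z, hz⟩ : y' ∈ Set.range (comap (algebraMap S' S'')) := by
      rw [localization_away_comap_range S'' (algebraMap R' S' f)]
      intro hmem
      apply hw1
      show algebraMap R S f₀ ∈ y.asIdeal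
      rw [← hy']
      rw [← hf₀] at hmem
      exact hmem
    have hzy : comap h z = y := by rw [← hy', ← hz]; rfl
    refine ⟨comap g z, ⟨z, by rw [Set.mem_preimage, hzy]; exact hy, rfl⟩, ?_⟩
    rw [← PrimeSpectrum.comap_comp_apply, hsq, PrimeSpectrum.comap_comp_apply, hzy]
  have hbot : comap j (⊥ : PrimeSpectrum R'') = ξ := by
    apply PrimeSpectrum.ext
    show Ideal.comap j ⊥ = ξ.asIdeal
    rw [← RingHom.ker_eq_comap_bot, ← RingHom.comap_ker,
      (RingHom.injective_iff_ker_eq_bot _).mp (IsLocalization.injective R'' (powers_le_nonZeroDivisors_of_noZeroDivisors hf0)),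
      ← RingHom.ker_eq_comap_bot, Ideal.mk_ker]
  have hden : (⊥ : PrimeSpectrum R'') ∈ closure C := by
    rw [hind.closure_eq_preimage_closure_image, Set.mem_preimage, hbot]
    refine closure_mono hcover ?_
    exact (basicOpen f₀).2.inter_closure ⟨hξf, hd (subset_closure rfl)⟩
  haveI : IrreducibleSpace (PrimeSpectrum R'') := PrimeSpectrum.irreducibleSpace
  have hgen : IsGenericPoint (⊥ : PrimeSpectrum R'') Set.univ := by
    refine Set.eq_univ_of_forall fun w ↦ (PrimeSpectrum.le_iff_mem_closure _ _).mp bot_le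
  obtain ⟨U, hU, hUne, hUC⟩ := Groth.Agent.ConstrSets.exists_open_of_dense' hC
    (IrreducibleSpace.isIrreducible_univ _) (by
      rw [Set.inter_univ]
      intro w _
      have hcl : closure ({(⊥ : PrimeSpectrum R'')} : Set (PrimeSpectrum R'')) ⊆ closure C := (isClosed_closure.closure_subset_iff).mpr (Set.singleton_subset_iff.mpr hden)
      exact hcl (hgen.symm ▸ Set.mem_univ w))
  obtain ⟨z, hz, hz'⟩ := hUC ⟨Groth.Agent.ConstrSets.mem_of_isGenericPoint hgen hU hUne, trivial⟩
  refine ⟨comap h z, hz, ?_⟩
  rw [← PrimeSpectrum.comap_comp_apply, ← hsq, PrimeSpectrum.comap_comp_apply, hz', hbot]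

end Groth.Agent.S9653

namespace Groth.Agent.S9653

/-- Let R and S be Jacobson rings, R → S a ring map of finite type with induced map f : Spec(S) →
Spec(R), E ⊆ Spec(S) constructible and E₀ the set of points of E closed in E. Then a point ξ of
Spec(R) lies in f(E) if and only if cl{ξ} ∩ f(E₀) is dense in the closure cl{ξ}. -/
theorem result {R S : Type u} [CommRing R] [CommRing S] [Algebra R S] [IsJacobsonRing R] [IsJacobsonRing S] [Algebra.FiniteType R S]
    (E : Set (PrimeSpectrum S)) (hE : Topology.IsConstructible E) (ξ : PrimeSpectrum R) :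
    ξ ∈ PrimeSpectrum.comap (algebraMap R S) '' E ↔
      closure ({ξ} : Set (PrimeSpectrum R)) ⊆ closure (closure {ξ} ∩ PrimeSpectrum.comap (algebraMap R S) '' {y | y ∈ E ∧ closure {y} ∩ E = {y}}) := by
  constructor
  · intro hξ
    obtain ⟨U, hU, hd, hsub⟩ := Groth.Agent.S9651.result E hE ξ hξ
    refine hd.trans ?_
    rw [← JacobsonSpace.closure_inter_closedPoints_eq_closure (hU.isLocallyClosed.inter isClosed_closure.isLocallyClosed)]
    refine closure_mono fun x hx ↦ ⟨hx.1.2, ?_⟩
    rw [(Groth.Agent.S9652.result E hE).2]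
    exact ⟨hx.2, hsub hx.1⟩
  · intro h
    refine Groth.Agent.S9653.mem_image_of_dense E hE ξ (h.trans (closure_mono ?_))
    exact Set.inter_subset_inter_right _ (Set.image_mono fun y hy ↦ hy.1)

end Groth.Agent.S9653
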