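import Groth.Statements.S9654
import Mathlib

set_option autoImplicit false
universe u
open CAlg

namespace Groth.Agent.S9654

open Polynomial in
theorem key {R L : Type u} [CommRing R] [CommRing L] [Algebra R L] (a b : L) (hab : a * b = 1) (z : L)
    (P Q : R[X]) (hP : aeval a P = z) (hQ : aeval b Q = z) : IsIntegral R z := by
  classical
  set m := max P.natDegree Q.natDegree
  have hpow : ∀ i j, j ≤ i → a ^ i * b ^ j = a ^ (i - j) := fun i j h => by
    conv_lhs => rw [← Nat.sub_add_cancel h, pow_add, mul_assoc, ← mul_pow, hab, one_pow, mul_one]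
  set N := Submodule.span R (Set.range fun i : Fin (2 * m + 1) => a ^ (i : ℕ) * b ^ m)
  have hmem : ∀ i, i ≤ 2 * m → a ^ i * b ^ m ∈ N := fun i hi => Submodule.subset_span ⟨⟨i, by omega⟩, rfl⟩
  have hz : ∀ n ∈ N, z * n ∈ N := by
    intro n hn
    induction hn using Submodule.span_induction with
    | zero => simp
    | add x y _ _ hx hy => rw [mul_add]; exact add_mem hx hy
    | smul r x _ hx => rw [mul_smul_comm]; exact N.smul_mem r hx
    | mem x hx =>
      obtain ⟨i, rfl⟩ := hx
      rcases le_or_gt (i : ℕ) m with hi | hi
      · rw [← hP, aeval_eq_sum_range, Finset.sum_mul]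
        refine Submodule.sum_mem _ fun j hj => ?_
        rw [smul_mul_assoc, ← mul_assoc, ← pow_add]
        exact N.smul_mem _ (hmem _ (by have := Finset.mem_range.1 hj; omega))
      · rw [← hQ, aeval_eq_sum_range, Finset.sum_mul]
        refine Submodule.sum_mem _ fun j hj => ?_
        have hj' : j ≤ (i : ℕ) := by have := Finset.mem_range.1 hj; omega
        rw [smul_mul_assoc, ← mul_assoc, mul_comm (b ^ j), hpow _ _ hj']
        exact N.smul_mem _ (hmem _ (by omega))
  haveI : Module.Finite R N := Module.Finite.span_of_finite R (Set.finite_range _)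
  let f : Module.End R N := ((LinearMap.mulLeft R z).domRestrict N).codRestrict N fun n => hz n n.2
  obtain ⟨G, hG, hGf⟩ := LinearMap.exists_monic_and_aeval_eq_zero R f
  refine ⟨G, hG, ?_⟩
  have he : ∀ (q : R[X]) (n : N), (aeval f q n : L) = aeval z q * n := by
    intro q
    induction q using Polynomial.induction_on with
    | C c => intro n; simp [Algebra.smul_def]
    | add p q hp hq => intro n; simp [hp, hq, add_mul]
    | monomial k c ih =>
      intro n
      rw [pow_succ, ← mul_assoc, map_mul, aeval_X, Module.End.mul_apply, ih, map_mul (aeval z) (C c * X ^ k) X, aeval_X, mul_assoc]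
      rfl
  have h1 : (1 : L) ∈ N := by
    have := hmem m (by omega)
    rwa [← mul_pow, hab, one_pow] at this
  have := he G ⟨1, h1⟩
  rw [hGf] at this
  rw [← aeval_def]
  simpa using this.symm

/-- Let R be a ring and x, y ∈ R nonzerodivisors. In the localization R_{xy} let a = x/y and b = y/x,
and let R[a], R[b], R[a, b] be the R-subalgebras they generate. If R is integrally closed in R_x or
in R_y, then the sequence 0 → R → R[a] ⊕ R[b] → R[a, b] → 0 (difference map, then sum map) is short
exact; equivalently R[a] ∩ R[b] is the image of R and R[a] + R[b] = R[a, b] inside R_{xy}. -/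
theorem result {R : Type u} [CommRing R] (x y : R) (hx : x ∈ nonZeroDivisors R) (hy : y ∈ nonZeroDivisors R)
    (hint : IsIntegrallyClosedIn R (Localization.Away x) ∨ IsIntegrallyClosedIn R (Localization.Away y)) :
    (Algebra.adjoin R {algebraMap R (Localization.Away (x * y)) (x * x) * IsLocalization.Away.invSelf (x * y)}).toSubmodule ⊓
        (Algebra.adjoin R {algebraMap R (Localization.Away (x * y)) (y * y) * IsLocalization.Away.invSelf (x * y)}).toSubmodule =
        (⊥ : Subalgebra R (Localization.Away (x * y))).toSubmodule ∧
      (Algebra.adjoin R {algebraMap R (Localization.Away (x * y)) (x * x) * IsLocalization.Away.invSelf (x * y)}).toSubmodule ⊔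
        (Algebra.adjoin R {algebraMap R (Localization.Away (x * y)) (y * y) * IsLocalization.Away.invSelf (x * y)}).toSubmodule =
        (Algebra.adjoin R {algebraMap R (Localization.Away (x * y)) (x * x) * IsLocalization.Away.invSelf (x * y), algebraMap R (Localization.Away (x * y)) (y * y) * IsLocalization.Away.invSelf (x * y)}).toSubmodule := by
  classical
  set L := Localization.Away (x * y) with hL
  set ι := algebraMap R L
  set a := ι (x * x) * IsLocalization.Away.invSelf (x * y) with ha
  set b := ι (y * y) * IsLocalization.Away.invSelf (x * y) with hb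
  have hinv : ι (x * y) * IsLocalization.Away.invSelf (x * y) = 1 := IsLocalization.Away.mul_invSelf _
  have hab : a * b = 1 := by
    calc a * b = (ι (x * y) * IsLocalization.Away.invSelf (x * y)) ^ 2 := by rw [ha, hb, map_mul, map_mul, map_mul]; ring
      _ = 1 := by rw [hinv, one_pow]
  constructor
  · refine le_antisymm ?_ ?_
    · rintro z ⟨hza, hzb⟩
      have hza' : z ∈ Algebra.adjoin R {a} := hza
      have hzb' : z ∈ Algebra.adjoin R {b} := hzb
      rw [Algebra.adjoin_singleton_eq_range_aeval] at hza' hzb'
      obtain ⟨P, hP⟩ := hza'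
      obtain ⟨Q, hQ⟩ := hzb'
      have hint' : IsIntegral R z := key a b hab z P Q hP hQ
      show z ∈ (⊥ : Subalgebra R L)
      rw [Algebra.mem_bot]
      -- the two half-localisations
      have main : ∀ (u v : R), v ∈ nonZeroDivisors R → u ∈ nonZeroDivisors R → x * y = u * v →
          IsIntegrallyClosedIn R (Localization.Away u) →
          (∀ w : L, w ∈ Set.range (Polynomial.aeval (R := R) (ι (v * v) * IsLocalization.Away.invSelf (x * y))) → IsIntegral R w →
            w ∈ Set.range ι) := by
        intro u v hv hu huv hic w hw hwint
        obtain ⟨G, rfl⟩ := hw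
        haveI : IsLocalization.Away (u * v) L := huv ▸ (inferInstance : IsLocalization.Away (x * y) L)
        let j : Localization.Away u →+* L := IsLocalization.Away.awayToAwayRight u v
        let jA : Localization.Away u →ₐ[R] L := ⟨j, fun r => IsLocalization.Away.awayToAwayRight_eq u v r⟩
        have hjinj : Function.Injective jA := by
          rw [injective_iff_map_eq_zero]
          intro t ht
          obtain ⟨⟨r, s⟩, hrs⟩ := IsLocalization.surj (Submonoid.powers u) t
          have : jA (algebraMap R _ r) = 0 := by rw [← hrs, map_mul, ht, zero_mul]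
          rw [AlgHom.commutes] at this
          have h0 : r = 0 := IsLocalization.injective L
            (Submonoid.powers_le.2 (mul_mem hu hv) : Submonoid.powers (u * v) ≤ nonZeroDivisors R) (by rw [this, map_zero])
          rw [h0, map_zero] at hrs
          exact ((IsLocalization.map_units _ s).mul_left_eq_zero).1 hrs
        have e : ι (v * v) * IsLocalization.Away.invSelf (x * y) = jA (algebraMap R _ v * IsLocalization.Away.invSelf u) := by
          have h2 : ι u * jA (IsLocalization.Away.invSelf u) = 1 := by
            have : algebraMap R (Localization.Away u) u * IsLocalization.Away.invSelf u = 1 := IsLocalization.Away.mul_invSelf _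
            have := congrArg jA this
            rwa [map_mul, AlgHom.commutes, map_one] at this
          rw [map_mul jA, AlgHom.commutes]
          have h3 : ι u * ι v * IsLocalization.Away.invSelf (x * y) = 1 := by rw [← map_mul, ← huv, hinv]
          rw [map_mul ι v v]
          linear_combination (-(ι v * ι v * IsLocalization.Away.invSelf (x * y))) * h2 + (ι v * jA (IsLocalization.Away.invSelf u)) * h3
        rw [e, Polynomial.aeval_algHom_apply] at hwint ⊢
        obtain ⟨r, hr⟩ := (IsIntegralClosure.isIntegral_iff (A := R)).1 ((isIntegral_algHom_iff jA hjinj).1 hwint)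
        exact ⟨r, by rw [← hr, AlgHom.commutes]⟩
      rcases hint with h | h
      · exact main x y hy hx rfl h z ⟨Q, hQ⟩ hint'
      · exact main y x hx hy (mul_comm x y) h z ⟨P, hP⟩ hint'
    · exact le_inf (Subalgebra.toSubmodule.monotone bot_le) (Subalgebra.toSubmodule.monotone bot_le)
  · refine le_antisymm (sup_le (Subalgebra.toSubmodule.monotone (Algebra.adjoin_mono (by simp)))
      (Subalgebra.toSubmodule.monotone (Algebra.adjoin_mono (by simp)))) ?_
    rw [Algebra.adjoin_eq_span, Submodule.span_le]
    intro w hw
    obtain ⟨i, j, rfl⟩ := (Submonoid.mem_closure_pair _ _ _).1 hw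
    rcases le_total j i with h | h
    · have e : a ^ i * b ^ j = a ^ (i - j) := by
        conv_lhs => rw [← Nat.sub_add_cancel h, pow_add, mul_assoc, ← mul_pow, hab, one_pow, mul_one]
      rw [SetLike.mem_coe, e]
      exact Submodule.mem_sup_left ((Subalgebra.mem_toSubmodule _).2 (pow_mem (Algebra.self_mem_adjoin_singleton R a) (i - j)))
    · have e : a ^ i * b ^ j = b ^ (j - i) := by
        conv_lhs => rw [← Nat.sub_add_cancel h, pow_add, mul_left_comm, ← mul_pow, hab, one_pow, mul_one]
      rw [SetLike.mem_coe, e]
      exact Submodule.mem_sup_right ((Subalgebra.mem_toSubmodule _).2 (pow_mem (Algebra.self_mem_adjoin_singleton R b) (j - i)))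

end Groth.Agent.S9654
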