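import Groth.Statements.S9655
import Mathlib
-- import your own Groth.Agent.* helpers here

set_option autoImplicit false
universe u
open CAlg

namespace Groth.Agent.S9655

/-- Let R and S be local rings and R → S a ring map, not necessarily local, that is essentially of
finite type. Then for some n there is a maximal ideal m of the polynomial ring R[x_1, …, x_n] lying
over the maximal ideal of R, together with an R-algebra map φ : R[x_1, …, x_n]_m → S making S a
localization of the image of φ; thus S arises from R[x_1, …, x_n]_m by passing to a quotient and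
then localizing. -/
theorem result {R S : Type u} [CommRing R] [CommRing S] [Algebra R S] [IsLocalRing R] [IsLocalRing S] [Algebra.EssFiniteType R S] :
    ∃ (n : ℕ) (m : Ideal (MvPolynomial (Fin n) R)) (_ : m.IsMaximal), m.under R = IsLocalRing.maximalIdeal R ∧
      ∃ (φ : Localization.AtPrime m →ₐ[R] S) (T : Submonoid φ.range), IsLocalization T S := by
  classical
  obtain ⟨A₀, M, hA₀, hloc⟩ := (Algebra.essFiniteType_iff_exists_subalgebra R S).mp ‹Algebra.EssFiniteType R S›
  obtain ⟨s, hs⟩ := (Subalgebra.fg_iff_finiteType A₀).mpr hA₀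
  let L := IsLocalRing.ResidueField S
  let ρ : S →+* L := IsLocalRing.residue S
  obtain ⟨V, hV⟩ := LocalSubring.exists_le_valuationSubring (LocalSubring.range (ρ.comp (algebraMap R S)))
  obtain ⟨hle, hlocV⟩ := LocalSubring.le_def.mp hV
  have hRV : ∀ r, ρ (algebraMap R S r) ∈ V := fun r ↦ hle ⟨r, rfl⟩
  let n := s.card
  let a : Fin n → S := fun i ↦ (s.equivFin.symm i).1
  have hch : ∀ i, ∃ b : S, ρ b ∈ V ∧ (a i = b ∨ a i * b = 1) := by
    intro i
    rcases V.mem_or_inv_mem (ρ (a i)) with h | h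
    · exact ⟨a i, h, Or.inl rfl⟩
    · by_cases h0 : ρ (a i) = 0
      · exact ⟨a i, h0 ▸ zero_mem V, Or.inl rfl⟩
      · have hu : IsUnit (a i) := by
          by_contra hn
          exact h0 ((IsLocalRing.residue_eq_zero_iff _).mpr ((IsLocalRing.mem_maximalIdeal _).mpr hn))
        obtain ⟨u, hu⟩ := hu
        refine ⟨↑u⁻¹, ?_, Or.inr (by rw [← hu, Units.mul_inv])⟩
        have e : ρ ↑u⁻¹ = (ρ (a i))⁻¹ := eq_inv_of_mul_eq_one_left (by rw [← map_mul, ← hu, Units.inv_mul, map_one])
        rw [e]; exact h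
  choose b hbV hb using hch
  let φ₀ : MvPolynomial (Fin n) R →ₐ[R] S := MvPolynomial.aeval b
  have hφV : ∀ p, ρ (φ₀ p) ∈ V := by
    intro p
    induction p using MvPolynomial.induction_on with
    | C r => simpa [φ₀] using hRV r
    | add p q hp hq => rw [map_add, map_add]; exact add_mem hp hq
    | mul_X p i hp => rw [map_mul, map_mul]; exact mul_mem hp (by simpa [φ₀] using hbV i)
  let ψ : MvPolynomial (Fin n) R →+* V :=
    (ρ.comp φ₀.toRingHom).codRestrict V.toSubring hφV
  let m₀ := (IsLocalRing.maximalIdeal V).comap ψ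
  obtain ⟨m, hm, hm₀⟩ := Ideal.exists_le_maximal m₀ (Ideal.IsPrime.ne_top inferInstance)
  haveI := hm
  have hQ : ∀ p, ρ (φ₀ p) = 0 → p ∈ m := fun p hp ↦ hm₀ (by
    show ψ p ∈ IsLocalRing.maximalIdeal V
    rw [show ψ p = 0 from Subtype.ext hp]; exact zero_mem _)
  have hunder : m.under R = IsLocalRing.maximalIdeal R := by
    refine le_antisymm (IsLocalRing.le_maximalIdeal (Ideal.IsPrime.ne_top inferInstance)) fun r hr ↦ ?_
    apply hm₀
    show ψ (algebraMap R (MvPolynomial (Fin n) R) r) ∈ IsLocalRing.maximalIdeal V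
    rw [IsLocalRing.mem_maximalIdeal, mem_nonunits_iff]
    intro hu
    have h1 : IsUnit (⟨ρ (algebraMap R S r), ⟨r, rfl⟩⟩ : (LocalSubring.range (ρ.comp (algebraMap R S))).toSubring) := by
      refine hlocV.1 _ ?_
      have e : ψ (algebraMap R (MvPolynomial (Fin n) R) r) = ⟨ρ (algebraMap R S r), hRV r⟩ :=
        Subtype.ext (congrArg ρ (φ₀.commutes r))
      rw [e] at hu
      exact hu
    have h2 : IsUnit ((ρ.comp (algebraMap R S)).rangeRestrict r) := h1
    haveI : IsLocalHom (ρ.comp (algebraMap R S)).rangeRestrict :=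
      (ρ.comp (algebraMap R S)).rangeRestrict_surjective.isLocalHom
    exact (IsLocalRing.mem_maximalIdeal r).mp hr (isUnit_of_map_unit _ r h2)
  have hunit : ∀ y : m.primeCompl, IsUnit (φ₀ y) := by
    intro y
    by_contra hn
    exact y.2 (hQ _ ((IsLocalRing.residue_eq_zero_iff _).mpr ((IsLocalRing.mem_maximalIdeal _).mpr hn)))
  let φ : Localization.AtPrime m →ₐ[R] S := IsLocalization.liftAlgHom (M := m.primeCompl) (f := φ₀) hunit
  have hb' : ∀ i, b i ∈ φ.range := fun i ↦ ⟨algebraMap (MvPolynomial (Fin n) R) _ (MvPolynomial.X i), by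
    show φ (algebraMap _ _ (MvPolynomial.X i)) = b i
    simp [φ, φ₀]⟩
  have hfrac : ∀ z ∈ A₀, ∃ c ∈ φ.range, ∃ d ∈ φ.range, IsUnit d ∧ z * d = c := by
    intro z hz
    rw [← hs] at hz
    induction hz using Algebra.adjoin_induction with
    | mem x hx =>
      obtain ⟨i, rfl⟩ : ∃ i, a i = x := ⟨s.equivFin ⟨x, hx⟩, by simp [a]⟩
      rcases hb i with h | h
      · exact ⟨b i, hb' i, 1, one_mem _, isUnit_one, by rw [h, mul_one]⟩
      · exact ⟨1, one_mem _, b i, hb' i, IsUnit.of_mul_eq_one_right _ h, h⟩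
    | algebraMap r => exact ⟨_, φ.range.algebraMap_mem r, 1, one_mem _, isUnit_one, mul_one _⟩
    | add x y _ _ hx hy =>
      obtain ⟨c, hc, d, hd, hu, h⟩ := hx
      obtain ⟨c', hc', d', hd', hu', h'⟩ := hy
      exact ⟨c * d' + c' * d, add_mem (mul_mem hc hd') (mul_mem hc' hd), d * d', mul_mem hd hd', hu.mul hu', by rw [← h, ← h']; ring⟩
    | mul x y _ _ hx hy =>
      obtain ⟨c, hc, d, hd, hu, h⟩ := hx
      obtain ⟨c', hc', d', hd', hu', h'⟩ := hy
      exact ⟨c * c', mul_mem hc hc', d * d', mul_mem hd hd', hu.mul hu', by rw [← h, ← h']; ring⟩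
  refine ⟨n, m, hm, hunder, φ, (IsUnit.submonoid S).comap φ.range.val, ?_⟩
  refine (isLocalization_iff _ _).mpr ⟨fun y ↦ y.2, fun z ↦ ?_, fun {x y} h ↦ ⟨1, by rw [Subtype.ext h]⟩⟩
  obtain ⟨⟨x, y⟩, hxy⟩ := IsLocalization.surj M z
  obtain ⟨c, hc, d, hd, hu, h⟩ := hfrac x x.2
  obtain ⟨c', hc', d', hd', hu', h'⟩ := hfrac (y : A₀) (y : A₀).2
  have hyu : IsUnit ((y : A₀) : S) := IsLocalization.map_units S y
  refine ⟨⟨⟨c * d', mul_mem hc hd'⟩, ⟨⟨c' * d, mul_mem hc' hd⟩, (h' ▸ hyu.mul hu').mul hu⟩⟩, ?_⟩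
  change z * ((y : A₀) : S) = (x : S) at hxy
  show z * (c' * d) = c * d'
  rw [← h', ← h, ← hxy]
  ring
end Groth.Agent.S9655
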