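import Groth.Statements.S9656
import Mathlib
-- import your own Groth.Agent.* helpers here

set_option autoImplicit false
universe u
open CAlg

namespace Groth.Agent.S9656

/-- Let R_i → S_i be ring maps indexed by a finite type ι, with product map R = Π R_i → S = Π S_i. Then
an element (s_i) of S is integral over R exactly when s_i is integral over R_i for every i; so
integral closure in a finite product is computed factor by factor. -/
theorem result {ι : Type u} [Fintype ι] {R S : ι → Type u} [∀ i, CommRing (R i)] [∀ i, CommRing (S i)] (f : ∀ i, R i →+* S i) (s : ∀ i, S i) :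
    (RingHom.pi fun i => (f i).comp (Pi.evalRingHom R i)).IsIntegralElem s ↔ ∀ i, (f i).IsIntegralElem (s i) := by
  constructor
  · rintro ⟨P, hP, hP0⟩ i
    refine ⟨P.map (Pi.evalRingHom R i), hP.map _, ?_⟩
    rw [Polynomial.eval₂_map]
    have := congrArg (Pi.evalRingHom S i) hP0
    rw [Polynomial.hom_eval₂, map_zero] at this
    exact this
  · intro h
    choose P hP hP0 using h
    let N := Finset.univ.sup fun i => (P i).natDegree
    let Q : ∀ i, Polynomial (R i) := fun i => Polynomial.X ^ (N - (P i).natDegree) * P i
    have hQ : ∀ i, (Q i).Monic := fun i => (Polynomial.monic_X_pow _).mul (hP i)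
    have hle : ∀ i, (P i).natDegree ≤ N := fun i => Finset.le_sup (f := fun i => (P i).natDegree) (Finset.mem_univ i)
    have hQd : ∀ i, (Q i).natDegree ≤ N := fun i => by
      refine Polynomial.natDegree_mul_le.trans ?_
      exact (Nat.add_le_add_right (Polynomial.natDegree_X_pow_le _) _).trans (by have := hle i; omega)
    have hQc : ∀ i, (Q i).coeff N = 1 := fun i => by
      have hN : N = (P i).natDegree + (N - (P i).natDegree) := by have := hle i; omega
      calc (Q i).coeff N = (Polynomial.X ^ (N - (P i).natDegree) * P i).coeff ((P i).natDegree + (N - (P i).natDegree)) := by rw [← hN]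
        _ = 1 := by rw [Polynomial.coeff_X_pow_mul]; exact hP i
    let T : Polynomial (∀ i, R i) :=
      ∑ k ∈ Finset.range (N + 1), Polynomial.C (fun i => (Q i).coeff k) * Polynomial.X ^ k
    have hT : ∀ k, T.coeff k = if k ≤ N then (fun i => (Q i).coeff k) else 0 := fun k => by
      simp [T, Polynomial.coeff_C_mul_X_pow, Nat.lt_succ_iff]
    refine ⟨T, ?_, ?_⟩
    · refine Polynomial.monic_of_natDegree_le_of_coeff_eq_one N ?_ ?_
      · exact Polynomial.natDegree_le_iff_coeff_eq_zero.mpr fun k hk => by
          rw [hT, if_neg]; omega
      · rw [hT, if_pos le_rfl]; exact funext hQc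
    · funext i
      have hmap : T.map (Pi.evalRingHom R i) = Q i := by
        ext k
        rw [Polynomial.coeff_map, hT]
        split_ifs with hk
        · rfl
        · simp [Polynomial.coeff_eq_zero_of_natDegree_lt (lt_of_le_of_lt (hQd i) (not_le.mp hk))]
      change Pi.evalRingHom S i (Polynomial.eval₂ _ s T) = 0
      rw [Polynomial.hom_eval₂]
      change Polynomial.eval₂ ((f i).comp (Pi.evalRingHom R i)) (s i) T = 0
      rw [← Polynomial.eval₂_map, hmap, Polynomial.eval₂_mul, hP0 i, mul_zero]

end Groth.Agent.S9656
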