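import Groth.Statements.S9657
import Mathlib
import Groth.Agent.GeomIrred.Basic
-- import your own Groth.Agent.* helpers here

set_option autoImplicit false
universe u
open CAlg

namespace Groth.Agent.S9657

open TensorProduct

variable {k K : Type u} [Field k] [Field K] [Algebra k K] (kt Kt : Type u) [Field kt] [Field Kt]
  [Algebra (Polynomial k) kt] [IsFractionRing (Polynomial k) kt]
  [Algebra (Polynomial K) Kt] [IsFractionRing (Polynomial K) Kt]
  [Algebra kt Kt] [Algebra k kt] [Algebra K Kt] [Algebra k Kt] [IsScalarTower k kt Kt] [IsScalarTower k K Kt]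
  [IsScalarTower k (Polynomial k) kt] [IsScalarTower K (Polynomial K) Kt]

/-- `kt ⊗ K → Kt`. -/
noncomputable def iota : kt ⊗[k] K →ₐ[kt] Kt :=
  Algebra.TensorProduct.lift (Algebra.ofId kt Kt) (IsScalarTower.toAlgHom k K Kt) fun _ _ => Commute.all _ _

lemma iota_tmul (x : kt) (a : K) : iota kt Kt (x ⊗ₜ[k] a) = algebraMap kt Kt x * algebraMap K Kt a :=
  Algebra.TensorProduct.lift_tmul _ _ _ _ _

variable (hcompat : ∀ p : Polynomial k, algebraMap kt Kt (algebraMap (Polynomial k) kt p) =
  algebraMap (Polynomial K) Kt (Polynomial.map (algebraMap k K) p))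

include hcompat

lemma exists_poly (z : kt ⊗[k] K) :
    ∃ q : Polynomial k, q ≠ 0 ∧ ∃ w : K ⊗[k] Polynomial k,
      (algebraMap (Polynomial k) kt q ⊗ₜ[k] (1 : K)) * z =
        Algebra.TensorProduct.map (IsScalarTower.toAlgHom k (Polynomial k) kt) (AlgHom.id k K)
          (Algebra.TensorProduct.comm k K (Polynomial k) w) := by
  induction z using TensorProduct.induction_on with
  | zero => exact ⟨1, one_ne_zero, 0, by simp⟩
  | tmul x a =>
    obtain ⟨⟨p, q⟩, hpq⟩ := IsLocalization.surj (nonZeroDivisors (Polynomial k)) x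
    refine ⟨q, nonZeroDivisors.ne_zero q.2, a ⊗ₜ p, ?_⟩
    simp only [Algebra.TensorProduct.tmul_mul_tmul, one_mul, Algebra.TensorProduct.comm_tmul,
      Algebra.TensorProduct.map_tmul, IsScalarTower.coe_toAlgHom, AlgHom.id_apply, IsScalarTower.toAlgHom_apply]
    rw [mul_comm, hpq]
  | add x y hx hy =>
    obtain ⟨q, hq, w, hw⟩ := hx
    obtain ⟨q', hq', w', hw'⟩ := hy
    refine ⟨q * q', mul_ne_zero hq hq',
      ((1 : K) ⊗ₜ[k] q') * w + ((1 : K) ⊗ₜ[k] q) * w', ?_⟩
    rw [map_add, map_add, map_mul (Algebra.TensorProduct.comm k K (Polynomial k)) ((1 : K) ⊗ₜ[k] q') w,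
      map_mul (Algebra.TensorProduct.comm k K (Polynomial k)) ((1 : K) ⊗ₜ[k] q) w',
      map_mul (Algebra.TensorProduct.map (IsScalarTower.toAlgHom k (Polynomial k) kt) (AlgHom.id k K)) _
        (Algebra.TensorProduct.comm k K (Polynomial k) w),
      map_mul (Algebra.TensorProduct.map (IsScalarTower.toAlgHom k (Polynomial k) kt) (AlgHom.id k K)) _
        (Algebra.TensorProduct.comm k K (Polynomial k) w'), ← hw, ← hw', map_mul]
    simp only [Algebra.TensorProduct.comm_tmul, Algebra.TensorProduct.map_tmul,
      IsScalarTower.coe_toAlgHom, AlgHom.id_apply, IsScalarTower.toAlgHom_apply]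
    rw [mul_add, ← mul_assoc, ← mul_assoc, Algebra.TensorProduct.tmul_mul_tmul,
      Algebra.TensorProduct.tmul_mul_tmul, one_mul, mul_comm (algebraMap (Polynomial k) kt q')]

lemma iota_map (w : K ⊗[k] Polynomial k) :
    iota kt Kt (Algebra.TensorProduct.map (IsScalarTower.toAlgHom k (Polynomial k) kt) (AlgHom.id k K)
          (Algebra.TensorProduct.comm k K (Polynomial k) w)) =
      algebraMap (Polynomial K) Kt ((polyEquivTensor k K).symm w) := by
  induction w using TensorProduct.induction_on with
  | zero => simp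
  | tmul a p =>
    simp only [Algebra.TensorProduct.comm_tmul, Algebra.TensorProduct.map_tmul, IsScalarTower.coe_toAlgHom,
      AlgHom.id_apply, IsScalarTower.toAlgHom_apply, iota_tmul, polyEquivTensor_symm_apply_tmul_eq_smul]
    rw [hcompat, Algebra.smul_def, map_mul, ← IsScalarTower.algebraMap_apply K (Polynomial K) Kt, mul_comm]
  | add a b ha hb => simp only [map_add, ha, hb]

lemma iota_injective : Function.Injective (iota (k := k) (K := K) kt Kt) := by
  rw [injective_iff_map_eq_zero]
  intro z hz
  obtain ⟨q, hq, w, hw⟩ := exists_poly kt Kt hcompat z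
  have h1 := congrArg (iota kt Kt) hw
  rw [map_mul, hz, mul_zero, iota_map kt Kt hcompat] at h1
  have hw0 : w = 0 := by
    have := (IsFractionRing.injective (Polynomial K) Kt) (h1.symm.trans (map_zero _).symm)
    simpa using congrArg (polyEquivTensor k K) this
  rw [hw0, map_zero, map_zero] at hw
  have hu : IsUnit (algebraMap (Polynomial k) kt q ⊗ₜ[k] (1 : K)) :=
    (IsUnit.mk0 _ (fun h => hq (IsFractionRing.injective (Polynomial k) kt (h.trans (map_zero _).symm)))).map
      (Algebra.TensorProduct.includeLeft : kt →ₐ[k] kt ⊗[k] K)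
  exact hu.mul_right_eq_zero.1 hw

variable (L : Type u) [Field L] [Algebra kt L] [Algebra k L] [IsScalarTower k kt L]

/-- `L ⊗ₖ K → L ⊗ₖₜ Kt`. -/
noncomputable def Phi : L ⊗[k] K →ₐ[L] L ⊗[kt] Kt :=
  (Algebra.TensorProduct.map (AlgHom.id L L) (iota (k := k) (K := K) kt Kt)).comp
    (Algebra.TensorProduct.cancelBaseChange k kt L L K).symm.toAlgHom

lemma Phi_injective : Function.Injective (Phi (k := k) (K := K) kt Kt L) :=
  (Module.Flat.lTensor_preserves_injective_linearMap (M := L) (iota (k := k) (K := K) kt Kt).toLinearMap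
    (iota_injective kt Kt hcompat)).comp (Algebra.TensorProduct.cancelBaseChange k kt L L K).symm.injective

omit hcompat in
lemma Phi_tmul (l : L) (a : K) : Phi kt Kt L (l ⊗ₜ[k] a) = l ⊗ₜ[kt] algebraMap K Kt a := by
  simp [Phi, iota_tmul]

omit hcompat in
lemma exists_denom (z : L ⊗[kt] Kt) (hX : ∃ x : L ⊗[k] K, Phi (k := k) (K := K) kt Kt L x =
      (1 : L) ⊗ₜ[kt] algebraMap (Polynomial K) Kt Polynomial.X) :
    ∃ q : Polynomial K, q ≠ 0 ∧ ∃ w : L ⊗[k] K,
      ((1 : L) ⊗ₜ[kt] algebraMap (Polynomial K) Kt q) * z = Phi kt Kt L w := by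
  have hpoly : ∀ p : Polynomial K, ∃ w : L ⊗[k] K,
      Phi (k := k) (K := K) kt Kt L w = (1 : L) ⊗ₜ[kt] algebraMap (Polynomial K) Kt p := fun p => by
    induction p using Polynomial.induction_on' with
    | add p q hp hq =>
      obtain ⟨w, hw⟩ := hp
      obtain ⟨w', hw'⟩ := hq
      exact ⟨w + w', by rw [map_add, hw, hw', map_add, TensorProduct.tmul_add]⟩
    | monomial n a =>
      obtain ⟨x, hx⟩ := hX
      refine ⟨((1 : L) ⊗ₜ[k] a) * x ^ n, ?_⟩
      rw [map_mul, map_pow, hx, Phi_tmul, Algebra.TensorProduct.tmul_pow, Algebra.TensorProduct.tmul_mul_tmul,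
        one_pow, mul_one, ← Polynomial.C_mul_X_pow_eq_monomial, map_mul, map_pow,
        IsScalarTower.algebraMap_apply K (Polynomial K) Kt, Polynomial.algebraMap_eq]
  induction z using TensorProduct.induction_on with
  | zero => exact ⟨1, one_ne_zero, 0, by simp⟩
  | tmul l x =>
    obtain ⟨⟨p, q⟩, hpq⟩ := IsLocalization.surj (nonZeroDivisors (Polynomial K)) x
    obtain ⟨w, hw⟩ := hpoly p
    refine ⟨q, nonZeroDivisors.ne_zero q.2, (l ⊗ₜ[k] (1 : K)) * w, ?_⟩
    rw [map_mul, hw, Phi_tmul, map_one, Algebra.TensorProduct.tmul_mul_tmul,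
      Algebra.TensorProduct.tmul_mul_tmul, one_mul, one_mul, mul_one, mul_comm, hpq]
  | add x y hx hy =>
    obtain ⟨q, hq, w, hw⟩ := hx
    obtain ⟨q', hq', w', hw'⟩ := hy
    obtain ⟨a, ha⟩ := hpoly q
    obtain ⟨a', ha'⟩ := hpoly q'
    refine ⟨q * q', mul_ne_zero hq hq', a' * w + a * w', ?_⟩
    rw [map_add, map_mul (Phi kt Kt L), map_mul (Phi kt Kt L), ha, ha', ← hw, ← hw', map_mul,
      ← mul_assoc, ← mul_assoc, Algebra.TensorProduct.tmul_mul_tmul, Algebra.TensorProduct.tmul_mul_tmul,
      one_mul, mul_add, mul_comm (algebraMap (Polynomial K) Kt q')]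

end Groth.Agent.S9657

namespace Groth.Agent.S9657

open TensorProduct in
/-- Let K/k be a field extension and let k(t) ⊆ K(t) be the purely transcendental extensions in one
variable, realised as fraction fields of k[t] and K[t] compatibly with k[t] → K[t]. Then K is
geometrically irreducible over k (Spec(k' ⊗_k K) irreducible for every field extension k'/k) if and
only if K(t) is geometrically irreducible over k(t). Here the test fields range over field
extensions of k, respectively of k(t), in the universe of k; this is equivalent to the unrestricted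
notions, since an algebraic closure of the base field suffices as a test. -/
theorem result {k K : Type u} [Field k] [Field K] [Algebra k K]
    (kt Kt : Type u) [Field kt] [Field Kt] [Algebra (Polynomial k) kt] [IsFractionRing (Polynomial k) kt] [Algebra (Polynomial K) Kt] [IsFractionRing (Polynomial K) Kt]
    [Algebra kt Kt] (hcompat : ∀ p : Polynomial k, algebraMap kt Kt (algebraMap (Polynomial k) kt p) = algebraMap (Polynomial K) Kt (Polynomial.map (algebraMap k K) p)) :
    (∀ (k' : Type u) [Field k'] [Algebra k k'], IrreducibleSpace (PrimeSpectrum (k' ⊗[k] K))) ↔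
      ∀ (L : Type u) [Field L] [Algebra kt L], IrreducibleSpace (PrimeSpectrum (L ⊗[kt] Kt)) := by
  let : Algebra k kt := ((algebraMap (Polynomial k) kt).comp Polynomial.C).toAlgebra
  let : Algebra K Kt := ((algebraMap (Polynomial K) Kt).comp Polynomial.C).toAlgebra
  let : Algebra k Kt := ((algebraMap K Kt).comp (algebraMap k K)).toAlgebra
  haveI : IsScalarTower k (Polynomial k) kt := IsScalarTower.of_algebraMap_eq fun _ => rfl
  haveI : IsScalarTower K (Polynomial K) Kt := IsScalarTower.of_algebraMap_eq fun _ => rfl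
  haveI : IsScalarTower k K Kt := IsScalarTower.of_algebraMap_eq fun _ => rfl
  haveI : IsScalarTower k kt Kt := IsScalarTower.of_algebraMap_eq fun r => by
    show algebraMap (Polynomial K) Kt (Polynomial.C (algebraMap k K r)) =
      algebraMap kt Kt (algebraMap (Polynomial k) kt (Polynomial.C r))
    rw [hcompat, Polynomial.map_C]
  constructor
  · intro h L _ _
    let : Algebra k L := ((algebraMap kt L).comp (algebraMap k kt)).toAlgebra
    haveI : IsScalarTower k kt L := IsScalarTower.of_algebraMap_eq fun _ => rfl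
    have hL := h L
    rw [PrimeSpectrum.irreducibleSpace_iff_isPrime_nilradical] at hL ⊢
    have hinj := Groth.Agent.S9657.Phi_injective (k := k) (K := K) kt Kt hcompat L
    let X0 : L := algebraMap kt L (algebraMap (Polynomial k) kt Polynomial.X)
    have hX : ∃ x : L ⊗[k] K, Groth.Agent.S9657.Phi (k := k) (K := K) kt Kt L x =
        (1 : L) ⊗ₜ[kt] algebraMap (Polynomial K) Kt Polynomial.X := by
      refine ⟨X0 ⊗ₜ[k] 1, ?_⟩
      rw [Groth.Agent.S9657.Phi_tmul, map_one, ← Polynomial.map_X (algebraMap k K), ← hcompat]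
      simp [X0, Algebra.algebraMap_eq_smul_one, TensorProduct.smul_tmul]
    haveI : Nontrivial (L ⊗[kt] Kt) := by
      haveI : Nontrivial (L ⊗[k] K) := by
        by_contra hc
        rw [not_nontrivial_iff_subsingleton] at hc
        exact hL.ne_top (Subsingleton.elim _ _)
      exact hinj.nontrivial
    refine ⟨fun htop => ?_, fun {a b} hab => ?_⟩
    · rw [Ideal.eq_top_iff_one, mem_nilradical] at htop
      exact not_isNilpotent_one htop
    · obtain ⟨q, hq, a', ha⟩ := Groth.Agent.S9657.exists_denom (k := k) (K := K) kt Kt L a hX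
      obtain ⟨q', hq', b', hb⟩ := Groth.Agent.S9657.exists_denom (k := k) (K := K) kt Kt L b hX
      have hu : ∀ q : Polynomial K, q ≠ 0 → IsUnit ((1 : L) ⊗ₜ[kt] algebraMap (Polynomial K) Kt q) :=
        fun q hq => (IsUnit.mk0 _ (fun h => hq (IsFractionRing.injective (Polynomial K) Kt
          (h.trans (map_zero _).symm)))).map (Algebra.TensorProduct.includeRight : Kt →ₐ[kt] L ⊗[kt] Kt)
      have h1 : a' * b' ∈ nilradical (L ⊗[k] K) := by
        rw [mem_nilradical, ← IsNilpotent.map_iff (f := (Groth.Agent.S9657.Phi kt Kt L).toRingHom) hinj]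
        show IsNilpotent (Groth.Agent.S9657.Phi kt Kt L (a' * b'))
        rw [map_mul, ← ha, ← hb, mul_mul_mul_comm]
        exact Commute.isNilpotent_mul_left (Commute.all _ _) (mem_nilradical.1 hab)
      rcases hL.mem_or_mem h1 with h2 | h2
      · left
        rw [mem_nilradical, ← IsNilpotent.map_iff (f := (Groth.Agent.S9657.Phi kt Kt L).toRingHom) hinj] at h2
        have h3 : ((1 : L) ⊗ₜ[kt] algebraMap (Polynomial K) Kt q) * a ∈ nilradical (L ⊗[kt] Kt) :=
          mem_nilradical.2 (ha ▸ h2)
        exact ((nilradical _).unit_mul_mem_iff_mem (hu q hq)).1 h3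
      · right
        rw [mem_nilradical, ← IsNilpotent.map_iff (f := (Groth.Agent.S9657.Phi kt Kt L).toRingHom) hinj] at h2
        have h3 : ((1 : L) ⊗ₜ[kt] algebraMap (Polynomial K) Kt q') * b ∈ nilradical (L ⊗[kt] Kt) :=
          mem_nilradical.2 (hb ▸ h2)
        exact ((nilradical _).unit_mul_mem_iff_mem (hu q' hq')).1 h3
  · intro h k' _ _
    let L := FractionRing (Polynomial k')
    let f : Polynomial k →+* L := (algebraMap (Polynomial k') L).comp (Polynomial.mapRingHom (algebraMap k k'))
    have hf : Function.Injective f :=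
      (IsFractionRing.injective (Polynomial k') L).comp (Polynomial.map_injective _ (algebraMap k k').injective)
    let : Algebra kt L := (IsFractionRing.lift (A := Polynomial k) (K := kt) hf).toAlgebra
    have hC : ∀ r : k, algebraMap k L r = algebraMap (Polynomial k') L (Polynomial.C (algebraMap k k' r)) := fun r => by
      rw [IsScalarTower.algebraMap_apply k (Polynomial k') L, Polynomial.algebraMap_apply]
    haveI : IsScalarTower k kt L := IsScalarTower.of_algebraMap_eq fun r => by
      rw [hC]
      show _ = IsFractionRing.lift (A := Polynomial k) (K := kt) hf (algebraMap (Polynomial k) kt (Polynomial.C r))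
      rw [IsFractionRing.lift_algebraMap]
      simp [f]
    let g : k' →ₐ[k] L :=
      { (algebraMap (Polynomial k') L).comp Polynomial.C with
        commutes' := fun r => (hC r).symm }
    let ψ : k' ⊗[k] K →ₐ[k] L ⊗[k] K := Algebra.TensorProduct.map g (AlgHom.id k K)
    have hψ : Function.Injective ψ :=
      Module.Flat.rTensor_preserves_injective_linearMap (M := K) g.toLinearMap g.toRingHom.injective
    exact Groth.Agent.GeomIrred.of_injective
      ((Groth.Agent.S9657.Phi (k := k) (K := K) kt Kt L).toRingHom.comp ψ.toRingHom)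
      ((Groth.Agent.S9657.Phi_injective (k := k) (K := K) kt Kt hcompat L).comp hψ) (h L)

end Groth.Agent.S9657
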