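import Groth.Statements.S9658
import Mathlib
-- import your own Groth.Agent.* helpers here

set_option autoImplicit false
universe u
open CAlg

namespace Groth.Agent.S9658

/-- Let R be a ring, f_1, …, f_n ∈ R generating the unit ideal and M an R-module. With M_i = M_{f_i},
M_ij = M_{f_i f_j} (any localizations, with the canonical compatible maps M → M_i → M_ij), the
sequence 0 → M → ⊕ M_i → ⊕ M_ij is exact: an element of M whose image vanishes in every M_i is zero,
and every family (m_i ∈ M_i) such that m_i and m_j have the same image in M_ij for all i, j is the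
image of an element of M. -/
theorem result {R : Type u} [CommRing R] {ι : Type u} [Fintype ι] (f : ι → R) (hf : Ideal.span (Set.range f) = ⊤)
    (M : Type u) [AddCommGroup M] [Module R M]
    (Mi : ι → Type u) [∀ i, AddCommGroup (Mi i)] [∀ i, Module R (Mi i)] (g : ∀ i, M →ₗ[R] Mi i) [∀ i, IsLocalizedModule (Submonoid.powers (f i)) (g i)]
    (Mij : ι → ι → Type u) [∀ i j, AddCommGroup (Mij i j)] [∀ i j, Module R (Mij i j)] (gij : ∀ i j, M →ₗ[R] Mij i j) [∀ i j, IsLocalizedModule (Submonoid.powers (f i * f j)) (gij i j)]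
    (ρ₁ : ∀ i j, Mi i →ₗ[R] Mij i j) (hρ₁ : ∀ i j, ρ₁ i j ∘ₗ g i = gij i j) (ρ₂ : ∀ i j, Mi j →ₗ[R] Mij i j) (hρ₂ : ∀ i j, ρ₂ i j ∘ₗ g j = gij i j) :
    (∀ m : M, (∀ i, g i m = 0) → m = 0) ∧
      ∀ s : ∀ i, Mi i, (∀ i j, ρ₁ i j (s i) = ρ₂ i j (s j)) → ∃ m : M, ∀ i, g i m = s i := by
  classical
  have hcancel : ∀ (i : ι) (N : ℕ) (x y : Mi i), f i ^ N • x = f i ^ N • y → x = y := fun i N x y h =>
    ((Module.End.isUnit_iff _).1
      (IsLocalizedModule.map_units (g i) (⟨f i ^ N, N, rfl⟩ : Submonoid.powers (f i)))).1 h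
  have hpow : ∀ N : ℕ, ∃ a : ι → R, ∑ i, a i * f i ^ N = 1 := fun N => by
    have h : (1 : R) ∈ Ideal.span (Set.range fun i => f i ^ N) := by
      rw [show (Set.range fun i => f i ^ N) = (fun x => x ^ N) '' Set.range f by rw [← Set.range_comp]; rfl,
        Ideal.span_pow_eq_top _ hf]
      exact Submodule.mem_top
    exact (Submodule.mem_span_range_iff_exists_fun R).1 h
  constructor
  · intro m hm
    have h : ∀ i, ∃ n : ℕ, f i ^ n • m = 0 := fun i => by
      obtain ⟨⟨_, n, rfl⟩, hn⟩ := (IsLocalizedModule.eq_iff_exists (Submonoid.powers (f i)) (g i)).1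
        ((hm i).trans (map_zero (g i)).symm)
      exact ⟨n, by simpa [Submonoid.smul_def] using hn⟩
    choose n hn using h
    obtain ⟨a, ha⟩ := hpow (Finset.univ.sup n)
    rw [← one_smul R m, ← ha, Finset.sum_smul]
    refine Finset.sum_eq_zero fun i _ => ?_
    rw [mul_smul, ← Nat.sub_add_cancel (Finset.le_sup (Finset.mem_univ i) : n i ≤ Finset.univ.sup n), pow_add,
      mul_smul, hn, smul_zero, smul_zero]
  · intro s hs
    have h : ∀ i, ∃ (n : ℕ) (z : M), f i ^ n • s i = g i z := fun i => by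
      obtain ⟨⟨z, ⟨_, n, rfl⟩⟩, hz⟩ := IsLocalizedModule.surj (Submonoid.powers (f i)) (g i) (s i)
      exact ⟨n, z, hz⟩
    choose n z hz using h
    let N := Finset.univ.sup n
    obtain ⟨y, hy⟩ : ∃ y : ι → M, ∀ i, f i ^ N • s i = g i (y i) :=
      ⟨fun i => f i ^ (N - n i) • z i, fun i => by
        rw [map_smul, ← hz, smul_smul, ← pow_add, Nat.sub_add_cancel (Finset.le_sup (Finset.mem_univ i))]⟩
    have h : ∀ i j, ∃ m : ℕ, (f i * f j) ^ m • (f j ^ N • y i - f i ^ N • y j) = 0 := fun i j => by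
      have e1 : gij i j (f j ^ N • y i) = (f j ^ N * f i ^ N) • ρ₁ i j (s i) := by
        rw [map_smul, ← hρ₁ i j, LinearMap.comp_apply, ← hy, map_smul, smul_smul]
      have e2 : gij i j (f i ^ N • y j) = (f i ^ N * f j ^ N) • ρ₂ i j (s j) := by
        rw [map_smul, ← hρ₂ i j, LinearMap.comp_apply, ← hy, map_smul, smul_smul]
      obtain ⟨⟨_, m, rfl⟩, hm⟩ := (IsLocalizedModule.eq_iff_exists (Submonoid.powers (f i * f j)) (gij i j)).1
        (show gij i j (f j ^ N • y i) = gij i j (f i ^ N • y j) by rw [e1, e2, hs i j, mul_comm])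
      exact ⟨m, by rw [smul_sub, sub_eq_zero]; exact hm⟩
    choose m hm using h
    let K := Finset.univ.sup fun p : ι × ι => m p.1 p.2
    have hK : ∀ i j, f j ^ (K + N) • (f i ^ K • y i) = f i ^ (K + N) • (f j ^ K • y j) := fun i j => by
      obtain ⟨r, hr⟩ := Nat.exists_eq_add_of_le
        (Finset.le_sup (f := fun p : ι × ι => m p.1 p.2) (Finset.mem_univ (i, j)))
      have h1 : (f i * f j) ^ K • (f j ^ N • y i - f i ^ N • y j) = 0 := by
        rw [show K = r + m i j from hr.trans (add_comm _ _), pow_add, mul_smul, hm, smul_zero]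
      rw [smul_sub, sub_eq_zero, smul_smul, smul_smul] at h1
      rw [smul_smul, smul_smul]
      convert h1 using 2 <;> ring
    obtain ⟨a, ha⟩ := hpow (K + N)
    refine ⟨∑ j, a j • f j ^ K • y j, fun i => hcancel i (K + N) _ _ ?_⟩
    have e : f i ^ (K + N) • (∑ j, a j • f j ^ K • y j) = f i ^ K • y i := by
      rw [Finset.smul_sum]
      calc ∑ j, f i ^ (K + N) • a j • f j ^ K • y j
          = ∑ j, (a j * f j ^ (K + N)) • (f i ^ K • y i) :=
            Finset.sum_congr rfl fun j _ => by rw [smul_comm, ← hK, smul_smul]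
        _ = _ := by rw [← Finset.sum_smul, ha, one_smul]
    rw [← map_smul, e, map_smul, ← hy, smul_smul, ← pow_add]
end Groth.Agent.S9658
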