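import Groth.Statements.S9659
import Mathlib

set_option autoImplicit false
universe u
open CAlg

namespace Groth.Agent.S9659

/-- Let S be a ℤ-graded ring which contains an invertible homogeneous element of positive degree. Then
the set of homogeneous prime ideals of S, with the topology induced from Spec(S), maps
homeomorphically onto Spec(S₀) by p ↦ p ∩ S₀. -/
theorem result {R S : Type u} [CommRing R] [CommRing S] [Algebra R S] (𝒜 : ℤ → Submodule R S) [GradedAlgebra 𝒜]
    (f : S) (d : ℤ) (hd : 0 < d) (hf : f ∈ 𝒜 d) (hu : IsUnit f) :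
    IsHomeomorph (fun p : {p : PrimeSpectrum S // p.asIdeal.IsHomogeneous 𝒜} => PrimeSpectrum.comap (SetLike.GradeZero.subring 𝒜).subtype p.1) := by
  classical
  set S0 := SetLike.GradeZero.subring 𝒜 with hS0
  obtain ⟨u, rfl⟩ := hu
  -- powers of the unit are homogeneous
  have hinv : (↑u⁻¹ : S) ∈ 𝒜 (-d) := by
    have h1 : (DirectSum.decompose 𝒜 ((u : S) * ↑u⁻¹) (d + -d) : S) = u * DirectSum.decompose 𝒜 (↑u⁻¹ : S) (-d) :=
      DirectSum.coe_decompose_mul_add_of_left_mem 𝒜 hf
    rw [Units.mul_inv, add_neg_cancel, DirectSum.decompose_of_mem_same 𝒜 SetLike.GradedOne.one_mem] at h1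
    have h2 : (DirectSum.decompose 𝒜 (↑u⁻¹ : S) (-d) : S) = ↑u⁻¹ := by
      rw [← Units.inv_mul_cancel_left u (DirectSum.decompose 𝒜 (↑u⁻¹ : S) (-d) : S), ← h1, mul_one]
    exact h2 ▸ SetLike.coe_mem _
  have hzpow : ∀ k : ℤ, ((u ^ k : Sˣ) : S) ∈ 𝒜 (k * d) := by
    intro k
    induction k using Int.induction_on with
    | zero => simpa using SetLike.GradedOne.one_mem
    | succ n ih =>
      rw [zpow_add_one, Units.val_mul, add_mul, one_mul]
      exact SetLike.mul_mem_graded ih hf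
    | pred n ih =>
      rw [zpow_sub_one, Units.val_mul, sub_mul, one_mul, sub_eq_add_neg]
      exact SetLike.mul_mem_graded ih hinv
  obtain ⟨D, rfl⟩ : ∃ D : ℕ, d = D := ⟨d.toNat, (Int.toNat_of_nonneg hd.le).symm⟩
  have hD : 0 < D := by exact_mod_cast hd
  -- normalisation of a homogeneous element
  have hnorm : ∀ (i : ℤ) (x : S), x ∈ 𝒜 i → x ^ D * ((u ^ (-i) : Sˣ) : S) ∈ S0 := by
    intro i x hx
    show _ ∈ 𝒜 0
    have := SetLike.mul_mem_graded (SetLike.pow_mem_graded D hx) (hzpow (-i))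
    rw [nsmul_eq_mul, show (D : ℤ) * i + -i * D = 0 by ring] at this
    exact this
  have hcoe : ∀ z : S0, (z : S) ∈ 𝒜 0 := fun z => z.2
  -- membership of homogeneous elements
  have hmem : ∀ (Q : Ideal S) [Q.IsPrime] (i : ℤ) (x : S) (hx : x ∈ 𝒜 i),
      x ∈ Q ↔ (⟨_, hnorm i x hx⟩ : S0) ∈ Q.comap S0.subtype := by
    intro Q hQ i x hx
    rw [Ideal.mem_comap]
    constructor
    · exact fun h => Q.mul_mem_right _ (Q.pow_mem_of_mem h D hD)
    · intro h
      exact hQ.mem_of_pow_mem D (((hQ.mem_or_mem h).resolve_right fun h' =>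
        hQ.ne_top (Ideal.eq_top_of_isUnit_mem _ h' (Units.isUnit _))))
  let F := fun p : {p : PrimeSpectrum S // p.asIdeal.IsHomogeneous 𝒜} => PrimeSpectrum.comap S0.subtype p.1
  have hinj : Function.Injective F := by
    intro p q hpq
    have h := congrArg PrimeSpectrum.asIdeal hpq
    change p.1.asIdeal.comap S0.subtype = q.1.asIdeal.comap S0.subtype at h
    refine Subtype.ext (PrimeSpectrum.ext (Ideal.ext fun x => ?_))
    rw [p.2.mem_iff, q.2.mem_iff]
    refine forall_congr' fun i => ?_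
    rw [hmem p.1.asIdeal i _ (SetLike.coe_mem _), hmem q.1.asIdeal i _ (SetLike.coe_mem _), h]
  have hsurj : Function.Surjective F := by
    intro p
    set J := Ideal.span (S0.subtype '' (p.asIdeal : Set S0)) with hJ
    have hJh : J.IsHomogeneous 𝒜 := Ideal.homogeneous_span _ _ (by
      rintro _ ⟨z, _, rfl⟩; exact ⟨0, hcoe z⟩)
    have hkey : ∀ x ∈ J, (⟨(DirectSum.decompose 𝒜 x 0 : S), SetLike.coe_mem _⟩ : S0) ∈ p.asIdeal := by
      intro x hx
      induction hx using Submodule.span_induction with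
      | mem y hy =>
        obtain ⟨z, hz, rfl⟩ := hy
        have e : (⟨(DirectSum.decompose 𝒜 (S0.subtype z) 0 : S), SetLike.coe_mem _⟩ : S0) = z :=
          Subtype.ext (DirectSum.decompose_of_mem_same 𝒜 (hcoe z))
        rw [e]; exact hz
      | zero => convert p.asIdeal.zero_mem using 1; exact Subtype.ext (by simp)
      | add a b _ _ ha hb => convert p.asIdeal.add_mem ha hb using 1; exact Subtype.ext (by simp; rfl)
      | smul c a ha' ha =>
        clear ha
        induction ha' using Submodule.span_induction generalizing c with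
        | mem y hy =>
          obtain ⟨z, hz, rfl⟩ := hy
          convert p.asIdeal.mul_mem_right ⟨(DirectSum.decompose 𝒜 c 0 : S), SetLike.coe_mem _⟩ hz using 1
          refine Subtype.ext ?_
          show (DirectSum.decompose 𝒜 (c * (z : S)) 0 : S) = (z : S) * _
          rw [mul_comm c, DirectSum.coe_decompose_mul_of_left_mem_zero 𝒜 (hcoe z)]
        | zero => convert p.asIdeal.zero_mem using 1; exact Subtype.ext (by simp)
        | add a b _ _ ha hb =>
          convert p.asIdeal.add_mem (ha c) (hb c) using 1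
          exact Subtype.ext (by simp [mul_add]; rfl)
        | smul e a _ ha =>
          convert ha (c * e) using 1
          exact Subtype.ext (by simp [mul_assoc])
    have hJ0 : ∀ z : S0, (z : S) ∈ J ↔ z ∈ p.asIdeal := fun z => ⟨fun h => by
      convert hkey _ h using 1
      exact Subtype.ext (DirectSum.decompose_of_mem_same 𝒜 (hcoe z)).symm, fun h => Ideal.subset_span ⟨z, h, rfl⟩⟩
    have hrad0 : ∀ z : S0, (z : S) ∈ J.radical ↔ z ∈ p.asIdeal := fun z => ⟨fun ⟨n, hn⟩ =>
      p.2.mem_of_pow_mem n ((hJ0 (z ^ n)).1 (by rwa [SubmonoidClass.coe_pow])), fun h => Ideal.le_radical ((hJ0 z).2 h)⟩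
    have hradmem : ∀ (i : ℤ) (x : S) (hx : x ∈ 𝒜 i), x ∈ J.radical ↔ (⟨_, hnorm i x hx⟩ : S0) ∈ p.asIdeal := by
      intro i x hx
      rw [← hrad0]
      constructor
      · exact fun h => Ideal.mul_mem_right _ _ (Ideal.pow_mem_of_mem _ h D hD)
      · intro h
        have := Ideal.mul_mem_right ((u ^ i : Sˣ) : S) _ h
        rw [mul_assoc, ← Units.val_mul, ← zpow_add, neg_add_cancel, zpow_zero, Units.val_one, mul_one] at this
        obtain ⟨n, hn⟩ := this
        exact ⟨D * n, by rwa [pow_mul]⟩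
    have hne : J.radical ≠ ⊤ := fun h => p.2.ne_top ((Ideal.eq_top_iff_one _).2 ((hrad0 1).1 (by rw [h]; trivial)))
    have hprime : J.radical.IsPrime := (hJh.radical).isPrime_of_homogeneous_mem_or_mem hne (by
      rintro x y ⟨i, hx⟩ ⟨j, hy⟩ hxy
      rw [hradmem _ _ (SetLike.mul_mem_graded hx hy)] at hxy
      have e : (⟨_, hnorm _ _ (SetLike.mul_mem_graded hx hy)⟩ : S0) = ⟨_, hnorm i x hx⟩ * ⟨_, hnorm j y hy⟩ := Subtype.ext (by
        show (x * y) ^ D * _ = x ^ D * _ * (y ^ D * _)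
        rw [neg_add, zpow_add, Units.val_mul]; ring)
      rw [e] at hxy
      exact (p.2.mem_or_mem hxy).imp (hradmem i x hx).2 (hradmem j y hy).2)
    exact ⟨⟨⟨J.radical, hprime⟩, hJh.radical⟩, PrimeSpectrum.ext (Ideal.ext fun z => hrad0 z)⟩
  refine ⟨(PrimeSpectrum.continuous_comap _).comp continuous_subtype_val, fun U hU => ?_, hinj, hsurj⟩
  obtain ⟨V, hV, rfl⟩ := isOpen_induced_iff.1 hU
  rw [isOpen_iff_forall_mem_open]
  rintro _ ⟨P, hP, rfl⟩
  obtain ⟨_, ⟨s, rfl⟩, hPs, hsV⟩ := PrimeSpectrum.isTopologicalBasis_basic_opens.exists_subset_of_mem_open hP hV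
  obtain ⟨i, hi⟩ : ∃ i, (DirectSum.decompose 𝒜 s i : S) ∉ P.1.asIdeal := by
    by_contra h
    push Not at h
    exact hPs (P.2.mem_iff.2 h)
  set z : S0 := ⟨_, hnorm i _ (SetLike.coe_mem (DirectSum.decompose 𝒜 s i))⟩
  refine ⟨PrimeSpectrum.basicOpen z, fun p' hp' => ?_, PrimeSpectrum.isOpen_basicOpen,
    fun h => hi ((hmem P.1.asIdeal i _ (SetLike.coe_mem _)).2 h)⟩
  obtain ⟨Q, rfl⟩ := hsurj p'
  refine ⟨Q, hsV fun h => hp' ?_, rfl⟩
  exact (hmem Q.1.asIdeal i _ (SetLike.coe_mem _)).1 (Q.2.mem_iff.1 h i)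

end Groth.Agent.S9659
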