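import Groth.Statements.S9660
import Mathlib
-- import your own Groth.Agent.* helpers here

set_option autoImplicit false
universe u
open CAlg

namespace Groth.Agent.S9660

/-- Let S be an ℕ-graded ring and I a homogeneous ideal of S. Then V₊(I) ⊆ Proj(S) is empty if and only
if S₊ ⊆ √I. -/
theorem result {R S : Type u} [CommRing R] [CommRing S] [Algebra R S] (𝒜 : ℕ → Submodule R S) [GradedAlgebra 𝒜] (I : HomogeneousIdeal 𝒜) :
    ProjectiveSpectrum.zeroLocus 𝒜 (I : Set S) = ∅ ↔ (HomogeneousIdeal.irrelevant 𝒜).toIdeal ≤ I.toIdeal.radical := by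
  constructor
  · intro h
    refine fun x hx => ?_
    rw [Ideal.radical_eq_sInf]
    refine Submodule.mem_sInf.mpr fun p ⟨hIp, hp⟩ => ?_
    have hcore : I.toIdeal ≤ (Ideal.homogeneousCore 𝒜 p).toIdeal := by
      intro y hy
      classical
      rw [← DirectSum.sum_support_decompose 𝒜 y]
      refine Ideal.sum_mem _ fun i _ => Ideal.subset_span ?_
      exact ⟨⟨_, ⟨i, SetLike.coe_mem _⟩⟩, hIp (I.is_homogeneous' i hy), rfl⟩
    by_cases hirr : HomogeneousIdeal.irrelevant 𝒜 ≤ Ideal.homogeneousCore 𝒜 p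
    · exact Ideal.toIdeal_homogeneousCore_le 𝒜 p (hirr hx)
    · exact absurd (show (⟨Ideal.homogeneousCore 𝒜 p, hp.homogeneousCore, hirr⟩ : ProjectiveSpectrum 𝒜) ∈
        ProjectiveSpectrum.zeroLocus 𝒜 (I : Set S) from fun z hz => hcore hz) (by rw [h]; exact Set.notMem_empty _)
  · intro h
    refine Set.eq_empty_iff_forall_notMem.mpr fun q hq => q.not_irrelevant_le ?_
    intro z hz
    exact (q.isPrime.radical_le_iff.mpr hq) (h hz)

end Groth.Agent.S9660
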