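import Groth.Statements.S9662
import Groth.Agent.GrK0Poly.Main
-- import your own Groth.Agent.* helpers here

set_option autoImplicit false
universe u
open CategoryTheory
open CAlg

namespace Groth.Agent.S9662

/-- Let S be a Noetherian ℕ-graded ring, presented as a graded algebra over a ring A mapping onto S₀,
whose irrelevant ideal S₊ is generated as an ideal by the degree-1 part S₁, and let M be a finitely
generated graded S-module, graded in nonnegative degrees. (The published statement allows modules
graded in all integer degrees; this row takes modules graded in degrees ≥ 0, which loses nothing for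
large n.) Write K'₀(A) for the Grothendieck group of finite A-modules (the free abelian group on the
finite A-modules modulo the relations given by short exact sequences) and [M_n] for the class of the
finite A-module M_n. Then n ↦ [M_n] is a numerical polynomial: there are a_0, …, a_{r-1} in K'₀(A)
with [M_n] = Σ_i C(n, i) · a_i for all large n. (When A → S₀ is bijective K'₀(A) is K'₀(S₀), the
group of the published statement; in general the classes are taken after restricting scalars along A
→ S₀.) -/
theorem result {A S : Type u} [CommRing A] [CommRing S] [Algebra A S] [IsNoetherianRing S] (𝒜 : ℕ → Submodule A S) [GradedAlgebra 𝒜]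
    (h0 : ∀ s ∈ 𝒜 0, s ∈ Set.range (algebraMap A S))
    (h1 : (HomogeneousIdeal.irrelevant 𝒜).toIdeal = Ideal.span (𝒜 1 : Set S))
    (M : Type u) [AddCommGroup M] [Module A M] [Module S M] [IsScalarTower A S M] [Module.Finite S M] (ℳ : ℕ → Submodule A M) [DirectSum.Decomposition ℳ] [SetLike.GradedSMul 𝒜 ℳ] :
    ∃ (r : ℕ) (a : Fin r → KZero.K0sub (fun X : ModuleCat.{u} A => Module.Finite A X)) (N : ℕ), ∀ n : ℕ, N ≤ n →
      KZero.clSub (fun X : ModuleCat.{u} A => Module.Finite A X) (ModuleCat.of A ↥(ℳ n)) = ∑ i : Fin r, ((n.choose (i : ℕ) : ℕ) : ℤ) • a i := by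
  classical
  have hfg : (Submodule.span S (𝒜 1 : Set S)).FG := IsNoetherian.noetherian _
  obtain ⟨s, hs, hspan⟩ := (Submodule.fg_span_iff_fg_span_finset_subset _).1 hfg
  let x : Fin s.card → S := fun j => (s.equivFin.symm j : S)
  have hx : ∀ j, x j ∈ 𝒜 1 := fun j => hs (s.equivFin.symm j).2
  have hrange : Set.range x = (s : Set S) := by
    ext y
    constructor
    · rintro ⟨j, rfl⟩; exact (s.equivFin.symm j).2
    · intro hy; exact ⟨s.equivFin ⟨y, hy⟩, by simp [x]⟩
  have hirr : (HomogeneousIdeal.irrelevant 𝒜).toIdeal = Ideal.span (Set.range x) := by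
    rw [h1, hrange]; exact hspan
  have hmain := GrK0Poly.isPolyFn_main 𝒜 ℳ x h0 hx hirr s.card ⊥ ⊤
    (fun y hy n => by rw [(Submodule.mem_bot S).1 hy, map_zero]; exact zero_mem _) (fun _ _ _ => trivial) bot_le
    (fun j hj => absurd j.isLt (by omega))
  obtain ⟨a, N, ha⟩ := hmain.eq_sum
  refine ⟨s.card, fun i => a i, N, fun n hn => ?_⟩
  have hbot : GrK0Poly.part ℳ n (⊥ : Submodule S M) = ⊥ := by
    ext y; simp [GrK0Poly.mem_part]; rintro rfl; exact zero_mem _
  have htop : GrK0Poly.part ℳ n (⊤ : Submodule S M) = ℳ n := by
    ext y; simp [GrK0Poly.mem_part]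
  have h := ha n hn
  simp only [hbot, htop] at h
  have hz : GrK0Poly.chi (⊥ : Submodule A M) = 0 := by
    have h2 := GrK0Poly.clSub_add (LinearMap.id (R := A) (M := (⊥ : Submodule A M))) (LinearMap.id (R := A) (M := (⊥ : Submodule A M)))
      Function.injective_id Function.surjective_id fun y => by simp [Subsingleton.elim y 0]
    simpa [GrK0Poly.chi] using h2
  rw [hz, sub_zero] at h
  rw [Finset.sum_range] at h
  exact h
end Groth.Agent.S9662
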