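import Groth.Statements.S9663
import Mathlib
-- import your own Groth.Agent.* helpers here

set_option autoImplicit false
universe u
open CAlg

namespace Groth.Agent.S9663

theorem aux {R : Type u} [CommRing R] {ι : Type u} [Finite ι] (f : ι → R)
    (Mi : ι → Type u) [∀ i, AddCommGroup (Mi i)] [∀ i, Module R (Mi i)]
    (hMi : ∀ i, IsUnit (algebraMap R (Module.End R (Mi i)) (f i)))
    (Mij : ι → ι → Type u) [∀ i j, AddCommGroup (Mij i j)] [∀ i j, Module R (Mij i j)]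
    (g : ∀ i j, Mi i →ₗ[R] Mij i j) [∀ i j, IsLocalizedModule (Submonoid.powers (f j)) (g i j)]
    (ψ : ∀ i j, Mij i j ≃ₗ[R] Mij j i)
    (T : ι → ι → ι → Type u) [∀ i j k, AddCommGroup (T i j k)] [∀ i j k, Module R (T i j k)]
    (t : ∀ i j k, Mi i →ₗ[R] T i j k) [∀ i j k, IsLocalizedModule (Submonoid.powers (f j * f k)) (t i j k)]
    (u : ∀ i j k, Mij i j →ₗ[R] T i j k) (hu : ∀ i j k, u i j k ∘ₗ g i j = t i j k)
    (v : ∀ i j k, Mij i k →ₗ[R] T i j k) (hv : ∀ i j k, v i j k ∘ₗ g i k = t i j k)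
    (Ψ₁ : ∀ i j k, T i j k →ₗ[R] T j i k) (hΨ₁ : ∀ i j k, Ψ₁ i j k ∘ₗ u i j k = u j i k ∘ₗ (ψ i j).toLinearMap)
    (Ψ₂ : ∀ i j k, T j i k →ₗ[R] T k i j) (hΨ₂ : ∀ i j k, Ψ₂ i j k ∘ₗ v j i k = v k i j ∘ₗ (ψ j k).toLinearMap)
    (Ψ₃ : ∀ i j k, T i j k →ₗ[R] T k i j) (hΨ₃ : ∀ i j k, Ψ₃ i j k ∘ₗ v i j k = u k i j ∘ₗ (ψ i k).toLinearMap)
    (hcoc : ∀ i j k, Ψ₂ i j k ∘ₗ Ψ₁ i j k = Ψ₃ i j k)
    (M : Submodule R (∀ i, Mi i)) (hM : ∀ m : ∀ i, Mi i, m ∈ M ↔ ∀ i j, g i j (m i) = ψ j i (g j i (m j))) (i : ι) :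
    IsLocalizedModule (Submonoid.powers (f i)) ((LinearMap.proj i).comp M.subtype : ↥M →ₗ[R] Mi i) := by
  classical
  have := Fintype.ofFinite ι
  have hsmul : ∀ (a : ι) (n : ℕ) (x y : Mi a), f a ^ n • x = f a ^ n • y → x = y := by
    intro a n x y h
    have hu' : IsUnit (algebraMap R (Module.End R (Mi a)) (f a ^ n)) := by
      rw [map_pow]; exact (hMi a).pow n
    exact ((Module.End.isUnit_iff _).1 hu').1 h
  have hsmul2 : ∀ (a b : ι) (n : ℕ) (x y : Mij a b), f b ^ n • x = f b ^ n • y → x = y := by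
    intro a b n x y h
    exact ((Module.End.isUnit_iff _).1
      (IsLocalizedModule.map_units (g a b) (⟨f b ^ n, n, rfl⟩ : Submonoid.powers (f b)))).1 h
  -- elements killed by `v` are killed by a power of `f i`
  have hkill : ∀ (a b c : ι) (d : Mij a c), v a b c d = 0 → ∃ n : ℕ, f b ^ n • d = 0 := by
    intro a b c d hd
    obtain ⟨⟨z, ⟨_, m, rfl⟩⟩, hz⟩ := IsLocalizedModule.surj (Submonoid.powers (f c)) (g a c) d
    have hz' : f c ^ m • d = g a c z := hz
    have h1 : t a b c z = t a b c 0 := by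
      rw [map_zero, ← hv, LinearMap.comp_apply, ← hz', map_smul, hd, smul_zero]
    obtain ⟨⟨_, n, rfl⟩, hn⟩ :=
      (IsLocalizedModule.eq_iff_exists (Submonoid.powers (f b * f c)) (t a b c)).1 h1
    have hn' : (f b * f c) ^ n • z = 0 := by simpa [Submonoid.smul_def] using hn
    refine ⟨n, hsmul2 a c (m + n) _ _ ?_⟩
    rw [smul_zero, ← map_zero (g a c), ← hn', map_smul, ← hz', smul_smul, smul_smul]
    congr 1
    ring
  have hψid : ∀ (a : ι) (w : Mij a a), ψ a a w = w := by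
    intro a w
    have hg : Function.Surjective (g a a) := by
      intro d
      obtain ⟨⟨z, ⟨_, m, rfl⟩⟩, hz⟩ := IsLocalizedModule.surj (Submonoid.powers (f a)) (g a a) d
      have hu' : IsUnit (algebraMap R (Module.End R (Mi a)) (f a ^ m)) := by
        rw [map_pow]; exact (hMi a).pow m
      obtain ⟨z', hz'⟩ := ((Module.End.isUnit_iff _).1 hu').2 z
      refine ⟨z', hsmul2 a a m _ _ ?_⟩
      rw [← map_smul]
      exact (congrArg (g a a) hz').trans hz.symm
    have huv : u a a a = v a a a := LinearMap.ext fun d => by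
      obtain ⟨z, rfl⟩ := hg d
      rw [← LinearMap.comp_apply, ← LinearMap.comp_apply, hu, hv]
    have h1 := LinearMap.congr_fun (hcoc a a a) (v a a a w)
    rw [LinearMap.comp_apply] at h1
    have h3 : Ψ₃ a a a (v a a a w) = v a a a (ψ a a w) := by
      rw [← LinearMap.comp_apply, hΨ₃, LinearMap.comp_apply, huv]; rfl
    have h4 : Ψ₁ a a a (v a a a w) = v a a a (ψ a a w) := by
      conv_lhs => rw [← huv, ← LinearMap.comp_apply, hΨ₁, LinearMap.comp_apply, huv]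
      rfl
    have h5 : Ψ₂ a a a (v a a a (ψ a a w)) = v a a a (ψ a a (ψ a a w)) := by
      rw [← LinearMap.comp_apply, hΨ₂]; rfl
    rw [h4, h3, h5] at h1
    obtain ⟨n, hn⟩ := hkill a a a (ψ a a (ψ a a w) - ψ a a w) (by rw [map_sub, h1, sub_self])
    have h6 : ψ a a (ψ a a w) = ψ a a w := sub_eq_zero.1 (hsmul2 a a n _ _ (by rw [hn, smul_zero]))
    exact (ψ a a).injective h6
  constructor
  · rintro ⟨_, n, rfl⟩
    rw [map_pow]
    exact (hMi i).pow n
  · intro x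
    have hlift : ∀ a, ∃ (n : ℕ) (z : Mi a), g a i z = f i ^ n • ψ i a (g i a x) := by
      intro a
      obtain ⟨⟨z, ⟨_, n, rfl⟩⟩, hz⟩ :=
        IsLocalizedModule.surj (Submonoid.powers (f i)) (g a i) (ψ i a (g i a x))
      exact ⟨n, z, hz.symm⟩
    choose n z hz using hlift
    let N := Finset.univ.sup n
    obtain ⟨y, hy⟩ : ∃ y : ∀ a, Mi a, ∀ a, g a i (y a) = f i ^ N • ψ i a (g i a x) :=
      ⟨fun a => f i ^ (N - n a) • z a, fun a => by
        rw [map_smul, hz, smul_smul, ← pow_add,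
          Nat.sub_add_cancel (Finset.le_sup (Finset.mem_univ a))]⟩
    have hcompat : ∀ a b, ∃ m : ℕ, f i ^ m • (g a b (y a) - ψ b a (g b a (y b))) = 0 := by
      intro a b
      refine hkill a i b _ ?_
      -- cocycle for `(i, b, a)`
      have h1 := LinearMap.congr_fun (hcoc i b a) (t i b a (f i ^ N • x))
      rw [LinearMap.comp_apply] at h1
      have e1 : Ψ₁ i b a (t i b a (f i ^ N • x)) = v b i a (g b a (y b)) := by
        rw [← LinearMap.comp_apply (v b i a), hv, ← hu i b a, LinearMap.comp_apply,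
          ← LinearMap.comp_apply (Ψ₁ i b a), hΨ₁, LinearMap.comp_apply, ← hu b i a,
          LinearMap.comp_apply, hy]
        simp [map_smul]
      have e2 : Ψ₃ i b a (t i b a (f i ^ N • x)) = v a i b (g a b (y a)) := by
        rw [← LinearMap.comp_apply (v a i b), hv, ← hv i b a, LinearMap.comp_apply,
          ← LinearMap.comp_apply (Ψ₃ i b a), hΨ₃, LinearMap.comp_apply, ← hu a i b,
          LinearMap.comp_apply, hy]
        simp [map_smul]
      have e3 : Ψ₂ i b a (v b i a (g b a (y b))) = v a i b (ψ b a (g b a (y b))) := by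
        rw [← LinearMap.comp_apply (Ψ₂ i b a), hΨ₂]; rfl
      rw [e1, e2, e3] at h1
      rw [map_sub, h1, sub_self]
    choose m hm using hcompat
    let L := Finset.univ.sup fun p : ι × ι => m p.1 p.2
    have hmem : (fun a => f i ^ L • y a) ∈ M := by
      rw [hM]
      intro a b
      rw [map_smul, map_smul, map_smul, ← sub_eq_zero, ← smul_sub]
      obtain ⟨r, hr⟩ := Nat.exists_eq_add_of_le
        (Finset.le_sup (f := fun p : ι × ι => m p.1 p.2) (Finset.mem_univ (a, b)))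
      rw [show L = r + m a b from hr.trans (add_comm _ _), pow_add, mul_smul, hm, smul_zero]
    refine ⟨⟨⟨_, hmem⟩, ⟨f i ^ (L + N), L + N, rfl⟩⟩, ?_⟩
    change f i ^ (L + N) • x = f i ^ L • y i
    have hyi : g i i (y i) = g i i (f i ^ N • x) := by rw [hy, hψid, map_smul]
    obtain ⟨⟨_, r, rfl⟩, hr⟩ :=
      (IsLocalizedModule.eq_iff_exists (Submonoid.powers (f i)) (g i i)).1 hyi
    rw [pow_add, mul_smul, hsmul i r _ _ hr]
  · intro m₁ m₂ h
    have h0 : (m₁.1 - m₂.1) i = 0 := sub_eq_zero.2 h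
    have hd : m₁.1 - m₂.1 ∈ M := M.sub_mem m₁.2 m₂.2
    have hz : ∀ a, ∃ n : ℕ, f i ^ n • (m₁.1 - m₂.1) a = 0 := by
      intro a
      have h1 := (hM _).1 hd a i
      rw [h0, map_zero, map_zero, ← map_zero (g a i)] at h1
      obtain ⟨⟨_, n, rfl⟩, hn⟩ :=
        (IsLocalizedModule.eq_iff_exists (Submonoid.powers (f i)) (g a i)).1 h1
      exact ⟨n, by simpa [Submonoid.smul_def] using hn⟩
    choose n hn using hz
    refine ⟨⟨f i ^ Finset.univ.sup n, Finset.univ.sup n, rfl⟩, Subtype.ext (funext fun a => ?_)⟩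
    change f i ^ Finset.univ.sup n • m₁.1 a = f i ^ Finset.univ.sup n • m₂.1 a
    rw [← sub_eq_zero, ← smul_sub, ← Nat.sub_add_cancel (Finset.le_sup (Finset.mem_univ a) :
      n a ≤ Finset.univ.sup n), pow_add, mul_smul, ← Pi.sub_apply, hn, smul_zero]

end Groth.Agent.S9663

namespace Groth.Agent.S9663

/-- Let R be a ring and f_i, i in a finite index set, elements of R (no condition on the ideal they
generate). Suppose given for each i an R-module M_i on which f_i acts invertibly, for each pair (i,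
j) an R-linear isomorphism ψ_ij : (M_i)_{f_j} → (M_j)_{f_i}, and suppose the cocycle condition ψ_jk
∘ ψ_ij = ψ_ik holds as maps (M_i)_{f_j f_k} → (M_k)_{f_i f_j} for all triples (i, j, k). All
localizations are given through their universal properties: (M_i)_{f_j} with its map g from M_i;
(M_i)_{f_j f_k} with its map t from M_i and the compatible maps u from (M_i)_{f_j} and v from
(M_i)_{f_k}; and the three localized isomorphisms Ψ₁ (ψ_ij on (M_i)_{f_j f_k}), Ψ₂ (ψ_jk on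
(M_j)_{f_i f_k}) and Ψ₃ (ψ_ik on (M_i)_{f_j f_k}) are given as maps compatible with the ψ's. Let M ⊆
Π_i M_i be the submodule of families (m_i) with m_i/1 = ψ_ji(m_j/1) in (M_i)_{f_j} for all i, j.
Then for each i the projection M → M_i exhibits M_i as the localization of M at f_i. -/
theorem result {R : Type u} [CommRing R] {ι : Type u} [Finite ι] (f : ι → R)
    (Mi : ι → Type u) [∀ i, AddCommGroup (Mi i)] [∀ i, Module R (Mi i)]
    (hMi : ∀ i, IsUnit (algebraMap R (Module.End R (Mi i)) (f i)))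
    (Mij : ι → ι → Type u) [∀ i j, AddCommGroup (Mij i j)] [∀ i j, Module R (Mij i j)]
    (g : ∀ i j, Mi i →ₗ[R] Mij i j) [∀ i j, IsLocalizedModule (Submonoid.powers (f j)) (g i j)]
    (ψ : ∀ i j, Mij i j ≃ₗ[R] Mij j i)
    (T : ι → ι → ι → Type u) [∀ i j k, AddCommGroup (T i j k)] [∀ i j k, Module R (T i j k)]
    (t : ∀ i j k, Mi i →ₗ[R] T i j k) [∀ i j k, IsLocalizedModule (Submonoid.powers (f j * f k)) (t i j k)]
    (u : ∀ i j k, Mij i j →ₗ[R] T i j k) (hu : ∀ i j k, u i j k ∘ₗ g i j = t i j k)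
    (v : ∀ i j k, Mij i k →ₗ[R] T i j k) (hv : ∀ i j k, v i j k ∘ₗ g i k = t i j k)
    (Ψ₁ : ∀ i j k, T i j k →ₗ[R] T j i k) (hΨ₁ : ∀ i j k, Ψ₁ i j k ∘ₗ u i j k = u j i k ∘ₗ (ψ i j).toLinearMap)
    (Ψ₂ : ∀ i j k, T j i k →ₗ[R] T k i j) (hΨ₂ : ∀ i j k, Ψ₂ i j k ∘ₗ v j i k = v k i j ∘ₗ (ψ j k).toLinearMap)
    (Ψ₃ : ∀ i j k, T i j k →ₗ[R] T k i j) (hΨ₃ : ∀ i j k, Ψ₃ i j k ∘ₗ v i j k = u k i j ∘ₗ (ψ i k).toLinearMap)
    (hcoc : ∀ i j k, Ψ₂ i j k ∘ₗ Ψ₁ i j k = Ψ₃ i j k)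
    (M : Submodule R (∀ i, Mi i)) (hM : ∀ m : ∀ i, Mi i, m ∈ M ↔ ∀ i j, g i j (m i) = ψ j i (g j i (m j))) (i : ι) :
    IsLocalizedModule (Submonoid.powers (f i)) ((LinearMap.proj i).comp M.subtype : ↥M →ₗ[R] Mi i) := by
  exact aux f Mi hMi Mij g ψ T t u hu v hv Ψ₁ hΨ₁ Ψ₂ hΨ₂ Ψ₃ hΨ₃ hcoc M hM i

end Groth.Agent.S9663
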