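import Groth.Statements.S9665
import Mathlib
import Groth.Agent.H2Ass.Fibre
-- import your own Groth.Agent.* helpers here

set_option autoImplicit false
universe u
open CAlg

namespace Groth.Agent.S9665

/-- Part (2): (A_fin ⊆ A): let R → S be a ring map, N an S-module, q a prime of S and p the prime of R
below q; an associated prime of a module is a prime ideal equal to the annihilator of some element.
If q is an associated prime of the S-module N/pN, then q is an associated prime of the S-module N
⊗_R κ(p) (the fibre module over p, an S-module by restriction of scalars). -/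
theorem result {R S : Type u} [CommRing R] [CommRing S] [Algebra R S] (N : Type u) [AddCommGroup N] [Module S N] [Module R N] [IsScalarTower R S N]
    (p : Ideal R) [p.IsPrime] (q : Ideal S) [q.IsPrime] (hq : q.comap (algebraMap R S) = p)
    (h : q ∈ FlatCA.ass S (N ⧸ (p.map (algebraMap R S)) • (⊤ : Submodule S N))) :
    q ∈ FlatCA.ass S (FlatCA.fiberMod p S N) := by
  obtain ⟨hqp, z, hz⟩ := h
  obtain ⟨n, rfl⟩ := Submodule.Quotient.mk_surjective _ z
  refine ⟨hqp, FlatCA.toFiberMod p S N n, ?_⟩
  ext a
  rw [Submodule.mem_annihilator_span_singleton, hz, Submodule.mem_annihilator_span_singleton, ← map_smul,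
    ← Submodule.Quotient.mk_smul, Submodule.Quotient.mk_eq_zero]
  refine ⟨Groth.Agent.H2Ass.toFiber_quot N p _, fun h0 => ?_⟩
  obtain ⟨r, hr, hrn⟩ := Groth.Agent.H2Ass.toFiber_kill (S := S) N p _ h0
  have h1 : algebraMap R S r * a ∈ q := by
    rw [hz, Submodule.mem_annihilator_span_singleton, ← Submodule.Quotient.mk_smul, Submodule.Quotient.mk_eq_zero,
      mul_smul, IsScalarTower.algebraMap_smul]
    exact hrn
  have hrq : algebraMap R S r ∉ q := by rw [← Ideal.mem_comap, hq]; exact hr
  have h2 : a ∈ q := (hqp.mem_or_mem h1).resolve_left hrq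
  rw [hz, Submodule.mem_annihilator_span_singleton, ← Submodule.Quotient.mk_smul, Submodule.Quotient.mk_eq_zero] at h2
  exact h2
end Groth.Agent.S9665
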