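import Groth.Statements.S9666
import Mathlib
import Groth.Agent.H2Ass.Fibre
-- import your own Groth.Agent.* helpers here

set_option autoImplicit false
universe u
open CAlg

namespace Groth.Agent.S9666

/-- Part (3): (A ⊆ A_fin): let R → S be a ring map with S Noetherian, N an S-module, q a prime of S and
p the prime of R below q; an associated prime of a module is a prime ideal equal to the annihilator
of some element. If q is an associated prime of the S-module N ⊗_R κ(p) (the fibre module over p, an
S-module by restriction of scalars), then q is an associated prime of the S-module N/pN. -/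
theorem result {R S : Type u} [CommRing R] [CommRing S] [Algebra R S] (N : Type u) [AddCommGroup N] [Module S N] [Module R N] [IsScalarTower R S N] [IsNoetherianRing S]
    (p : Ideal R) [p.IsPrime] (q : Ideal S) [q.IsPrime] (hq : q.comap (algebraMap R S) = p)
    (h : q ∈ FlatCA.ass S (FlatCA.fiberMod p S N)) :
    q ∈ FlatCA.ass S (N ⧸ (p.map (algebraMap R S)) • (⊤ : Submodule S N)) := by
  obtain ⟨hqp, y, hy⟩ := h
  obtain ⟨r₀, hr₀, n, hn⟩ := Groth.Agent.S9669.exists_smul_eq N p y
  have hnq : ∀ a : S, a ∈ q ↔ FlatCA.toFiberMod p S N (a • n) = 0 := fun a => by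
    rw [map_smul, ← hn, smul_comm, hy, Submodule.mem_annihilator_span_singleton]
    exact ⟨fun h => by rw [h, smul_zero], fun h => Groth.Agent.S9669.torsionFree N p r₀ hr₀ _ h⟩
  obtain ⟨T, hT⟩ := (IsNoetherian.noetherian q : q.FG)
  have hkill : ∀ U : Finset S, (∀ a ∈ U, a ∈ q) → ∃ r ∉ p, ∀ a ∈ U,
      r • (a • n) ∈ (p.map (algebraMap R S)) • (⊤ : Submodule S N) := by
    classical
    intro U
    induction U using Finset.induction with
    | empty => exact fun _ => ⟨1, p.one_notMem, by simp⟩
    | @insert a U _ ih =>
      intro hU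
      obtain ⟨r, hr, hrU⟩ := ih fun b hb => hU b (Finset.mem_insert_of_mem hb)
      obtain ⟨r', hr', hra⟩ := Groth.Agent.H2Ass.toFiber_kill (S := S) N p _ ((hnq a).1 (hU a (Finset.mem_insert_self _ _)))
      refine ⟨r * r', fun h => ((inferInstance : p.IsPrime).mem_or_mem h).elim hr hr', fun b hb => ?_⟩
      rcases Finset.mem_insert.1 hb with rfl | hb
      · rw [mul_smul]; exact Submodule.smul_of_tower_mem _ r hra
      · rw [mul_comm, mul_smul]; exact Submodule.smul_of_tower_mem _ r' (hrU b hb)
  obtain ⟨r, hr, hrT⟩ := hkill T fun a ha => hT ▸ Submodule.subset_span ha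
  refine ⟨hqp, Submodule.Quotient.mk (algebraMap R S r • n), le_antisymm ?_ ?_⟩
  · rw [← hT, Submodule.span_le]
    intro a ha
    rw [SetLike.mem_coe, Submodule.mem_annihilator_span_singleton, ← Submodule.Quotient.mk_smul, Submodule.Quotient.mk_eq_zero,
      smul_comm, IsScalarTower.algebraMap_smul]
    exact hrT a ha
  · intro a ha
    rw [Submodule.mem_annihilator_span_singleton, ← Submodule.Quotient.mk_smul, Submodule.Quotient.mk_eq_zero, smul_smul] at ha
    have h1 : a * algebraMap R S r ∈ q := (hnq _).2 (Groth.Agent.H2Ass.toFiber_quot N p _ ha)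
    exact (hqp.mem_or_mem h1).resolve_right (by rw [← Ideal.mem_comap, hq]; exact hr)
end Groth.Agent.S9666
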