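import Groth.Statements.S9667
import Mathlib
-- import your own Groth.Agent.* helpers here

set_option autoImplicit false
universe u
open CAlg

open TensorProduct

namespace Groth.Agent.S9667

theorem main {R S : Type u} [CommRing R] [CommRing S] [Algebra R S] (N : Type u) [AddCommGroup N] [Module S N]
    [Module R N] [IsScalarTower R S N] [IsNoetherianRing S]
    (M : Type u) [AddCommGroup M] [Module R M] (q : Ideal S) [q.IsPrime] (h : q ∈ FlatCA.ass S (N ⊗[R] M)) :
    ∃ M' : Submodule R M, M'.FG ∧ q ∈ FlatCA.ass S (N ⊗[R] ↥M') := by
  obtain ⟨hq, x, hxq⟩ := h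
  obtain ⟨M₀, hM₀, hx⟩ := Submodule.exists_fg_le_subset_range_rTensor_subtype (R := R) (M := N)
    ({TensorProduct.comm R N M x} : Set (M ⊗[R] N)) (Set.finite_singleton _)
  obtain ⟨y, hy⟩ := hx rfl
  let y₀ : N ⊗[R] ↥M₀ := TensorProduct.comm R M₀ N y
  have hxy : LinearMap.lTensor N M₀.subtype y₀ = x := by
    apply (TensorProduct.comm R N M).injective
    rw [← hy]
    clear hy
    show TensorProduct.comm R N M (LinearMap.lTensor N M₀.subtype (TensorProduct.comm R M₀ N y)) = _
    induction y with
    | zero => simp
    | tmul a b => simp
    | add a b ha hb => simp only [map_add, ha, hb]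
  obtain ⟨T, hT⟩ := (IsNoetherian.noetherian q : q.FG)
  -- kill all generators at a finite stage
  have key : ∀ U : Finset S, (∀ a ∈ U, a • x = 0) → ∃ (M' : Submodule R M) (hle : M₀ ≤ M'), M'.FG ∧
      ∀ a ∈ U, a • LinearMap.lTensor N (Submodule.inclusion hle) y₀ = 0 := by
    classical
    intro U
    induction U using Finset.induction with
    | empty => exact fun _ => ⟨M₀, le_rfl, hM₀, by simp⟩
    | @insert a U _ ih =>
      intro hU
      obtain ⟨M', hle, hfg, hM'⟩ := ih fun b hb => hU b (Finset.mem_insert_of_mem hb)
      set z := a • LinearMap.lTensor N (Submodule.inclusion hle) y₀ with hz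
      have hz0 : M'.subtype.rTensor N (TensorProduct.comm R N M' z) = M'.subtype.rTensor N 0 := by
        rw [map_zero]
        have h1 : LinearMap.lTensor N M'.subtype z = 0 := by
          have e : LinearMap.lTensor N M'.subtype z = a • x := by
            rw [hz]
            show (TensorProduct.AlgebraTensorModule.map (LinearMap.id : N →ₗ[S] N) M'.subtype) _ = _
            rw [map_smul, ← hxy]
            show a • LinearMap.lTensor N M'.subtype (LinearMap.lTensor N (Submodule.inclusion hle) y₀) = _
            rw [← LinearMap.lTensor_comp_apply]
            rfl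
          rw [e, hU a (Finset.mem_insert_self _ _)]
        have h2 : ∀ w : N ⊗[R] ↥M', M'.subtype.rTensor N (TensorProduct.comm R N M' w) =
            TensorProduct.comm R N M (LinearMap.lTensor N M'.subtype w) := fun w => by
          induction w with
          | zero => simp
          | tmul a b => simp
          | add a b ha hb => simp only [map_add, ha, hb]
        rw [h2, h1, map_zero]
      obtain ⟨M'', hfg'', hle', h3⟩ := Submodule.FG.exists_rTensor_fg_inclusion_eq hfg hz0
      have h4 : LinearMap.lTensor N (Submodule.inclusion hle') z = 0 := by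
        apply (TensorProduct.comm R N M'').injective
        rw [map_zero]
        rw [map_zero] at h3
        refine Eq.trans ?_ h3
        clear_value z
        clear hz hz0 h3
        induction z with
        | zero => simp
        | tmul a b => simp
        | add a b ha hb => simp only [map_add, ha, hb]
      refine ⟨M'', hle.trans hle', hfg'', fun b hb => ?_⟩
      have hsmul : ∀ (b : S) (w : N ⊗[R] ↥M'), LinearMap.lTensor N (Submodule.inclusion hle') (b • w) =
          b • LinearMap.lTensor N (Submodule.inclusion hle') w := fun b w =>
        map_smul (TensorProduct.AlgebraTensorModule.map (LinearMap.id : N →ₗ[S] N) (Submodule.inclusion hle')) b w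
      have hcomp : LinearMap.lTensor N (Submodule.inclusion (hle.trans hle')) y₀ =
          LinearMap.lTensor N (Submodule.inclusion hle') (LinearMap.lTensor N (Submodule.inclusion hle) y₀) := by
        rw [← LinearMap.lTensor_comp_apply]; rfl
      rcases Finset.mem_insert.1 hb with rfl | hb
      · rw [hcomp, ← hsmul]; exact h4
      · rw [hcomp, ← hsmul, hM' b hb, map_zero]
  have hTx : ∀ a ∈ T, a • x = 0 := fun a ha => by
    rw [← Submodule.mem_annihilator_span_singleton, ← hxq, ← hT]
    exact Submodule.subset_span ha
  obtain ⟨M', hle, hfg, hM'⟩ := key T hTx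
  refine ⟨M', hfg, hq, LinearMap.lTensor N (Submodule.inclusion hle) y₀, le_antisymm ?_ ?_⟩
  · rw [← hT, Submodule.span_le]
    exact fun a ha => (Submodule.mem_annihilator_span_singleton _ _).2 (hM' a ha)
  · intro a ha
    rw [Submodule.mem_annihilator_span_singleton] at ha
    rw [hxq, Submodule.mem_annihilator_span_singleton, ← hxy]
    have h5 := congrArg (TensorProduct.AlgebraTensorModule.map (LinearMap.id : N →ₗ[S] N) M'.subtype) ha
    rw [map_smul, map_zero] at h5
    rw [← h5]
    congr 1
    show _ = LinearMap.lTensor N M'.subtype (LinearMap.lTensor N (Submodule.inclusion hle) y₀)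
    rw [← LinearMap.lTensor_comp_apply]
    rfl

end Groth.Agent.S9667

namespace Groth.Agent.S9667

open TensorProduct in
/-- Part (3): (B = B_fin): let R → S be a ring map with S Noetherian, N an S-module, M an R-module and q
a prime of S; an associated prime of a module is a prime ideal equal to the annihilator of some
element. If q is an associated prime of the S-module N ⊗_R M, then there is a finitely generated
R-submodule M' ⊆ M such that q is an associated prime of the S-module N ⊗_R M'. -/
theorem result {R S : Type u} [CommRing R] [CommRing S] [Algebra R S] (N : Type u) [AddCommGroup N] [Module S N] [Module R N] [IsScalarTower R S N] [IsNoetherianRing S]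
    (M : Type u) [AddCommGroup M] [Module R M] (q : Ideal S) [q.IsPrime] (h : q ∈ FlatCA.ass S (N ⊗[R] M)) :
    ∃ M' : Submodule R M, M'.FG ∧ q ∈ FlatCA.ass S (N ⊗[R] ↥M') := by
  exact Groth.Agent.S9667.main N M q h

end Groth.Agent.S9667
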