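import Groth.Statements.S9668
import Mathlib
-- import your own Groth.Agent.* helpers here

set_option autoImplicit false
universe u
open CAlg

namespace Groth.Agent.S9668

open TensorProduct in
/-- Part (4): (B = B_fin): let R → S be a ring map, N an S-module flat over R, M an R-module and q a
prime of S; an associated prime of a module is a prime ideal equal to the annihilator of some
element. If q is an associated prime of the S-module N ⊗_R M, then there is a finitely generated
R-submodule M' ⊆ M such that q is an associated prime of the S-module N ⊗_R M'. -/
theorem result {R S : Type u} [CommRing R] [CommRing S] [Algebra R S] (N : Type u) [AddCommGroup N] [Module S N] [Module R N] [IsScalarTower R S N] [Module.Flat R N]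
    (M : Type u) [AddCommGroup M] [Module R M] (q : Ideal S) [q.IsPrime] (h : q ∈ FlatCA.ass S (N ⊗[R] M)) :
    ∃ M' : Submodule R M, M'.FG ∧ q ∈ FlatCA.ass S (N ⊗[R] ↥M') := by
  obtain ⟨hq, x, rfl⟩ := h
  obtain ⟨M', hM', hx⟩ := Submodule.exists_fg_le_subset_range_rTensor_subtype (R := R) (M := N)
    ({TensorProduct.comm R N M x} : Set (M ⊗[R] N)) (Set.finite_singleton _)
  obtain ⟨y, hy⟩ := hx rfl
  let y' : N ⊗[R] ↥M' := TensorProduct.comm R M' N y
  let F : N ⊗[R] ↥M' →ₗ[S] N ⊗[R] M := TensorProduct.AlgebraTensorModule.map LinearMap.id M'.subtype
  have hF : Function.Injective F := by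
    have : Function.Injective (LinearMap.lTensor N M'.subtype) :=
      Module.Flat.lTensor_preserves_injective_linearMap _ M'.subtype_injective
    exact this
  have hxy : F y' = x := by
    show LinearMap.lTensor N M'.subtype (TensorProduct.comm R M' N y) = x
    apply (TensorProduct.comm R N M).injective
    rw [← hy]
    clear hy
    induction y with
    | zero => simp
    | tmul a b => simp
    | add a b ha hb => simp only [map_add, ha, hb]
  refine ⟨M', hM', hq, y', ?_⟩
  ext a
  simp only [Submodule.mem_annihilator_span_singleton]
  rw [← hxy, ← map_smul, map_eq_zero_iff F hF]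
end Groth.Agent.S9668
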