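import Groth.Statements.S9671
import Mathlib
-- import your own Groth.Agent.* helpers here

set_option autoImplicit false
universe u
open CAlg

namespace Groth.Agent.S9671

open Polynomial

variable {R R' : Type u} [CommRing R] [CommRing R'] [Algebra R R'] (gens : Finset R')

noncomputable instance (priority := 10000) acgS (S : Subalgebra R (Polynomial (R × R'))) : AddCommGroup S :=
  inferInstanceAs (AddCommGroup S)

/-- The generators in degree one. -/
noncomputable def gen1 : Finset (Polynomial (R × R')) := by
  classical exact insert (monomial 1 (0, 1)) (gens.image fun a => monomial 1 (0, a))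

/-- The homogenization. -/
noncomputable abbrev hAlg : Subalgebra R (Polynomial (R × R')) :=
  Algebra.adjoin R (gen1 (R := R) gens : Set (Polynomial (R × R')))

lemma monomial_coeff_mem {p : Polynomial (R × R')} (hp : p ∈ hAlg gens) (n : ℕ) :
    monomial n (p.coeff n) ∈ hAlg gens := by
  classical
  revert n
  induction hp using Algebra.adjoin_induction with
  | mem x hx =>
    intro n
    obtain ⟨c, rfl⟩ : ∃ c, x = monomial 1 c := by
      simp only [gen1, Finset.coe_insert, Finset.coe_image, Set.mem_insert_iff, Set.mem_image] at hx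
      rcases hx with rfl | ⟨a, _, rfl⟩
      exacts [⟨_, rfl⟩, ⟨_, rfl⟩]
    rw [coeff_monomial]
    split
    · subst n; exact Algebra.subset_adjoin hx
    · simp
  | algebraMap r =>
    intro n
    rw [Polynomial.algebraMap_apply, coeff_C]
    split
    · subst n
      rw [monomial_zero_left, ← Polynomial.algebraMap_apply]
      exact Subalgebra.algebraMap_mem _ r
    · simp
  | add x y _ _ hx hy =>
    intro n
    rw [coeff_add, map_add]
    exact add_mem (hx n) (hy n)
  | mul x y _ _ hx hy =>
    intro n
    rw [coeff_mul, map_sum]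
    refine sum_mem fun ij hij => ?_
    rw [← Finset.HasAntidiagonal.mem_antidiagonal.1 hij, ← monomial_mul_monomial]
    exact mul_mem (hx _) (hy _)

/-- Degree `n` part. -/
noncomputable def deg (n : ℕ) : Submodule R (hAlg (R := R) gens) where
  carrier := {s | ∀ m, m ≠ n → (s : Polynomial (R × R')).coeff m = 0}
  zero_mem' := fun m _ => by simp
  add_mem' := fun {a b} ha hb m hm => by simp [ha m hm, hb m hm]
  smul_mem' := fun r a ha m hm => by simp [coeff_smul, ha m hm]

lemma eq_monomial {n : ℕ} {s : hAlg (R := R) gens} (hs : s ∈ deg gens n) :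
    (s : Polynomial (R × R')) = monomial n ((s : Polynomial (R × R')).coeff n) := by
  ext1 m
  rw [coeff_monomial]
  split
  · subst m; rfl
  · exact hs m fun h => ‹¬n = m› h.symm

lemma gradedMonoid : SetLike.GradedMonoid (deg (R := R) gens) where
  one_mem m hm := by simp [coeff_one, hm]
  mul_mem i j a b ha hb m hm := by
    rw [Subalgebra.coe_mul, eq_monomial gens ha, eq_monomial gens hb, monomial_mul_monomial, coeff_monomial,
      if_neg (fun h => hm h.symm)]

lemma isInternal : DirectSum.IsInternal (deg (R := R) gens) := by
  classical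
  refine DirectSum.isInternal_submodule_of_iSupIndep_of_iSup_eq_top (fun n => ?_) ?_
  · rw [Submodule.disjoint_def]
    intro x hx hx'
    let Z : Submodule R (hAlg (R := R) gens) :=
      { carrier := {s | (s : Polynomial (R × R')).coeff n = 0}
        zero_mem' := by simp
        add_mem' := fun {a b} ha hb => by
          show ((a : Polynomial (R × R')) + b).coeff n = 0
          rw [coeff_add, ha, hb, add_zero]
        smul_mem' := fun r a ha => by
          show (r • (a : Polynomial (R × R'))).coeff n = 0
          rw [coeff_smul, ha, smul_zero] }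
    have hZ : (⨆ (m) (_ : m ≠ n), deg (R := R) gens m) ≤ Z :=
      iSup₂_le fun m hm s hs => hs n hm.symm
    have h0 : (x : Polynomial (R × R')).coeff n = 0 := hZ hx'
    exact Subtype.ext (by rw [eq_monomial gens hx, h0, map_zero]; rfl)
  · rw [eq_top_iff]
    intro s _
    have : s = ∑ n ∈ (s : Polynomial (R × R')).support,
        (⟨monomial n _, monomial_coeff_mem gens s.2 n⟩ : hAlg (R := R) gens) := by
      apply Subtype.ext
      rw [AddSubmonoidClass.coe_finsetSum]
      exact (s : Polynomial (R × R')).as_sum_support
    rw [this]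
    refine Submodule.sum_mem _ fun n _ => Submodule.mem_iSup_of_mem n fun m hm => ?_
    show (monomial n _).coeff m = 0
    rw [coeff_monomial, if_neg fun h => hm h.symm]

noncomputable instance graded : GradedAlgebra (deg (R := R) gens) :=
  { gradedMonoid gens, (isInternal gens).chooseDecomposition with }

/-- The dehomogenizing element. -/
noncomputable def f0 : hAlg (R := R) gens :=
  ⟨monomial 1 (0, 1), Algebra.subset_adjoin (by simp [gen1])⟩

lemma f0_mem : f0 (R := R) gens ∈ deg gens 1 := fun m hm => by
  show (monomial 1 ((0, 1) : R × R')).coeff m = 0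
  rw [coeff_monomial, if_neg fun h => hm h.symm]

/-- Evaluation at `1`, second component. -/
noncomputable def ev : hAlg (R := R) gens →+* R' :=
  (RingHom.snd R R').comp ((evalRingHom (1 : R × R')).comp (hAlg (R := R) gens).val.toRingHom)

lemma ev_of_mem {n : ℕ} {s : hAlg (R := R) gens} (hs : s ∈ deg gens n) :
    ev gens s = ((s : Polynomial (R × R')).coeff n).2 := by
  show ((s : Polynomial (R × R')).eval 1).2 = _
  conv_lhs => rw [eq_monomial gens hs]
  rw [eval_monomial, one_pow, mul_one]

lemma ev_f0 : ev (R := R) gens (f0 gens) = 1 := by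
  rw [ev_of_mem gens (f0_mem gens)]
  simp [f0]

/-- `S_(f) → R'`. -/
noncomputable def E : HomogeneousLocalization.Away (deg (R := R) gens) (f0 gens) →+* R' :=
  (Localization.awayLift (ev gens) (f0 gens) (by rw [ev_f0]; exact isUnit_one)).comp
    (algebraMap _ (Localization (Submonoid.powers (f0 (R := R) gens))))

lemma E_mk (n : ℕ) (x : hAlg (R := R) gens) (hx : x ∈ deg gens (n • 1)) :
    E gens (HomogeneousLocalization.Away.mk _ (f0_mem gens) n x hx) = ev gens x := by
  have hu : IsUnit (ev (R := R) gens (f0 gens)) := by rw [ev_f0]; exact isUnit_one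
  show Localization.awayLift (ev gens) (f0 gens) hu (HomogeneousLocalization.Away.mk _ (f0_mem gens) n x hx).val = _
  rw [HomogeneousLocalization.Away.val_mk, Localization.mk_eq_mk']
  unfold Localization.awayLift IsLocalization.Away.lift
  rw [IsLocalization.lift_mk'_spec]
  simp [map_pow, ev_f0]

lemma E_injective : Function.Injective (E (R := R) gens) := by
  rw [injective_iff_map_eq_zero]
  intro z hz
  obtain ⟨n, x, hx, rfl⟩ := HomogeneousLocalization.Away.mk_surjective _ (f0_mem gens) z
  rw [E_mk, ev_of_mem gens hx] at hz
  apply HomogeneousLocalization.val_injective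
  rw [HomogeneousLocalization.Away.val_mk, HomogeneousLocalization.val_zero, Localization.mk_eq_mk',
    IsLocalization.mk'_eq_zero_iff]
  refine ⟨⟨f0 gens, 1, pow_one _⟩, Subtype.ext ?_⟩
  show (f0 (R := R) gens : Polynomial (R × R')) * x = 0
  rw [eq_monomial gens hx]
  show monomial 1 ((0, 1) : R × R') * monomial (n • 1) _ = 0
  rw [monomial_mul_monomial]
  rw [smul_eq_mul, mul_one] at hz
  simp [Prod.ext_iff, hz]

lemma E_surjective (hgens : Algebra.adjoin R (gens : Set R') = ⊤) : Function.Surjective (E (R := R) gens) := by
  classical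
  intro a
  have ha : a ∈ Algebra.adjoin R (gens : Set R') := hgens ▸ Algebra.mem_top
  induction ha using Algebra.adjoin_induction with
  | mem a ha =>
    refine ⟨HomogeneousLocalization.Away.mk _ (f0_mem gens) 1
      ⟨monomial 1 (0, a), Algebra.subset_adjoin (by simp [gen1]; exact Or.inr ⟨a, ha, rfl⟩)⟩ (fun m hm => ?_), ?_⟩
    · show (monomial 1 ((0, a) : R × R')).coeff m = 0
      rw [coeff_monomial, if_neg fun h => hm (by rw [smul_eq_mul, mul_one]; exact h.symm)]
    · rw [E_mk]
      show ((monomial 1 ((0, a) : R × R')).eval 1).2 = a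
      simp
  | algebraMap r =>
    refine ⟨HomogeneousLocalization.Away.mk _ (f0_mem gens) 0 (algebraMap R _ r) (fun m hm => ?_), ?_⟩
    · show (algebraMap R (Polynomial (R × R')) r).coeff m = 0
      rw [Polynomial.algebraMap_apply, coeff_C, if_neg (by simpa using hm)]
    · rw [E_mk]
      show ((algebraMap R (Polynomial (R × R')) r).eval 1).2 = _
      simp [Polynomial.algebraMap_apply]
  | add x y _ _ hx hy =>
    obtain ⟨x', rfl⟩ := hx
    obtain ⟨y', rfl⟩ := hy
    exact ⟨x' + y', map_add _ _ _⟩
  | mul x y _ _ hx hy =>
    obtain ⟨x', rfl⟩ := hx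
    obtain ⟨y', rfl⟩ := hy
    exact ⟨x' * y', map_mul _ _ _⟩

end Groth.Agent.S9671

namespace Groth.Agent.S9671

/-- Let R be a ring and R' an R-algebra of finite type. Then there are an ℕ-graded R-algebra S such that
R → S₀ is bijective and S is generated as an R-algebra by a finite set of degree-1 elements, an
element f ∈ S₁, and a ring isomorphism e between the degree-zero part S_(f) of the localization S_f
and R' which matches r/1 with the image of r in R' for every r ∈ R (so R' is identified with S_(f)
as an R-algebra). The published statement also produces, from a finite R'-module, a finite graded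
S-module whose degree-zero localization at f recovers it; that half is not part of this row. -/
theorem result (R R' : Type u) [CommRing R] [CommRing R'] [Algebra R R'] [Algebra.FiniteType R R'] :
    ∃ (S : Type u) (_ : CommRing S) (_ : Algebra R S) (𝒜 : ℕ → Submodule R S) (_ : GradedAlgebra 𝒜) (f : S) (_ : f ∈ 𝒜 1) (s : Finset S)
      (e : HomogeneousLocalization.Away 𝒜 f ≃+* R'),
      Function.Injective (algebraMap R S) ∧ (∀ x ∈ 𝒜 0, x ∈ Set.range (algebraMap R S)) ∧
      (↑s ⊆ (𝒜 1 : Set S)) ∧ Algebra.adjoin R (s : Set S) = ⊤ ∧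
      ∀ r : R, (e.symm (algebraMap R R' r)).val = algebraMap S (Localization.Away f) (algebraMap R S r) := by
  classical
  obtain ⟨gens, hgens⟩ := Algebra.FiniteType.out (R := R) (A := R')
  let s : Finset (Groth.Agent.S9671.hAlg (R := R) gens) :=
    (Groth.Agent.S9671.gen1 (R := R) gens).attach.image fun x => ⟨x.1, Algebra.subset_adjoin x.2⟩
  let e := RingEquiv.ofBijective _ ⟨Groth.Agent.S9671.E_injective (R := R) gens,
    Groth.Agent.S9671.E_surjective (R := R) gens hgens⟩
  refine ⟨Groth.Agent.S9671.hAlg (R := R) gens, inferInstance, inferInstance, Groth.Agent.S9671.deg gens,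
    inferInstance, Groth.Agent.S9671.f0 gens, Groth.Agent.S9671.f0_mem gens, s, e, ?_, ?_, ?_, ?_, ?_⟩
  · intro a b h
    have := congrArg (fun x : Groth.Agent.S9671.hAlg (R := R) gens => ((x : Polynomial (R × R')).coeff 0).1) h
    simpa [Polynomial.algebraMap_apply] using this
  · intro x hx
    have h0 : (x : Polynomial (R × R')).coeff 0 ∈ Set.range (algebraMap R (R × R')) := by
      have hx' := x.2
      revert hx'
      generalize (x : Polynomial (R × R')) = p
      intro hp
      induction hp using Algebra.adjoin_induction with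
      | mem y hy =>
        obtain ⟨c, rfl⟩ : ∃ c, y = Polynomial.monomial 1 c := by
          simp only [Groth.Agent.S9671.gen1, Finset.coe_insert, Finset.coe_image, Set.mem_insert_iff, Set.mem_image] at hy
          rcases hy with rfl | ⟨a, _, rfl⟩
          exacts [⟨_, rfl⟩, ⟨_, rfl⟩]
        exact ⟨0, by simp [Polynomial.coeff_monomial]⟩
      | algebraMap r => exact ⟨r, by simp [Polynomial.algebraMap_apply]⟩
      | add a b _ _ ha hb =>
        obtain ⟨r, hr⟩ := ha
        obtain ⟨r', hr'⟩ := hb
        exact ⟨r + r', by rw [map_add, hr, hr', Polynomial.coeff_add]⟩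
      | mul a b _ _ ha hb =>
        obtain ⟨r, hr⟩ := ha
        obtain ⟨r', hr'⟩ := hb
        exact ⟨r * r', by rw [map_mul, hr, hr', Polynomial.mul_coeff_zero]⟩
    obtain ⟨r, hr⟩ := h0
    refine ⟨r, Subtype.ext ?_⟩
    rw [Groth.Agent.S9671.eq_monomial gens hx, ← hr, Polynomial.monomial_zero_left, Subalgebra.coe_algebraMap,
      Polynomial.algebraMap_apply]
  · intro x hx
    simp only [s, Finset.coe_image, Set.mem_image] at hx
    obtain ⟨⟨y, hy⟩, -, rfl⟩ := hx
    intro m hm
    show y.coeff m = 0
    simp only [Groth.Agent.S9671.gen1, Finset.mem_insert, Finset.mem_image] at hy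
    rcases hy with rfl | ⟨a, _, rfl⟩ <;> rw [Polynomial.coeff_monomial, if_neg fun h => hm h.symm]
  · refine Subalgebra.map_injective (f := (Groth.Agent.S9671.hAlg (R := R) gens).val) Subtype.val_injective ?_
    rw [AlgHom.map_adjoin, Algebra.map_top, Subalgebra.range_val]
    congr 1
    ext y
    constructor
    · rintro ⟨x, hx, rfl⟩
      simp only [s, Finset.coe_image, Set.mem_image] at hx
      obtain ⟨⟨y, hy⟩, -, rfl⟩ := hx
      exact hy
    · intro hy
      exact ⟨⟨y, Algebra.subset_adjoin hy⟩, by simpa [s] using hy, rfl⟩
  · intro r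
    have : e.symm (algebraMap R R' r) = HomogeneousLocalization.Away.mk (Groth.Agent.S9671.deg (R := R) gens) (Groth.Agent.S9671.f0_mem gens) 0
        (algebraMap R _ r) (fun m hm => by
          show (algebraMap R (Polynomial (R × R')) r).coeff m = 0
          rw [Polynomial.algebraMap_apply, Polynomial.coeff_C, if_neg (by simpa using hm)]) := by
      rw [e.symm_apply_eq]
      show _ = Groth.Agent.S9671.E gens _
      rw [Groth.Agent.S9671.E_mk]
      show _ = ((algebraMap R (Polynomial (R × R')) r).eval 1).2
      simp [Polynomial.algebraMap_apply]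
    rw [this, HomogeneousLocalization.Away.val_mk, Localization.mk_eq_mk', IsLocalization.mk'_eq_iff_eq_mul]
    simp

end Groth.Agent.S9671
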