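import Groth.Agent.DomLib.Maximal
import Groth.Statements.S9672
-- import your own Groth.Agent.* helpers here

set_option autoImplicit false
set_option backward.isDefEq.respectTransparency false
set_option backward.isDefEq.respectTransparency.types false
universe u
open CategoryTheory CategoryTheory.Limits AlgebraicGeometry
open Mor

namespace Groth.Agent.S9672

/-- Let f : Y ⟶ X be quasi-compact and quasi-separated, and write X' for the normalization of X relative
to Y. If x' ∈ X' is the generic point of some irreducible component of X', then there is a point y ∈
Y that is generic in an irreducible component of Y and is sent to x' by the canonical morphism Y ⟶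
X'. -/
theorem result {X Y : Scheme.{u}} (f : Y ⟶ X)
    [QuasiCompact f] [QuasiSeparated f] (x' : ↥f.normalization)
    (hx' : closure {x'} ∈ irreducibleComponents ↥f.normalization) :
    ∃ y : Y, closure {y} ∈ irreducibleComponents ↥Y ∧ f.toNormalization.base y = x' := by
  obtain ⟨y, hy⟩ := Groth.Agent.DomLib.mem_range_of_mem_closure f.toNormalization x' hx'
    (f.toNormalization.denseRange x')
  have hC := irreducibleComponent_mem_irreducibleComponents y
  obtain ⟨y', hy'⟩ := QuasiSober.sober hC.1 (isClosed_of_mem_irreducibleComponents _ hC)
  refine ⟨y', hy'.def.symm ▸ hC, ?_⟩
  have h1 : f.toNormalization.base y' ⤳ x' :=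
    hy ▸ (hy'.specializes mem_irreducibleComponent).map f.toNormalization.continuous
  refine (h1.antisymm ?_).eq
  have h3 : closure {x'} ⊆ closure {f.toNormalization.base y'} := specializes_iff_closure_subset.1 h1
  exact specializes_iff_closure_subset.2 (hx'.2 isIrreducible_singleton.closure h3)

end Groth.Agent.S9672
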