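import Groth.Statements.S9674
import Groth.Agent.NagataNorm.Basic


set_option autoImplicit false
universe u
open CategoryTheory CategoryTheory.Limits AlgebraicGeometry
open Mor

namespace Groth.Agent.S9674
section Pre
theorem eq_of_mem_components {X : Scheme.{u}} {x : X} (hx : ∀ z, z ⤳ x → z = x) :
    closure {x} ∈ irreducibleComponents (X : Type u) :=
  Groth.Agent.FlatDim.closure_mem_irreducibleComponents hx

theorem max_of_component {X : Scheme.{u}} {x : X} (hx : closure {x} ∈ irreducibleComponents (X : Type u)) :
    ∀ z, z ⤳ x → z = x := fun z hz => by
  have h1 : closure {z} ⊆ closure {x} := hx.2 isIrreducible_singleton.closure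
    (closure_minimal (Set.singleton_subset_iff.2 (specializes_iff_mem_closure.1 hz)) isClosed_closure)
  exact (hz.antisymm (specializes_iff_mem_closure.2 (h1 (subset_closure rfl)))).eq

end Pre

/-- Let f : X ⟶ S be quasi-compact and quasi-separated. Assume every affine open of S has Nagata
coordinate ring, X is reduced, the irreducible components of X are locally finite (equivalently
every quasi-compact open of X has finitely many), and at each point x that is generic in a component
of X, the residue field of x is essentially of finite type over the residue field of f x. Then the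
normalization of S in X is finite over S. -/
theorem result {X S : Scheme.{u}} (f : X ⟶ S)
    [QuasiCompact f] [QuasiSeparated f] [IsReduced X]
    (hS : ∀ U : S.affineOpens, CAlg.IsNagata Γ(S, U))
    (hfin : LocallyFinite (fun Z : ↥(irreducibleComponents ↥X) => (Z : Set ↥X)))
    (hres : ∀ x : X, closure {x} ∈ irreducibleComponents ↥X → (f.residueFieldMap x).hom.EssFiniteType) :
    IsFinite f.fromNormalization := by
  refine Groth.Agent.NagataNorm.isFinite_fromNormalization f hS (fun W hW => ?_)
    (fun x hx => hres x (eq_of_mem_components hx))
  have h1 := hfin.finite_nonempty_inter_compact hW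
  haveI := h1.to_subtype
  refine Set.finite_coe_iff.1 (Finite.of_injective
    (β := {Z : ↥(irreducibleComponents ↥X) | ((Z : Set ↥X) ∩ (W : Set ↥X)).Nonempty})
    (fun x => ⟨⟨closure {x.1}, eq_of_mem_components x.2.2⟩, x.1, subset_closure rfl, x.2.1⟩) fun a b hab => ?_)
  have h2 : IsGenericPoint a.1 (closure {b.1}) := congrArg (fun z : {Z : ↥(irreducibleComponents ↥X) | ((Z : Set ↥X) ∩ (W : Set ↥X)).Nonempty} => (z.1 : Set X)) hab
  exact Subtype.ext (h2.eq isGenericPoint_closure)

end Groth.Agent.S9674
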