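import Groth.Statements.S9681
import Groth.Agent.Birat.Over


set_option autoImplicit false
universe u
open CategoryTheory CategoryTheory.Limits AlgebraicGeometry
open Mor

namespace Groth.Agent.S9681

/-- Suppose X and Y are integral S-schemes, each locally of finite type over S, with generic points x
and y. Then X and Y are S-birational (they admit S-isomorphic nonempty opens) if and only if x and y
map to the same point s of S and the residue fields of x and y are isomorphic as extensions of the
residue field of s. -/
theorem result {S X Y : Scheme.{u}}
    [IsIntegral X] [IsIntegral Y] (sX : X ⟶ S) (sY : Y ⟶ S)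
    [LocallyOfFiniteType sX] [LocallyOfFiniteType sY] :
    Scheme.BirationalOver sX sY ↔
      ∃ (hs : sX.base (genericPoint ↥X) = sY.base (genericPoint ↥Y))
        (e : X.residueField (genericPoint ↥X) ≅ Y.residueField (genericPoint ↥Y)),
        sX.residueFieldMap (genericPoint ↥X) ≫ e.hom =
          eqToHom (congrArg S.residueField hs) ≫ sY.residueFieldMap (genericPoint ↥Y) := by
  have := Birat.isIso_residue_genericPoint X
  have := Birat.isIso_residue_genericPoint Y
  constructor
  · intro h
    obtain ⟨hs, e, he⟩ := Birat.exists_stalkIso_of_birationalOver h
    let e' := (asIso (X.residue (genericPoint ↥X))).symm ≪≫ e ≪≫ asIso (Y.residue (genericPoint ↥Y))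
    exact ⟨hs, e', (Birat.residue_compat_iff hs e e' (by simp [e'])).mp he⟩
  · rintro ⟨hs, e', he⟩
    let e := asIso (X.residue (genericPoint ↥X)) ≪≫ e' ≪≫ (asIso (Y.residue (genericPoint ↥Y))).symm
    exact Birat.birationalOver_of_stalkIso_integral hs e
      ((Birat.residue_compat_iff hs e e' (by simp [e])).mpr he)

end Groth.Agent.S9681
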