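import Groth.Statements.S9683
import Groth.Agent.DimFormula.ClosedMap


set_option autoImplicit false
universe u
open CategoryTheory CategoryTheory.Limits AlgebraicGeometry
open Mor

namespace Groth.Agent.S9683

/-- For any integral morphism of schemes f : X ⟶ Y, the dimension of X is at most that of Y, and if f is
surjective then dim X = dim Y (dimensions of the underlying topological spaces). -/
theorem result {X Y : Scheme.{u}} (f : X ⟶ Y) [IsIntegralHom f] :
    topologicalKrullDim ↥X ≤ topologicalKrullDim ↥Y ∧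
      (Surjective f → topologicalKrullDim ↥X = topologicalKrullDim ↥Y) := by
  have hstrict : StrictMono f.base := by
    intro a b hab
    have hle : b ⤳ a := hab.le
    refine lt_of_le_not_ge (show f.base a ≤ f.base b from hle.map f.base.hom.continuous) fun e => hab.not_ge ?_
    have hfe : f.base b = f.base a := (((hle.map f.base.hom.continuous).antisymm (show f.base a ⤳ f.base b from e)).eq)
    obtain ⟨_, ⟨V, hV, rfl⟩, hyV, -⟩ :=
      Y.isBasis_affineOpens.exists_subset_of_mem_open (Set.mem_univ (f.base a)) isOpen_univ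
    have hU : IsAffineOpen (f ⁻¹ᵁ V) := hV.preimage f
    have ha : a ∈ f ⁻¹ᵁ V := hyV
    have hb : b ∈ f ⁻¹ᵁ V := hle.mem_open (f ⁻¹ᵁ V).2 ha
    letI := (f.app V).hom.toAlgebra
    haveI : Algebra.IsIntegral Γ(Y, V) Γ(X, f ⁻¹ᵁ V) := ⟨f.isIntegral_app V hV⟩
    let P := hU.primeIdealOf ⟨b, hb⟩
    let Q := hU.primeIdealOf ⟨a, ha⟩
    have hP : hU.fromSpec P = b := hU.fromSpec_primeIdealOf ⟨b, hb⟩
    have hQ : hU.fromSpec Q = a := hU.fromSpec_primeIdealOf ⟨a, ha⟩
    have hc : ∀ R, hV.fromSpec (Spec.map (f.app V) R) = f.base (hU.fromSpec R) := fun R => by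
      have h := IsAffineOpen.SpecMap_appLE_fromSpec f hV hU le_rfl
      rw [← Scheme.Hom.app_eq_appLE] at h
      exact congrArg (fun g => (g : _ ⟶ Y).base R) h
    have hPQ : (show PrimeSpectrum Γ(X, f ⁻¹ᵁ V) from P) ≤ Q := by
      refine (PrimeSpectrum.le_iff_specializes _ _).mpr (hU.fromSpec.isOpenEmbedding.isInducing.specializes_iff.mp ?_)
      rw [hP, hQ]; exact hle
    have heq : P = Q := by
      by_contra hne
      have hlt : (show PrimeSpectrum Γ(X, f ⁻¹ᵁ V) from P) < Q := lt_of_le_of_ne hPQ hne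
      have h1 := Groth.Agent.DimTheory.strictMono_comap Γ(Y, V) Γ(X, f ⁻¹ᵁ V) hlt
      refine h1.ne ?_
      haveI : IsOpenImmersion hV.fromSpec := IsAffineOpen.isOpenImmersion_fromSpec hV
      exact hV.fromSpec.isOpenEmbedding.injective (((hc P).trans (by rw [hP, hQ, hfe])).trans (hc Q).symm)
    rw [← hP, ← hQ, heq]
  have hle : topologicalKrullDim ↥X ≤ topologicalKrullDim ↥Y := by
    rw [show topologicalKrullDim ↥X = Order.krullDim ↥X from Order.krullDim_eq_of_orderIso irreducibleSetEquivPoints,
      show topologicalKrullDim ↥Y = Order.krullDim ↥Y from Order.krullDim_eq_of_orderIso irreducibleSetEquivPoints]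
    exact Order.krullDim_le_of_strictMono _ hstrict
  refine ⟨hle, fun hs => le_antisymm hle ?_⟩
  rw [Groth.Agent.DimTheory.topologicalKrullDim_eq_iSup_height, Groth.Agent.DimTheory.topologicalKrullDim_eq_iSup_height]
  refine iSup_le fun y => ?_
  obtain ⟨x, rfl⟩ := f.surjective y
  exact (WithBot.coe_le_coe.mpr (Groth.Agent.DimFormula.height_le_of_isClosedMap f f.isClosedMap x)).trans
    (le_iSup (fun x : X => (Order.height x : WithBot ℕ∞)) x)

end Groth.Agent.S9683
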