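import Groth.Statements.S9685
import Groth.Agent.DimFormula.ClosedMap


set_option autoImplicit false
universe u
open CategoryTheory CategoryTheory.Limits AlgebraicGeometry
open Mor

namespace Groth.Agent.S9685

/-- Let X and Y be integral schemes with Y locally Noetherian and f : X ⟶ Y dominant and locally of
finite type. If n is the transcendence degree of the function field of X over the function field of
Y (computed on residue fields at the generic points), then dim X ≤ dim Y + n, and equality holds
when the underlying map of f is closed. -/
theorem result {X Y : Scheme.{u}} [IsIntegral X] [IsIntegral Y]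
    [IsLocallyNoetherian Y] (f : X ⟶ Y) [IsDominant f] [LocallyOfFiniteType f] (n : ℕ)
    (hn : letI := (f.residueFieldMap (genericPoint ↥X)).hom.toAlgebra
      Algebra.trdeg (Y.residueField (f.base (genericPoint ↥X))) (X.residueField (genericPoint ↥X)) = n) :
    topologicalKrullDim ↥X ≤ topologicalKrullDim ↥Y + n ∧
      (IsClosedMap f.base → topologicalKrullDim ↥X = topologicalKrullDim ↥Y + n) := by
  have h1 : topologicalKrullDim ↥X ≤ topologicalKrullDim ↥Y + n := by
    rw [Groth.Agent.DimFormula.topologicalKrullDim_eq_iSup_stalk X, Groth.Agent.DimFormula.topologicalKrullDim_eq_iSup_stalk Y]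
    refine iSup_le fun x => ?_
    obtain ⟨t, -, hle⟩ := Groth.Agent.DimFormula.stalk_ineq f x n (fun ξ hξ _ => by
      have : ξ = genericPoint ↥X :=
        ((Groth.Agent.Birat.eq_of_specializes_max hξ (genericPoint_specializes ξ))).symm
      subst this
      exact hn.le)
    refine le_trans (le_trans ?_ hle) (add_le_add (le_iSup (fun y : Y => ringKrullDim (Y.presheaf.stalk y)) (f.base x)) le_rfl)
    exact le_add_of_nonneg_right (by exact_mod_cast Nat.zero_le t)
  exact ⟨h1, fun hc => le_antisymm h1 (Groth.Agent.DimFormula.add_le_dim_of_isClosedMap f hc n hn)⟩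

end Groth.Agent.S9685
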