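import Groth.Statements.S9689
import Mathlib
import Groth.Agent.UnibranchLib.NormFibre
import Groth.Agent.CAlgRedStab.Main
import Groth.Agent.NormDim1.Basic
import Groth.Agent.FlatBasics.UnivHomeo


set_option autoImplicit false
set_option backward.isDefEq.respectTransparency false
set_option maxHeartbeats 800000
universe u
open CategoryTheory CategoryTheory.Limits AlgebraicGeometry
open Mor

namespace Groth.Agent.S9689

/-- For an integral scheme X: if every local ring of X is geometrically unibranch, then the
normalization morphism X^ν ⟶ X is a universal homeomorphism. (The published statement assumes only X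
irreducible; this row takes X integral, which loses nothing since the normalization of X equals that
of its reduction.) (The quasi-compactness and quasi-separatedness binders on Spec K(X) ⟶ X always
hold; they are only needed to form the normalization.) -/
theorem result (X : Scheme.{u}) [IsIntegral X] [QuasiCompact (X.fromSpecStalk (genericPoint ↥X))] [QuasiSeparated (X.fromSpecStalk (genericPoint ↥X))]
    (hX : ∀ x : X, CAlg2.IsGeomUnibranch (X.presheaf.stalk x)) :
    FlatMor.IsUnivHomeo (Curv2.normalizationι X) := by
  let π := Curv2.normalizationι X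
  haveI : IsIntegralHom π := NormDim1.instIntegralHom X
  have hπ : UniversallyInjective π := by
    refine (IsZariskiLocalAtTarget.iff_of_iSup_eq_top (P := @UniversallyInjective)
      (fun U : X.affineOpens => (U : X.Opens)) (iSup_affineOpens_eq_top X)).mpr fun U => ?_
    haveI : IsIso (π ⁻¹ᵁ (U : X.Opens)).toSpecΓ := by
      rw [← (U.2.preimage π).isoSpec_hom]; infer_instance
    haveI : IsIso (U : X.Opens).toSpecΓ := by
      rw [← U.2.isoSpec_hom]; infer_instance
    refine (MorphismProperty.arrow_mk_iso_iff @UniversallyInjective
      (Arrow.isoMk (asIso (π ⁻¹ᵁ (U : X.Opens)).toSpecΓ) (asIso (U : X.Opens).toSpecΓ)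
        (Scheme.Opens.toSpecΓ_naturality π U) :
        Arrow.mk (π ∣_ (U : X.Opens)) ≅ Arrow.mk (Spec.map (π.app U)))).mpr ?_
    refine CAlgRedStab.universallyInjective_Spec_of (π.app U).hom ?_
    intro K _ g g' hgg
    by_cases hη : genericPoint X ∈ (U : X.Opens)
    · haveI : Nonempty (U : X.Opens) := ⟨⟨_, hη⟩⟩
      letI : Algebra Γ(X, U) X.functionField := (X.presheaf.germ U _ hη).hom.toAlgebra
      haveI : IsFractionRing Γ(X, U) X.functionField :=
        functionField_isFractionRing_of_isAffineOpen X U U.2
      obtain ⟨θ, hθ, hcomp, hrange⟩ := NormDim1.exists_chart (X := X) U.2 hη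
      let e : Γ(Curv2.normalization X, π ⁻¹ᵁ U) ≃+*
          integralClosure Γ(X, U) X.functionField :=
        RingEquiv.ofBijective (θ.codRestrict (integralClosure Γ(X, U) X.functionField).toSubring
          fun b => (hrange _).1 ⟨b, rfl⟩)
        ⟨fun a b h => hθ (congrArg Subtype.val h), fun z => by
          obtain ⟨b, hb⟩ := (hrange _).2 z.2
          exact ⟨b, Subtype.ext hb⟩⟩
      have he : ∀ a, e ((π.app U).hom a) = algebraMap Γ(X, U) _ a := fun a => Subtype.ext (hcomp a)
      have key : UnibranchLib.RadField (algebraMap Γ(X, U) (integralClosure Γ(X, U) X.functionField)) := by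
        intro K' _ h h' hh
        haveI : (RingHom.ker (h.comp (algebraMap Γ(X, U) (integralClosure Γ(X, U) X.functionField)))).IsPrime :=
          RingHom.ker_isPrime _
        let P : PrimeSpectrum Γ(X, U) := ⟨RingHom.ker (h.comp (algebraMap Γ(X, U) (integralClosure Γ(X, U) X.functionField))), RingHom.ker_isPrime _⟩
        have hxU : U.2.fromSpec P ∈ (U : X.Opens) := U.2.range_fromSpec.subset ⟨P, rfl⟩
        letI := X.presheaf.algebra_section_stalk ⟨U.2.fromSpec P, hxU⟩
        haveI : IsLocalization.AtPrime (X.presheaf.stalk (U.2.fromSpec P)) P.asIdeal :=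
          U.2.isLocalization_stalk' P hxU
        exact (UnibranchLib.isGeomUnibranch_iff_points X.functionField P.asIdeal
          (X.presheaf.stalk (U.2.fromSpec P))).1 (hX _) K' h h' hh rfl
      have := key K (g.comp e.symm.toRingHom) (g'.comp e.symm.toRingHom) (RingHom.ext fun a => by
        simp only [RingHom.comp_apply]
        rw [← he a]
        simpa using RingHom.congr_fun hgg a)
      exact RingHom.ext fun x => by simpa using RingHom.congr_fun this (e x)
    · have hU : (U : X.Opens) = ⊥ := by
        by_contra h
        exact hη ((genericPoint_spec X).mem_open_set_iff (U : X.Opens).2 |>.2 (by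
          obtain ⟨x, hx⟩ := Set.nonempty_iff_ne_empty.2
            (fun h0 => h (TopologicalSpace.Opens.ext h0))
          exact ⟨x, trivial, hx⟩))
      haveI : Subsingleton Γ(X, U) := by
        rw [hU]
        exact CommRingCat.subsingleton_of_isTerminal X.sheaf.isTerminalOfEmpty
      exact absurd (congrArg g (map_one (π.app U).hom).symm)
        (by rw [Subsingleton.elim (1 : Γ(X, U)) 0, map_zero, map_zero, map_one]; exact one_ne_zero)
  have hs : Surjective π := by
    refine ⟨?_⟩
    rw [← Set.range_eq_univ]
    have hc : IsClosed (Set.range π) := π.isClosedMap.isClosed_range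
    refine Set.eq_univ_of_univ_subset ?_
    rw [← (genericPoint_spec X).def, hc.closure_subset_iff, Set.singleton_subset_iff]
    obtain ⟨z, hz⟩ : genericPoint X ∈ Set.range (X.fromSpecStalk (genericPoint X)) := by
      rw [Scheme.range_fromSpecStalk]; exact specializes_rfl
    refine ⟨(X.fromSpecStalk (genericPoint X)).toNormalization z, ?_⟩
    show ((X.fromSpecStalk (genericPoint X)).toNormalization ≫
      (X.fromSpecStalk (genericPoint X)).fromNormalization) z = genericPoint X
    rw [Scheme.Hom.toNormalization_fromNormalization]
    exact hz
  exact FlatBasics.isUnivHomeo_of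

end Groth.Agent.S9689
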