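import Groth.Statements.S9691
import Groth.Agent.GenLocus.AmplePull


set_option autoImplicit false
universe u
open CategoryTheory CategoryTheory.Limits AlgebraicGeometry
open Mor

namespace Groth.Agent.S9691

/-- Let f : X ⟶ S be a morphism of schemes and L an invertible O_X-module which is ample relative to f.
Then f is separated. -/
theorem result {X S : Scheme.{u}} (f : X ⟶ S) (L : X.Modules)
    (hL : RelAmple.IsRelAmple f L) : IsSeparated f := by
  refine IsZariskiLocalAtTarget.of_iSup_eq_top (P := @IsSeparated)
    (fun V : S.affineOpens ↦ V.1) (iSup_affineOpens_eq_top S) fun V ↦ ?_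
  haveI : (f ⁻¹ᵁ V.1).toScheme.IsSeparated := Groth.Agent.GenLocus.isSeparated_of_isAmple (hL.2 V)
  infer_instance

end Groth.Agent.S9691
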