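import Groth.Agent.HProjLib.Basic
import Groth.Agent.S1616
import Groth.Statements.S9692
-- import your own Groth.Agent.* helpers here

set_option autoImplicit false
set_option backward.isDefEq.respectTransparency false
set_option backward.isDefEq.respectTransparency.types false
universe u
open CategoryTheory CategoryTheory.Limits AlgebraicGeometry
open Mor

namespace Groth.Agent.S9692

/-- A composition of H-projective morphisms (closed immersions into a projective space P^n over the
target, followed by the projection) is H-projective. -/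
theorem result {X Y Z : Scheme.{u}} (f : X ⟶ Y) (g : Y ⟶ Z)
    (hf : RelProj.IsHProjective f) (hg : RelProj.IsHProjective g) :
    RelProj.IsHProjective (f ≫ g) := by
  obtain ⟨n, i, hi, rfl⟩ := hf
  obtain ⟨m, j, hj, rfl⟩ := hg
  obtain ⟨e, he⟩ := Groth.Agent.HProjLib.exists_bcIso n (j ≫ CohB1.ProjSpaceOver.toBase m Z)
  obtain ⟨φ, hφ, hφt⟩ := Groth.Agent.S1616.result Z n m
  haveI := hi; haveI := hj; haveI := hφ
  haveI := Groth.Agent.HProjLib.isClosedImmersion_map_snd (CohB1.ProjSpaceOver.toBase n Z) j (CohB1.ProjSpaceOver.toBase m Z)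
  refine ⟨n * m + n + m, i ≫ e.inv ≫ pullback.map (CohB1.ProjSpaceOver.toBase n Z) (j ≫ CohB1.ProjSpaceOver.toBase m Z) (CohB1.ProjSpaceOver.toBase n Z) (CohB1.ProjSpaceOver.toBase m Z) (𝟙 _) j (𝟙 _) (by simp) (by simp) ≫ φ, inferInstance, ?_⟩
  simp only [Category.assoc, hφt, ← he, Iso.inv_hom_id_assoc]
  simp only [pullback.map]
  erw [pullback.lift_fst_assoc]
  have he' : CohB1.ProjSpaceOver.toBase n Y = e.inv ≫ pullback.snd _ _ := by rw [← he, Iso.inv_hom_id_assoc]
  rw [he']
  simp [pullback.condition]

end Groth.Agent.S9692
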