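import Groth.Statements.S9695
import Groth.Agent.ProjUPLib.AmpleTwist
import Groth.Agent.ProjUPLib.RelVeryAmple
-- import your own Groth.Agent.* helpers here

set_option autoImplicit false
universe u
open CategoryTheory CategoryTheory.Limits AlgebraicGeometry
open Mor

namespace Groth.Agent.S9695

/-- Suppose f : X ⟶ S is a morphism of finite type and L is an invertible O_X-module. Then L is
f-relatively ample exactly when S can be covered by open subsets V with the following property: for
every such V there is an integer d ≥ 1 for which the tensor power L^{⊗d}, restricted to f⁻¹(V), is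
isomorphic to the pullback of O(1) under some V-immersion of f⁻¹(V) into a projective space P^n_V. -/
theorem result {X S : Scheme.{u}} (f : X ⟶ S)
    [LocallyOfFiniteType f] [QuasiCompact f] (L : X.Modules) (hLinv : PicF.IsInvertible L) :
    RelAmple.IsRelAmple f L ↔
      ∃ (ι : Type u) (V : ι → S.Opens), (⨆ j, V j) = ⊤ ∧
        ∀ j, ∃ d : ℕ, 0 < d ∧
          RelAmple.IsRelVeryAmplePn (f ∣_ V j) ((CohB1.tensorPow L d).restrict (f ⁻¹ᵁ V j).ι) := by
  constructor
  · intro h
    refine ⟨S.affineOpens, fun V ↦ V.1, iSup_affineOpens_eq_top S, fun V ↦ ?_⟩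
    haveI : IsAffine V.1 := V.2
    obtain ⟨n₀, hn₀⟩ := Filter.eventually_atTop.1
      (Groth.Agent.ProjUPLib.eventually_veryAmple_pow (f ∣_ V.1) (h.2 V))
    exact ⟨n₀ + 1, n₀.succ_pos, Groth.Agent.ProjUPLib.isRelVeryAmplePn_of_iso _
      (Groth.Agent.ProjUPLib.restrictPowIso hLinv (f ⁻¹ᵁ V.1) _).symm (hn₀ _ n₀.le_succ)⟩
  · rintro ⟨ι, V, hV, h⟩
    refine Groth.Agent.GenLocus.isRelAmple_of_cover f V hV fun j ↦ ?_
    obtain ⟨d, hd, hj⟩ := h j
    exact Groth.Agent.ProjUPLib.isRelAmple_of_tensorPow _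
      (Groth.Agent.TensorMod.isInvertible_restrict hLinv _) hd
      (Groth.Agent.ProjUPLib.isRelAmple_of_iso _ (Groth.Agent.ProjUPLib.restrictPowIso hLinv (f ⁻¹ᵁ V j) d)
        (Groth.Agent.ProjUPLib.isRelAmple_of_isRelVeryAmplePn _ hj))

end Groth.Agent.S9695
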