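import Groth.Statements.S9696
import Groth.Agent.UnramFibre.Basic
import Groth.Agent.Unram.Pointwise


set_option autoImplicit false
universe u
open CategoryTheory CategoryTheory.Limits AlgebraicGeometry
open Mor

namespace Groth.Agent.S9696

/-- Let f : X ⟶ S be flat and locally of finite presentation and g : S' ⟶ S any morphism, with base
change f' : X ×_S S' ⟶ S' and projection g' : X ×_S S' ⟶ X. Then the open set of points where f' is
etale is the inverse image under g' of the open set of points where f is etale. -/
theorem result {X S S' : Scheme.{u}} (f : X ⟶ S) [Flat f]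
    [LocallyOfFinitePresentation f] (g : S' ⟶ S) (x' : ↑(pullback f g)) :
    (∃ U' : (pullback f g).Opens, x' ∈ U' ∧ Etale (U'.ι ≫ pullback.snd f g)) ↔
      (∃ U : X.Opens, (pullback.fst f g).base x' ∈ U ∧ Etale (U.ι ≫ f)) := by
  constructor
  · rintro ⟨U', hx', hU'⟩
    haveI := hU'
    have h : ((pullback.snd f g).stalkMap x').hom.FormallyUnramified :=
      (Groth.Agent.Unram.unramified_nhd_iff _ x').mp ⟨U', hx', inferInstance⟩
    obtain ⟨U, hxU, hU⟩ := (Groth.Agent.Unram.unramified_nhd_iff f _).mpr
      (Groth.Agent.UnramFibre.formallyUnramified_stalkMap_of_baseChange f g x' h)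
    haveI := hU
    exact ⟨U, hxU, Etale.of_formallyUnramified_of_flat (U.ι ≫ f)⟩
  · rintro ⟨U, hxU, hU⟩
    exact ⟨pullback.fst f g ⁻¹ᵁ U, hxU, MorphismProperty.of_isPullback (P := @Etale)
        ((isPullback_morphismRestrict (pullback.fst f g) U).paste_vert (IsPullback.of_hasPullback f g)) hU⟩

end Groth.Agent.S9696
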