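import Groth.Statements.S9698


set_option autoImplicit false
universe u
open CategoryTheory CategoryTheory.Limits AlgebraicGeometry
open Mor

namespace Groth.Agent.S9698

open scoped AlgebraicGeometry
open AlgebraicGeometry CategoryTheory Opposite TopologicalSpace

theorem restrict_closed_of_surj {X Y : Scheme.{u}} (i : X ⟶ Y) (W : Y.Opens) (hW : IsAffineOpen W)
    (hW' : IsAffineOpen (i ⁻¹ᵁ W)) (h : Function.Surjective (i.app W)) :
    IsClosedImmersion (i ∣_ W) := by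
  have : IsAffine (W : Scheme.{u}) := hW
  have : IsAffine ((i ⁻¹ᵁ W : X.Opens) : Scheme.{u}) := hW'
  apply IsClosedImmersion.of_surjective_of_isAffine
  rw [morphismRestrict_appTop]
  have key : ∀ W' : Y.Opens, W' = W → Function.Surjective (i.app W') := by
    rintro _ rfl; exact h
  exact ((ConcreteCategory.bijective_of_isIso
    (X.presheaf.map (eqToHom (image_morphismRestrict_preimage i W ⊤)).op)).2).comp
    (key _ W.ι_image_top)

theorem local_chart {X S : Scheme.{u}} (π : X ⟶ S) [LocallyOfFiniteType π] [X.IsQuasiAffine]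
    (h : Γ(X, ⊤)) (hh : IsAffineOpen (X.basicOpen h)) (V : S.Opens) (hV : IsAffineOpen V)
    (hle : X.basicOpen h ≤ π ⁻¹ᵁ V) :
    ∃ G : Finset Γ(X, ⊤), ∀ (n : Type u) (v : n → Γ(X, ⊤)), (∀ g ∈ G, ∃ k, v k = g) →
      ∃ W : (𝔸(n; S)).Opens, X.basicOpen h ≤ (AffineSpace.homOfVector π v) ⁻¹ᵁ W ∧
        IsClosedImmersion ((AffineSpace.homOfVector π v) ∣_ W) := by
  classical
  set U := X.basicOpen h with hU
  let ρ : Γ(X, ⊤) →+* Γ(X, U) := (X.presheaf.map (homOfLE le_top).op).hom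
  letI := (π.appLE V U hle).hom.toAlgebra
  have hft : Algebra.FiniteType Γ(S, V) Γ(X, U) := π.finiteType_appLE hV hh hle
  obtain ⟨s, hs⟩ := hft.out
  have hloc : ∀ t : Γ(X, U), ∃ (N : ℕ) (g : Γ(X, ⊤)), ρ g = ρ h ^ N * t := fun t =>
    exists_eq_pow_mul_of_isCompact_of_isQuasiSeparated X ⊤ CompactSpace.isCompact_univ
      isQuasiSeparated_univ h t
  choose N g hg using hloc
  refine ⟨insert h (s.image g), fun n v hv => ?_⟩
  obtain ⟨k, hk⟩ := hv h (Finset.mem_insert_self _ _)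
  set i := AffineSpace.homOfVector π v with hi
  set p := 𝔸(n; S) ↘ S with hp
  have hip : i ≫ p = π := AffineSpace.homOfVector_over _ _
  let c := AffineSpace.coord (n := n) S
  let W : (𝔸(n; S)).Opens := (𝔸(n; S)).basicOpen ((𝔸(n; S)).presheaf.map (homOfLE (le_top : p ⁻¹ᵁ V ≤ ⊤)).op (c k))
  have hW : IsAffineOpen W := (hV.preimage p).basicOpen _
  have hWle : W ≤ p ⁻¹ᵁ V := Scheme.basicOpen_le _ _
  have hpre : i ⁻¹ᵁ W = U := by
    have hc : i.appTop (c k) = h := by rw [hi, AffineSpace.homOfVector_appTop_coord, hk]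
    show i ⁻¹ᵁ ((𝔸(n; S)).basicOpen _) = _
    rw [Scheme.basicOpen_res, Scheme.Hom.preimage_inf, Scheme.preimage_basicOpen_top, hc,
      ← Scheme.Hom.comp_preimage, hip]
    exact inf_eq_right.mpr hle
  refine ⟨W, hpre.ge, restrict_closed_of_surj i W hW (hpre ▸ hh) ?_⟩
  -- surjectivity
  let φ : Γ(𝔸(n; S), W) →+* Γ(X, U) := (i.appLE W U hpre.ge).hom
  suffices Function.Surjective φ by
    have key : ∀ (U' : X.Opens) (e : i ⁻¹ᵁ W = U'), Function.Surjective (i.appLE W U' e.ge) →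
        Function.Surjective (i.app W) := by
      rintro _ rfl h'
      rwa [Scheme.Hom.app_eq_appLE]
    exact key U hpre this
  have hcomp : ∀ r : Γ(S, V), φ ((p.appLE V W hWle) r) = π.appLE V U hle r := by
    intro r
    have h1 : p.appLE V W hWle ≫ i.appLE W U hpre.ge = π.appLE V U hle := by
      rw [Scheme.Hom.appLE_comp_appLE]
      congr 1
    exact congrArg (fun f => (f : Γ(S, V) ⟶ Γ(X, U)) r) h1
  have hglob : ∀ k' : n, φ ((𝔸(n; S)).presheaf.map (homOfLE (le_top : W ≤ ⊤)).op (c k')) = ρ (v k') := by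
    intro k'
    have h1 : i.appTop ≫ X.presheaf.map (homOfLE (le_top : U ≤ ⊤)).op =
        (𝔸(n; S)).presheaf.map (homOfLE (le_top : W ≤ ⊤)).op ≫ i.appLE W U hpre.ge := by
      rw [Scheme.Hom.map_appLE]
      rfl
    have h2 := congrArg (fun f => (f : Γ(𝔸(n; S), ⊤) ⟶ Γ(X, U)) (c k')) h1
    simp only [CommRingCat.comp_apply] at h2
    rw [AffineSpace.homOfVector_appTop_coord] at h2
    exact h2.symm
  have hρh : IsUnit (ρ h) := RingedSpace.isUnit_res_basicOpen _ h
  have hinv : ∃ z, φ z * ρ h = 1 := by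
    have hu : IsUnit ((𝔸(n; S)).presheaf.map (homOfLE (le_top : W ≤ ⊤)).op (c k)) := by
      have := RingedSpace.isUnit_res_basicOpen _
        ((𝔸(n; S)).presheaf.map (homOfLE (le_top : p ⁻¹ᵁ V ≤ ⊤)).op (c k))
      rw [← CommRingCat.comp_apply, ← Functor.map_comp] at this
      exact this
    obtain ⟨u, hu⟩ := hu
    refine ⟨u.inv, ?_⟩
    rw [← hk, ← hglob, ← hu, ← map_mul, Units.inv_eq_val_inv, Units.inv_mul, map_one]
  intro y
  suffices y ∈ φ.range from this
  have hy : y ∈ Algebra.adjoin Γ(S, V) (s : Set Γ(X, U)) := hs ▸ Algebra.mem_top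
  induction hy using Algebra.adjoin_induction with
  | mem t ht =>
    obtain ⟨k', hk'⟩ := hv (g t) (Finset.mem_insert_of_mem (Finset.mem_image_of_mem g ht))
    obtain ⟨z, hz⟩ := hinv
    refine ⟨z ^ N t * (𝔸(n; S)).presheaf.map (homOfLE (le_top : W ≤ ⊤)).op (c k'), ?_⟩
    rw [map_mul, map_pow, hglob, hk', hg, ← mul_assoc, ← mul_pow, hz, one_pow, one_mul]
  | algebraMap r => exact ⟨_, hcomp r⟩
  | add x y _ _ hx hy => exact add_mem hx hy
  | mul x y _ _ hx hy => exact mul_mem hx hy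

/-- Let π : X ⟶ S be locally of finite type with X quasi-affine. Then there exist n ≥ 0 and an immersion
i : X ⟶ A^n_S over S (affine n-space on the index type Fin n, lifted to the ambient universe). -/
theorem result {X S : Scheme.{u}} (π : X ⟶ S)
    [LocallyOfFiniteType π] [X.IsQuasiAffine] :
    ∃ (n : ℕ) (i : X ⟶ 𝔸(ULift.{u} (Fin n); S)), IsImmersion i ∧ i ≫ (𝔸(ULift.{u} (Fin n); S) ↘ S) = π := by
  classical
  have key : ∀ x : X, ∃ h : Γ(X, ⊤), ∃ V : S.Opens, IsAffineOpen (X.basicOpen h) ∧ IsAffineOpen V ∧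
      x ∈ X.basicOpen h ∧ X.basicOpen h ≤ π ⁻¹ᵁ V := by
    intro x
    obtain ⟨V, hV, hxV, -⟩ := exists_isAffineOpen_mem_and_subset
      (TopologicalSpace.Opens.mem_top (π.base x))
    obtain ⟨_, ⟨h, hh, rfl⟩, hxh, hle⟩ := TopologicalSpace.Opens.isBasis_iff_nbhd.mp
      (Scheme.IsQuasiAffine.isBasis_basicOpen X) (U := π ⁻¹ᵁ V) hxV
    exact ⟨h, V, hh, hV, hxh, hle⟩
  choose h V hh hV hxh hle using key
  obtain ⟨t, ht⟩ := isCompact_univ.elim_finite_subcover (fun x => (X.basicOpen (h x) : Set X))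
    (fun x => (X.basicOpen (h x)).2) (fun x _ => Set.mem_iUnion.mpr ⟨x, hxh x⟩)
  choose G hG using fun x => local_chart π (h x) (hh x) (V x) (hV x) (hle x)
  let A := t.biUnion G
  let v : ULift.{u} (Fin A.card) → Γ(X, ⊤) := fun k => (A.equivFin.symm k.down).1
  have hv : ∀ x ∈ t, ∀ g ∈ G x, ∃ k, v k = g := fun x hx g hg =>
    ⟨ULift.up (A.equivFin ⟨g, Finset.mem_biUnion.mpr ⟨x, hx, hg⟩⟩), by simp [v]⟩
  choose W hW hcl using fun x : t => hG x.1 _ v (hv x.1 x.2)
  set i := AffineSpace.homOfVector π v with hi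
  refine ⟨A.card, i, ?_, AffineSpace.homOfVector_over _ _⟩
  let U := ⨆ x, W x
  have hpre : i ⁻¹ᵁ U = ⊤ := by
    refine top_le_iff.mp fun x _ => ?_
    obtain ⟨y, hy, hxy⟩ := Set.mem_iUnion₂.mp (ht (Set.mem_univ x))
    exact TopologicalSpace.Opens.mem_iSup.mpr ⟨⟨y, hy⟩, hW ⟨y, hy⟩ hxy⟩
  have hcU : IsClosedImmersion (i ∣_ U) := by
    rw [IsZariskiLocalAtTarget.iff_of_iSup_eq_top (P := @IsClosedImmersion) (fun x => U.ι ⁻¹ᵁ W x)]
    · intro x
      rw [MorphismProperty.arrow_mk_iso_iff (@IsClosedImmersion) (morphismRestrictRestrict i U _),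
        MorphismProperty.arrow_mk_iso_iff (@IsClosedImmersion) (morphismRestrictEq i (V := W x) ?_)]
      · exact hcl x
      · rw [Scheme.Hom.image_preimage_eq_opensRange_inf, Scheme.Opens.opensRange_ι]
        exact inf_eq_right.mpr (le_iSup W x)
    · exact (U.ι.preimage_iSup (U := W)).symm.trans U.ι_preimage_self
  have : IsIso (i ⁻¹ᵁ U).ι := by
    rw [hpre]; exact inferInstanceAs (IsIso X.topIso.hom)
  have : i = inv (i ⁻¹ᵁ U).ι ≫ (i ∣_ U) ≫ U.ι := by simp [morphismRestrict_ι]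
  rw [this]
  infer_instance

end Groth.Agent.S9698
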