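import Groth.Statements.S9700
import Groth.Agent.ValDense.Basic


set_option autoImplicit false
set_option backward.isDefEq.respectTransparency false
set_option backward.isDefEq.respectTransparency.types false
universe u
open CategoryTheory CategoryTheory.Limits AlgebraicGeometry
open Mor

namespace Groth.Agent.S9700

/-- Let f : X ⟶ S and h : U ⟶ X be quasi-compact with h(U) dense in X. Suppose each valuative square
over f, whose map Spec K ⟶ X factors through h, has a unique diagonal lift. Then f is universally
closed, and f is also separated provided it is quasi-separated. -/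
theorem result {U X S : Scheme.{u}} (f : X ⟶ S) (h : U ⟶ X)
    [QuasiCompact f] [QuasiCompact h] (hd : DenseRange h.base)
    (H : ∀ sq : ValuativeCommSq f, (∃ i : Spec (.of sq.K) ⟶ U, i ≫ h = sq.i₁) →
      Nonempty (Unique sq.commSq.LiftStruct)) :
    UniversallyClosed f ∧ (QuasiSeparated f → IsSeparated f) := by
  have hE : Groth.Agent.ValDense.ExistAlong h f := fun z R φ hφ => by
    obtain ⟨u⟩ := H ⟨R, U.residueField z, U.fromSpecResidueField z ≫ h, φ, ⟨by rw [Category.assoc]; exact hφ.symm⟩⟩
      ⟨U.fromSpecResidueField z, rfl⟩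
    exact ⟨u.default.l, u.default.fac_left, u.default.fac_right⟩
  have hU : Groth.Agent.ValDense.UniqueAlong h f := fun z R l₁ l₂ e h₁ h₂ => by
    obtain ⟨u⟩ := H ⟨R, U.residueField z, U.fromSpecResidueField z ≫ h, l₁ ≫ f, ⟨by rw [← h₁]; exact Category.assoc _ _ _⟩⟩
      ⟨U.fromSpecResidueField z, rfl⟩
    exact congrArg CommSq.LiftStruct.l ((u.uniq ⟨l₁, h₁, rfl⟩).trans (u.uniq ⟨l₂, h₂, e.symm⟩).symm)
  refine ⟨Groth.Agent.ValDense.universallyClosed_of_along h f hd hE hU, fun hqs => ?_⟩
  haveI := hqs
  exact Groth.Agent.ValDense.isSeparated_of_uniqueAlong h f hd hU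

end Groth.Agent.S9700
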