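import Groth.Statements.S9702
import Groth.Agent.GenFinite.Basic


set_option autoImplicit false
universe u
open CategoryTheory CategoryTheory.Limits AlgebraicGeometry
open Mor

namespace Groth.Agent.S9702

/-- Let X, Y be integral and f : X ⟶ Y dominant and locally of finite type, with ξ the generic point of
X (so f ξ is the generic point of Y). Then the following are equivalent: the residue field of ξ is
finite over that of f ξ; some nonempty affine opens U ⊆ X and V ⊆ Y with f(U) ⊆ V have U ⟶ V finite;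
every point of X that f sends to the generic point of Y equals ξ. Under the extra assumption that f
is quasi-compact or separated, these are also equivalent to: f⁻¹(V) ⟶ V is finite for some nonempty
affine open V ⊆ Y. (The published statement also lists transcendence degree 0 of the function field
extension, which for this finitely generated extension is equivalent to finiteness; this row omits
it.) -/
theorem result {X Y : Scheme.{u}} [IsIntegral X] [IsIntegral Y] (f : X ⟶ Y)
    [IsDominant f] [LocallyOfFiniteType f] :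
    let ξ := genericPoint ↥X
    let A := letI := (f.residueFieldMap ξ).hom.toAlgebra
      Module.Finite (Y.residueField (f.base ξ)) (X.residueField ξ)
    let B := ∃ (U : X.Opens) (V : Y.Opens) (hUV : U ≤ f ⁻¹ᵁ V), IsAffineOpen U ∧ IsAffineOpen V ∧
      Nonempty ↥U ∧ IsFinite (f.resLE V U hUV)
    let C := ∀ x : X, f.base x = genericPoint ↥Y → x = ξ
    let D := ∃ V : Y.Opens, IsAffineOpen V ∧ Nonempty ↥V ∧ IsFinite (f ∣_ V)
    (A ↔ B) ∧ (A ↔ C) ∧ (IsSeparated f ∨ QuasiCompact f → (A ↔ D)) := by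
  intro ξ A B C D
  set η := genericPoint ↥Y with hη_def
  have hfξ : f.base ξ = η := by
    have h := (genericPoint_spec ↥X).image f.base.hom.continuous
    rw [Set.image_univ, f.denseRange.closure_range] at h
    exact h.eq (genericPoint_spec ↥Y)
  have hη : η ∈ Groth.Agent.Birat.Max Y := by
    obtain ⟨z, hz, hzη⟩ := Groth.Agent.Birat.exists_max_specializes η
    have e : η = z := ((genericPoint_specializes z).antisymm hzη).eq
    exact e ▸ hz
  -- QF at ξ gives A
  have hqfA : f.QuasiFiniteAt ξ → A := fun h =>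
    (Groth.Agent.FlatMorLib.isClosed_singleton_asFiber_iff f ξ).mp
      ((Groth.Agent.FlatMorLib.quasiFiniteAt_iff_isClosed_and_maximal f ξ).mp h).1
  have hAC : A → C := by
    intro hA x hx
    have hcl := (Groth.Agent.FlatMorLib.isClosed_singleton_asFiber_iff f ξ).mpr hA
    obtain ⟨w, hw⟩ : x ∈ Set.range (f.fiberι (f.base ξ)) := by
      rw [f.range_fiberι]; exact hx.trans hfξ.symm
    have h2 : f.asFiber ξ ⤳ w := by
      refine (f.fiberι (f.base ξ)).isEmbedding.isInducing.specializes_iff.mp ?_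
      rw [hw, f.fiberι_asFiber]; exact genericPoint_specializes x
    rw [← hw, Set.mem_singleton_iff.mp (hcl.closure_subset h2.mem_closure), f.fiberι_asFiber]
  have hCA : C → A := by
    intro hC
    have hfin : (f.base ⁻¹' {f.base ξ}).Finite :=
      (Set.finite_singleton ξ).subset fun x hx => hC x (hx.trans hfξ)
    haveI : Finite (f.fiber (f.base ξ)) := (f.fiberHomeo (f.base ξ)).finite_iff.mpr hfin
    exact hqfA (Scheme.Hom.quasiFiniteAt_iff_isOpen_singleton_asFiber.mpr (isOpen_discrete _))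
  have hCB : C → B := by
    intro hC
    obtain ⟨_, ⟨V, hV, rfl⟩, hηV, -⟩ :=
      Y.isBasis_affineOpens.exists_subset_of_mem_open (Set.mem_univ η) isOpen_univ
    obtain ⟨U, hU, hξU, hUV⟩ := exists_isAffineOpen_mem_and_subset (U := f ⁻¹ᵁ V) (x := ξ)
      (show f.base ξ ∈ V from hfξ ▸ hηV)
    obtain ⟨U', W, e, hU', hW, hηW, -, -, hsub, hfinite⟩ :=
      Groth.Agent.GenFinite.exists_resLE_finite f η hη U hU hV hηV hUV
        ((Set.finite_singleton ξ).subset fun x hx => hC x hx.1)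
    exact ⟨U', W, e, hU', hW, ⟨⟨ξ, hsub ⟨hfξ, hξU⟩⟩⟩, hfinite⟩
  have hqf_of : ∀ (U : X.Opens) (V : Y.Opens) (e : U ≤ f ⁻¹ᵁ V), IsFinite (f.resLE V U e) → ξ ∈ U →
      f.QuasiFiniteAt ξ := by
    intro U V e hfin hξU
    haveI := hfin
    obtain ⟨a, ha⟩ : ∃ a : (U : Scheme.{u}), U.ι a = ξ := ⟨⟨ξ, hξU⟩, rfl⟩
    have h1 : (f.resLE V U e).QuasiFiniteAt a :=
      ((f.resLE V U e).quasiFiniteLocus_eq_top_iff.mpr inferInstance).ge trivial
    have h2 : (f.resLE V U e ≫ V.ι).QuasiFiniteAt a := by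
      rwa [Scheme.Hom.quasiFiniteAt_comp_iff]
    rw [Scheme.Hom.resLE_comp_ι, Scheme.Hom.quasiFiniteAt_comp_iff_of_isOpenImmersion, ha] at h2
    exact h2
  have hBA : B → A := by
    rintro ⟨U, V, hUV, -, -, ⟨⟨z, hz⟩⟩, hfin⟩
    exact hqfA (hqf_of U V hUV hfin ((genericPoint_specializes z).mem_open U.2 hz))
  have hDA : D → A := by
    rintro ⟨V, -, ⟨⟨v, hv⟩⟩, hfin⟩
    refine hqfA (hqf_of (f ⁻¹ᵁ V) V le_rfl ?_ ?_)
    · rwa [Scheme.Hom.resLE_eq_morphismRestrict]
    · show f.base ξ ∈ V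
      rw [hfξ]; exact (genericPoint_specializes v).mem_open V.2 hv
  refine ⟨⟨fun h => hCB (hAC h), hBA⟩, ⟨hAC, hCA⟩, fun hor => ⟨fun hA => ?_, hDA⟩⟩
  have hC := hAC hA
  rcases hor with hsep | hqc
  · obtain ⟨U, V, hUV, hU, hV, ⟨⟨z, hz⟩⟩, hfin⟩ := hCB hC
    have hξU : ξ ∈ U := (genericPoint_specializes z).mem_open U.2 hz
    refine ⟨V, hV, ⟨⟨f.base ξ, hUV hξU⟩⟩, ?_⟩
    let j := X.homOfLE hUV
    haveI : IsFinite (j ≫ (f ∣_ V)) := hfin
    haveI : IsSeparated (f ∣_ V) := inferInstance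
    haveI : IsFinite j := IsFinite.of_comp j (f ∣_ V)
    haveI : IrreducibleSpace ((f ⁻¹ᵁ V : X.Opens) : Scheme.{u}) := by
      haveI : Nonempty ((f ⁻¹ᵁ V : X.Opens) : Scheme.{u}) := ⟨⟨ξ, hUV hξU⟩⟩
      infer_instance
    haveI : Surjective j := by
      constructor
      rw [← Set.range_eq_univ]
      refine IsClopen.eq_univ ⟨j.isClosedMap.isClosed_range, j.isOpenEmbedding.isOpen_range⟩ ?_
      exact ⟨_, ⟨⟨ξ, hξU⟩, rfl⟩⟩
    haveI : IsIso j := isIso_of_isOpenImmersion_of_opensRange_eq_top j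
      (eq_top_iff.mpr fun x _ => j.surjective x)
    haveI : IsFinite (inv j ≫ j ≫ (f ∣_ V)) := inferInstance
    rwa [IsIso.inv_hom_id_assoc] at this
  · haveI := hqc
    obtain ⟨_, ⟨V, hV, rfl⟩, hηV, -⟩ :=
      Y.isBasis_affineOpens.exists_subset_of_mem_open (Set.mem_univ η) isOpen_univ
    obtain ⟨U, hU, hξU, hUV⟩ := exists_isAffineOpen_mem_and_subset (U := f ⁻¹ᵁ V) (x := ξ)
      (show f.base ξ ∈ V from hfξ ▸ hηV)
    obtain ⟨W, hW, hηW, -, hfinite⟩ := Groth.Agent.GenFinite.exists_affine_finite f η hη U hU hV hηV hUV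
      (fun x hx => (hC x hx) ▸ hξU) ((Set.finite_singleton ξ).subset fun x hx => hC x hx)
    exact ⟨W, hW, ⟨⟨η, hηW⟩⟩, hfinite⟩

end Groth.Agent.S9702
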