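import Groth.Statements.S9703
import Groth.Agent.UnivSplit.Basic
import Mathlib.AlgebraicGeometry.Morphisms.Finite
import Mathlib.AlgebraicGeometry.Morphisms.FinitePresentation
import Mathlib.AlgebraicGeometry.Morphisms.Flat


set_option autoImplicit false
set_option backward.isDefEq.respectTransparency false
set_option backward.isDefEq.respectTransparency.types false
universe u
open CategoryTheory CategoryTheory.Limits AlgebraicGeometry TensorProduct
open Mor

namespace Groth.Agent.S9703

section Pre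
open Polynomial TensorProduct

lemma exists_cover {S : Type u} [CommRing S] {B : Type u} [CommRing B] [Algebra S B] (P : S[X]) (hP : P.Monic)
    {m : ℕ} (v : Fin m → S) (hv : P = ∏ j, (X - C (v j))) : ∀ l : List B, (∀ b ∈ l, aeval b P = 0) →
    ∃ (D : Type u) (_ : CommRing D) (_ : Algebra S D), Module.Finite S D ∧ Module.Free S D ∧
      ∃ φ : D →ₐ[S] B, (∀ b ∈ l, b ∈ φ.range) ∧
        ∃ (N : ℕ) (σ : Fin N → (D →ₐ[S] S)), ∀ q : Ideal D, q.IsPrime →
          ∃ s, ∀ x : D, x - algebraMap S D (σ s x) ∈ q := by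
  intro l
  induction l with
  | nil =>
    intro _
    refine ⟨S, inferInstance, inferInstance, inferInstance, inferInstance, Algebra.ofId S B, by simp, 1,
      fun _ => AlgHom.id S S, fun q _ => ⟨0, fun x => ?_⟩⟩
    simp
  | cons b l ih =>
    intro h
    obtain ⟨D, _, _, hfin, hfree, φ, hl, N, σ, hσ⟩ := ih fun b' hb' => h b' (List.mem_cons_of_mem _ hb')
    let P' : D[X] := P.map (algebraMap S D)
    have hP' : P'.Monic := hP.map _
    haveI : Module.Finite D (AdjoinRoot P') := hP'.finite_adjoinRoot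
    haveI : Module.Free D (AdjoinRoot P') := hP'.free_adjoinRoot
    letI : Algebra D B := φ.toRingHom.toAlgebra
    haveI : IsScalarTower S D B := .of_algebraMap_eq fun c => (φ.commutes c).symm
    have hb : P'.eval₂ (algebraMap D B) b = 0 := by
      rw [eval₂_map, ← IsScalarTower.algebraMap_eq]
      exact h b List.mem_cons_self
    let φ' : AdjoinRoot P' →ₐ[D] B := AdjoinRoot.liftAlgHom P' (Algebra.ofId D B) b hb
    have hroot : ∀ s, ∀ j, P'.eval₂ (σ s).toRingHom (v j) = 0 := fun s j => by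
      rw [eval₂_map, show (σ s).toRingHom.comp (algebraMap S D) = algebraMap S S from (σ s).comp_algebraMap, hv, eval₂_finsetProd]
      exact Finset.prod_eq_zero (Finset.mem_univ j) (by simp)
    let σ' : Fin N × Fin m → (AdjoinRoot P' →ₐ[S] S) := fun p =>
      { AdjoinRoot.lift (σ p.1).toRingHom (v p.2) (hroot p.1 p.2) with
        commutes' := fun c => by
          show AdjoinRoot.lift (σ p.1).toRingHom (v p.2) (hroot p.1 p.2) (algebraMap S (AdjoinRoot P') c) = _
          rw [IsScalarTower.algebraMap_apply S D (AdjoinRoot P'), AdjoinRoot.algebraMap_eq, AdjoinRoot.lift_of]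
          exact (σ p.1).commutes c }
    refine ⟨AdjoinRoot P', inferInstance, inferInstance, Module.Finite.trans D _, Module.Free.trans (R := S) (S := D),
      φ'.restrictScalars S, ?_, N * m, fun t => σ' (finProdFinEquiv.symm t), fun q hq => ?_⟩
    · intro b' hb'
      rcases List.mem_cons.1 hb' with rfl | hb'
      · exact ⟨AdjoinRoot.root P', AdjoinRoot.lift_root hb⟩
      · obtain ⟨d, hd⟩ := hl b' hb'
        exact ⟨algebraMap D _ d, (φ'.commutes d).trans hd⟩
    · obtain ⟨s, hs⟩ := hσ (q.comap (algebraMap D (AdjoinRoot P'))) (Ideal.comap_isPrime _ _)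
      have hprod : ∏ j, (AdjoinRoot.root P' - algebraMap S (AdjoinRoot P') (v j)) = 0 := by
        have h0 : P.eval₂ ((AdjoinRoot.of P').comp (algebraMap S D)) (AdjoinRoot.root P') = 0 := by
          rw [← eval₂_map]
          exact AdjoinRoot.eval₂_root P'
        rw [hv, eval₂_finsetProd] at h0
        simpa [IsScalarTower.algebraMap_apply S D (AdjoinRoot P'), AdjoinRoot.algebraMap_eq] using h0
      obtain ⟨j, -, hj⟩ := (hq.prod_mem_iff).1 (hprod ▸ q.zero_mem)
      refine ⟨finProdFinEquiv (s, j), fun x => ?_⟩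
      simp only [Equiv.symm_apply_apply]
      let e : AdjoinRoot P' →+* AdjoinRoot P' ⧸ q := Ideal.Quotient.mk q
      refine (Ideal.Quotient.eq).1 ?_
      refine RingHom.congr_fun (?_ : e = e.comp ((algebraMap S (AdjoinRoot P')).comp (σ' (s, j)).toRingHom)) x
      refine AdjoinRoot.ringHom_ext (RingHom.ext fun d => Ideal.Quotient.eq.2 ?_) (Ideal.Quotient.eq.2 ?_)
      · have := hs d
        rw [Ideal.mem_comap, map_sub, ← IsScalarTower.algebraMap_apply] at this
        simpa [σ', AdjoinRoot.algebraMap_eq] using this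
      · simpa [σ'] using hj

end Pre

section Pre2
open CategoryTheory AlgebraicGeometry

lemma isFinLocFree_specMap (A B : Type u) [CommRing A] [CommRing B] [Algebra A B] [Module.Finite A B] [Module.Free A B] :
    Mor2.IsFinLocFree (Spec.map (CommRingCat.ofHom (algebraMap A B))) := by
  haveI : Module.FinitePresentation A B := Module.finitePresentation_of_projective A B
  haveI : Algebra.FinitePresentation A B := Algebra.FinitePresentation.of_finitePresentation A B
  exact ⟨(IsFinite.SpecMap_iff _).2 (RingHom.finite_algebraMap.2 inferInstance),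
    HasRingHomProperty.Spec_iff.2 (RingHom.flat_algebraMap_iff.2 inferInstance),
    HasRingHomProperty.Spec_iff.2 (RingHom.finitePresentation_algebraMap.2 inferInstance)⟩

lemma isFinLocFree_comp_iso {X Y Z : Scheme.{u}} (f : X ⟶ Y) (hf : Mor2.IsFinLocFree f) (g : Y ⟶ Z) [IsIso g] :
    Mor2.IsFinLocFree (f ≫ g) := by
  obtain ⟨h1, h2, h3⟩ := hf
  exact ⟨inferInstance, inferInstance, inferInstance⟩

end Pre2

/-- Let f : Y ⟶ X be finite with X affine. Then there exist a surjective finite locally free b : X' ⟶ X,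
a finite locally free c : Z' ⟶ X' and a closed immersion i of Y' = X' ×_X Y into Z' over X' such
that Z' is, as a set, the union of finitely many closed subschemes each mapping isomorphically onto
X'. (The published statement also records that Y' ⟶ Y is surjective finite locally free, which
follows by base change; this row omits it.) -/
theorem result {X Y : Scheme.{u}} [IsAffine X] (f : Y ⟶ X)
    [IsFinite f] :
    ∃ (X' : Scheme.{u}) (b : X' ⟶ X) (Z' : Scheme.{u}) (c : Z' ⟶ X') (i : pullback f b ⟶ Z'),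
      Mor2.IsFinLocFree b ∧ Surjective b ∧ Mor2.IsFinLocFree c ∧ IsClosedImmersion i ∧
      i ≫ c = pullback.snd f b ∧
      ∃ (m : ℕ) (Zj : Fin m → Scheme.{u}) (ιj : ∀ j, Zj j ⟶ Z'),
        (∀ j, IsClosedImmersion (ιj j)) ∧ (∀ j, IsIso (ιj j ≫ c)) ∧
        (⋃ j, Set.range (ιj j).base) = Set.univ := by
  haveI : IsAffine Y := isAffine_of_isAffineHom f
  algebraize [f.appTop.hom]
  have hfin : Module.Finite Γ(X, ⊤) Γ(Y, ⊤) := ((HasAffineProperty.iff_of_isAffine (P := @IsFinite)).1 (inferInstance : IsFinite f)).2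
  obtain ⟨gs, hgs⟩ := hfin.1
  choose p hpm hp using fun b : Γ(Y, ⊤) => (Algebra.IsIntegral.isIntegral b : IsIntegral Γ(X, ⊤) b)
  classical
  let P : Polynomial Γ(X, ⊤) := ∏ b ∈ gs, p b
  have hPm : P.Monic := Polynomial.monic_prod_of_monic _ _ fun b _ => hpm b
  obtain ⟨S, _, _, v, hv, ⟨bS⟩⟩ := UnivSplit.exists_univ _ P hPm rfl
  have hroots : ∀ z ∈ gs.toList.map (fun b => (1 : S) ⊗ₜ[Γ(X, ⊤)] b), Polynomial.aeval z (P.map (algebraMap Γ(X, ⊤) S)) = 0 := by
    intro z hz
    obtain ⟨b, hb, rfl⟩ := List.mem_map.1 hz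
    rw [Polynomial.aeval_map_algebraMap, show (1 : S) ⊗ₜ[Γ(X, ⊤)] b = (Algebra.TensorProduct.includeRight : Γ(Y, ⊤) →ₐ[Γ(X, ⊤)] S ⊗[Γ(X, ⊤)] Γ(Y, ⊤)) b from rfl,
      Polynomial.aeval_algHom_apply]
    rw [show Polynomial.aeval b P = 0 from ?_, map_zero]
    rw [map_prod]
    exact Finset.prod_eq_zero (Finset.mem_toList.1 hb) (hp b)
  obtain ⟨D, _, _, _, _, φ, hφ, N, σ, hσ⟩ := exists_cover (P.map (algebraMap Γ(X, ⊤) S)) (hPm.map _) v hv.eq _ hroots
  have hsur : Function.Surjective φ := by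
    rw [← AlgHom.range_eq_top, eq_top_iff]
    rintro z -
    induction z using TensorProduct.induction_on with
    | zero => exact zero_mem _
    | add a b ha hb => exact add_mem ha hb
    | tmul s b =>
      have hb : (1 : S) ⊗ₜ[Γ(X, ⊤)] b ∈ φ.range := by
        have hmem : b ∈ Submodule.span Γ(X, ⊤) (gs : Set Γ(Y, ⊤)) := hgs ▸ Submodule.mem_top
        induction hmem using Submodule.span_induction with
        | mem x hx => exact hφ _ (List.mem_map.2 ⟨x, Finset.mem_toList.2 hx, rfl⟩)
        | zero => rw [TensorProduct.tmul_zero]; exact zero_mem _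
        | add x y _ _ hx hy => rw [TensorProduct.tmul_add]; exact add_mem hx hy
        | smul c x _ hx =>
          rw [TensorProduct.tmul_smul, ← algebraMap_smul S c]
          exact Subalgebra.smul_mem _ hx _
      rw [show s ⊗ₜ[Γ(X, ⊤)] b = s • ((1 : S) ⊗ₜ[Γ(X, ⊤)] b) by rw [TensorProduct.smul_tmul', smul_eq_mul, mul_one]]
      exact Subalgebra.smul_mem _ hb _
  haveI : Module.Free Γ(X, ⊤) S := Module.Free.of_basis bS
  haveI : Module.Finite Γ(X, ⊤) S := Module.Finite.of_basis bS
  let ψ : CommRingCat.of Γ(X, ⊤) ⟶ CommRingCat.of S := CommRingCat.ofHom (algebraMap Γ(X, ⊤) S)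
  have hs1 : Surjective (Spec.map ψ) := by
    rcases subsingleton_or_nontrivial Γ(X, ⊤) with h | h
    · exact ⟨fun z => (IsEmpty.false (α := PrimeSpectrum Γ(X, ⊤)) z).elim⟩
    · haveI : Nonempty (Fin P.natDegree.factorial) := Fin.pos_iff_nonempty.1 (Nat.factorial_pos _)
      haveI : Nontrivial S := bS.repr.toEquiv.nontrivial
      haveI : Module.FaithfullyFlat Γ(X, ⊤) S := inferInstance
      exact ⟨PrimeSpectrum.comap_surjective_of_faithfullyFlat (A := Γ(X, ⊤)) (B := S)⟩
  let b : Spec (CommRingCat.of S) ⟶ X := Spec.map ψ ≫ X.isoSpec.inv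
  let c : Spec (CommRingCat.of D) ⟶ Spec (CommRingCat.of S) := Spec.map (CommRingCat.ofHom (algebraMap S D))
  let e : pullback f b ≅ Spec (CommRingCat.of (Γ(Y, ⊤) ⊗[Γ(X, ⊤)] S)) :=
    asIso (pullback.map f b (Spec.map (CommRingCat.ofHom (algebraMap Γ(X, ⊤) Γ(Y, ⊤)))) (Spec.map ψ)
      Y.isoSpec.hom (𝟙 _) X.isoSpec.hom (Scheme.isoSpec_hom_naturality f).symm (by simp [b])) ≪≫
      pullbackSpecIso Γ(X, ⊤) Γ(Y, ⊤) S
  let θ : D →+* Γ(Y, ⊤) ⊗[Γ(X, ⊤)] S :=
    (Algebra.TensorProduct.comm Γ(X, ⊤) S Γ(Y, ⊤)).toRingEquiv.toRingHom.comp φ.toRingHom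
  refine ⟨_, b, _, c, e.hom ≫ Spec.map (CommRingCat.ofHom θ), ?_, inferInstanceAs (Surjective (Spec.map ψ ≫ X.isoSpec.inv)), ?_, ?_, ?_,
    N, fun _ => Spec (CommRingCat.of S), fun s => Spec.map (CommRingCat.ofHom (σ s).toRingHom), ?_, ?_, ?_⟩
  · exact isFinLocFree_comp_iso _ (isFinLocFree_specMap _ _) _
  · exact isFinLocFree_specMap _ _
  · haveI : IsClosedImmersion (Spec.map (CommRingCat.ofHom θ)) := IsClosedImmersion.spec_of_surjective _
      ((Algebra.TensorProduct.comm Γ(X, ⊤) S Γ(Y, ⊤)).surjective.comp hsur)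
    infer_instance
  · show (e.hom ≫ Spec.map (CommRingCat.ofHom θ)) ≫ Spec.map (CommRingCat.ofHom (algebraMap S D)) = _
    rw [Category.assoc, ← Spec.map_comp]
    have : CommRingCat.ofHom (algebraMap S D) ≫ CommRingCat.ofHom θ =
        CommRingCat.ofHom (Algebra.TensorProduct.includeRight : S →ₐ[Γ(X, ⊤)] Γ(Y, ⊤) ⊗[Γ(X, ⊤)] S).toRingHom := by
      ext s
      simp [θ, φ.commutes, Algebra.TensorProduct.algebraMap_apply]
    rw [this]
    simp [e]
    erw [pullback.lift_snd]
    exact Category.comp_id _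
  · exact fun s => IsClosedImmersion.spec_of_surjective _ fun x => ⟨algebraMap S D x, (σ s).commutes x⟩
  · intro s
    rw [← Spec.map_comp]
    have : CommRingCat.ofHom (algebraMap S D) ≫ CommRingCat.ofHom (σ s).toRingHom = 𝟙 _ := by
      ext x
      exact (σ s).commutes x
    rw [this, Spec.map_id]
    infer_instance
  · refine Set.eq_univ_of_forall fun q => ?_
    obtain ⟨s, hs⟩ := hσ q.asIdeal q.2
    refine Set.mem_iUnion.2 ⟨s, ⟨q.asIdeal.comap (algebraMap S D), Ideal.comap_isPrime _ _⟩, ?_⟩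
    refine PrimeSpectrum.ext (Ideal.ext fun x => ?_)
    show algebraMap S D (σ s x) ∈ q.asIdeal ↔ x ∈ q.asIdeal
    exact ⟨fun h => by simpa using q.asIdeal.add_mem (hs x) h, fun h => by simpa using q.asIdeal.sub_mem h (hs x)⟩

end Groth.Agent.S9703
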