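import Groth.Statements.S9709
import Groth.Agent.FpqcDescent.Basic
import Mathlib.AlgebraicGeometry.Morphisms.FlatDescent


set_option autoImplicit false
universe u
open CategoryTheory CategoryTheory.Limits AlgebraicGeometry
open Mor

namespace Groth.Agent.S9709

/-- Let f : X ⟶ S be an integral morphism. Then every point x of X is closed in its fibre: a point of
f⁻¹(f x) specialising from x equals x. -/
theorem result {X S : Scheme.{u}} (f : X ⟶ S) [IsIntegralHom f] (x : X) :
    closure {x} ∩ f.base ⁻¹' {f.base x} = {x} := by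
  refine Set.Subset.antisymm ?_ ?_
  · rintro y ⟨hy, hfy⟩
    obtain ⟨_, ⟨V, hV, rfl⟩, hxV, -⟩ :=
      S.isBasis_affineOpens.exists_subset_of_mem_open (Set.mem_univ (f x)) isOpen_univ
    have hW : IsAffineOpen (f ⁻¹ᵁ V) := hV.preimage f
    have hxy : x ⤳ y := specializes_iff_mem_closure.mpr hy
    obtain ⟨p, rfl⟩ : x ∈ Set.range hW.fromSpec := by rw [hW.range_fromSpec]; exact hxV
    obtain ⟨q, rfl⟩ : y ∈ Set.range hW.fromSpec := by
      rw [hW.range_fromSpec]
      change f y ∈ V
      rw [show f y = f (hW.fromSpec p) from hfy]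
      exact hxV
    have hpq : p ⤳ q := hW.fromSpec.isOpenEmbedding.isInducing.specializes_iff.mp hxy
    replace hpq := (PrimeSpectrum.le_iff_specializes p q).mpr hpq
    have hint := IsIntegralHom.isIntegral_app (f := f) V hV
    have hcomap : PrimeSpectrum.comap (f.app V).hom q = PrimeSpectrum.comap (f.app V).hom p := by
      apply hV.fromSpec.isOpenEmbedding.injective
      have h := fun z ↦ congr(($(hV.SpecMap_appLE_fromSpec f hW le_rfl)).base z)
      simp only [← Scheme.Hom.app_eq_appLE, Scheme.Hom.comp_base, TopCat.comp_app] at h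
      exact (h q).trans (hfy.trans (h p).symm)
    congr 1
    refine PrimeSpectrum.ext (le_antisymm (fun z hz ↦ ?_) hpq)
    by_contra hzp
    algebraize [(f.app V).hom]
    exact (Ideal.comap_lt_comap_of_integral_mem_sdiff (R := Γ(S, V)) hpq ⟨hz, hzp⟩
      (hint z)).ne (congrArg PrimeSpectrum.asIdeal hcomap).symm
  · rintro y rfl
    exact ⟨subset_closure rfl, rfl⟩

end Groth.Agent.S9709
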