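import Groth.Statements.S9712
import Groth.Agent.ProjUPLib.QProjAmple
import Groth.Agent.S4381
-- import your own Groth.Agent.* helpers here

set_option autoImplicit false
universe u
open CategoryTheory CategoryTheory.Limits AlgebraicGeometry
open Mor

namespace Groth.Agent.S9712

/-- A morphism f : X ⟶ S is locally quasi-projective (S is covered by opens U with f⁻¹(U) ⟶ U
quasi-projective) if and only if S is covered by opens U such that f⁻¹(U) ⟶ U is H-quasi-projective
(a quasi-compact immersion into some P^n_U followed by the projection). -/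
theorem result {X S : Scheme.{u}} (f : X ⟶ S) :
    (∀ s : S, ∃ U : S.Opens, s ∈ U ∧ RelProj.IsQuasiProjective (f ∣_ U)) ↔
      (∀ s : S, ∃ U : S.Opens, s ∈ U ∧ RelProj.IsHQuasiProjective (f ∣_ U)) := by
  constructor
  · intro h s
    obtain ⟨U, hsU, h1, h2, L, hL⟩ := h s
    obtain ⟨V, hV, hsV, hVU⟩ := TopologicalSpace.Opens.isBasis_iff_nbhd.1 S.isBasis_affineOpens hsU
    refine ⟨V, hsV, ?_⟩
    haveI : IsAffine (Scheme.Opens.toScheme V) := hV
    have sq : IsPullback (X.homOfLE (show f ⁻¹ᵁ V ≤ f ⁻¹ᵁ U from fun x hx ↦ hVU hx)) (f ∣_ V) (f ∣_ U)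
        (S.homOfLE hVU) := by
      refine IsPullback.of_right ?_ ?_ (isPullback_morphismRestrict f U).flip
      · rw [Scheme.homOfLE_ι, Scheme.homOfLE_ι]
        exact (isPullback_morphismRestrict f V).flip
      · rw [← cancel_mono U.ι, Category.assoc, Category.assoc, morphismRestrict_ι, Scheme.homOfLE_ι_assoc,
          Scheme.homOfLE_ι, morphismRestrict_ι]
    haveI : LocallyOfFiniteType (f ∣_ V) := MorphismProperty.of_isPullback sq h1
    haveI : QuasiCompact (f ∣_ V) := MorphismProperty.of_isPullback sq h2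
    exact Groth.Agent.ProjUPLib.exists_immersion_of_ample (f ∣_ V)
      ⟨_, (Groth.Agent.S4381.result (f ∣_ V) _).1 (Groth.Agent.ProjUPLib.isRelAmple_baseChange sq hL)⟩
  · intro h s
    obtain ⟨U, hsU, n, i, hi, hq, hif⟩ := h s
    exact ⟨U, hsU, Groth.Agent.ProjUPLib.of_immersion (f ∣_ U) i hif⟩

end Groth.Agent.S9712
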