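import Groth.Statements.S9716
import Groth.Agent.FinLocFreeSections.Basic
import Groth.Agent.QCohBase.Qcqs
import Mathlib.RingTheory.Finiteness.ModuleFinitePresentation
import Mathlib.RingTheory.Flat.EquationalCriterion
import Mathlib.AlgebraicGeometry.Morphisms.Finite
import Mathlib.AlgebraicGeometry.Morphisms.Flat
import Mathlib.AlgebraicGeometry.Morphisms.FinitePresentation


set_option autoImplicit false
universe u
open CategoryTheory AlgebraicGeometry
open Mor

namespace Groth.Agent.S9716

/-- (1) ⇔ (2): a morphism f : X ⟶ S is affine with direct image f_*O_X a finite locally free O_S-module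
(locally on S isomorphic to a finite direct sum of copies of the structure sheaf, of possibly
varying rank) if and only if f is finite, flat and locally of finite presentation. -/
theorem result {X S : Scheme.{u}} (f : X ⟶ S) :
    (IsAffineHom f ∧ FlatMod.IsFinLocFree ((Scheme.Modules.pushforward f).obj (Coh.structureModule X))) ↔
      Mor2.IsFinLocFree f := by
  let F := (Scheme.Modules.pushforward f).obj (Coh.structureModule X)
  have hq : IsAffineHom f → F.IsQuasicoherent := fun _ => by
    haveI : (Coh.structureModule X).IsQuasicoherent := Groth.Agent.TensorMod.isQCoh_structureModule X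
    exact Groth.Agent.QCohBase.isQuasicoherent_pushforward _ f
  letI alg : ∀ V : S.Opens, Algebra Γ(S, V) Γ(X, f ⁻¹ᵁ V) := fun V => (f.app V).hom.toAlgebra
  have e : ∀ V : S.Opens, Nonempty (Γ(F, V) ≃ₗ[Γ(S, V)] Γ(X, f ⁻¹ᵁ V)) := fun V =>
    ⟨{ toFun := fun x => x, invFun := fun x => x, map_add' := fun _ _ => rfl,
       map_smul' := fun _ _ => rfl, left_inv := fun _ => rfl, right_inv := fun _ => rfl }⟩
  constructor
  · rintro ⟨hf, h⟩
    haveI := hq hf
    haveI := hf
    have hV : ∀ V : S.Opens, IsAffineOpen V →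
        Module.Finite Γ(S, V) Γ(X, f ⁻¹ᵁ V) ∧ Module.Projective Γ(S, V) Γ(X, f ⁻¹ᵁ V) := fun V hV => by
      obtain ⟨h1, h2⟩ := (Groth.Agent.FinLocFreeSections.isFinLocFree_iff F).1 h V hV
      obtain ⟨e⟩ := e V
      exact ⟨Module.Finite.equiv e, Module.Projective.of_equiv' e⟩
    have hx : ∀ x : X, ∃ V : S.affineOpens, x ∈ f ⁻¹ᵁ V.1 := fun x => by
      obtain ⟨_, ⟨V, hV, rfl⟩, hxV, -⟩ :=
        S.isBasis_affineOpens.exists_subset_of_mem_open (Set.mem_univ (f x)) isOpen_univ
      exact ⟨⟨V, hV⟩, hxV⟩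
    refine ⟨⟨fun V hV' => (hV V hV').1⟩, ?_, ?_⟩
    · refine (HasRingHomProperty.iff_exists_appLE (P := @Flat)
        (RingHom.Flat.stableUnderComposition.stableUnderCompositionWithLocalizationAway
          RingHom.Flat.holdsForLocalizationAway).1).2 fun x => ?_
      obtain ⟨V, hxV⟩ := hx x
      refine ⟨V, ⟨f ⁻¹ᵁ V.1, V.2.preimage f⟩, hxV, le_rfl, ?_⟩
      rw [← Scheme.Hom.app_eq_appLE]
      haveI := (hV V.1 V.2).2
      exact RingHom.flat_algebraMap_iff.2 inferInstance
    · refine (HasRingHomProperty.iff_exists_appLE (P := @LocallyOfFinitePresentation)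
        (RingHom.finitePresentation_stableUnderComposition.stableUnderCompositionWithLocalizationAway
          RingHom.finitePresentation_holdsForLocalizationAway).1).2 fun x => ?_
      obtain ⟨V, hxV⟩ := hx x
      refine ⟨V, ⟨f ⁻¹ᵁ V.1, V.2.preimage f⟩, hxV, le_rfl, ?_⟩
      rw [← Scheme.Hom.app_eq_appLE]
      haveI := (hV V.1 V.2).1
      haveI := (hV V.1 V.2).2
      haveI := Module.finitePresentation_of_projective Γ(S, V.1) Γ(X, f ⁻¹ᵁ V.1)
      exact RingHom.finitePresentation_algebraMap.2 inferInstance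
  · rintro ⟨hf, hfl, hfp⟩
    haveI := hf
    haveI := hfl
    haveI := hfp
    haveI := hq inferInstance
    refine ⟨inferInstance, (Groth.Agent.FinLocFreeSections.isFinLocFree_iff F).2 fun V hV => ?_⟩
    haveI : Module.Finite Γ(S, V) Γ(X, f ⁻¹ᵁ V) := f.finite_app V hV
    haveI : Module.Flat Γ(S, V) Γ(X, f ⁻¹ᵁ V) := by
      rw [← RingHom.flat_algebraMap_iff]
      show (f.app V).hom.Flat
      rw [Scheme.Hom.app_eq_appLE]
      exact HasRingHomProperty.appLE @Flat f hfl ⟨V, hV⟩ ⟨_, hV.preimage f⟩ le_rfl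
    haveI : Algebra.FinitePresentation Γ(S, V) Γ(X, f ⁻¹ᵁ V) := by
      rw [← RingHom.finitePresentation_algebraMap]
      show (f.app V).hom.FinitePresentation
      rw [Scheme.Hom.app_eq_appLE]
      exact HasRingHomProperty.appLE @LocallyOfFinitePresentation f hfp ⟨V, hV⟩ ⟨_, hV.preimage f⟩ le_rfl
    haveI := Module.FinitePresentation.of_finite_of_finitePresentation Γ(S, V) Γ(X, f ⁻¹ᵁ V)
    haveI : Module.Projective Γ(S, V) Γ(X, f ⁻¹ᵁ V) := Module.Flat.projective_of_finitePresentation
    obtain ⟨e⟩ := e V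
    exact ⟨Module.Finite.equiv e.symm, Module.Projective.of_equiv' e.symm⟩

end Groth.Agent.S9716
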