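import Groth.Statements.S9725
import Mathlib
import Groth.Agent.FlatSlice.Scheme
import Groth.Agent.SmoothStalk.Fibre
import Groth.Agent.S0558
-- import your own Groth.Agent.* helpers here

set_option autoImplicit false
universe u
open FlatMor

open AlgebraicGeometry CategoryTheory CategoryTheory.Limits TensorProduct IsLocalRing

namespace Groth.Agent.S9725

/-- a formally smooth local algebra modulo a function with nonzero differential is formally smooth -/
theorem formallySmooth_quotient {R O : Type u} [CommRing R] [CommRing O] [IsLocalRing O] [Algebra R O]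
    [Algebra.FormallySmooth R O] [Module.Finite O Ω[O⁄R]] (h : O)
    (hd : (1 : ResidueField O) ⊗ₜ[O] KaehlerDifferential.D R O h ≠ 0)
    {C : Type u} [CommRing C] [Algebra R C] [Algebra O C] [IsScalarTower R O C]
    (hC : Function.Surjective (algebraMap O C)) (hk : RingHom.ker (algebraMap O C) = Ideal.span {h}) :
    Algebra.FormallySmooth R C := by
  classical
  have : Module.Free O Ω[O⁄R] := Module.free_of_flat_of_isLocalRing
  let b := Module.Free.chooseBasis O Ω[O⁄R]
  obtain ⟨i, hi⟩ : ∃ i, IsUnit (b.repr (KaehlerDifferential.D R O h) i) := by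
    by_contra! hne
    apply hd
    rw [← b.sum_repr (KaehlerDifferential.D R O h), TensorProduct.tmul_sum]
    refine Finset.sum_eq_zero fun i _ => ?_
    rw [TensorProduct.tmul_smul, TensorProduct.smul_tmul', Algebra.smul_def, mul_one,
      ResidueField.algebraMap_eq, (residue_eq_zero_iff _).2 ((mem_maximalIdeal _).2 (hne i)), TensorProduct.zero_tmul]
  let lam : Ω[O⁄R] →ₗ[O] O := (↑hi.unit⁻¹ : O) • b.coord i
  have hlam : lam (KaehlerDifferential.D R O h) = 1 := hi.val_inv_mul
  refine (Algebra.FormallySmooth.iff_split_injection hC).2 ?_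
  have hh : h ∈ RingHom.ker (algebraMap O C) := hk.ge (Ideal.mem_span_singleton_self h)
  let eC : (O ⧸ RingHom.ker (algebraMap O C)) ≃ₐ[O] C := Ideal.quotientKerAlgEquivOfSurjective (f := Algebra.ofId O C) hC
  let z := (RingHom.ker (algebraMap O C)).toCotangent ⟨h, hh⟩
  let toCot : (O ⧸ RingHom.ker (algebraMap O C)) →ₗ[O] (RingHom.ker (algebraMap O C)).Cotangent :=
    Submodule.liftQ _ (LinearMap.toSpanSingleton O _ z) fun a ha => by
      rw [LinearMap.mem_ker, LinearMap.toSpanSingleton_apply, ← map_smul, Ideal.toCotangent_eq_zero]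
      show a * h ∈ _
      rw [pow_two]
      exact Ideal.mul_mem_mul ha hh
  refine ⟨toCot ∘ₗ eC.symm.toLinearMap ∘ₗ (TensorProduct.rid O C).toLinearMap ∘ₗ lam.lTensor C, ?_⟩
  refine LinearMap.ext fun y => ?_
  obtain ⟨⟨y, hy⟩, rfl⟩ := Ideal.toCotangent_surjective _ y
  obtain ⟨c, rfl⟩ := Ideal.mem_span_singleton'.1 (hk.le hy)
  simp only [LinearMap.comp_apply, KaehlerDifferential.kerCotangentToTensor_toCotangent, LinearMap.lTensor_tmul,
    LinearEquiv.coe_coe, TensorProduct.rid_tmul, LinearMap.id_apply, Derivation.leibniz, map_add, map_smul, hlam]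
  rw [smul_eq_mul, smul_eq_mul, mul_one]
  have h1 : toCot (eC.symm (1 : C)) = z := by
    rw [map_one]
    show (1 : O) • z = z
    rw [one_smul]
  have h2 : (h * lam (KaehlerDifferential.D R O c)) • z = 0 := by
    rw [← map_smul, Ideal.toCotangent_eq_zero]
    show h * lam (KaehlerDifferential.D R O c) * h ∈ _
    rw [pow_two]
    exact Ideal.mul_mem_mul (Ideal.mul_mem_right _ _ hh) hh
  show (c + h * lam (KaehlerDifferential.D R O c)) • toCot (eC.symm (1 : C)) = _
  rw [h1, add_smul, h2, add_zero, ← map_smul]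
  rfl

/-- the quotient by a function with nonzero differential at a point is smooth near the point -/
theorem exists_smooth_nhd {R A O : Type u} [CommRing R] [CommRing A] [CommRing O] [IsLocalRing O]
    [Algebra R A] [Algebra.Smooth R A] [Algebra A O] [Algebra R O] [IsScalarTower R A O]
    (q : Ideal A) [q.IsPrime] [IsLocalization.AtPrime O q] (h : A) (hq : h ∈ q)
    (hd : (1 : ResidueField O) ⊗ₜ[O] KaehlerDifferential.D R O (algebraMap A O h) ≠ 0) :
    ∃ f ∉ q, Algebra.Smooth R (Localization.Away (Ideal.Quotient.mk (Ideal.span {h}) f)) := by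
  let I := Ideal.span {h}
  let P : Ideal (A ⧸ I) := q.map (Ideal.Quotient.mk I)
  have hIq : I ≤ q := (Ideal.span_singleton_le_iff_mem (I := q)).2 hq
  have : P.IsPrime := Ideal.map_isPrime_of_surjective Ideal.Quotient.mk_surjective (by rwa [Ideal.mk_ker])
  have hP : P.comap (Ideal.Quotient.mk I) = q := by
    rw [Ideal.comap_map_of_surjective _ Ideal.Quotient.mk_surjective, ← RingHom.ker_eq_comap_bot, Ideal.mk_ker,
      sup_eq_left.2 hIq]
  have hM : Algebra.algebraMapSubmonoid (A ⧸ I) q.primeCompl = P.primeCompl := by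
    ext y
    constructor
    · rintro ⟨a, ha, rfl⟩ hy
      exact ha (hP ▸ (hy : a ∈ P.comap (Ideal.Quotient.mk I)))
    · intro hy
      obtain ⟨a, rfl⟩ := Ideal.Quotient.mk_surjective y
      exact ⟨a, fun ha => hy (Ideal.mem_map_of_mem _ ha), rfl⟩
  let C := O ⧸ I.map (algebraMap A O)
  have hloc : IsLocalization.AtPrime C P := by
    show IsLocalization P.primeCompl _
    rw [← hM]
    infer_instance
  have : Algebra.FormallyEtale A O := Algebra.FormallyEtale.of_isLocalization q.primeCompl
  have : Algebra.FormallySmooth R O := Algebra.FormallySmooth.comp R A O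
  have : Algebra.EssFiniteType R O :=
    have := Algebra.EssFiniteType.of_isLocalization O q.primeCompl
    Algebra.EssFiniteType.comp R A O
  have hCs : Algebra.FormallySmooth R C :=
    formallySmooth_quotient (algebraMap A O h) hd Ideal.Quotient.mk_surjective
      (by rw [Ideal.Quotient.algebraMap_eq, Ideal.mk_ker, Ideal.map_span, Set.image_singleton])
  have : IsScalarTower R (A ⧸ I) C := IsScalarTower.of_algebraMap_eq fun r => by
    rw [IsScalarTower.algebraMap_apply R A (A ⧸ I), ← IsScalarTower.algebraMap_apply A (A ⧸ I) C,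
      ← IsScalarTower.algebraMap_apply R A C]
  have : Algebra.IsSmoothAt R P :=
    Algebra.FormallySmooth.of_equiv ((IsLocalization.algEquiv P.primeCompl C (Localization.AtPrime P)).restrictScalars R)
  have : Algebra.FinitePresentation R (A ⧸ I) := Algebra.FinitePresentation.quotient (Submodule.fg_span_singleton h)
  obtain ⟨f, hf, hs⟩ := Algebra.IsSmoothAt.exists_notMem_smooth R P
  obtain ⟨f, rfl⟩ := Ideal.Quotient.mk_surjective f
  exact ⟨f, fun h' => hf (Ideal.mem_map_of_mem _ h'), hs⟩

theorem smooth_away_mul {R B : Type u} [CommRing R] [CommRing B] [Algebra R B] [Algebra.FinitePresentation R B]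
    (f g : B) (hs : Algebra.Smooth R (Localization.Away f)) : Algebra.Smooth R (Localization.Away (f * g)) := by
  rw [← Algebra.basicOpen_subset_smoothLocus_iff_smooth] at hs ⊢
  exact fun z hz => hs fun h => hz (Ideal.mul_mem_right _ _ h)

end Groth.Agent.S9725

namespace Groth.Agent.S9725

open AlgebraicGeometry CategoryTheory Limits in
/-- Let f : X ⟶ S be a morphism and x a point such that f is smooth on an open neighbourhood of x, and
let h be an element of the maximal ideal of the local ring O_{X,x} such that the image of dh in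
Ω_{O_{X,x}/O_{S,f x}} ⊗ κ(x) (the fibre at x of the sheaf of differentials of X over S) is nonzero.
Then there are an affine open U ∋ x and a nonzerodivisor h' of Γ(X, U) with germ h at x such that
the closed subscheme V(h') of U, an effective Cartier divisor through x, is smooth over S. -/
theorem result {X S : Scheme.{u}} (f : X ⟶ S) (x : X)
    (W : X.Opens) (hxW : x ∈ W) (hW : Smooth (W.ι ≫ f))
    (h : ↑(X.presheaf.stalk x)) (hm : h ∈ IsLocalRing.maximalIdeal ↑(X.presheaf.stalk x))
    (hd : letI := (f.stalkMap x).hom.toAlgebra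
      (1 : IsLocalRing.ResidueField ↑(X.presheaf.stalk x)) ⊗ₜ[↑(X.presheaf.stalk x)]
          (KaehlerDifferential.D ↑(S.presheaf.stalk (f x)) ↑(X.presheaf.stalk x) h) ≠ 0) :
    ∃ (U : X.Opens) (hU : IsAffineOpen U) (hx : x ∈ U) (h' : Γ(X, U)), X.presheaf.germ U x hx h' = h ∧
      h' ∈ nonZeroDivisors Γ(X, U) ∧
      Smooth (Spec.map (CommRingCat.ofHom (Ideal.Quotient.mk (Ideal.span {h'}))) ≫ hU.fromSpec ≫ f) := by
  classical
  obtain ⟨_, ⟨V, hV, rfl⟩, hfx, -⟩ :=
    S.isBasis_affineOpens.exists_subset_of_mem_open (Set.mem_univ (f x)) isOpen_univ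
  obtain ⟨U, hU, hxU, l, hUW, hl⟩ := Groth.Agent.FlatSlice.exists_sections (W ⊓ f ⁻¹ᵁ V) x ⟨hxW, hfx⟩ [h]
  match l, hl with
  | [h0], hl =>
  have hh0 : X.presheaf.germ U x hxU h0 = h := List.singleton_inj.1 hl
  have hUV : U ≤ f ⁻¹ᵁ V := fun y hy => (hUW hy).2
  let R := Γ(S, V)
  let A := Γ(X, U)
  let φ := f.appLE V U hUV
  letI : Algebra R A := φ.hom.toAlgebra
  have hsm : Algebra.Smooth R A := by
    have h1 : Smooth (U.ι ≫ f) := by
      rw [← X.homOfLE_ι (show U ≤ W from fun y hy => (hUW hy).1), Category.assoc]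
      infer_instance
    have h2 : Smooth (Spec.map φ ≫ hV.fromSpec) := by
      rw [IsAffineOpen.SpecMap_appLE_fromSpec f hV hU hUV, ← hU.isoSpec_inv_ι, Category.assoc]
      infer_instance
    have h3 : Smooth (Spec.map φ) :=
      MorphismProperty.of_postcomp @Smooth (W' := @IsOpenImmersion) _ hV.fromSpec inferInstance h2
    exact RingHom.smooth_algebraMap.1 ((HasRingHomProperty.Spec_iff (P := @Smooth)).1 h3)
  let q := (hU.primeIdealOf ⟨x, hxU⟩).asIdeal
  let O := X.presheaf.stalk x
  let OS := S.presheaf.stalk (f x)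
  letI : Algebra A O := X.presheaf.algebra_section_stalk ⟨x, hxU⟩
  haveI : IsLocalization.AtPrime O q := hU.isLocalization_stalk ⟨x, hxU⟩
  letI : Algebra R OS := S.presheaf.algebra_section_stalk ⟨f x, hfx⟩
  haveI : IsLocalization.AtPrime OS (hV.primeIdealOf ⟨f x, hfx⟩).asIdeal := hV.isLocalization_stalk ⟨f x, hfx⟩
  letI : Algebra OS O := (f.stalkMap x).hom.toAlgebra
  letI : Algebra R O := ((algebraMap A O).comp (algebraMap R A)).toAlgebra
  haveI : IsScalarTower R A O := IsScalarTower.of_algebraMap_eq fun _ => rfl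
  haveI : IsScalarTower R OS O := IsScalarTower.of_algebraMap_eq fun r => by
    show X.presheaf.germ U x hxU (f.appLE V U hUV r) = f.stalkMap x (S.presheaf.germ V (f x) hfx r)
    rw [Scheme.Hom.germ_stalkMap_apply]
    exact X.presheaf.germ_res_apply _ _ hxU _
  have hdR : (1 : ResidueField O) ⊗ₜ[O] KaehlerDifferential.D R O h ≠ 0 := by
    intro h0'
    apply hd
    have := congrArg ((KaehlerDifferential.map R OS O O).lTensor (ResidueField O)) h0'
    rw [LinearMap.lTensor_tmul, map_zero, KaehlerDifferential.map_D] at this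
    exact this
  have hq : h0 ∈ q := by
    refine (IsLocalization.AtPrime.to_map_mem_maximal_iff O q h0).1 ?_
    show X.presheaf.germ U x hxU h0 ∈ _
    rw [hh0]
    exact hm
  obtain ⟨g0, hg0, hsmooth⟩ := exists_smooth_nhd (R := R) (O := O) q h0 hq (by
    show (1 : ResidueField O) ⊗ₜ[O] KaehlerDifferential.D R O (X.presheaf.germ U x hxU h0) ≠ 0
    rwa [hh0])
  -- the function is a nonzerodivisor near `x`
  let J := Ideal.map (f.stalkMap x).hom (maximalIdeal OS)
  haveI : IsRegularLocalRing (O ⧸ J) := SmoothStalk.regular_fibre f x ⟨W, hxW, hW⟩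
  haveI : IsDomain (O ⧸ J) := Groth.Agent.S0558.result _
  have hJ0 : Ideal.Quotient.mk J h ≠ 0 := by
    rw [Ne, Ideal.Quotient.eq_zero_iff_mem]
    intro hJ
    apply hd
    suffices H : ∀ y ∈ Submodule.span O ((f.stalkMap x).hom '' (maximalIdeal OS : Set OS)),
        y ∈ maximalIdeal O ∧ (1 : ResidueField O) ⊗ₜ[O] KaehlerDifferential.D OS O y = 0 from (H h hJ).2
    intro y hy
    induction hy using Submodule.span_induction with
    | mem y hy =>
      obtain ⟨a, ha, rfl⟩ := hy
      have hz : KaehlerDifferential.D OS O ((f.stalkMap x).hom a) = 0 := Derivation.map_algebraMap _ a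
      refine ⟨(mem_maximalIdeal _).2 (map_nonunit (f.stalkMap x).hom a ((mem_maximalIdeal _).1 ha)), ?_⟩
      rw [hz, TensorProduct.tmul_zero]
    | zero => exact ⟨zero_mem _, by rw [map_zero, TensorProduct.tmul_zero]⟩
    | add a b _ _ ha hb => exact ⟨add_mem ha.1 hb.1, by rw [map_add, TensorProduct.tmul_add, ha.2, hb.2, add_zero]⟩
    | smul c a _ ha =>
      refine ⟨Submodule.smul_mem _ c ha.1, ?_⟩
      rw [smul_eq_mul, Derivation.leibniz, TensorProduct.tmul_add, TensorProduct.tmul_smul, ha.2, smul_zero, zero_add,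
        TensorProduct.tmul_smul, TensorProduct.smul_tmul', Algebra.smul_def, mul_one, ResidueField.algebraMap_eq,
        (residue_eq_zero_iff _).2 ha.1, TensorProduct.zero_tmul]
  have hreg : RingTheory.Sequence.IsWeaklyRegular (O ⧸ J) [h0] := by
    rw [RingTheory.Sequence.isWeaklyRegular_singleton_iff]
    intro a b hab
    refine mul_left_cancel₀ hJ0 ?_
    have e : ∀ c : O ⧸ J, h0 • c = Ideal.Quotient.mk J h * c := fun c => by
      rw [Algebra.smul_def, IsScalarTower.algebraMap_apply A O (O ⧸ J), Ideal.Quotient.algebraMap_eq, ← hh0]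
      rfl
    rw [← e, ← e]
    exact hab
  haveI : Module.Flat R A := inferInstance
  haveI : Module.Flat A O := IsLocalization.flat O q.primeCompl
  haveI : Module.Flat R O := Module.Flat.trans R A O
  let eO : Localization.AtPrime q ≃ₐ[A] O := IsLocalization.algEquiv q.primeCompl _ _
  haveI : Module.Flat R (Localization.AtPrime q) :=
    Module.Flat.of_linearEquiv (eO.toLinearEquiv.restrictScalars R)
  have hp : q.comap (algebraMap R A) = (hV.primeIdealOf ⟨f x, hfx⟩).asIdeal :=
    congrArg PrimeSpectrum.asIdeal (IsAffineOpen.comap_primeIdealOf_appLE V hV U hU hUV hxU)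
  have hJ : J = ((q.comap (algebraMap R A)).map (algebraMap R A)).map (algebraMap A O) := by
    rw [Ideal.map_map, ← IsScalarTower.algebraMap_eq, hp, IsScalarTower.algebraMap_eq R OS O, ← Ideal.map_map]
    rw [IsLocalization.AtPrime.map_eq_maximalIdeal (hV.primeIdealOf ⟨f x, hfx⟩).asIdeal OS]
    rfl
  obtain ⟨g, hg, hsl⟩ := Groth.Agent.FlatSlice.exists_sliced (R := R) q [h0] (by
    refine ((Submodule.Quotient.equiv _ (J.restrictScalars A) eO.toLinearEquiv ?_).trans
      (Submodule.Quotient.restrictScalarsEquiv A J)).isWeaklyRegular_congr [h0] |>.2 hreg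
    rw [Submodule.map_smul'', Submodule.map_top, LinearEquiv.range, Ideal.smul_top_eq_map, hJ])
  have hw := (RingTheory.Sequence.isWeaklyRegular_singleton_iff _ h0).1 hsl.isWeaklyRegular
  -- shrink
  let G := g * g0
  have hG : G ∉ q := Ideal.IsPrime.mul_notMem inferInstance hg hg0
  let U3 := X.basicOpen G
  have hxU3 : x ∈ U3 := (X.mem_basicOpen G x hxU).2 (IsLocalization.map_units O (⟨G, hG⟩ : q.primeCompl))
  let A3 := Γ(X, U3)
  let ρ := X.presheaf.map (homOfLE (X.basicOpen_le G)).op
  letI : Algebra A A3 := ρ.hom.toAlgebra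
  haveI : IsLocalization.Away G A3 := hU.isLocalization_basicOpen G
  refine ⟨U3, hU.basicOpen G, hxU3, algebraMap A A3 h0, ?_, ?_, ?_⟩
  · exact (X.presheaf.germ_res_apply (homOfLE (X.basicOpen_le G)) x hxU3 h0).trans hh0
  · rw [mem_nonZeroDivisors_iff_left]
    intro a ha
    obtain ⟨a, s, rfl⟩ := IsLocalization.exists_mk'_eq (Submonoid.powers G) a
    rw [IsLocalization.mk'_eq_zero_iff]
    rw [IsLocalization.mul_mk'_eq_mk'_of_mul, IsLocalization.mk'_eq_zero_iff] at ha
    obtain ⟨⟨_, N, rfl⟩, hN⟩ := ha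
    have h1 : h0 • algebraMap A (Localization.Away g) (g0 ^ N * a) = h0 • (0 : Localization.Away g) := by
      rw [Algebra.smul_def, smul_zero, ← map_mul, IsLocalization.map_eq_zero_iff (Submonoid.powers g)]
      refine ⟨⟨_, N, rfl⟩, ?_⟩
      rw [← hN]
      show g ^ N * (h0 * (g0 ^ N * a)) = G ^ N * (h0 * a)
      rw [mul_pow]
      ring
    obtain ⟨⟨_, M, rfl⟩, hM⟩ := (IsLocalization.map_eq_zero_iff (Submonoid.powers g) _ _).1 (hw h1)
    refine ⟨⟨_, M + N, rfl⟩, ?_⟩
    show G ^ (M + N) * a = 0
    calc G ^ (M + N) * a = g0 ^ M * g ^ N * (g ^ M * (g0 ^ N * a)) := by rw [mul_pow]; ring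
      _ = 0 := by rw [show g ^ M * (g0 ^ N * a) = 0 from hM, mul_zero]
  · let B := A ⧸ Ideal.span {h0}
    haveI : Algebra.FinitePresentation R B := Algebra.FinitePresentation.quotient (Submodule.fg_span_singleton h0)
    let G' : B := Ideal.Quotient.mk _ g0 * Ideal.Quotient.mk _ g
    haveI hs' : Algebra.Smooth R (Localization.Away G') := smooth_away_mul _ _ hsmooth
    have h3eq : (Ideal.span {h0}).map (algebraMap A A3) = Ideal.span {algebraMap A A3 h0} := by
      rw [Ideal.map_span, Set.image_singleton]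
    letI : Algebra R A3 := ((algebraMap A A3).comp (algebraMap R A)).toAlgebra
    haveI : IsScalarTower R A A3 := IsScalarTower.of_algebraMap_eq fun _ => rfl
    let B3 := A3 ⧸ (Ideal.span {h0}).map (algebraMap A A3)
    haveI : IsScalarTower R B B3 := IsScalarTower.of_algebraMap_eq fun r => by
      rw [IsScalarTower.algebraMap_apply R A B, ← IsScalarTower.algebraMap_apply A B B3,
        ← IsScalarTower.algebraMap_apply R A B3]
    haveI : IsLocalization.Away G' B3 := by
      have e : Algebra.algebraMapSubmonoid B (Submonoid.powers G) = Submonoid.powers G' := by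
        show (Submonoid.powers G).map _ = _
        rw [Submonoid.map_powers]
        congr 1
        show Ideal.Quotient.mk _ (g * g0) = _
        rw [map_mul, mul_comm]
      show IsLocalization (Submonoid.powers G') _
      rw [← e]
      infer_instance
    haveI : Algebra.Smooth R B3 :=
      Algebra.Smooth.of_equiv ((IsLocalization.algEquiv (Submonoid.powers G') (Localization.Away G') B3).restrictScalars R)
    haveI : Algebra.Smooth R (A3 ⧸ Ideal.span {algebraMap A A3 h0}) :=
      Algebra.Smooth.of_equiv (Ideal.quotientEquivAlgOfEq R h3eq)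
    have hU3V : U3 ≤ f ⁻¹ᵁ V := (X.basicOpen_le G).trans hUV
    rw [← IsAffineOpen.SpecMap_appLE_fromSpec f hV (hU.basicOpen G) hU3V, ← Category.assoc, ← Spec.map_comp]
    haveI : Smooth (Spec.map (f.appLE V U3 hU3V ≫
        CommRingCat.ofHom (Ideal.Quotient.mk (Ideal.span {algebraMap A A3 h0})))) := by
      rw [HasRingHomProperty.Spec_iff (P := @Smooth), CommRingCat.hom_comp]
      have hcmp : (f.appLE V U3 hU3V).hom = algebraMap R A3 := by
        show _ = ρ.hom.comp φ.hom
        rw [← CommRingCat.hom_comp, Scheme.Hom.appLE_map]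
      rw [hcmp]
      exact RingHom.smooth_algebraMap.2 ‹Algebra.Smooth R (A3 ⧸ Ideal.span {algebraMap A A3 h0})›
    infer_instance

end Groth.Agent.S9725
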