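import Groth.Statements.S9724
import Groth.Agent.S9725
import Groth.Agent.CAlgJac.Basic
import Groth.Agent.FlatLocalDepth.FibreStalk

set_option autoImplicit false
universe u
open FlatMor
open scoped TensorProduct

namespace Groth.Agent.S9724

open AlgebraicGeometry CategoryTheory Limits in
/-- Let f : X ⟶ S be a morphism and x a point such that f is smooth on an open neighbourhood of x, the
residue field extension κ(x)/κ(f x) is separable (formally smooth), and x is not the generic point
of any irreducible component of the fibre over f x, i.e. (the fibre being smooth over a field near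
x) the maximal ideal of the local ring of the fibre at x is nonzero. Then there are an affine open U
∋ x and a nonzerodivisor h' of Γ(X, U) vanishing at x such that the closed subscheme V(h') of U, an
effective Cartier divisor through x, is smooth over S. -/
theorem result {X S : Scheme.{u}} (f : X ⟶ S) (x : X)
    (W : X.Opens) (hxW : x ∈ W) (hW : Smooth (W.ι ≫ f))
    (hsep : letI := (f.residueFieldMap x).hom.toAlgebra
      Algebra.FormallySmooth (S.residueField (f x)) (X.residueField x))
    (hgen : IsLocalRing.maximalIdeal ↑((f.fiber (f x)).presheaf.stalk (f.asFiber x)) ≠ ⊥) :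
    ∃ (U : X.Opens) (hU : IsAffineOpen U) (hx : x ∈ U) (h' : Γ(X, U)), h' ∈ nonZeroDivisors Γ(X, U) ∧
      X.presheaf.germ U x hx h' ∈ IsLocalRing.maximalIdeal ↑(X.presheaf.stalk x) ∧
      Smooth (Spec.map (CommRingCat.ofHom (Ideal.Quotient.mk (Ideal.span {h'}))) ≫ hU.fromSpec ≫ f) := by
  classical
  let O := X.presheaf.stalk x
  let As := S.presheaf.stalk (f x)
  let φ : As →+* O := (f.stalkMap x).hom
  letI aO : Algebra As O := φ.toAlgebra
  haveI : IsLocalHom φ := inferInstanceAs (IsLocalHom (f.stalkMap x).hom)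
  let J : Ideal O := (IsLocalRing.maximalIdeal As).map φ
  have hJ : J ≤ IsLocalRing.maximalIdeal O := IsLocalRing.map_maximalIdeal_le φ
  let k := IsLocalRing.ResidueField As
  let K := IsLocalRing.ResidueField O
  letI ak : Algebra k (O ⧸ J) := RingHom.toAlgebra (Ideal.Quotient.lift (IsLocalRing.maximalIdeal As)
    ((Ideal.Quotient.mk J).comp φ) fun a ha => Ideal.Quotient.eq_zero_iff_mem.2 (Ideal.mem_map_of_mem φ ha))
  letI aK : Algebra k K := (f.residueFieldMap x).hom.toAlgebra
  haveI : Algebra.FormallySmooth k K := hsep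
  letI aT : Algebra (O ⧸ J) K := RingHom.toAlgebra (Ideal.Quotient.lift J (IsLocalRing.residue O)
    fun a ha => Ideal.Quotient.eq_zero_iff_mem.2 (hJ ha))
  haveI : IsScalarTower k (O ⧸ J) K := IsScalarTower.of_algebraMap_eq fun a => by
    obtain ⟨a, rfl⟩ := IsLocalRing.residue_surjective a
    rfl
  have hs : Function.Surjective (algebraMap (O ⧸ J) K) := fun y => by
    obtain ⟨a, rfl⟩ := IsLocalRing.residue_surjective y
    exact ⟨Ideal.Quotient.mk J a, rfl⟩
  -- the fibre ring is Noetherian and not a field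
  obtain ⟨e⟩ := Groth.Agent.FlatLocalDepth.nonempty_asFiber_stalk_equiv f x
  haveI : IsNoetherianRing (O ⧸ J) := by
    let g := W.ι ≫ f
    let w : W := ⟨x, hxW⟩
    haveI : Smooth g := hW
    obtain ⟨e'⟩ := Groth.Agent.FlatLocalDepth.nonempty_asFiber_stalk_equiv g w
    haveI : LocallyOfFiniteType (g.fiberToSpecResidueField (g w)) :=
      MorphismProperty.pullback_snd g _ (inferInstanceAs (LocallyOfFiniteType g))
    haveI : IsLocallyNoetherian (g.fiber (g w)) := LocallyOfFiniteType.isLocallyNoetherian (g.fiberToSpecResidueField (g w))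
    haveI : IsNoetherianRing ((g.fiber (g w)).presheaf.stalk (g.asFiber w)) := inferInstance
    have h1 : IsNoetherianRing (W.toScheme.presheaf.stalk w ⧸
        (IsLocalRing.maximalIdeal (S.presheaf.stalk (g w))).map (g.stalkMap w).hom) :=
      isNoetherianRing_of_ringEquiv _ e'.symm
    let ι := asIso (W.ι.stalkMap w)
    let τ : W.toScheme.presheaf.stalk w →+* O := ι.inv.hom
    have hτ : τ.comp (g.stalkMap w).hom = φ := by
      show ((W.ι ≫ f).stalkMap w ≫ ι.inv).hom = φ
      rw [Scheme.Hom.stalkMap_comp]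
      exact congrArg CommRingCat.Hom.hom ((Category.assoc _ _ _).trans
        (congrArg (f.stalkMap x ≫ ·) ι.hom_inv_id |>.trans (Category.comp_id _)))
    refine @isNoetherianRing_of_surjective _ _ _ _ (Ideal.quotientMap J τ ?_) ?_ h1
    · rw [Ideal.map_le_iff_le_comap]
      intro a ha
      show τ ((g.stalkMap w).hom a) ∈ J
      rw [← RingHom.comp_apply, hτ]
      exact Ideal.mem_map_of_mem φ ha
    · intro y
      obtain ⟨a, rfl⟩ := Ideal.Quotient.mk_surjective y
      exact ⟨Ideal.Quotient.mk _ (ι.hom.hom a), congrArg (Ideal.Quotient.mk J)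
        (ConcreteCategory.congr_hom ι.hom_inv_id a)⟩
  haveI : IsLocalRing (O ⧸ J) := e.symm.isLocalRing
  have hker : RingHom.ker (algebraMap (O ⧸ J) K) = IsLocalRing.maximalIdeal (O ⧸ J) :=
    IsLocalRing.eq_maximalIdeal (RingHom.ker_isMaximal_of_surjective _ hs)
  obtain ⟨z, hz, hz2⟩ : ∃ z ∈ IsLocalRing.maximalIdeal (O ⧸ J), z ∉ IsLocalRing.maximalIdeal (O ⧸ J) ^ 2 := by
    by_contra! h
    have h0 : IsLocalRing.maximalIdeal (O ⧸ J) = ⊥ := Submodule.eq_bot_of_le_smul_of_le_jacobson_bot
      (IsLocalRing.maximalIdeal (O ⧸ J)) _ (IsNoetherian.noetherian _)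
      (fun z hz => by rw [smul_eq_mul, ← pow_two]; exact h z hz) (IsLocalRing.maximalIdeal_le_jacobson ⊥)
    haveI : IsField (O ⧸ J) → False := fun hF => hgen
      (IsLocalRing.isField_iff_maximalIdeal_eq.1 (e.toMulEquiv.symm.isField hF))
    exact this (IsLocalRing.isField_iff_maximalIdeal_eq.2 h0)
  obtain ⟨m, rfl⟩ := Ideal.Quotient.mk_surjective z
  have hm : m ∈ IsLocalRing.maximalIdeal O := by
    rw [← hker, RingHom.mem_ker] at hz
    exact Ideal.Quotient.eq_zero_iff_mem.1 hz
  obtain ⟨U, hU, hx, h', hg, hnz, hsm⟩ := Groth.Agent.S9725.result f x W hxW hW m hm (by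
    intro h0
    have h1 : (1 : K) ⊗ₜ[O ⧸ J] KaehlerDifferential.D k (O ⧸ J) (Ideal.Quotient.mk J m) = 0 := by
      haveI : IsScalarTower O (O ⧸ J) K := IsScalarTower.of_algebraMap_eq fun a => rfl
      haveI : IsScalarTower As k (O ⧸ J) := IsScalarTower.of_algebraMap_eq fun a => rfl
      let μ := KaehlerDifferential.map As k O (O ⧸ J)
      let ψ : TensorProduct O K (KaehlerDifferential As O) →+ TensorProduct (O ⧸ J) K (KaehlerDifferential k (O ⧸ J)) :=
        TensorProduct.liftAddHom
          (AddMonoidHom.mk' (fun c => ((TensorProduct.mk (O ⧸ J) K (KaehlerDifferential k (O ⧸ J)) c).toAddMonoidHom).comp μ.toAddMonoidHom)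
            fun a b => AddMonoidHom.ext fun ω => TensorProduct.add_tmul a b (μ ω))
          (fun r c ω => by
            show (r • c) ⊗ₜ[O ⧸ J] μ ω = c ⊗ₜ[O ⧸ J] μ (r • ω)
            rw [map_smul, ← algebraMap_smul (O ⧸ J) r c, ← algebraMap_smul (O ⧸ J) r (μ ω), TensorProduct.smul_tmul])
      have := congrArg ψ h0
      rw [map_zero] at this
      refine Eq.trans ?_ this
      show _ = (1 : K) ⊗ₜ[O ⧸ J] μ (KaehlerDifferential.D As O m)
      rw [KaehlerDifferential.map_D]
      rfl
    have hzk : Ideal.Quotient.mk J m ∈ RingHom.ker (algebraMap (O ⧸ J) K) := hker ▸ hz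
    have h2 := Groth.Agent.CAlgJac.kerCotangentToTensor_injective k (O ⧸ J) K hs
      (a₁ := (RingHom.ker (algebraMap (O ⧸ J) K)).toCotangent ⟨_, hzk⟩) (a₂ := 0)
      (by rw [KaehlerDifferential.kerCotangentToTensor_toCotangent, map_zero]; exact h1)
    rw [Ideal.toCotangent_eq_zero] at h2
    have h3 : Ideal.Quotient.mk J m ∈ RingHom.ker (algebraMap (O ⧸ J) K) ^ 2 := h2
    rw [hker] at h3
    exact hz2 h3)
  exact ⟨U, hU, hx, h', hnz, hg ▸ hm, hsm⟩

end Groth.Agent.S9724
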