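import Mathlib
import Groth.Agent.FlatLocus.Scheme
-- Template for statement S9727 (row 9726; see the milestone table for weights).
-- Copy to Groth/Agent/S9727.lean and replace the sorry. The statement below is byte-identical to the frozen
-- statement FlatMor.GrothFrozen.S9727 (Groth/Statements/S9727.lean; the theorem FlatMor.etale_nbhd_of_fibre_lifts_to_total_space);
-- the grader kernel-checks Groth.Agent.S9727.result against that frozen type. Keep the theorem IN THIS FILE
-- (a `result` declared elsewhere and merely imported here is not credited); helpers may live anywhere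
-- under Groth/Agent/.
import Groth.Statements.S9727
-- import your own Groth.Agent.* helpers here

set_option autoImplicit false
universe u
open FlatMor

open CategoryTheory AlgebraicGeometry CategoryTheory.Limits TensorProduct Polynomial

namespace Groth.Agent.S9727

/-- lifting of a standard etale pair, algebra part -/
theorem exists_lift_pair {A F : Type u} [CommRing A] [CommRing F] [Algebra A F]
    (fp gp : F[X]) (hf : fp.Monic)
    (hfl : fp ∈ Polynomial.lifts (algebraMap A F)) (hgl : gp ∈ Polynomial.lifts (algebraMap A F)) :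
    ∃ P : StandardEtalePair A, P.f.map (algebraMap A F) = fp ∧
      P.g.map (algebraMap A F) = gp * derivative fp := by
  obtain ⟨f', hf', -, hm⟩ := Polynomial.lifts_and_natDegree_eq_and_monic hfl hf
  obtain ⟨g', hg'⟩ := (Polynomial.mem_lifts gp).1 hgl
  refine ⟨⟨f', hm, g' * derivative f', g', 0, 1, by ring⟩, hf', ?_⟩
  show Polynomial.map (algebraMap A F) (g' * derivative f') = _
  rw [Polynomial.map_mul, hg', ← Polynomial.derivative_map, hf']

/-- values at a preimmersion point -/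
theorem exists_frac {X Z : Scheme.{u}} (ι : Z ⟶ X) [IsPreimmersion ι] {U : X.Opens} (hU : IsAffineOpen U)
    {W : Z.Opens} (hW : IsAffineOpen W) (e : W ≤ ι ⁻¹ᵁ U) (z : Z) (hz : z ∈ W) (c : Γ(Z, W)) :
    ∃ (a r : Γ(X, U)) (h : Γ(Z, W)), ι z ∈ X.basicOpen r ∧ z ∈ Z.basicOpen h ∧
      h * ((ι.appLE U W e).hom r * c - (ι.appLE U W e).hom a) = 0 := by
  let θ := (ι.appLE U W e).hom
  letI aX := X.presheaf.algebra_section_stalk ⟨ι z, e hz⟩
  letI aZ := Z.presheaf.algebra_section_stalk ⟨z, hz⟩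
  haveI := hU.isLocalization_stalk ⟨ι z, e hz⟩
  haveI := hW.isLocalization_stalk ⟨z, hz⟩
  have hsq : ∀ t : Γ(X, U), ι.stalkMap z (X.presheaf.germ U (ι z) (e hz) t) = Z.presheaf.germ W z hz (θ t) := by
    intro t
    show _ = Z.presheaf.germ W z hz (ι.appLE U W e t)
    rw [Scheme.Hom.germ_stalkMap_apply, Scheme.Hom.appLE, CommRingCat.comp_apply, Z.presheaf.germ_res_apply]
  obtain ⟨s, hs⟩ := ι.stalkMap_surjective z (Z.presheaf.germ W z hz c)
  obtain ⟨a, r, rfl⟩ := IsLocalization.exists_mk'_eq (hU.primeIdealOf ⟨ι z, e hz⟩).asIdeal.primeCompl s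
  have hspec := congrArg (ι.stalkMap z) (IsLocalization.mk'_spec (X.presheaf.stalk (ι z)) a r)
  rw [map_mul, hs] at hspec
  have hspec' : algebraMap Γ(Z, W) (Z.presheaf.stalk z) (θ r * c) = algebraMap Γ(Z, W) (Z.presheaf.stalk z) (θ a) := by
    show Z.presheaf.germ W z hz (θ r * c) = Z.presheaf.germ W z hz (θ a)
    rw [map_mul, ← hsq, ← hsq, mul_comm]
    exact hspec
  obtain ⟨⟨h, hh⟩, hh'⟩ := (IsLocalization.eq_iff_exists (hW.primeIdealOf ⟨z, hz⟩).asIdeal.primeCompl _).1 hspec'
  refine ⟨a, r, h, ?_, ?_, ?_⟩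
  · refine (X.mem_basicOpen (r : Γ(X, U)) (ι z) (e hz)).2 ?_
    exact IsLocalization.map_units (X.presheaf.stalk (ι z)) r
  · rw [Scheme.mem_basicOpen _ _ _ hz]
    exact IsLocalization.map_units (Z.presheaf.stalk z) (⟨h, hh⟩ : (hW.primeIdealOf ⟨z, hz⟩).asIdeal.primeCompl)
  · rw [mul_sub]
    exact sub_eq_zero.2 hh'

set_option maxHeartbeats 800000 in
theorem exists_lift_nhd {X Z V : Scheme.{u}} (ι : Z ⟶ X) [IsPreimmersion ι] (g : V ⟶ Z) [Etale g]
    (v : V) :
    ∃ (U : Scheme.{u}) (p : U ⟶ X) (Z' : Scheme.{u}) (ι' : Z' ⟶ U) (q : Z' ⟶ Z) (m : Z' ⟶ V) (z' : Z'),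
      Etale p ∧ IsPullback ι' q p ι ∧ IsOpenImmersion m ∧ m ≫ g = q ∧ p (ι' z') = ι (g v) ∧ m z' = v := by
  classical
  obtain ⟨_, ⟨UA, hUA, rfl⟩, hxUA, -⟩ :=
    X.isBasis_affineOpens.exists_subset_of_mem_open (Set.mem_univ (ι (g v))) isOpen_univ
  obtain ⟨_, ⟨W, hW, rfl⟩, hzW, eW⟩ :=
    Z.isBasis_affineOpens.exists_subset_of_mem_open (show g v ∈ (ι ⁻¹ᵁ UA : Z.Opens) from hxUA) (ι ⁻¹ᵁ UA).2
  obtain ⟨_, ⟨V', hV', rfl⟩, hvV', eV⟩ :=
    V.isBasis_affineOpens.exists_subset_of_mem_open (show v ∈ (g ⁻¹ᵁ W : V.Opens) from hzW) (g ⁻¹ᵁ W).2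
  let F := Γ(Z, W)
  let B := Γ(V, V')
  let ψ : Γ(Z, W) ⟶ Γ(V, V') := g.appLE W V' eV
  letI : Algebra F B := ψ.hom.toAlgebra
  have hψ : Algebra.Etale F B := by
    have := HasRingHomProperty.appLE @Etale g inferInstance ⟨W, hW⟩ ⟨V', hV'⟩ eV
    exact RingHom.etale_algebraMap.1 this
  let w := hV'.primeIdealOf ⟨v, hvV'⟩
  have : Algebra.IsEtaleAt F w.asIdeal := inferInstance
  obtain ⟨b, hb, hstd⟩ := Algebra.IsEtaleAt.exists_isStandardEtale (R := F) w.asIdeal
  let Pb : StandardEtalePresentation F (Localization.Away b) :=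
    hstd.nonempty_standardEtalePresentation.some
  -- denominators
  let C : Finset F := Pb.f.coeffs ∪ Pb.g.coeffs
  choose a r h hr hh heq using exists_frac ι hUA hW eW (g v) hzW
  let R0 : Γ(X, UA) := ∏ c ∈ C, r c
  let H : F := ∏ c ∈ C, h c
  have hR0 : ι (g v) ∈ X.basicOpen R0 := by
    rw [Scheme.mem_basicOpen _ _ _ hxUA, map_prod]
    exact IsUnit.prod_iff.2 fun c _ => (Scheme.mem_basicOpen _ _ _ hxUA).1 (hr c)
  have hH : g v ∈ Z.basicOpen H := by
    rw [Scheme.mem_basicOpen _ _ _ hzW, map_prod]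
    exact IsUnit.prod_iff.2 fun c _ => (Scheme.mem_basicOpen _ _ _ hzW).1 (hh c)
  obtain ⟨O, hO, hOH⟩ := ι.isEmbedding.isInducing.isOpen_iff.1 (Z.basicOpen H).2
  obtain ⟨a0, ha0, hxa0⟩ := hUA.exists_basicOpen_le (V := ⟨O, hO⟩ ⊓ X.basicOpen R0)
    ⟨ι (g v), (show g v ∈ ι ⁻¹' O from hOH ▸ hH), hR0⟩ hxUA
  let θ := ι.appLE UA W eW
  let W2 := Z.basicOpen (θ a0)
  have hW2 : IsAffineOpen W2 := hW.basicOpen _
  have hpre : ι ⁻¹ᵁ X.basicOpen a0 = W2 := by
    show _ = Z.basicOpen (ι.appLE UA W eW a0)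
    rw [Scheme.basicOpen_appLE]
    refine (inf_eq_right.2 fun y hy => ?_).symm
    have h1 : y ∈ ι ⁻¹' O := (ha0 hy).1
    rw [hOH] at h1
    exact Z.basicOpen_le H h1
  have hW2H : W2 ≤ Z.basicOpen H := fun y hy => by
    rw [← hpre] at hy
    have h1 : y ∈ ι ⁻¹' O := (ha0 hy).1
    rwa [hOH] at h1
  have hD : IsAffineOpen (X.basicOpen a0) := hUA.basicOpen _
  let A' := Γ(X, X.basicOpen a0)
  let F2 := Γ(Z, W2)
  let resX : Γ(X, UA) ⟶ A' := X.presheaf.map (homOfLE (X.basicOpen_le a0)).op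
  let resZ : Γ(Z, W) ⟶ F2 := Z.presheaf.map (homOfLE (Z.basicOpen_le (θ a0))).op
  let θ2 : A' ⟶ F2 := ι.appLE (X.basicOpen a0) W2 hpre.ge
  letI : Algebra A' F2 := θ2.hom.toAlgebra
  letI : Algebra F F2 := resZ.hom.toAlgebra
  haveI : IsLocalization.Away (θ a0) F2 := hW.isLocalization_basicOpen (θ a0)
  have hcomm : θ ≫ resZ = resX ≫ θ2 := by
    show ι.appLE UA W eW ≫ resZ = resX ≫ ι.appLE (X.basicOpen a0) W2 hpre.ge
    rw [Scheme.Hom.appLE_map, Scheme.Hom.map_appLE]
  have hlift : ∀ c ∈ C, resZ c ∈ (algebraMap A' F2).range := by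
    intro c hc
    have hu : IsUnit (resX (r c)) := by
      refine isUnit_of_dvd_unit (map_dvd _ (Finset.dvd_prod_of_mem r hc)) (show IsUnit (resX R0) from ?_)
      have h0 := RingedSpace.isUnit_res_basicOpen X.toSheafedSpace R0
      have h1 := h0.map (X.presheaf.map (homOfLE (fun y hy => (ha0 hy).2 : X.basicOpen a0 ≤ X.basicOpen R0)).op).hom
      erw [← ConcreteCategory.comp_apply, ← Functor.map_comp] at h1
      exact h1
    have huh : IsUnit (resZ (h c)) := by
      refine isUnit_of_dvd_unit (map_dvd _ (Finset.dvd_prod_of_mem h hc)) (show IsUnit (resZ H) from ?_)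
      have h0 := RingedSpace.isUnit_res_basicOpen Z.toSheafedSpace H
      have h1 := h0.map (Z.presheaf.map (homOfLE hW2H).op).hom
      erw [← ConcreteCategory.comp_apply, ← Functor.map_comp] at h1
      exact h1
    have h2 := congrArg resZ.hom (heq c)
    rw [map_mul, map_zero] at h2
    have h3 := huh.mul_right_eq_zero.1 h2
    rw [map_sub, map_mul, sub_eq_zero] at h3
    refine ⟨resX (a c) * ↑hu.unit⁻¹, ?_⟩
    have e1 : ∀ t, resZ (θ t) = θ2 (resX t) := fun t => congrArg (fun φ : Γ(X, UA) ⟶ F2 => φ t) hcomm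
    show θ2.hom (resX (a c) * ↑hu.unit⁻¹) = resZ c
    have h4 : θ2.hom (resX (r c)) * resZ c = θ2.hom (resX (a c)) := by
      have := h3
      rw [show resZ.hom ((ι.appLE UA W eW).hom (r c)) = θ2 (resX (r c)) from e1 _,
        show resZ.hom ((ι.appLE UA W eW).hom (a c)) = θ2 (resX (a c)) from e1 _] at this
      exact this
    have h5 : θ2.hom (↑hu.unit⁻¹) * θ2.hom (resX (r c)) = 1 := by
      rw [← map_mul, IsUnit.val_inv_mul, map_one]
    rw [map_mul, ← h4, mul_comm, ← mul_assoc, h5, one_mul]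
  have hlifts : ∀ p : F[X], p.coeffs ⊆ C → p.map (algebraMap F F2) ∈ Polynomial.lifts (algebraMap A' F2) := by
    intro p hp
    rw [Polynomial.lifts_iff_coeff_lifts]
    intro n
    rw [Polynomial.coeff_map]
    by_cases h0 : p.coeff n = 0
    · exact ⟨0, by rw [h0, map_zero, map_zero]⟩
    · exact hlift _ (hp (Polynomial.coeff_mem_coeffs h0))
  obtain ⟨P, hPf, hPg⟩ := exists_lift_pair (A := A') (F := F2) _ _ (Pb.monic_f.map (algebraMap F F2))
    (hlifts _ Finset.subset_union_left) (hlifts _ Finset.subset_union_right)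
  -- the map to the standard etale neighbourhood
  let Q2 := F2 ⊗[A'] P.Ring
  haveI : IsScalarTower F F2 Q2 := inferInstance
  let x : Q2 := 1 ⊗ₜ P.X
  have hx : P.HasMap x := P.hasMap_X.map (Algebra.TensorProduct.includeRight (R := A') (A := F2))
  have haev : ∀ p : F[X], aeval x p = aeval x (p.map (algebraMap F F2)) := fun p =>
    (aeval_map_algebraMap F2 x p).symm
  have hxb : Pb.P.HasMap x := by
    refine ⟨?_, ?_⟩
    · rw [haev, ← hPf, aeval_map_algebraMap]
      exact hx.1
    · have h1 := hx.2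
      rw [← aeval_map_algebraMap F2, hPg, map_mul] at h1
      rw [haev]
      exact isUnit_of_mul_isUnit_left h1
  let ξ : Localization.Away b →ₐ[F] Q2 := (Pb.P.lift x hxb).comp Pb.equivRing.toAlgHom
  have hξ : ξ Pb.x = x := by simp [ξ]
  let β : B →ₐ[F] Q2 := ξ.comp (IsScalarTower.toAlgHom F B (Localization.Away b))
  have hepi : Epi (CommRingCat.ofHom β.toRingHom) := by
    refine ⟨fun {T} u₁ u₂ he => ?_⟩
    have he0 : u₁.hom.comp β.toRingHom = u₂.hom.comp β.toRingHom := congrArg CommRingCat.Hom.hom he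
    have hl : u₁.hom.comp ξ.toRingHom = u₂.hom.comp ξ.toRingHom := IsLocalization.ringHom_ext (Submonoid.powers b) he0
    have hF : u₁.hom.comp (algebraMap F2 Q2) = u₂.hom.comp (algebraMap F2 Q2) := by
      refine IsLocalization.ringHom_ext (Submonoid.powers (θ a0)) (RingHom.ext fun c => ?_)
      show u₁.hom (algebraMap F Q2 c) = u₂.hom (algebraMap F Q2 c)
      rw [← ξ.commutes c]
      exact RingHom.congr_fun hl _
    letI : Algebra F2 T := (u₁.hom.comp (algebraMap F2 Q2)).toAlgebra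
    letI : Algebra A' T := ((algebraMap F2 T).comp (algebraMap A' F2)).toAlgebra
    haveI : IsScalarTower A' F2 T := IsScalarTower.of_algebraMap_eq' rfl
    let v₁ : Q2 →ₐ[F2] T := { u₁.hom with commutes' := fun c => rfl }
    let v₂ : Q2 →ₐ[F2] T := { u₂.hom with commutes' := fun c => (RingHom.congr_fun hF c).symm }
    have hv : v₁ = v₂ := by
      refine Algebra.TensorProduct.ext (Algebra.ext_id _ _ _) ?_
      refine P.hom_ext ?_
      show u₁.hom x = u₂.hom x
      rw [← hξ]
      exact RingHom.congr_fun hl _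
    exact CommRingCat.hom_ext (RingHom.ext fun y => AlgHom.congr_fun hv y)
  -- the point
  let κ := w.asIdeal.ResidueField
  have hbκ : algebraMap B κ b ≠ 0 := fun h0 => hb (Ideal.algebraMap_residueField_eq_zero.1 h0)
  let χ : Localization.Away b →+* κ := IsLocalization.Away.lift b (g := algebraMap B κ) hbκ.isUnit
  have hθκ : algebraMap B κ (algebraMap F B (θ a0)) ≠ 0 := by
    intro h0
    have h1 := Ideal.algebraMap_residueField_eq_zero.1 h0
    have h2 : hV'.fromSpec w ∈ V.basicOpen (algebraMap F B (θ a0)) := by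
      rw [IsAffineOpen.fromSpec_primeIdealOf]
      show v ∈ V.basicOpen (g.appLE W V' eV (θ a0))
      rw [Scheme.basicOpen_appLE]
      refine ⟨hvV', ?_⟩
      show g v ∈ W2
      rw [← hpre]
      exact hxa0
    have h3 : w ∈ hV'.fromSpec ⁻¹ᵁ V.basicOpen (algebraMap F B (θ a0)) := h2
    rw [hV'.fromSpec_preimage_basicOpen] at h3
    exact h3 h1
  let φ2 : F2 →+* κ := IsLocalization.Away.lift (θ a0) (g := (algebraMap B κ).comp (algebraMap F B)) hθκ.isUnit
  letI : Algebra F2 κ := φ2.toAlgebra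
  letI : Algebra A' κ := ((algebraMap F2 κ).comp (algebraMap A' F2)).toAlgebra
  haveI : IsScalarTower A' F2 κ := IsScalarTower.of_algebraMap_eq' rfl
  letI : Algebra F κ := ((algebraMap B κ).comp (algebraMap F B)).toAlgebra
  haveI : IsScalarTower F F2 κ := IsScalarTower.of_algebraMap_eq fun c =>
    (IsLocalization.Away.lift_eq (θ a0) (g := (algebraMap B κ).comp (algebraMap F B)) hθκ.isUnit c).symm
  let χ' : Localization.Away b →ₐ[F] κ := AlgHom.mk χ (fun c => by
    show χ (algebraMap F (Localization.Away b) c) = algebraMap B κ (algebraMap F B c)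
    rw [IsScalarTower.algebraMap_apply F B (Localization.Away b)]
    exact IsLocalization.Away.lift_eq b _ _)
  let y : κ := χ' Pb.x
  have hyb : Pb.P.HasMap y := Pb.hasMap.map χ'
  have hy : P.HasMap y := by
    refine ⟨?_, ?_⟩
    · rw [← aeval_map_algebraMap F2, hPf, aeval_map_algebraMap]
      exact hyb.1
    · rw [← aeval_map_algebraMap F2, hPg, Polynomial.derivative_map, ← Polynomial.map_mul,
        aeval_map_algebraMap, map_mul]
      exact hyb.2.mul hyb.isUnit_derivative_f
  let χ2 : Q2 →ₐ[F2] κ := Algebra.TensorProduct.lift (Algebra.ofId F2 κ) (P.lift y hy) fun _ _ => .all _ _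
  have hχ : χ2.toRingHom.comp β.toRingHom = algebraMap B κ := by
    have : (χ2.restrictScalars F).comp ξ = χ' := Pb.hom_ext (by
      show χ2 (ξ Pb.x) = y
      rw [hξ]
      show (Algebra.TensorProduct.lift (Algebra.ofId F2 κ) (P.lift y hy) fun _ _ => .all _ _) (1 ⊗ₜ P.X) = y
      rw [Algebra.TensorProduct.lift_tmul, map_one, one_mul, StandardEtalePair.lift_X])
    refine RingHom.ext fun c => ?_
    exact (AlgHom.congr_fun this _).trans (IsLocalization.Away.lift_eq b (g := algebraMap B κ) hbκ.isUnit c)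
  let z' : PrimeSpectrum Q2 := ⟨RingHom.ker χ2.toRingHom, RingHom.ker_isPrime _⟩
  have hz' : PrimeSpectrum.comap β.toRingHom z' = w := by
    refine PrimeSpectrum.ext ?_
    show (RingHom.ker χ2.toRingHom).comap β.toRingHom = w.asIdeal
    rw [RingHom.comap_ker, hχ, Ideal.ker_algebraMap_residueField]
  -- schemes
  let p : Spec (CommRingCat.of P.Ring) ⟶ X :=
    Spec.map (CommRingCat.ofHom (algebraMap A' P.Ring)) ≫ hD.fromSpec
  let q : Spec (CommRingCat.of Q2) ⟶ Z :=
    Spec.map (CommRingCat.ofHom (algebraMap F2 Q2)) ≫ hW2.fromSpec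
  let ι' : Spec (CommRingCat.of Q2) ⟶ Spec (CommRingCat.of P.Ring) :=
    Spec.map (CommRingCat.ofHom (Algebra.TensorProduct.includeRight (R := A') (A := F2) (B := P.Ring)).toRingHom)
  have hsq : IsPullback ι' q p ι := by
    have h1 : IsPullback ι' (Spec.map (CommRingCat.ofHom (algebraMap F2 Q2)))
        (Spec.map (CommRingCat.ofHom (algebraMap A' P.Ring))) (Spec.map θ2) :=
      (isPullback_SpecMap_of_isPushout _ _ _ _ (CommRingCat.isPushout_tensorProduct A' F2 P.Ring)).flip
    have h2 : IsPullback (Spec.map θ2) hW2.fromSpec hD.fromSpec ι := by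
      refine IsOpenImmersion.isPullback _ _ _ _ (IsAffineOpen.SpecMap_appLE_fromSpec ι hD hW2 hpre.ge).symm ?_
      rw [IsAffineOpen.opensRange_fromSpec, IsAffineOpen.opensRange_fromSpec]
      exact hpre
    exact h1.paste_vert h2
  let m : Spec (CommRingCat.of Q2) ⟶ V := Spec.map (CommRingCat.ofHom β.toRingHom) ≫ hV'.fromSpec
  have hm : IsOpenImmersion (Spec.map (CommRingCat.ofHom β.toRingHom)) := by
    haveI := hepi
    haveI : Mono (Spec.map (CommRingCat.ofHom β.toRingHom)) :=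
      Functor.map_mono Scheme.Spec (CommRingCat.ofHom β.toRingHom).op
    haveI : Algebra.Etale F2 Q2 := inferInstance
    haveI : Algebra.Etale F F2 := Algebra.Etale.of_isLocalizationAway (θ a0)
    haveI : Algebra.Etale F Q2 := Algebra.Etale.comp F F2 Q2
    haveI : Etale (Spec.map (CommRingCat.ofHom β.toRingHom) ≫ Spec.map (CommRingCat.ofHom (algebraMap F B))) := by
      rw [← Spec.map_comp, HasRingHomProperty.Spec_iff (P := @Etale), CommRingCat.hom_comp]
      simp only [CommRingCat.hom_ofHom]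
      rw [show β.toRingHom.comp (algebraMap F B) = algebraMap F Q2 from β.comp_algebraMap]
      exact RingHom.etale_algebraMap.2 ‹_›
    haveI : Etale (Spec.map (CommRingCat.ofHom (algebraMap F B))) := by
      rw [HasRingHomProperty.Spec_iff (P := @Etale)]
      exact RingHom.etale_algebraMap.2 hψ
    haveI : Etale (Spec.map (CommRingCat.ofHom β.toRingHom)) :=
      Etale.of_comp _ (Spec.map (CommRingCat.ofHom (algebraMap F B)))
    exact IsOpenImmersion.of_flat_of_mono _
  have hmg : m ≫ g = q := by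
    show (Spec.map _ ≫ hV'.fromSpec) ≫ g = Spec.map _ ≫ hW2.fromSpec
    rw [Category.assoc, ← IsAffineOpen.SpecMap_appLE_fromSpec g hW hV' eV, ← hW.map_fromSpec hW2
      (homOfLE (Z.basicOpen_le (θ a0))).op, ← Spec.map_comp_assoc, ← Spec.map_comp_assoc]
    congr 2
    ext c
    exact β.commutes c
  have hmz : m z' = v := by
    show hV'.fromSpec (PrimeSpectrum.comap β.toRingHom z') = v
    rw [hz']
    exact IsAffineOpen.fromSpec_primeIdealOf hV' ⟨v, hvV'⟩
  refine ⟨_, p, _, ι', q, m, z', ?_, hsq, inferInstance, hmg, ?_, hmz⟩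
  · haveI : Etale (Spec.map (CommRingCat.ofHom (algebraMap A' P.Ring))) := by
      rw [HasRingHomProperty.Spec_iff (P := @Etale)]
      exact RingHom.etale_algebraMap.2 inferInstance
    infer_instance
  · show (ι' ≫ p) z' = _
    rw [hsq.w]
    show ι (q z') = _
    rw [← hmg]
    show ι (g (m z')) = _
    rw [hmz]

end Groth.Agent.S9727

namespace Groth.Agent.S9727

open AlgebraicGeometry CategoryTheory Limits in
/-- Let f : X ⟶ S be a morphism, x a point of X with image s, and (V, v) ⟶ (X_s, x) an étale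
neighbourhood of x in its fibre. Then there is an étale neighbourhood (U, u) ⟶ (X, x) whose fibre
U_s over s admits a morphism of étale neighbourhoods (U_s, u) ⟶ (V, v) over X_s which is an open
immersion. -/
theorem result {X S V : Scheme.{u}} (f : X ⟶ S) (x : X)
    (g : V ⟶ f.fiber (f x)) [Etale g] (v : V) (hv : g v = f.asFiber x) :
    ∃ (U : Scheme.{u}) (p : U ⟶ X) (u : U) (m : (p ≫ f).fiber (f x) ⟶ V) (u' : ↑((p ≫ f).fiber (f x))),
      Etale p ∧ p u = x ∧ IsOpenImmersion m ∧ m ≫ g = MoreMor.fiberMap p f (f x) ∧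
      (p ≫ f).fiberι (f x) u' = u ∧ m u' = v := by
  obtain ⟨U, p, Z', ι', q, m, z', hp, hsq, hm, hmg, hpz, hmz⟩ := exists_lift_nhd (f.fiberι (f x)) g v
  have hF := FlatLocus.isPullback_fiberMap p f (f x)
  let e := hF.isoIsPullback _ _ hsq
  refine ⟨U, p, ι' z', e.hom ≫ m, e.inv z', hp, ?_, inferInstance, ?_, ?_, ?_⟩
  · rw [hpz, hv]
    exact f.fiberι_asFiber x
  · rw [Category.assoc, hmg]
    exact hF.isoIsPullback_hom_snd _ _ hsq
  · show (e.inv ≫ (p ≫ f).fiberι (f x)) z' = _
    rw [hF.isoIsPullback_inv_fst]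
  · show (e.inv ≫ e.hom ≫ m) z' = v
    rw [Iso.inv_hom_id_assoc, hmz]

end Groth.Agent.S9727
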