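import Groth.Statements.S9732
import Groth.Agent.Unram.UnivThickProps
import Groth.Agent.FlatMorLib.FormallyEtale


set_option autoImplicit false
universe u
open OmegaSh

namespace Groth.Agent.S9732

open AlgebraicGeometry CategoryTheory Limits in
/-- Let h : Z ⟶ X be formally unramified and let (i : Z ⟶ Z', h' : Z' ⟶ X) be a universal first order
thickening of Z over X. Then h' is formally unramified. -/
theorem result {Z Z' X : Scheme.{u}} (h : Z ⟶ X) [FormallyUnramified h]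
    (i : Z ⟶ Z') (h' : Z' ⟶ X) (hu : OmegaSh.IsUnivThickening h i h') : FormallyUnramified h' := by
  rw [HasRingHomProperty.iff_appLE (P := @FormallyUnramified)]
  intro U V e
  obtain ⟨⟨hcl, hs⟩, hsq⟩ := hu.1
  let φ := h'.appLE U.1 V.1 e
  let W := i ⁻¹ᵁ V.1
  have hW : IsAffineOpen W := V.2.preimage i
  let π := i.app V.1
  have hπs : Function.Surjective π := i.app_surjective V.1 V.2
  let : Algebra Γ(X, U.1) Γ(Z', V.1) := φ.hom.toAlgebra
  let : Algebra Γ(X, U.1) Γ(Z, W) := (π.hom.comp φ.hom).toAlgebra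
  let π' : Γ(Z', V.1) →ₐ[Γ(X, U.1)] Γ(Z, W) := ⟨π.hom, fun _ => rfl⟩
  have hK : RingHom.ker π'.toRingHom ^ 2 = ⊥ := by
    have h1 : (i.ker * i.ker).ideal V = ⊥ := by rw [hsq]; rfl
    rw [Scheme.IdealSheafData.ideal_mul, Pi.mul_apply, Scheme.Hom.ker_apply] at h1
    rw [pow_two]
    exact h1
  change (φ.hom).FormallyUnramified
  refine Groth.Agent.Unram.formallyUnramified_of_lift_unique π' hπs hK ?_
  intro C _ _ I hI a g₁ g₂ h₁ h₂
  have hto : Spec.map π ≫ V.2.fromSpec = hW.fromSpec ≫ i := by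
    simp only [π, Scheme.Hom.app_eq_appLE]
    exact V.2.SpecMap_appLE_fromSpec i hW _
  let j := Spec.map (CommRingCat.ofHom (Ideal.Quotient.mk I))
  let b : Spec (CommRingCat.of C) ⟶ X :=
    Spec.map (CommRingCat.ofHom (algebraMap Γ(X, U.1) C)) ≫ U.2.fromSpec
  let aS : Spec (CommRingCat.of (C ⧸ I)) ⟶ Z :=
    Spec.map (CommRingCat.ofHom a.toRingHom) ≫ hW.fromSpec
  let l : (Γ(Z', V.1) →ₐ[Γ(X, U.1)] C) → (Spec (CommRingCat.of C) ⟶ Z') := fun g =>
    Spec.map (CommRingCat.ofHom g.toRingHom) ≫ V.2.fromSpec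
  have hl : ∀ g : Γ(Z', V.1) →ₐ[Γ(X, U.1)] C, l g ≫ h' = b := fun g => by
    simp only [l, b, Category.assoc]
    rw [← U.2.SpecMap_appLE_fromSpec h' V.2 e, ← Spec.map_comp_assoc]
    congr 2
    exact CommRingCat.hom_ext (RingHom.ext fun r => g.commutes r)
  have hlj : ∀ g : Γ(Z', V.1) →ₐ[Γ(X, U.1)] C, (Ideal.Quotient.mkₐ _ I).comp g = a.comp π' →
      j ≫ l g = aS ≫ i := fun g hg => by
    simp only [l, j, aS, Category.assoc]
    rw [← hto, ← Spec.map_comp_assoc, ← Spec.map_comp_assoc]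
    congr 2
    exact CommRingCat.hom_ext (RingHom.ext fun r => AlgHom.congr_fun hg r)
  have w : j ≫ b = aS ≫ h := by
    rw [← hl g₁, reassoc_of% (hlj g₁ h₁), hu.2.1]
  have heq : l g₁ = l g₂ := (hu.2.2 _ _ j b aS
    (Groth.Agent.FlatMorLib.isFirstOrderThickening_SpecMap_mk I hI) w).unique
      ⟨hlj g₁ h₁, hl g₁⟩ ⟨hlj g₂ h₂, hl g₂⟩
  have := Spec.map_injective ((cancel_mono V.2.fromSpec).mp heq)
  exact AlgHom.ext fun x => congr($this x)

end Groth.Agent.S9732
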