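import Groth.Statements.S9733
import Groth.Agent.ThickFirst.Basic


set_option autoImplicit false
universe u
open OmegaSh

namespace Groth.Agent.S9733

open AlgebraicGeometry CategoryTheory Limits in
/-- Let h : Z ⟶ X and f : Z ⟶ W make Z the fibre product of g : X ⟶ Y and a formally unramified h' : W ⟶
Y, and let (j : W ⟶ W', k : W' ⟶ Y) be universal first-order thickening data for h'. Then the map Z
⟶ X ×_Y W' with components h and f ≫ j, together with the first projection X ×_Y W' ⟶ X, is a
universal first-order thickening for h. The published statement also asserts that h is formally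
unramified and that the pullback along f of the conormal sheaf of W relative to Y surjects onto the
conormal sheaf of Z relative to X; this row states neither. -/
theorem result {Z X W Y W' : Scheme.{u}} (h : Z ⟶ X) (f : Z ⟶ W) (g : X ⟶ Y) (h' : W ⟶ Y)
    [FormallyUnramified h'] (hc : IsPullback h f g h') (j : W ⟶ W') (k : W' ⟶ Y) (hu : OmegaSh.IsUnivThickening h' j k) :
    OmegaSh.IsUnivThickening h (pullback.lift h (f ≫ j) (hc.w.trans (congrArg (f ≫ ·) hu.2.1).symm)) (pullback.fst g k) := by
  obtain ⟨hthick, hjk, huniv⟩ := hu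
  let i := pullback.lift h (f ≫ j) (hc.w.trans (congrArg (f ≫ ·) hjk).symm |>.trans (Category.assoc _ _ _).symm)
  have hi₁ : i ≫ pullback.fst g k = h := pullback.lift_fst _ _ _
  have hi₂ : i ≫ pullback.snd g k = f ≫ j := pullback.lift_snd _ _ _
  have hsq : IsPullback i f (pullback.snd g k) j := by
    refine IsPullback.of_right ?_ hi₂ (IsPullback.of_hasPullback g k).flip.flip
    rw [hi₁, hjk]
    exact hc
  refine ⟨ThickFirst.isFirstOrder_of_isPullback hsq hthick, hi₁, fun T T' jT b a hjT hb => ?_⟩
  obtain ⟨a₁, ⟨ha₁, ha₁'⟩, huq⟩ := huniv T T' jT (b ≫ g) (a ≫ f) hjT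
    (by rw [← Category.assoc, hb, Category.assoc, hc.w, Category.assoc])
  refine ⟨pullback.lift b a₁ ha₁'.symm, ⟨?_, pullback.lift_fst _ _ _⟩, fun a' ⟨h₁, h₂⟩ => ?_⟩
  · apply pullback.hom_ext
    · show (jT ≫ _) ≫ _ = (a ≫ i) ≫ _
      rw [Category.assoc, pullback.lift_fst, Category.assoc, hi₁, hb]
    · show (jT ≫ _) ≫ _ = (a ≫ i) ≫ _
      rw [Category.assoc, pullback.lift_snd, ha₁, Category.assoc, Category.assoc, hi₂]
  · apply pullback.hom_ext
    · rw [h₂, pullback.lift_fst]
    · rw [pullback.lift_snd]
      refine huq _ ⟨?_, ?_⟩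
      · rw [← Category.assoc, show jT ≫ a' = a ≫ i from h₁, Category.assoc, hi₂, Category.assoc]
      · rw [Category.assoc, ← pullback.condition, ← Category.assoc, h₂]

end Groth.Agent.S9733
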