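import Groth.Statements.S9734
import Mathlib

set_option autoImplicit false
universe u
open FlatMor

namespace Groth.Agent.S9734

open AlgebraicGeometry CategoryTheory Limits in
/-- Let S be a scheme, s a point of S and k a finite separable field extension of the residue field
κ(s). Then there is an étale neighbourhood (U, u) ⟶ (S, s) whose residue field extension κ(u)/κ(s)
is isomorphic to k/κ(s). -/
theorem result (S : Scheme.{u}) (s : S) (k : Type u) [Field k]
    [Algebra (S.residueField s) k] [FiniteDimensional (S.residueField s) k] [Algebra.IsSeparable (S.residueField s) k] :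
    ∃ (U : Scheme.{u}) (g : U ⟶ S) (u : U) (hu : g u = s), Etale g ∧
      letI := ((S.residueFieldCongr hu).inv ≫ g.residueFieldMap u).hom.toAlgebra
      Nonempty (k ≃ₐ[S.residueField s] U.residueField u) := by
  classical
  obtain ⟨α, hα⟩ := Field.exists_primitive_element (S.residueField s) k
  have hint : IsIntegral (S.residueField s) α := Algebra.IsIntegral.isIntegral α
  let m := minpoly (S.residueField s) α
  -- an affine neighbourhood on which the coefficients are defined
  have hW : ∀ t : Finset (S.residueField s), ∃ W : S.Opens, ∃ hs : s ∈ W,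
      ∀ c ∈ t, c ∈ Set.range (S.evaluation W s hs) := by
    intro t
    induction t using Finset.induction with
    | empty => exact ⟨⊤, trivial, by simp⟩
    | insert c t _ ih =>
      obtain ⟨W, hs, hW⟩ := ih
      obtain ⟨c', hc'⟩ := S.residue_surjective s c
      obtain ⟨W', hs', a, ha⟩ := S.presheaf.exists_germ_eq c'
      refine ⟨W ⊓ W', ⟨hs, hs'⟩, fun d hd => ?_⟩
      rcases Finset.mem_insert.mp hd with rfl | hd
      · refine ⟨S.presheaf.map (homOfLE inf_le_right).op a, ?_⟩
        rw [← hc', ← ha, Scheme.evaluation]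
        simp only [CommRingCat.hom_comp, RingHom.comp_apply, TopCat.Presheaf.germ_res_apply]
      · obtain ⟨e, he⟩ := hW d hd
        refine ⟨S.presheaf.map (homOfLE inf_le_left).op e, ?_⟩
        rw [← he, Scheme.evaluation, Scheme.evaluation]
        simp only [CommRingCat.hom_comp, RingHom.comp_apply, TopCat.Presheaf.germ_res_apply]
  obtain ⟨W, hsW, hWc⟩ := hW (insert 0 (m.support.image m.coeff))
  obtain ⟨_, ⟨(V : S.Opens), hV, rfl⟩, hsV, hVW⟩ :=
    S.isBasis_affineOpens.exists_subset_of_mem_open hsW W.isOpen
  let ev := S.evaluation V s hsV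
  have hlift : m ∈ Polynomial.lifts ev.hom := by
    rw [Polynomial.lifts_iff_coeff_lifts]
    intro n
    have hmem : m.coeff n ∈ insert (0 : S.residueField s) (m.support.image m.coeff) := by
      by_cases h : m.coeff n = 0
      · simp [h]
      · exact Finset.mem_insert_of_mem
          (Finset.mem_image_of_mem _ (Polynomial.mem_support_iff.mpr h))
    obtain ⟨a, ha⟩ := hWc _ hmem
    refine ⟨S.presheaf.map (homOfLE hVW).op a, ?_⟩
    rw [← ha]
    simp only [ev, Scheme.evaluation, CommRingCat.hom_comp, RingHom.comp_apply]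
    exact congrArg (S.residue s).hom (S.presheaf.germ_res_apply (homOfLE hVW) s hsV a)
  obtain ⟨f, hf, -, hfmonic⟩ := Polynomial.lifts_and_degree_eq_and_monic hlift (minpoly.monic hint)
  let P : StandardEtalePair Γ(S, V) := ⟨f, hfmonic, Polynomial.derivative f, 1, 0, 1, by simp⟩
  let _ : Algebra Γ(S, V) k := ((algebraMap (S.residueField s) k).comp ev.hom).toAlgebra
  have haev : ∀ q : Polynomial Γ(S, V), Polynomial.aeval α q =
      Polynomial.aeval α (q.map ev.hom) := fun q => by
    rw [Polynomial.aeval_def, Polynomial.aeval_def, Polynomial.eval₂_map]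
    rfl
  have hm : P.HasMap α := by
    refine ⟨?_, ?_⟩
    · rw [show P.f = f from rfl, haev, hf]
      exact minpoly.aeval _ _
    · rw [show P.g = Polynomial.derivative f from rfl, haev, ← Polynomial.derivative_map, hf]
      exact isUnit_iff_ne_zero.mpr
        ((Algebra.IsSeparable.isSeparable (S.residueField s) α).aeval_derivative_ne_zero
          (minpoly.aeval _ _))
  let φ := P.lift α hm
  let g : Spec (.of P.Ring) ⟶ S :=
    Spec.map (CommRingCat.ofHom (algebraMap Γ(S, V) P.Ring)) ≫ hV.fromSpec
  have hg : Etale g := by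
    have : Etale (Spec.map (CommRingCat.ofHom (algebraMap Γ(S, V) P.Ring))) :=
      (HasRingHomProperty.Spec_iff (P := @Etale)).mpr (RingHom.etale_algebraMap.mpr inferInstance)
    dsimp only [g]; infer_instance
  let h : Spec (CommRingCat.of k) ⟶ Spec (.of P.Ring) := Spec.map (CommRingCat.ofHom φ.toRingHom)
  have hcomp : h ≫ g = Spec.map (CommRingCat.ofHom (algebraMap (S.residueField s) k)) ≫
      S.fromSpecResidueField s := by
    have e : CommRingCat.ofHom (algebraMap Γ(S, V) P.Ring) ≫ CommRingCat.ofHom φ.toRingHom =
        ev ≫ CommRingCat.ofHom (algebraMap (S.residueField s) k) :=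
      CommRingCat.hom_ext (RingHom.ext fun x => φ.commutes x)
    show Spec.map _ ≫ Spec.map _ ≫ _ = _
    rw [← Spec.map_comp_assoc, e, Spec.map_comp_assoc]
    congr 1
    show Spec.map (S.presheaf.germ V s hsV ≫ S.residue s) ≫ _ = _
    rw [Spec.map_comp_assoc, Scheme.fromSpecResidueField]
    congr 1
    exact hV.fromSpecStalk_eq_fromSpecStalk hsV
  let u := h (IsLocalRing.closedPoint k)
  have hu : g u = s := by
    show (h ≫ g) (IsLocalRing.closedPoint k) = s
    rw [hcomp, Scheme.Hom.comp_apply, Scheme.fromSpecResidueField_apply]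
  let ψ : (Spec (.of P.Ring)).residueField u ⟶ CommRingCat.of k :=
    Scheme.descResidueField (Scheme.stalkClosedPointTo h)
  have hψ : Spec.map ψ ≫ (Spec (.of P.Ring)).fromSpecResidueField u = h :=
    Scheme.descResidueField_stalkClosedPointTo_fromSpecResidueField k _ h
  refine ⟨_, g, u, hu, hg, ?_⟩
  let _ : Algebra (S.residueField s) ((Spec (.of P.Ring)).residueField u) :=
    ((S.residueFieldCongr hu).inv ≫ g.residueFieldMap u).hom.toAlgebra
  have hψs : (S.residueFieldCongr hu).inv ≫ g.residueFieldMap u ≫ ψ =
      CommRingCat.ofHom (algebraMap (S.residueField s) k) := by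
    apply Spec.map_injective
    rw [← cancel_mono (S.fromSpecResidueField s), ← hcomp]
    conv_rhs => rw [← hψ]
    rw [Spec.map_comp, Spec.map_comp, Category.assoc, Category.assoc, Category.assoc,
      Scheme.residueFieldCongr_inv, Scheme.residueFieldCongr_fromSpecResidueField,
      Scheme.Hom.SpecMap_residueFieldMap_fromSpecResidueField]
  let Ψ : (Spec (.of P.Ring)).residueField u →ₐ[S.residueField s] k :=
    { ψ.hom with commutes' := fun x => congr(($hψs).hom x) }
  have hrange : α ∈ Ψ.range := by
    have hφ : CommRingCat.ofHom φ.toRingHom =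
        CommRingCat.ofHom (algebraMap P.Ring u.asIdeal.ResidueField) ≫
          (Scheme.Spec.residueFieldIso (.of P.Ring) u).inv ≫ ψ := by
      apply Spec.map_injective
      rw [Spec.map_comp, Spec.map_comp, Category.assoc]
      refine hψ.symm.trans ?_
      rw [← Scheme.Spec.map_residueFieldIso_inv_eq_fromSpecResidueField]
    refine ⟨(Scheme.Spec.residueFieldIso (.of P.Ring) u).inv
      (algebraMap P.Ring u.asIdeal.ResidueField P.X), ?_⟩
    exact ((congr(($hφ).hom P.X)).symm).trans (P.lift_X α hm)
  have hsurj : Function.Surjective Ψ := by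
    intro z
    have htop : Algebra.adjoin (S.residueField s) {α} = ⊤ := by
      rw [← IntermediateField.adjoin_simple_toSubalgebra_of_isAlgebraic hint.isAlgebraic, hα]
      rfl
    exact (Algebra.adjoin_le (Set.singleton_subset_iff.mpr hrange) : _ ≤ Ψ.range)
      (htop ▸ Algebra.mem_top : z ∈ Algebra.adjoin (S.residueField s) {α})
  exact ⟨(AlgEquiv.ofBijective Ψ ⟨Ψ.toRingHom.injective, hsurj⟩).symm⟩

end Groth.Agent.S9734
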