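import Groth.Statements.S9736
import Groth.Agent.FibreDimStrata.GCI

set_option autoImplicit false
universe u
open FlatMor

namespace Groth.Agent.S9736

open AlgebraicGeometry CategoryTheory Limits in
/-- Let f : X ⟶ S be a standard syntomic morphism of affine schemes. Then f is the base change of a
morphism of finite type f₀ : X₀ ⟶ S₀ between affine schemes with S₀ of finite type over ℤ and f₀
standard syntomic. -/
theorem result {X S : Scheme.{u}} (f : X ⟶ S) [IsAffine X] [IsAffine S] (hf : Synt.IsStandardSyntomic f) :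
    ∃ (X₀ S₀ : Scheme.{u}) (f₀ : X₀ ⟶ S₀) (g : S ⟶ S₀) (g' : X ⟶ X₀), IsAffine X₀ ∧ IsAffine S₀ ∧ IsPullback g' f f₀ g ∧
      Algebra.FiniteType ℤ Γ(S₀, ⊤) ∧ LocallyOfFiniteType f₀ ∧ Synt.IsStandardSyntomic f₀ := by
  classical
  obtain ⟨R, _, n, c, F, hF, e₁, e₂, he⟩ := hf
  obtain ⟨R₀, hR₀, F₀, rfl⟩ : ∃ (R₀ : Subalgebra ℤ R) (_ : R₀.FG) (F₀ : Fin c → MvPolynomial (Fin n) R₀),
      F = fun i => MvPolynomial.map (algebraMap R₀ R) (F₀ i) := by
    let s : Finset R := Finset.univ.biUnion fun i => (F i).coeffs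
    have : ∀ i, F i ∈ Set.range (MvPolynomial.map (algebraMap (Algebra.adjoin ℤ (s : Set R)) R)) := fun i => by
      refine MvPolynomial.mem_range_map_iff_coeffs_subset.2 fun x hx => ⟨⟨x, Algebra.subset_adjoin ?_⟩, rfl⟩
      exact Finset.mem_biUnion.2 ⟨i, Finset.mem_univ i, hx⟩
    choose F₀ hF₀ using this
    exact ⟨_, Subalgebra.fg_adjoin_finset s, F₀, funext fun i => (hF₀ i).symm⟩
  have hft₀ : Algebra.FiniteType ℤ R₀ := R₀.fg_iff_finiteType.mp hR₀
  have : IsNoetherianRing R₀ := Algebra.FiniteType.isNoetherianRing ℤ R₀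
  let Φ : PrimeSpectrum R₀ → Prop := fun p =>
    ringKrullDim (p.asIdeal.Fiber (Synt.RelGCIRing R₀ n c F₀)) ≠ ⊥ →
      c ≤ n ∧ ringKrullDim (p.asIdeal.Fiber (Synt.RelGCIRing R₀ n c F₀)) = ((n - c : ℕ) : WithBot ℕ∞)
  obtain ⟨s, hs⟩ := Groth.Agent.FibreDimStrata.exists_stage R Φ (fun J => by
      obtain ⟨a, ha, h⟩ := Groth.Agent.FibreDimStrata.exists_const_fibre_dim_spec R₀
        (Synt.RelGCIRing R₀ n c F₀) J
      exact ⟨a, ha, fun p h1 h2 => by simp only [Φ, h p h1 h2]⟩) (fun P => by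
      have := (Groth.Agent.FibreDimStrata.isRelGCI_iff _).1 hF P
      rwa [Groth.Agent.FibreDimStrata.fibre_dim_gci F₀ (P.comap (algebraMap R₀ R)) P rfl] at this)
  let S₁ := Algebra.adjoin R₀ (s : Set R)
  let F₁ : Fin c → MvPolynomial (Fin n) S₁ := fun i => MvPolynomial.map (algebraMap R₀ S₁) (F₀ i)
  have hF₁ : Synt.IsRelGCI S₁ n c F₁ := (Groth.Agent.FibreDimStrata.isRelGCI_iff _).2 fun q => by
    rw [Groth.Agent.FibreDimStrata.fibre_dim_gci F₀ (q.comap (algebraMap R₀ S₁)) q rfl]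
    exact hs S₁ Algebra.subset_adjoin q
  have : Algebra.FiniteType R₀ S₁ := S₁.fg_iff_finiteType.mp (Subalgebra.fg_adjoin_finset s)
  have hS₁ : Algebra.FiniteType ℤ S₁ := Algebra.FiniteType.trans hft₀ this
  let e : TensorProduct S₁ R (Synt.RelGCIRing S₁ n c F₁) ≃ₐ[R]
      Synt.RelGCIRing R n c (fun i => MvPolynomial.map (algebraMap R₀ R) (F₀ i)) :=
    (Groth.Agent.FibreDimStrata.gciBaseChange (R₀ := S₁) (S := R) F₁).trans
      (Ideal.quotientEquivAlgOfEq R (by
        simp only [F₁, MvPolynomial.map_map, ← IsScalarTower.algebraMap_eq R₀ S₁ R]))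
  have hpo : IsPushout (CommRingCat.ofHom (algebraMap S₁ R))
      (CommRingCat.ofHom (algebraMap S₁ (Synt.RelGCIRing S₁ n c F₁)))
      (CommRingCat.ofHom (algebraMap R _))
      (CommRingCat.ofHom ((e.toAlgHom.restrictScalars S₁).comp
        Algebra.TensorProduct.includeRight).toRingHom) := by
    refine (CommRingCat.isPushout_tensorProduct S₁ R _).of_iso (Iso.refl _) (Iso.refl _) (Iso.refl _)
      e.toRingEquiv.toCommRingCatIso (by simp) (by simp) ?_ ?_
    · exact CommRingCat.hom_ext (RingHom.ext fun x => e.commutes x)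
    · exact CommRingCat.hom_ext (RingHom.ext fun x => rfl)
  have hpb := (isPullback_SpecMap_of_isPushout _ _ _ _ hpo).flip
  refine ⟨Spec (.of (Synt.RelGCIRing S₁ n c F₁)), Spec (.of S₁),
    Spec.map (CommRingCat.ofHom (algebraMap S₁ _)),
    e₂.hom ≫ Spec.map (CommRingCat.ofHom (algebraMap S₁ R)),
    e₁.hom ≫ Spec.map (CommRingCat.ofHom ((e.toAlgHom.restrictScalars S₁).comp
        Algebra.TensorProduct.includeRight).toRingHom),
    inferInstance, inferInstance, ?_, ?_, ?_, ?_⟩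
  · exact (IsPullback.of_horiz_isIso ⟨he⟩).paste_horiz hpb
  · exact hS₁.equiv (Scheme.ΓSpecIso (.of S₁)).symm.commRingCatIsoToRingEquiv.toIntAlgEquiv
  · rw [HasRingHomProperty.Spec_iff (P := @LocallyOfFiniteType)]
    exact RingHom.finiteType_algebraMap.mpr inferInstance
  · exact ⟨S₁, inferInstance, n, c, F₁, hF₁, Iso.refl _, Iso.refl _, by simp⟩

end Groth.Agent.S9736
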