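import Groth.Statements.S9739
import Groth.Agent.FlatEquidim.Scheme

set_option autoImplicit false
universe u
open FlatMor

namespace Groth.Agent.S9739

open AlgebraicGeometry CategoryTheory Limits in
/-- Let f : X ⟶ S be flat and locally of finite presentation, and let x' ⤳ x be points of X. Assume the
closure of x in its fibre is one of that fibre's irreducible components. Then the fibre through x'
has the same local dimension at x' as the fibre through x has at x. -/
theorem result {X S : Scheme.{u}} (f : X ⟶ S) [Flat f] [LocallyOfFinitePresentation f]
    (x x' : X) (hsp : x' ⤳ x) (hgen : ∃ Z ∈ irreducibleComponents ↥(f.fiber (f x)), IsGenericPoint (f.asFiber x) Z) :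
    FlatMor.fibreDimAt f x' = FlatMor.fibreDimAt f x := by
  obtain ⟨d, W, hxW, hW⟩ := Groth.Agent.FlatEquidim.exists_nbhd_fibreDimAt f x
    (Groth.Agent.FlatEquidim.isFibreMax_of_genericPoint f x hgen)
  rw [hW x hxW, hW x' (hsp.mem_open W.isOpen hxW)]

end Groth.Agent.S9739
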