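import Groth.Statements.S9740


set_option autoImplicit false
universe u
open OmegaSh

namespace Groth.Agent.S9740

open AlgebraicGeometry CategoryTheory Limits in
/-- Let h : Z ⟶ X be formally unramified with universal first order thickening (i : Z ⟶ Z', h' : Z' ⟶
X), let V ⊆ Z and U ⊆ X be opens with h(V) ⊆ U, and let V' ⊆ Z' be the open with i⁻¹(V') = V (so
h'(V') ⊆ U). Then the restricted pair (V ⟶ V', V' ⟶ U) is a universal first-order thickening for the
restriction V ⟶ U of h. The published statement also asserts that this restriction is formally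
unramified and that the conormal sheaf of Z over X restricts on V to that of V over U; this row
states only the thickening part. -/
theorem result {Z Z' X : Scheme.{u}} (h : Z ⟶ X) [FormallyUnramified h] (i : Z ⟶ Z') (h' : Z' ⟶ X)
    (hu : OmegaSh.IsUnivThickening h i h') (V : Z.Opens) (U : X.Opens) (hVU : V ≤ h ⁻¹ᵁ U)
    (V' : Z'.Opens) (hV' : i ⁻¹ᵁ V' = V) (hV'U : V' ≤ h' ⁻¹ᵁ U) :
    OmegaSh.IsUnivThickening (h.resLE U V hVU) (i.resLE V' V hV'.ge) (h'.resLE U V' hV'U) := by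
  obtain ⟨⟨⟨hcl, hs⟩, hsq⟩, hcomp, huniv⟩ := hu
  subst hV'
  have hres : i.resLE V' (i ⁻¹ᵁ V') le_rfl = i ∣_ V' := Scheme.Hom.resLE_eq_morphismRestrict i
  refine ⟨?_, ?_, ?_⟩
  · rw [hres]
    refine ⟨⟨IsZariskiLocalAtTarget.restrict hcl V', IsZariskiLocalAtTarget.restrict hs V'⟩, ?_⟩
    refine Scheme.IdealSheafData.ext (funext fun W => ?_)
    have h1 : (i.ker * i.ker).ideal ⟨V'.ι ''ᵁ W, W.2.image_of_isOpenImmersion _⟩ = ⊥ := by
      rw [hsq]; rfl
    rw [Scheme.IdealSheafData.ideal_mul, Pi.mul_apply] at h1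
    rw [Scheme.IdealSheafData.ideal_mul, Pi.mul_apply, Scheme.ker_morphismRestrict_ideal]
    exact h1
  · subst hcomp
    exact Scheme.Hom.resLE_comp_resLE ..
  · intro T T' j b a hj w
    have w' : j ≫ b ≫ U.ι = (a ≫ (i ⁻¹ᵁ V').ι) ≫ h := by
      rw [← Category.assoc, w, Category.assoc, Scheme.Hom.resLE_comp_ι, Category.assoc]
    obtain ⟨c, ⟨hc₁, hc₂⟩, hc⟩ := huniv T T' j (b ≫ U.ι) (a ≫ (i ⁻¹ᵁ V').ι) hj w'
    have hrange : Set.range c ⊆ Set.range V'.ι := by
      rintro _ ⟨x, rfl⟩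
      have := hj.1.2
      obtain ⟨t, rfl⟩ := j.surjective x
      rw [Scheme.Opens.range_ι, ← Scheme.Hom.comp_apply, hc₁, Category.assoc,
        ← morphismRestrict_ι, ← Category.assoc, Scheme.Hom.comp_apply]
      exact ((a ≫ i ∣_ V') t).2
    refine ⟨IsOpenImmersion.lift V'.ι c hrange, ⟨?_, ?_⟩, ?_⟩
    · rw [← cancel_mono V'.ι, Category.assoc, IsOpenImmersion.lift_fac, hc₁, hres, Category.assoc,
        Category.assoc, morphismRestrict_ι]
    · rw [← cancel_mono U.ι, Category.assoc, Scheme.Hom.resLE_comp_ι,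
        IsOpenImmersion.lift_fac_assoc, hc₂]
    · rintro l ⟨h₁, h₂⟩
      rw [← cancel_mono V'.ι, IsOpenImmersion.lift_fac]
      refine hc _ ⟨?_, ?_⟩
      · rw [← Category.assoc, h₁, hres, Category.assoc, morphismRestrict_ι, Category.assoc]
      · rw [← h₂, Category.assoc, Category.assoc, Scheme.Hom.resLE_comp_ι]

end Groth.Agent.S9740
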