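import Groth.Statements.S9741
import Groth.Agent.ThickFirst.Basic


set_option autoImplicit false
universe u
open OmegaSh

namespace Groth.Agent.S9741

open AlgebraicGeometry CategoryTheory Limits in
/-- Let a : Z ⟶ Y and b : Y ⟶ X be formally unramified, let (i : Z ⟶ Z', c : Z' ⟶ X) be universal among
first order thickenings of Z relative to X (for a ≫ b), and (j : Y ⟶ Y', d : Y' ⟶ X) likewise for Y
relative to X (for b). Then there is a morphism of thickenings m : Z' ⟶ Y' over X (i ≫ m = a ≫ j and
m ≫ d = c) such that Z ⟶ Y ×_{Y'} Z' (components a and i), together with the projection to Y, is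
universal among first order thickenings of Z relative to Y (for a). The published statement also
asserts an exact sequence of conormal sheaves; this row states only the thickening assertion. -/
theorem result {Z Y X Z' Y' : Scheme.{u}} (a : Z ⟶ Y) (b : Y ⟶ X)
    [FormallyUnramified a] [FormallyUnramified b] (i : Z ⟶ Z') (c : Z' ⟶ X) (hZ : OmegaSh.IsUnivThickening (a ≫ b) i c)
    (j : Y ⟶ Y') (d : Y' ⟶ X) (hY : OmegaSh.IsUnivThickening b j d) :
    ∃ (m : Z' ⟶ Y') (hm : i ≫ m = a ≫ j), m ≫ d = c ∧
      OmegaSh.IsUnivThickening a (pullback.lift a i hm.symm) (pullback.fst j m) := by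
  obtain ⟨hi, hic, hZu⟩ := hZ
  obtain ⟨hj, hjd, hYu⟩ := hY
  obtain ⟨m, ⟨hm₁, hm₂⟩, -⟩ := hYu Z Z' i c a hi hic
  refine ⟨m, hm₁, hm₂, ?_, pullback.lift_fst _ _ _, fun T T' jT bT aT hjT hb => ?_⟩
  · let l := pullback.lift a i hm₁.symm
    have hl : l ≫ pullback.snd j m = i := pullback.lift_snd _ _ _
    have : IsClosedImmersion j := hj.1.1
    have hci : IsClosedImmersion (l ≫ pullback.snd j m) := by rw [hl]; exact hi.1.1
    exact ThickFirst.isFirstOrder_of_isPullback
      (IsPullback.of_vert_isIso_mono ⟨by rw [hl, Category.id_comp]⟩ : IsPullback l (𝟙 Z) (pullback.snd j m) i) hi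
  · obtain ⟨a', ⟨ha₁, ha₂⟩, huq⟩ := hZu T T' jT (bT ≫ b) aT hjT
      (by rw [← Category.assoc, hb, Category.assoc])
    obtain ⟨y, -, hyuq⟩ := hYu T T' jT (bT ≫ b) (aT ≫ a) hjT (by rw [← Category.assoc, hb])
    have h1 : bT ≫ j = a' ≫ m := by
      refine (hyuq _ ⟨?_, ?_⟩).trans (hyuq _ ⟨?_, ?_⟩).symm
      · rw [← Category.assoc, hb]
      · rw [Category.assoc, hjd]
      · rw [← Category.assoc, ha₁, Category.assoc, hm₁, Category.assoc]
      · rw [Category.assoc, hm₂, ha₂]
    refine ⟨pullback.lift bT a' h1, ⟨?_, pullback.lift_fst _ _ _⟩, fun x ⟨hx₁, hx₂⟩ => ?_⟩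
    · apply pullback.hom_ext
      · rw [Category.assoc, pullback.lift_fst, Category.assoc, pullback.lift_fst, hb]
      · rw [Category.assoc, pullback.lift_snd, ha₁, Category.assoc, pullback.lift_snd]
    · apply pullback.hom_ext
      · rw [hx₂, pullback.lift_fst]
      · rw [pullback.lift_snd]
        refine huq _ ⟨?_, ?_⟩
        · rw [← Category.assoc, hx₁, Category.assoc, pullback.lift_snd]
        · rw [← hm₂, Category.assoc, ← Category.assoc (pullback.snd j m), ← pullback.condition, Category.assoc,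
            hjd, ← Category.assoc, hx₂]

end Groth.Agent.S9741
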