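import Groth.Statements.S9743
import Groth.Agent.RelFP.Scheme
import Groth.Agent.QCohBase.Qcqs

set_option autoImplicit false
set_option linter.style.haveILetI false
universe u
open Flatn

namespace Groth.Agent.S9743

open AlgebraicGeometry CategoryTheory Limits in
/-- Suppose π : X ⟶ Y is finite, g : Y ⟶ S is locally of finite type, and F is a quasi-coherent
O_X-module. Then F is relatively finitely presented over S via π ≫ g exactly when the direct image
π_*F is relatively finitely presented over S via g. -/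
theorem result {X Y S : Scheme.{u}} (π : X ⟶ Y) (g : Y ⟶ S) [IsFinite π] [LocallyOfFiniteType g]
    (F : X.Modules) [Coh.IsQCoh F] : Flatn.IsRelFP (π ≫ g) F ↔ Flatn.IsRelFP g ((Coh.push π).obj F) := by
  haveI : Coh.IsQCoh ((Coh.push π).obj F) := Groth.Agent.QCohBase.isQuasicoherent_pushforward F π
  have key : ∀ (W : Y.Opens) (_ : IsAffineOpen W) (V : S.Opens) (_ : IsAffineOpen V)
      (hWV : W ≤ g ⁻¹ᵁ V),
      Groth.Agent.RelFP.RelOn g ((Coh.push π).obj F) W V hWV ↔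
        Groth.Agent.RelFP.RelOn (π ≫ g) F (π ⁻¹ᵁ W) V (fun y hy ↦ hWV hy) := by
    intro W hW V hV hWV
    let := (g.appLE V W hWV).hom.toAlgebra
    let := (π.app W).hom.toAlgebra
    let := ((π ≫ g).appLE V (π ⁻¹ᵁ W) (fun y hy ↦ hWV hy)).hom.toAlgebra
    have : IsScalarTower Γ(S, V) Γ(Y, W) Γ(X, π ⁻¹ᵁ W) := .of_algebraMap_eq fun r ↦ by
      refine congr($((Scheme.Hom.appLE_comp_appLE π g V W (π ⁻¹ᵁ W) hWV le_rfl).symm).hom r).trans ?_
      rw [← Scheme.Hom.app_eq_appLE]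
      rfl
    have : Module.Finite Γ(Y, W) Γ(X, π ⁻¹ᵁ W) := π.finite_app W hW
    have : Algebra.FiniteType Γ(S, V) Γ(Y, W) :=
      Groth.Agent.RelFP.algebra_finiteType_appLE g hW hV hWV
    let : Module Γ(Y, W) Γ(F, π ⁻¹ᵁ W) := Module.compHom _ (π.app W).hom
    have : IsScalarTower Γ(Y, W) Γ(X, π ⁻¹ᵁ W) Γ(F, π ⁻¹ᵁ W) :=
      .of_algebraMap_smul fun _ _ ↦ rfl
    exact Groth.Agent.RelFP.rel_finite_iff (R := Γ(S, V)) (A := Γ(Y, W)) (B := Γ(X, π ⁻¹ᵁ W)) (M := Γ(F, π ⁻¹ᵁ W))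
  constructor
  · intro h
    refine Groth.Agent.RelFP.isRelFP_of_local g _ fun y ↦ ?_
    obtain ⟨W, hW, V, hV, hWV, hy⟩ := Groth.Agent.RelFP.exists_affine_pair g y
    exact ⟨W, hW, V, hV, hWV, hy, (key W hW V hV hWV).mpr
      (Groth.Agent.RelFP.relOn_of_isRelFP _ F h (hW.preimage π) hV _)⟩
  · intro h
    refine Groth.Agent.RelFP.isRelFP_of_local (π ≫ g) F fun x ↦ ?_
    obtain ⟨W, hW, V, hV, hWV, hy⟩ := Groth.Agent.RelFP.exists_affine_pair g (π x)
    exact ⟨π ⁻¹ᵁ W, hW.preimage π, V, hV, _, hy, (key W hW V hV hWV).mp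
      (Groth.Agent.RelFP.relOn_of_isRelFP g _ h hW hV hWV)⟩

end Groth.Agent.S9743
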