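import Groth.Statements.S9744
import Groth.Agent.RelFP.Scheme
import Groth.Agent.RelFP.Square
import Groth.Agent.QCohPull.Affine

set_option autoImplicit false
set_option linter.style.haveILetI false
universe u
open Flatn

namespace Groth.Agent.S9744

open AlgebraicGeometry in
lemma aux {A B : Scheme.{u}} {φ ψ : A ⟶ B} (h : φ = ψ) (V : B.Opens) (U : A.Opens)
    (e : U ≤ φ ⁻¹ᵁ V) (e' : U ≤ ψ ⁻¹ᵁ V) : φ.appLE V U e = ψ.appLE V U e' := by
  subst h; rfl


open AlgebraicGeometry CategoryTheory Limits in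
/-- Let f : X ⟶ S be locally of finite type and F a quasi-coherent O_X-module of finite presentation
relative to S. For a base change f' : X' ⟶ S' of f along S' ⟶ S with projection g' : X' ⟶ X, the
pullback (g')^*F is of finite presentation relative to S'. -/
theorem result {X S X' S' : Scheme.{u}} (f : X ⟶ S) [LocallyOfFiniteType f] (F : X.Modules) [Coh.IsQCoh F]
    (g : S' ⟶ S) (f' : X' ⟶ S') (g' : X' ⟶ X) (hc : IsPullback g' f' f g) (hF : Flatn.IsRelFP f F) :
    Flatn.IsRelFP f' ((Scheme.Modules.pullback g').obj F) := by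
  haveI : Coh.IsQCoh ((Scheme.Modules.pullback g').obj F) :=
    Groth.Agent.QCohPull.isQuasicoherent_pullback _ _
  haveI : LocallyOfFiniteType f' := MorphismProperty.of_isPullback hc ‹LocallyOfFiniteType f›
  refine Groth.Agent.RelFP.isRelFP_of_local f' _ fun x ↦ ?_
  obtain ⟨U, hU, V, hV, hUV, hx⟩ := Groth.Agent.RelFP.exists_affine_pair f (g' x)
  have hgx : g (f' x) ∈ V := by
    rw [← Scheme.Hom.comp_apply, ← hc.w, Scheme.Hom.comp_apply]
    exact hUV hx
  obtain ⟨_, ⟨V', hV', rfl⟩, hx', hV'V⟩ :=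
    S'.isBasis_affineOpens.exists_subset_of_mem_open (show f' x ∈ g ⁻¹ᵁ V from hgx) (g ⁻¹ᵁ V).isOpen
  let U' : X'.Opens := g' ⁻¹ᵁ U ⊓ f' ⁻¹ᵁ V'
  have hU' : IsAffineOpen U' := Groth.Agent.RelFP.isAffineOpen_chart hc hV hV' hU hV'V hUV
  refine ⟨U', hU', V', hV', inf_le_right, ⟨hx, hx'⟩, ?_⟩
  have hiso := isIso_pushoutSection_of_isAffineOpen hc (US := V) (UT := V') (UX := U)
    hV'V hUV (UY := U') rfl hV hV' hU
  have hpo := (isIso_pushoutSection_iff hc (US := V) (UT := V') (UX := U)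
    hV'V hUV (UY := U') rfl).mp hiso
  have h := Groth.Agent.RelFP.relOn_of_isRelFP f F hF hU hV hUV
  letI := (f.appLE V U hUV).hom.toAlgebra
  letI := (g.appLE V V' hV'V).hom.toAlgebra
  letI := (g'.appLE U U' inf_le_left).hom.toAlgebra
  letI := (f'.appLE V' U' inf_le_right).hom.toAlgebra
  letI := ((g' ≫ f).appLE V U' (fun y hy ↦ hUV hy.1)).hom.toAlgebra
  haveI : IsScalarTower Γ(S, V) Γ(X, U) Γ(X', U') := .of_algebraMap_eq fun r ↦
    congr($((Scheme.Hom.appLE_comp_appLE g' f V U U' hUV inf_le_left).symm).hom r)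
  haveI : IsScalarTower Γ(S, V) Γ(S', V') Γ(X', U') := .of_algebraMap_eq fun r ↦ by
    refine Eq.trans ?_ congr($((Scheme.Hom.appLE_comp_appLE f' g V V' U' hV'V inf_le_right).symm).hom r)
    exact congr($(aux hc.w V U' _ _).hom r)
  haveI : Algebra.IsPushout Γ(S, V) Γ(X, U) Γ(S', V') Γ(X', U') :=
    (CommRingCat.isPushout_iff_isPushout).mp hpo
  exact Groth.Agent.RelFP.rel_of_linearEquiv
    (Groth.Agent.QCohPull.nonempty_sections_pullback g' F hU' hU inf_le_left).some
    (Groth.Agent.RelFP.rel_baseChange (R := Γ(S, V)) (A := Γ(X, U)) (R' := Γ(S', V'))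
      (A' := Γ(X', U')) h)

end Groth.Agent.S9744
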