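import Groth.Statements.S9745
import Groth.Agent.RelFP.Scheme
import Groth.Agent.QCohPull.Affine

set_option autoImplicit false
set_option linter.style.haveILetI false
universe u
open Flatn

namespace Groth.Agent.S9745

open AlgebraicGeometry CategoryTheory Limits in
/-- Let f : X ⟶ Y be locally of finite presentation and g : Y ⟶ S locally of finite type, and let G be a
quasi-coherent O_Y-module that is finitely presented relative to S. Then the pullback f^*G is
finitely presented relative to S along f ≫ g. -/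
theorem result {X Y S : Scheme.{u}} (f : X ⟶ Y) (g : Y ⟶ S) [LocallyOfFinitePresentation f] [LocallyOfFiniteType g]
    (G : Y.Modules) [Coh.IsQCoh G] (hG : Flatn.IsRelFP g G) : Flatn.IsRelFP (f ≫ g) ((Scheme.Modules.pullback f).obj G) := by
  haveI : Coh.IsQCoh ((Scheme.Modules.pullback f).obj G) :=
    Groth.Agent.QCohPull.isQuasicoherent_pullback _ _
  refine Groth.Agent.RelFP.isRelFP_of_local (f ≫ g) _ fun x ↦ ?_
  obtain ⟨W, hW, V, hV, hWV, hfx⟩ := Groth.Agent.RelFP.exists_affine_pair g (f x)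
  obtain ⟨_, ⟨U, hU, rfl⟩, hx, hUW⟩ :=
    X.isBasis_affineOpens.exists_subset_of_mem_open (show x ∈ f ⁻¹ᵁ W from hfx) (f ⁻¹ᵁ W).isOpen
  have hUV : U ≤ (f ≫ g) ⁻¹ᵁ V := fun y hy ↦ hWV (hUW hy)
  refine ⟨U, hU, V, hV, hUV, hx, ?_⟩
  have h := Groth.Agent.RelFP.relOn_of_isRelFP g G hG hW hV hWV
  letI := (f.appLE W U hUW).hom.toAlgebra
  letI := (g.appLE V W hWV).hom.toAlgebra
  letI := ((f ≫ g).appLE V U hUV).hom.toAlgebra
  haveI : IsScalarTower Γ(S, V) Γ(Y, W) Γ(X, U) := .of_algebraMap_eq fun r ↦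
    congr($((Scheme.Hom.appLE_comp_appLE f g V W U hWV hUW).symm).hom r)
  haveI : Algebra.FinitePresentation Γ(Y, W) Γ(X, U) :=
    HasRingHomProperty.appLE @LocallyOfFinitePresentation f inferInstance ⟨W, hW⟩ ⟨U, hU⟩ hUW
  exact Groth.Agent.RelFP.rel_of_linearEquiv
    (Groth.Agent.QCohPull.nonempty_sections_pullback f G hU hW hUW).some
    (Groth.Agent.RelFP.rel_tensor_fp (A' := Γ(X, U)) h)

end Groth.Agent.S9745
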