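import Groth.Statements.S9746
import Groth.Agent.RelFP.Scheme

set_option autoImplicit false
set_option linter.style.haveILetI false
universe u
open Flatn

namespace Groth.Agent.S9746

open AlgebraicGeometry CategoryTheory Limits in
/-- Let f : X ⟶ Y be locally of finite type, g : Y ⟶ S locally of finite presentation, and F a
quasi-coherent O_X-module that is finitely presented relative to Y. Then F, viewed over S through
the composite f ≫ g, is finitely presented relative to S. -/
theorem result {X Y S : Scheme.{u}} (f : X ⟶ Y) (g : Y ⟶ S) [LocallyOfFiniteType f] [LocallyOfFinitePresentation g]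
    (F : X.Modules) [Coh.IsQCoh F] (hF : Flatn.IsRelFP f F) : Flatn.IsRelFP (f ≫ g) F := by
  refine Groth.Agent.RelFP.isRelFP_of_local (f ≫ g) F fun x ↦ ?_
  obtain ⟨W, hW, V, hV, hWV, hfx⟩ := Groth.Agent.RelFP.exists_affine_pair g (f x)
  obtain ⟨_, ⟨U, hU, rfl⟩, hx, hUW⟩ :=
    X.isBasis_affineOpens.exists_subset_of_mem_open (show x ∈ f ⁻¹ᵁ W from hfx) (f ⁻¹ᵁ W).isOpen
  have hUV : U ≤ (f ≫ g) ⁻¹ᵁ V := fun y hy ↦ hWV (hUW hy)
  refine ⟨U, hU, V, hV, hUV, hx, ?_⟩
  have h := Groth.Agent.RelFP.relOn_of_isRelFP f F hF hU hW hUW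
  letI := (f.appLE W U hUW).hom.toAlgebra
  letI := (g.appLE V W hWV).hom.toAlgebra
  letI := ((f ≫ g).appLE V U hUV).hom.toAlgebra
  haveI : IsScalarTower Γ(S, V) Γ(Y, W) Γ(X, U) := .of_algebraMap_eq fun r ↦
    congr($((Scheme.Hom.appLE_comp_appLE f g V W U hWV hUW).symm).hom r)
  haveI : Algebra.FinitePresentation Γ(S, V) Γ(Y, W) :=
    HasRingHomProperty.appLE @LocallyOfFinitePresentation g inferInstance ⟨V, hV⟩ ⟨W, hW⟩ hWV
  exact Groth.Agent.RelFP.rel_trans h

end Groth.Agent.S9746
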