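import Groth.Statements.S9748
import Groth.Agent.RelFP.Scheme
import Groth.Agent.QCohBase.Exact
import Groth.Agent.QCohBase.Finite

set_option autoImplicit false
set_option linter.style.haveILetI false
universe u
open Flatn

namespace Groth.Agent.S9748

open AlgebraicGeometry CategoryTheory Limits in
/-- Let f : X ⟶ S be locally of finite type and let 0 → F' → F → F'' → 0 be exact in quasi-coherent
O_X-modules. Suppose the submodule F' is of finite type and F has finite presentation relative to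
the base S. Then the quotient F'' also has finite presentation relative to S. -/
theorem result {X S : Scheme.{u}} (f : X ⟶ S) [LocallyOfFiniteType f] (E : ShortComplex X.Modules) (hE : E.ShortExact)
    [Coh.IsQCoh E.X₁] [Coh.IsQCoh E.X₂] [Coh.IsQCoh E.X₃] (h₁ : CohB1.IsFT E.X₁) (h₂ : Flatn.IsRelFP f E.X₂) :
    Flatn.IsRelFP f E.X₃ := by
  refine Groth.Agent.RelFP.isRelFP_of_local f E.X₃ fun x ↦ ?_
  obtain ⟨U, hU, V, hV, hUV, hx⟩ := Groth.Agent.RelFP.exists_affine_pair f x
  refine ⟨U, hU, V, hV, hUV, hx, ?_⟩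
  letI := (f.appLE V U hUV).hom.toAlgebra
  have := hE.mono_f
  haveI : Module.Finite Γ(X, U) Γ(E.X₁, U) := Groth.Agent.QCohBase.finite_sections E.X₁ h₁ hU
  refine Groth.Agent.RelFP.rel_of_exact_of_finite (Groth.Agent.RelFP.appₗ E.f U)
    (Groth.Agent.RelFP.appₗ E.g U)
    (fun y ↦ ⟨fun hy ↦ Groth.Agent.QCohBase.sections_exact_left hE.exact y hy, ?_⟩)
    (Groth.Agent.QCohBase.sections_surjective_affine hE ‹Coh.IsQCoh E.X₁› hU)
    (Groth.Agent.RelFP.relOn_of_isRelFP f _ h₂ hU hV hUV)
  rintro ⟨z, rfl⟩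
  exact congr($(congrArg (fun φ : E.X₁ ⟶ E.X₃ ↦ φ.app U) E.zero) z)

end Groth.Agent.S9748
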