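import Groth.Statements.S9749
import Groth.Agent.RelFP.Scheme
import Groth.Agent.QCohBase.Exact

set_option autoImplicit false
set_option linter.style.haveILetI false
universe u
open Flatn

namespace Groth.Agent.S9749

open AlgebraicGeometry CategoryTheory Limits in
/-- For f : X ⟶ S locally of finite type and quasi-coherent O_X-modules F, F', relative finite
presentation over S of the biproduct F ⊞ F' implies the same property for each summand. -/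
theorem result {X S : Scheme.{u}} (f : X ⟶ S) [LocallyOfFiniteType f] (F F' : X.Modules) [Coh.IsQCoh F] [Coh.IsQCoh F']
    (h : Flatn.IsRelFP f (F ⊞ F')) : Flatn.IsRelFP f F ∧ Flatn.IsRelFP f F' := by
  open Groth.Agent.RelFP Scheme.Modules in
  have key : ∀ (F₁ F₂ : X.Modules) [Coh.IsQCoh F₁] (_ : ∀ (U : X.affineOpens) (V : S.affineOpens)
      (hUV : (U : X.Opens) ≤ f ⁻¹ᵁ (V : S.Opens)), RelOn f (F₁ ⊞ F₂) U V hUV),
      Flatn.IsRelFP f F₁ := by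
    intro F₁ F₂ _ H
    refine Groth.Agent.RelFP.isRelFP_of_local f F₁ fun x ↦ ?_
    obtain ⟨U, hU, V, hV, hUV, hx⟩ := Groth.Agent.RelFP.exists_affine_pair f x
    refine ⟨U, hU, V, hV, hUV, hx, ?_⟩
    have h2 := H ⟨U, hU⟩ ⟨V, hV⟩ hUV
    letI := (f.appLE V U hUV).hom.toAlgebra
    haveI : Module.Finite Γ(X, U) Γ(F₁ ⊞ F₂, U) := Groth.Agent.RelFP.finite_of_rel h2
    let p₁ := appₗ (biprod.fst : F₁ ⊞ F₂ ⟶ F₁) U
    let p₂ := appₗ (biprod.snd : F₁ ⊞ F₂ ⟶ F₂) U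
    let i₁ := appₗ (biprod.inl : F₁ ⟶ F₁ ⊞ F₂) U
    let i₂ := appₗ (biprod.inr : F₂ ⟶ F₁ ⊞ F₂) U
    have h11 : ∀ y, p₁ (i₁ y) = y := fun y ↦
      congr($(congrArg (fun φ : F₁ ⟶ F₁ ↦ φ.app U) (biprod.inl_fst (X := F₁) (Y := F₂))) y)
    have h22 : ∀ y, p₂ (i₂ y) = y := fun y ↦
      congr($(congrArg (fun φ : F₂ ⟶ F₂ ↦ φ.app U) (biprod.inr_snd (X := F₁) (Y := F₂))) y)
    have h21 : ∀ y, p₁ (i₂ y) = 0 := fun y ↦
      congr($(congrArg (fun φ : F₂ ⟶ F₁ ↦ φ.app U) (biprod.inr_fst (X := F₁) (Y := F₂))) y)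
    have htot : ∀ y, i₁ (p₁ y) + i₂ (p₂ y) = y := fun y ↦
      congr($(congrArg (fun φ : F₁ ⊞ F₂ ⟶ F₁ ⊞ F₂ ↦ φ.app U) (biprod.total (X := F₁) (Y := F₂))) y)
    haveI : Module.Finite Γ(X, U) Γ(F₂, U) :=
      Module.Finite.of_surjective p₂ fun y ↦ ⟨_, h22 y⟩
    refine rel_of_exact_of_finite i₂ p₁ (fun y ↦ ⟨fun hy ↦ ⟨p₂ y, ?_⟩, ?_⟩) (fun y ↦ ⟨_, h11 y⟩) h2
    · simpa [hy] using htot y
    · rintro ⟨z, rfl⟩
      exact h21 z
  haveI : Coh.IsQCoh (F ⊞ F') := Groth.Agent.QCohBase.isQuasicoherent_of_extension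
    (T := ShortComplex.mk (biprod.inl : F ⟶ F ⊞ F') biprod.snd biprod.inl_snd)
    (ShortComplex.Splitting.shortExact (ShortComplex.Splitting.ofHasBinaryBiproduct F F'))
    ‹Coh.IsQCoh F› ‹Coh.IsQCoh F'›
  refine ⟨key F F' fun U V hUV ↦ Groth.Agent.RelFP.relOn_of_isRelFP f _ h U.2 V.2 hUV, ?_⟩
  refine key F' F fun U V hUV ↦ ?_
  have h2 := Groth.Agent.RelFP.relOn_of_isRelFP f _ h U.2 V.2 hUV
  letI := (f.appLE (V : S.Opens) (U : X.Opens) hUV).hom.toAlgebra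
  let φ := Groth.Agent.RelFP.appₗ (biprod.braiding F F').hom (U : X.Opens)
  refine Groth.Agent.RelFP.rel_of_linearEquiv (LinearEquiv.ofLinear φ
    (Groth.Agent.RelFP.appₗ (biprod.braiding F F').inv (U : X.Opens))
    (LinearMap.ext fun y ↦ ?_) (LinearMap.ext fun y ↦ ?_)) h2
  · exact congr($(congrArg (fun φ : F' ⊞ F ⟶ F' ⊞ F ↦ φ.app (U : X.Opens))
      (biprod.braiding F F').inv_hom_id) y)
  · exact congr($(congrArg (fun φ : F ⊞ F' ⟶ F ⊞ F' ↦ φ.app (U : X.Opens))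
      (biprod.braiding F F').hom_inv_id) y)

end Groth.Agent.S9749
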