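import Groth.Statements.S9750
import Groth.Agent.S1478
import Groth.Agent.FlatMorLib.FormallyEtale
-- import your own Groth.Agent.* helpers here

set_option autoImplicit false
universe u
open FlatMor

namespace Groth.Agent.S9750

open AlgebraicGeometry CategoryTheory Limits TensorProduct Groth.Agent in
lemma isZero_conormal_iff {X X' : Scheme.{u}} (i : X ⟶ X') (ht : MoreMor.IsFirstOrderThickening i) :
    IsZero (Omega.conormal i) ↔ IsIso i := by
  obtain ⟨⟨hcl, hs⟩, hsq⟩ := ht
  haveI := S1478.isQuasicoherent_idealMod i.ker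
  have key : ∀ V : X'.affineOpens,
      Subsingleton Γ((Scheme.Modules.pullback i).obj (ClSub.idealMod i.ker), i ⁻¹ᵁ V.1) ↔
        i.ker.ideal V = ⊥ := by
    intro V
    have hW : IsAffineOpen (i ⁻¹ᵁ V.1) := V.2.preimage i
    letI : Algebra Γ(X', V.1) Γ(X, i ⁻¹ᵁ V.1) := (i.appLE V.1 (i ⁻¹ᵁ V.1) le_rfl).hom.toAlgebra
    obtain ⟨e⟩ := QCohPull.nonempty_sections_pullback i (ClSub.idealMod i.ker) hW V.2 le_rfl
    obtain ⟨j⟩ := S1478.nonempty_idealMod_sections i.ker V.2
    have hsurj : Function.Surjective (algebraMap Γ(X', V.1) Γ(X, i ⁻¹ᵁ V.1)) := by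
      change Function.Surjective (i.appLE V.1 (i ⁻¹ᵁ V.1) le_rfl)
      rw [← Scheme.Hom.app_eq_appLE]
      exact i.app_surjective V.1 V.2
    have hker : RingHom.ker (algebraMap Γ(X', V.1) Γ(X, i ⁻¹ᵁ V.1)) = i.ker.ideal V := by
      change RingHom.ker (i.appLE V.1 (i ⁻¹ᵁ V.1) le_rfl).hom = _
      rw [← Scheme.Hom.app_eq_appLE, Scheme.Hom.ker_apply]
    rw [← e.toEquiv.subsingleton_congr, S1478.subsingleton_tensor_iff _ hsurj hker j]
    have h1 : (i.ker * i.ker).ideal V = ⊥ := by rw [hsq]; rfl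
    rw [Scheme.IdealSheafData.ideal_mul, Pi.mul_apply] at h1
    exact ⟨fun h => h.eq.symm.trans h1, fun h => by rw [h]; exact Ideal.bot_mul ⊥⟩
  rw [IsClosedImmersion.isIso_iff_ker_eq_bot]
  constructor
  · intro h
    refine Scheme.IdealSheafData.ext ?_
    funext V
    refine ((key V).1 (subsingleton_of_forall_eq 0 fun s => ?_)).trans rfl
    exact congrArg (fun φ : (Scheme.Modules.pullback i).obj (ClSub.idealMod i.ker) ⟶
      (Scheme.Modules.pullback i).obj (ClSub.idealMod i.ker) => φ.app (i ⁻¹ᵁ V.1) s)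
      ((IsZero.iff_id_eq_zero _).1 h)
  · intro h
    haveI : ((Scheme.Modules.pullback i).obj (ClSub.idealMod i.ker)).IsQuasicoherent :=
      QCohPull.isQuasicoherent_pullback i (ClSub.idealMod i.ker)
    change IsZero ((Scheme.Modules.pullback i).obj (ClSub.idealMod i.ker))
    refine QCohBase.isZero_of_sections (fun V : X'.affineOpens => i ⁻¹ᵁ V.1)
      (fun V => V.2.preimage i) (fun x => ?_) fun V => (key V).2 (by rw [h]; rfl)
    obtain ⟨_, ⟨(V : X'.Opens), hV, rfl⟩, hxV, -⟩ :=
      X'.isBasis_affineOpens.exists_subset_of_mem_open (Set.mem_univ (i x)) isOpen_univ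
    exact ⟨⟨V, hV⟩, hxV⟩

open AlgebraicGeometry CategoryTheory Limits in
lemma isFirstOrderThickening_of_isIso {X X' : Scheme.{u}} (i : X ⟶ X') [IsIso i] :
    MoreMor.IsFirstOrderThickening i := by
  refine ⟨⟨inferInstance, inferInstance⟩, ?_⟩
  rw [i.ker_eq_bot_of_isIso]
  refine Scheme.IdealSheafData.ext ?_
  rw [Scheme.IdealSheafData.ideal_mul]
  funext V
  exact Ideal.bot_mul _

open AlgebraicGeometry CategoryTheory Limits in
lemma isFormallyEtaleHom_iff {X S : Scheme.{u}} (f : X ⟶ S) :
    MoreMor.IsFormallyEtaleHom f ↔ OmegaSh.IsUnivThickening f (𝟙 X) f := by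
  refine ⟨fun hf => ⟨isFirstOrderThickening_of_isIso _, Category.id_comp _, fun T T' j b a hj w => ?_⟩,
    fun hu A _ I hI a b w => ?_⟩
  · simpa only [Category.comp_id] using
      Groth.Agent.FlatMorLib.existsUnique_lift_of_isFormallyEtaleHom hf hj a b w
  · simpa only [Category.comp_id] using
      hu.2.2 _ _ _ b a (Groth.Agent.FlatMorLib.isFirstOrderThickening_SpecMap_mk I hI) w

open AlgebraicGeometry CategoryTheory Limits in
/-- (1) ⇔ (2) ⇔ (3): a morphism f : X ⟶ S is formally étale (unique infinitesimal lifting against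
square-zero thickenings of affine schemes) if and only if f is formally unramified and X, through
the identity and f, is its own universal square-zero (first order) thickening relative to f; and,
for f formally unramified with universal first order thickening data (i : X ⟶ X', h' : X' ⟶ S), f is
formally étale if and only if the conormal sheaf of i (the conormal sheaf of f) is zero. The
published statement also lists a fourth equivalent condition, the vanishing of both the sheaf of
differentials and the conormal sheaf; this row omits it. -/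
theorem result {X S : Scheme.{u}} (f : X ⟶ S) :
    (MoreMor.IsFormallyEtaleHom f ↔ FormallyUnramified f ∧ OmegaSh.IsUnivThickening f (𝟙 X) f) ∧
    (∀ {X' : Scheme.{u}} (i : X ⟶ X') (h' : X' ⟶ S) [QuasiCompact i], FormallyUnramified f →
      OmegaSh.IsUnivThickening f i h' → (MoreMor.IsFormallyEtaleHom f ↔ IsZero (Omega.conormal i))) := by
  refine ⟨⟨fun hf => ⟨?_, (isFormallyEtaleHom_iff f).1 hf⟩, fun h => (isFormallyEtaleHom_iff f).2 h.2⟩,
    fun {X'} i h' _ _ hu => ?_⟩
  · rw [HasRingHomProperty.iff_appLE (P := @FormallyUnramified)]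
    intro V U e
    have hfe := Groth.Agent.FlatMorLib.formallyEtale_appLE f U.2 V.2 e hf
    letI := (f.appLE V.1 U.1 e).hom.toAlgebra
    haveI : Algebra.FormallyEtale Γ(S, V.1) Γ(X, U.1) := hfe
    exact (inferInstance : Algebra.FormallyUnramified Γ(S, V.1) Γ(X, U.1))
  · rw [isFormallyEtaleHom_iff, isZero_conormal_iff i hu.1]
    constructor
    · intro hid
      obtain ⟨a, ⟨ha₁, ha₂⟩, -⟩ := hid.2.2 X X' i h' (𝟙 X) hu.1 (by rw [Category.id_comp]; exact hu.2.1)
      refine ⟨a, by simpa using ha₁, ?_⟩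
      refine (hu.2.2 X X' i h' (𝟙 X) hu.1 (by rw [Category.id_comp]; exact hu.2.1)).unique
        ⟨?_, ?_⟩ ⟨by simp, by simp⟩
      · rw [← Category.assoc, ha₁]; simp
      · rw [Category.assoc, hu.2.1, ha₂]
    · intro _
      have e : inv i ≫ f = h' := by rw [IsIso.inv_comp_eq, hu.2.1]
      refine ⟨isFirstOrderThickening_of_isIso _, Category.id_comp _, fun T T' j b a hj w => ?_⟩
      obtain ⟨l, ⟨hl₁, hl₂⟩, hl⟩ := hu.2.2 T T' j b a hj w
      refine ⟨l ≫ inv i, ⟨by rw [reassoc_of% hl₁]; simp, by rw [Category.assoc, e, hl₂]⟩, ?_⟩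
      rintro l' ⟨h₁, h₂⟩
      rw [IsIso.eq_comp_inv]
      exact hl _ ⟨by rw [← Category.assoc, h₁]; simp, by rw [Category.assoc, hu.2.1, h₂]⟩

end Groth.Agent.S9750
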