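import Groth.Statements.S9756
import Groth.Agent.FlatSlice.QuasiFinite

set_option autoImplicit false
universe u
open FlatMor

namespace Groth.Agent.S9756

open AlgebraicGeometry CategoryTheory Limits in
/-- Let f : X ⟶ S be locally of finite presentation and flat at a point x, and assume the local ring of
the fibre X_{f x} at x has depth at least 1. Then there are an affine open U ∋ x and a
nonzerodivisor h' of Γ(X, U) vanishing at x such that the closed subscheme V(h') of U, an effective
Cartier divisor through x, is flat and locally of finite presentation over S. The published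
statement concludes that V(h') ⟶ S is of finite presentation; this row concludes only that it is
flat and locally of finite presentation, which is what the published argument (slicing by a lift of
a fibrewise nonzerodivisor) yields, and which is equivalent when S is quasi-separated, V(h') being
affine. -/
theorem result {X S : Scheme.{u}} (f : X ⟶ S) [LocallyOfFinitePresentation f] (x : X)
    (hflat : (f.stalkMap x).hom.Flat)
    (hdepth : 1 ≤ LocCoh.depth ↑((f.fiber (f x)).presheaf.stalk (f.asFiber x)) ↑((f.fiber (f x)).presheaf.stalk (f.asFiber x))) :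
    ∃ (U : X.Opens) (hU : IsAffineOpen U) (hx : x ∈ U) (h' : Γ(X, U)), h' ∈ nonZeroDivisors Γ(X, U) ∧
      X.presheaf.germ U x hx h' ∈ IsLocalRing.maximalIdeal ↑(X.presheaf.stalk x) ∧
      Flat (Spec.map (CommRingCat.ofHom (Ideal.Quotient.mk (Ideal.span {h'}))) ≫ hU.fromSpec ≫ f) ∧
      LocallyOfFinitePresentation (Spec.map (CommRingCat.ofHom (Ideal.Quotient.mk (Ideal.span {h'}))) ≫ hU.fromSpec ≫ f) := by
  obtain ⟨π, hπ, hker⟩ :=
    FlatSlice.exists_fibre_stalk_hom f (f x) (f.asFiber x) x (f.fiberι_asFiber x).symm
  haveI : IsLocallyNoetherian (f.fiber (f x)) :=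
    haveI : LocallyOfFiniteType (f.fiberToSpecResidueField (f x)) :=
      MorphismProperty.pullback_snd _ _ inferInstance
    LocallyOfFiniteType.isLocallyNoetherian (f.fiberToSpecResidueField (f x))
  haveI : IsLocalHom π := IsLocalHom.of_surjective π hπ
  obtain ⟨y, hy, hyreg⟩ := (Depth.one_le_idealDepth_iff
    (Depth.maximalIdeal_smul_top_ne_top (R := (f.fiber (f x)).presheaf.stalk (f.asFiber x)) (M := (f.fiber (f x)).presheaf.stalk (f.asFiber x)))).mp hdepth
  obtain ⟨t, rfl⟩ := hπ y
  have ht : t ∈ IsLocalRing.maximalIdeal (X.presheaf.stalk x) := fun hu => hy (hu.map π)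
  let e := (Ideal.quotEquivOfEq hker.symm).trans (RingHom.quotientKerEquivOfSurjective hπ)
  obtain ⟨V, hV, U, hU, hUV, hxU, l, hl, hsl⟩ := FlatSlice.exists_sliced_open f x hflat [t] (by
    rw [List.map_singleton, RingTheory.Sequence.isWeaklyRegular_singleton_iff]
    intro a b hab
    apply e.injective
    apply hyreg
    show π t • e a = π t • e b
    have := congrArg e hab
    simp only [smul_eq_mul, map_mul] at this ⊢
    exact this)
  obtain ⟨b, rfl, hb⟩ : ∃ b, l = [b] ∧ X.presheaf.germ U x hxU b = t := by
    match l, hl with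
    | [b], h => exact ⟨b, rfl, by simpa using h⟩
  obtain ⟨h1, h2⟩ := FlatSlice.flat_lfp_quotient f hV hU hUV [b] hsl
  letI : Algebra Γ(S, V) Γ(X, U) := (f.appLE V U hUV).hom.toAlgebra
  have hreg := (RingTheory.Sequence.isWeaklyRegular_singleton_iff Γ(X, U) b).1 hsl.isWeaklyRegular
  rw [Ideal.ofList_singleton] at h1 h2
  refine ⟨U, hU, hxU, b, ?_, hb ▸ ht, h1, h2⟩
  exact mem_nonZeroDivisors_iff_right.2 fun z hz => hreg (show b * z = b * 0 by rw [mul_zero, mul_comm, hz])

end Groth.Agent.S9756
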