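import Groth.Statements.S9757
import Groth.Agent.FlatEquidim.Scheme
import Groth.Agent.FlatMorLib.MaxPoints

set_option autoImplicit false
universe u
open FlatMor

namespace Groth.Agent.S9757

open AlgebraicGeometry CategoryTheory Limits in
/-- Suppose the morphism f : X ⟶ S is flat and locally of finite presentation. Then X contains open
subsets U_d, indexed by d ∈ ℕ, such that for every s ∈ S the union of all U_d intersects the fibre
X_s in a dense subset of X_s, and each U_d ⟶ S is of relative dimension d. Because U_d is open in X,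
this is the same as requiring that at every point x of U_d the fibre of f containing x has local
dimension d at x; that pointwise form is the one this row uses. -/
theorem result {X S : Scheme.{u}} (f : X ⟶ S) [Flat f] [LocallyOfFinitePresentation f] :
    ∃ U : ℕ → X.Opens, (∀ s : S, Dense ((f.fiberι s) ⁻¹' ((⨆ d, U d : X.Opens) : Set ↑X))) ∧
      ∀ (d : ℕ) (x : ↑X), x ∈ U d → FlatMor.fibreDimAt f x = d := by
  refine ⟨fun d => ⨆ W : {W : X.Opens // ∀ y ∈ W, FlatMor.fibreDimAt f y = d}, W.1, fun s => ?_,
    fun d x hx => ?_⟩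
  · rw [dense_iff_inter_open]
    rintro O hO ⟨w, hw⟩
    obtain ⟨m, hmw, hm⟩ := Groth.Agent.FlatMorLib.exists_maximal_generization w
    refine ⟨m, hmw.mem_open hO hw, ?_⟩
    have hmax : Groth.Agent.FlatEquidim.IsFibreMax f (f.fiberι s m) := by
      intro z hz hfz
      obtain ⟨v, rfl⟩ : z ∈ Set.range (f.fiberι s) := by
        rw [Scheme.Hom.range_fiberι]
        exact hfz.trans (Groth.Agent.FlatEquidim.fiberι_apply_eq f s m)
      rw [hm v ((f.fiberι s).isEmbedding.isInducing.specializes_iff.1 hz)]
    obtain ⟨d, W, hmW, hW⟩ := Groth.Agent.FlatEquidim.exists_nbhd_fibreDimAt f _ hmax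
    exact TopologicalSpace.Opens.mem_iSup.2 ⟨d, TopologicalSpace.Opens.mem_iSup.2 ⟨⟨W, hW⟩, hmW⟩⟩
  · obtain ⟨W, hW⟩ := TopologicalSpace.Opens.mem_iSup.1 hx
    exact W.2 x hW

end Groth.Agent.S9757
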