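import Groth.Statements.S9759
import Groth.Agent.FlatMorLib.Approx
import Groth.Agent.GenFlat.Descent

set_option autoImplicit false
universe u
open FlatMor

namespace Groth.Agent.S9759

open AlgebraicGeometry CategoryTheory Limits in
/-- Let f : X ⟶ S be a flat morphism of finite presentation between affine schemes. Then f is the base
change of a morphism of finite type f₀ : X₀ ⟶ S₀ between affine schemes with S₀ of finite type over
ℤ and f₀ flat. -/
theorem result {X S : Scheme.{u}} (f : X ⟶ S) [IsAffine X] [IsAffine S] [LocallyOfFinitePresentation f] [Flat f] :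
    ∃ (X₀ S₀ : Scheme.{u}) (f₀ : X₀ ⟶ S₀) (g : S ⟶ S₀) (g' : X ⟶ X₀), IsAffine X₀ ∧ IsAffine S₀ ∧ IsPullback g' f f₀ g ∧
      Algebra.FiniteType ℤ Γ(S₀, ⊤) ∧ LocallyOfFiniteType f₀ ∧ Flat f₀ := by
  let A : CommRingCat.{u} := Γ(S, ⊤)
  let B : CommRingCat.{u} := Γ(X, ⊤)
  let _ : Algebra A B := f.appTop.hom.toAlgebra
  have : Algebra.FinitePresentation A B := f.finitePresentation_appTop
  have : Module.Flat A B := f.flat_appTop
  obtain ⟨S₁, C₀, _, _, hfg, hflat, hfp, ⟨e⟩⟩ := Groth.Agent.GenFlat.exists_flat_model (K := ℤ) (B := A) (C := B)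
  have hpo : IsPushout (CommRingCat.ofHom (algebraMap S₁ A)) (CommRingCat.ofHom (algebraMap S₁ C₀)) f.appTop
      (CommRingCat.ofHom ((e.symm.toAlgHom.restrictScalars S₁).comp
        Algebra.TensorProduct.includeRight).toRingHom) := by
    refine (CommRingCat.isPushout_tensorProduct S₁ A C₀).of_iso (Iso.refl _) (Iso.refl _) (Iso.refl _)
      e.symm.toRingEquiv.toCommRingCatIso (by simp) (by simp) ?_ ?_
    · exact CommRingCat.hom_ext (RingHom.ext fun x => e.symm.commutes x)
    · exact CommRingCat.hom_ext (RingHom.ext fun x => rfl)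
  have hpb := (isPullback_SpecMap_of_isPushout _ _ _ _ hpo).flip
  refine ⟨Spec (.of C₀), Spec (.of S₁), Spec.map (CommRingCat.ofHom (algebraMap S₁ C₀)),
    S.isoSpec.hom ≫ Spec.map (CommRingCat.ofHom (algebraMap S₁ A)),
    X.isoSpec.hom ≫ Spec.map (CommRingCat.ofHom ((e.symm.toAlgHom.restrictScalars S₁).comp
        Algebra.TensorProduct.includeRight).toRingHom),
    inferInstance, inferInstance, ?_, ?_, ?_, ?_⟩
  · exact (IsPullback.of_horiz_isIso ⟨(Scheme.isoSpec_hom_naturality f)⟩).paste_horiz hpb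
  · have : Algebra.FiniteType ℤ S₁ := S₁.fg_iff_finiteType.mp hfg
    exact this.equiv (Scheme.ΓSpecIso (.of S₁)).symm.commRingCatIsoToRingEquiv.toIntAlgEquiv
  · rw [HasRingHomProperty.Spec_iff (P := @LocallyOfFiniteType)]
    exact RingHom.finiteType_algebraMap.mpr inferInstance
  · rw [Flat.SpecMap_iff]
    exact RingHom.flat_algebraMap_iff.mpr hflat

end Groth.Agent.S9759
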