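import Groth.Statements.S9760
import Groth.Agent.ModModelScheme.Scheme

set_option autoImplicit false
universe u
open FlatMor

namespace Groth.Agent.S9760

open AlgebraicGeometry CategoryTheory Limits in
/-- Given affine schemes X and S, a finitely presented morphism f : X ⟶ S, and a finitely presented
quasi-coherent O_X-module F, the morphism f is a pullback, along some g' : X ⟶ X₀, of a finite type
morphism f₀ : X₀ ⟶ S₀ of affine schemes with Γ(S₀) of finite type over ℤ, and there is a coherent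
O_{X₀}-module F₀ whose pullback along g' is isomorphic to F. -/
theorem result {X S : Scheme.{u}} (f : X ⟶ S) [IsAffine X] [IsAffine S] [LocallyOfFinitePresentation f]
    (F : X.Modules) [Coh.IsQCoh F] (hF : CohB1.IsFP F) :
    ∃ (X₀ S₀ : Scheme.{u}) (f₀ : X₀ ⟶ S₀) (g : S ⟶ S₀) (g' : X ⟶ X₀), IsAffine X₀ ∧ IsAffine S₀ ∧ IsPullback g' f f₀ g ∧
      Algebra.FiniteType ℤ Γ(S₀, ⊤) ∧ LocallyOfFiniteType f₀ ∧
      ∃ F₀ : X₀.Modules, Coh.IsCoh F₀ ∧ Nonempty ((Scheme.Modules.pullback g').obj F₀ ≅ F) := by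
  let _ : Algebra Γ(S, ⊤) Γ(X, ⊤) := f.appTop.hom.toAlgebra
  have : Algebra.FinitePresentation Γ(S, ⊤) Γ(X, ⊤) := f.finitePresentation_appTop
  have := Groth.Agent.ModModelScheme.finitePresentation_sections F hF
  obtain ⟨R₀, _, _, S₀, _, _, _, _, _, _, M₀, _, _, _, _, _, _, b, h1, h2, h3, hpo, hb⟩ :=
    Groth.Agent.ModModelScheme.exists_model_fp (R := Γ(S, ⊤)) (S := Γ(X, ⊤)) (M := Γ(F, ⊤))
  obtain ⟨X₀, T₀, f₀, g, g', a1, a2, a3, a4, a5, F₀, a6, -, a7⟩ :=
    Groth.Agent.ModModelScheme.exists_scheme_model f F R₀ S₀ ‹_› hpo M₀ b hb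
  exact ⟨X₀, T₀, f₀, g, g', a1, a2, a3, a4, a5, F₀, a6, a7⟩

end Groth.Agent.S9760
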