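import Groth.Statements.S9761
import Groth.Agent.ModModelScheme.Scheme

set_option autoImplicit false
universe u
open FlatMor

namespace Groth.Agent.S9761

open AlgebraicGeometry CategoryTheory Limits in
/-- For a finitely presented morphism f : X ⟶ S of affine schemes and a quasi-coherent, finitely
presented O_X-module F that is flat over S, f is the base change along some g' : X ⟶ X₀ of a finite
type morphism f₀ : X₀ ⟶ S₀ of affine schemes with S₀ of finite type over ℤ, and some coherent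
O_{X₀}-module F₀, flat over S₀, satisfies g'^*F₀ ≅ F. -/
theorem result {X S : Scheme.{u}} (f : X ⟶ S) [IsAffine X] [IsAffine S] [LocallyOfFinitePresentation f]
    (F : X.Modules) [Coh.IsQCoh F] (hF : CohB1.IsFP F) (hfl : FlatMod.IsFlatOver f F) :
    ∃ (X₀ S₀ : Scheme.{u}) (f₀ : X₀ ⟶ S₀) (g : S ⟶ S₀) (g' : X ⟶ X₀), IsAffine X₀ ∧ IsAffine S₀ ∧ IsPullback g' f f₀ g ∧
      Algebra.FiniteType ℤ Γ(S₀, ⊤) ∧ LocallyOfFiniteType f₀ ∧
      ∃ F₀ : X₀.Modules, Coh.IsCoh F₀ ∧ FlatMod.IsFlatOver f₀ F₀ ∧ Nonempty ((Scheme.Modules.pullback g').obj F₀ ≅ F) := by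
  let _ : Algebra Γ(S, ⊤) Γ(X, ⊤) := f.appTop.hom.toAlgebra
  have : Algebra.FinitePresentation Γ(S, ⊤) Γ(X, ⊤) := f.finitePresentation_appTop
  have := Groth.Agent.ModModelScheme.finitePresentation_sections F hF
  have e : (⊤ : X.Opens) ≤ f ⁻¹ᵁ ⊤ := le_top
  let _ : Module Γ(S, ⊤) Γ(F, ⊤) := Groth.Agent.FlatOver.baseModule f F e
  have happ : f.appLE ⊤ ⊤ e = f.appTop := (Scheme.Hom.app_eq_appLE f).symm
  have : IsScalarTower Γ(S, ⊤) Γ(X, ⊤) Γ(F, ⊤) := .of_algebraMap_smul fun a m => by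
    show f.appTop a • m = f.appLE ⊤ ⊤ e a • m
    rw [happ]
  have : Module.Flat Γ(S, ⊤) Γ(F, ⊤) :=
    Groth.Agent.FlatOver.flat_of_isFlatOverAt f F e (isAffineOpen_top X) (isAffineOpen_top S)
      fun x _ => hfl x
  obtain ⟨R₀, _, _, S₀, _, _, _, _, _, _, M₀, _, _, _, _, _, _, b, h1, h2, h3, h4, hpo, hb⟩ :=
    Groth.Agent.ModModel.exists_model (R := Γ(S, ⊤)) (S := Γ(X, ⊤)) (M := Γ(F, ⊤))
  obtain ⟨X₀, T₀, f₀, g, g', a1, a2, a3, a4, a5, F₀, a6, a6', a7⟩ :=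
    Groth.Agent.ModModelScheme.exists_scheme_model f F R₀ S₀ ‹_› hpo M₀ b hb
  refine ⟨X₀, T₀, f₀, g, g', a1, a2, a3, a4, a5, F₀, a6, a6' ?_, a7⟩
  convert h4 using 1
  exact Module.ext' _ _ fun a m => IsScalarTower.algebraMap_smul S₀ a m

end Groth.Agent.S9761
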