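import Groth.Statements.S9769
import Groth.Agent.FlatOverBC.Relative
import Groth.Agent.FlatOverBC.Free
import Groth.Agent.RectDepth.Semicont
import Groth.Agent.FlatFunLib.GenFree
-- import your own Groth.Agent.* helpers here

set_option autoImplicit false
universe u
open FlatMor

namespace Groth.Agent.S9769

open AlgebraicGeometry CategoryTheory Limits in
/-- Let f : X ⟶ S be locally of finite presentation and F a finitely presented O_X-module which is flat
over S. Then the formation of the locus of points of X near which F is free (equivalently, for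
finitely presented F, where the stalk of F is a free module) commutes with arbitrary base change:
for a cartesian square with g' : X' ⟶ X over S' ⟶ S, the free locus of (g')^*F is the preimage of
that of F. The published statement also asserts that this locus is open; this row states only that
its formation commutes with base change. -/
theorem result {X S X' S' : Scheme.{u}} (f : X ⟶ S) [LocallyOfFinitePresentation f]
    (F : X.Modules) (hF : CohB1.IsFP F) (hfl : FlatMod.IsFlatOver f F)
    (g : S' ⟶ S) (f' : X' ⟶ S') (g' : X' ⟶ X) (hc : IsPullback g' f' f g) :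
    {x' : ↑X' | Module.Free ↑(X'.presheaf.stalk x') ↑(((Scheme.Modules.pullback g').obj F).presheaf.stalk x')} =
      g' ⁻¹' {x : ↑X | Module.Free ↑(X.presheaf.stalk x) ↑(F.presheaf.stalk x)} := by
  have hid : ∀ (Y : Scheme.{u}) (M : Y.Modules) (y : Y),
      FlatMod.IsFlatOverAt (𝟙 Y) M y ↔ Module.Flat ↑(Y.presheaf.stalk y) ↑(M.presheaf.stalk y) := by
    intro Y M y
    have h : FlatMod.moduleStalkOver (𝟙 Y) M y = (inferInstance : Module ↑(Y.presheaf.stalk y) ↑(M.presheaf.stalk y)) := by
      show @Module.compHom _ _ _ _ _ _ _ ((𝟙 Y : Y ⟶ Y).stalkMap y).hom = _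
      rw [Scheme.Hom.stalkMap_id]
      exact Module.ext' _ _ fun _ _ => rfl
    show @Module.Flat ↑(Y.presheaf.stalk y) ↑(M.presheaf.stalk y) _ _ (FlatMod.moduleStalkOver (𝟙 Y) M y) ↔ _
    rw [h]
  haveI : F.IsQuasicoherent := RectDepth.isQuasicoherent_of_isFP hF
  ext x'
  simp only [Set.mem_setOf_eq, Set.mem_preimage]
  let e := ((DCohBridge.stalkPullIso g' x').app F).toLinearEquiv
  constructor
  · intro hfree
    haveI := hfree
    have h' : FlatMod.IsFlatOverAt (𝟙 X') ((Scheme.Modules.pullback g').obj F) x' :=
      (hid _ _ _).2 inferInstance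
    haveI : LocallyOfFinitePresentation (𝟙 X ≫ f) := by rw [Category.id_comp]; infer_instance
    have h := FlatOverBC.isFlatOverAt_of_relative_baseChange (𝟙 X) f F hF hc
      (f' := 𝟙 X') (gX := g') (by simpa using hc) (by simp) x'
      (by rw [Category.id_comp]; exact hfl _) h'
    have hflat := (hid _ _ _).1 h
    obtain ⟨U, n, hU, ⟨φ⟩⟩ := FlatOverBC.exists_iso_freeMod F hF (g' x') hflat
    obtain ⟨b⟩ := FlatFunLib.nonempty_basis_stalk F n (g' x') ⟨U, hU, ⟨φ⟩⟩
    exact Module.Free.of_basis b
  · intro hfree
    haveI := hfree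
    letI : Algebra ↑(X.presheaf.stalk (g' x')) ↑(X'.presheaf.stalk x') := (g'.stalkMap x').hom.toAlgebra
    let e' : ((Scheme.Modules.pullback g').obj F).presheaf.stalk x' ≃ₗ[X'.presheaf.stalk x']
        TensorProduct ↑(X.presheaf.stalk (g' x')) ↑(X'.presheaf.stalk x') ↑(F.presheaf.stalk (g' x')) := e
    exact Module.Free.of_equiv e'.symm
end Groth.Agent.S9769
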