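import Groth.Statements.S9775
import Groth.Agent.LCIPres.KoszulAt
import Groth.Agent.LCIPres.RegScheme
-- import your own Groth.Agent.* helpers here

set_option autoImplicit false
universe u
open FlatMor

namespace Groth.Agent.S9775

open AlgebraicGeometry CategoryTheory Limits in
/-- Let S be a locally Noetherian scheme, g : Y ⟶ S locally of finite type with Y regular (all local
rings regular), f : X ⟶ Y a morphism, and assume the composite f ≫ g is Koszul at every point of X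
(a local complete intersection morphism). Then f is Koszul at every point of X, and g is Koszul at
the point f x for each x ∈ X. -/
theorem result {X Y S : Scheme.{u}} (f : X ⟶ Y) (g : Y ⟶ S) [IsLocallyNoetherian S] [LocallyOfFiniteType g]
    (hY : Models.IsRegularScheme Y) (h : ∀ x : X, Synt.IsKoszulAt (f ≫ g) x) :
    (∀ x : X, Synt.IsKoszulAt f x) ∧ ∀ x : X, Synt.IsKoszulAt g (f x) := by
  haveI : IsLocallyNoetherian Y := LocallyOfFiniteType.isLocallyNoetherian g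
  suffices key : ∀ x : X, Synt.IsKoszulAt f x ∧ Synt.IsKoszulAt g (f x) from
    ⟨fun x => (key x).1, fun x => (key x).2⟩
  intro x
  rw [LCIPres.isKoszulAt_iff, LCIPres.isKoszulAt_iff]
  obtain ⟨U, W, e, hU, hW, hxU, hlci⟩ := (LCIPres.isKoszulAt_iff _ x).1 (h x)
  obtain ⟨V, hV, hfxV, hVW⟩ := TopologicalSpace.Opens.isBasis_iff_nbhd.1 Y.isBasis_affineOpens
    (show f x ∈ g ⁻¹ᵁ W from e hxU)
  obtain ⟨b, hbV, hxb⟩ := hU.exists_basicOpen_le (V := f ⁻¹ᵁ V) ⟨x, hfxV⟩ hxU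
  have hxb : x ∈ X.basicOpen b := hxb
  have hD : IsAffineOpen (X.basicOpen b) := hU.basicOpen b
  have e' : X.basicOpen b ≤ (f ≫ g) ⁻¹ᵁ W := (X.basicOpen_le b).trans e
  letI aWU : Algebra Γ(S, W) Γ(X, U) := ((f ≫ g).appLE W U e).hom.toAlgebra
  letI aUB : Algebra Γ(X, U) Γ(X, X.basicOpen b) := (X.presheaf.map (homOfLE (X.basicOpen_le b)).op).hom.toAlgebra
  letI aWB : Algebra Γ(S, W) Γ(X, X.basicOpen b) := ((f ≫ g).appLE W (X.basicOpen b) e').hom.toAlgebra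
  haveI : IsScalarTower Γ(S, W) Γ(X, U) Γ(X, X.basicOpen b) := .of_algebraMap_eq' <| by
    show ((f ≫ g).appLE W (X.basicOpen b) e').hom = ((f ≫ g).appLE W U e ≫ X.presheaf.map _).hom
    rw [Scheme.Hom.appLE_map]
  haveI : IsLocalization.Away b Γ(X, X.basicOpen b) := hU.isLocalization_basicOpen b
  have h2 : LCI.IsLCI Γ(S, W) Γ(X, X.basicOpen b) := LCIPres.isLCI_away hlci b _
  letI aWV : Algebra Γ(S, W) Γ(Y, V) := (g.appLE W V hVW).hom.toAlgebra
  haveI : Algebra.FiniteType Γ(S, W) Γ(Y, V) := g.finiteType_appLE hW hV hVW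
  letI aVB : Algebra Γ(Y, V) Γ(X, X.basicOpen b) := (f.appLE V (X.basicOpen b) hbV).hom.toAlgebra
  haveI : IsScalarTower Γ(S, W) Γ(Y, V) Γ(X, X.basicOpen b) := .of_algebraMap_eq' <| by
    show ((f ≫ g).appLE W (X.basicOpen b) e').hom = (g.appLE W V hVW ≫ f.appLE V (X.basicOpen b) hbV).hom
    rw [Scheme.Hom.appLE_comp_appLE]
  haveI : IsNoetherianRing Γ(S, W) := IsLocallyNoetherian.component_noetherian ⟨W, hW⟩
  haveI : IsRegularRing Γ(Y, V) := LCIPres.isRegularRing_of_affine hY hV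
  obtain ⟨n, v, hv⟩ := LCIPres.exists_pres Γ(S, W) Γ(Y, V)
  letI aPV : Algebra (MvPolynomial (Fin n) Γ(S, W)) Γ(Y, V) :=
    (MvPolynomial.aeval (R := Γ(S, W)) v).toRingHom.toAlgebra
  letI aPB : Algebra (MvPolynomial (Fin n) Γ(S, W)) Γ(X, X.basicOpen b) :=
    ((algebraMap Γ(Y, V) Γ(X, X.basicOpen b)).comp (MvPolynomial.aeval (R := Γ(S, W)) v).toRingHom).toAlgebra
  haveI : IsScalarTower (MvPolynomial (Fin n) Γ(S, W)) Γ(Y, V) Γ(X, X.basicOpen b) := .of_algebraMap_eq' rfl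
  haveI : IsScalarTower Γ(S, W) (MvPolynomial (Fin n) Γ(S, W)) Γ(X, X.basicOpen b) := .of_algebraMap_eq fun a => by
    show algebraMap Γ(S, W) Γ(X, X.basicOpen b) a =
      algebraMap Γ(Y, V) Γ(X, X.basicOpen b) (MvPolynomial.aeval v (algebraMap Γ(S, W) _ a))
    rw [AlgHom.commutes, ← IsScalarTower.algebraMap_apply]
  have h3 : LCI.IsLCI (MvPolynomial (Fin n) Γ(S, W)) Γ(X, X.basicOpen b) := LCIPres.isLCI_cancel_polynomial h2
  refine ⟨⟨X.basicOpen b, V, hbV, hD, hV, hxb, LCIPres.isLCI_cancel_regular (A := MvPolynomial (Fin n) Γ(S, W)) hv h3⟩, ?_⟩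
  obtain ⟨c, hc, l, hl, hspan⟩ := LCIPres.exists_away_of_regular (B := Γ(Y, V)) hv h3 (hD.primeIdealOf ⟨x, hxb⟩).asIdeal
  let b' : Γ(Y, V) := MvPolynomial.aeval v c
  have hfx : f x ∈ Y.basicOpen b' := by
    have h4 : x ∈ X.basicOpen (f.appLE V (X.basicOpen b) hbV b') := by
      have h5 : hD.primeIdealOf ⟨x, hxb⟩ ∈ hD.fromSpec ⁻¹ᵁ X.basicOpen (f.appLE V (X.basicOpen b) hbV b') := by
        rw [hD.fromSpec_preimage_basicOpen]
        exact hc
      have h6 : hD.fromSpec (hD.primeIdealOf ⟨x, hxb⟩) ∈ X.basicOpen (f.appLE V (X.basicOpen b) hbV b') := h5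
      rwa [hD.fromSpec_primeIdealOf] at h6
    rw [Scheme.basicOpen_appLE] at h4
    exact h4.2
  have e'' : Y.basicOpen b' ≤ g ⁻¹ᵁ W := (Y.basicOpen_le b').trans hVW
  refine ⟨Y.basicOpen b', W, e'', hV.basicOpen b', hW, hfx, ?_⟩
  letI aVb : Algebra Γ(Y, V) Γ(Y, Y.basicOpen b') := (Y.presheaf.map (homOfLE (Y.basicOpen_le b')).op).hom.toAlgebra
  letI aWb : Algebra Γ(S, W) Γ(Y, Y.basicOpen b') := (g.appLE W (Y.basicOpen b') e'').hom.toAlgebra
  haveI : IsScalarTower Γ(S, W) Γ(Y, V) Γ(Y, Y.basicOpen b') := .of_algebraMap_eq' <| by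
    show (g.appLE W (Y.basicOpen b') e'').hom = (g.appLE W V hVW ≫ Y.presheaf.map _).hom
    rw [Scheme.Hom.appLE_map]
  haveI : IsLocalization.Away (MvPolynomial.aeval v c) Γ(Y, Y.basicOpen b') := hV.isLocalization_basicOpen b'
  exact (LCIPres.isLCI_away_iff hv c Γ(Y, Y.basicOpen b')).2 (LCIPres.isKoszulRegularIdeal_of_seq l hl hspan)
end Groth.Agent.S9775
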