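import Groth.Statements.S9793
import Mathlib.AlgebraicGeometry.Noetherian
import Mathlib.AlgebraicGeometry.Properties
import Mathlib.RingTheory.Ideal.KrullsHeightTheorem


set_option autoImplicit false
set_option backward.isDefEq.respectTransparency false
set_option backward.isDefEq.respectTransparency.types false
universe u
open CategoryTheory AlgebraicGeometry TopologicalSpace
open Props

namespace Groth.Agent.S9793

/-- Let S be a Noetherian scheme and T a set of points of S. Every point of T is a specialization of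
some point of T which admits no non-trivial generization lying in T. -/
theorem result (S : Scheme.{u}) [IsNoetherian S]
    (T : Set S) (t : S) (ht : t ∈ T) :
    ∃ t₀ ∈ T, (∀ t' ∈ T, t' ⤳ t₀ → t' = t₀) ∧ t₀ ⤳ t := by
  classical
  have hfin : ∀ a : S, Order.coheight a < ⊤ := fun a => by
    have h := ringKrullDim_lt_top (R := S.presheaf.stalk a)
    rw [ringKrullDim_stalk_eq_coheight] at h
    exact WithBot.coe_lt_coe.1 h
  let P : ℕ → Prop := fun n => ∃ a ∈ T, a ⤳ t ∧ Order.coheight a = (n : ℕ∞)
  have hP : ∃ n, P n := by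
    obtain ⟨n, hn⟩ := ENat.ne_top_iff_exists.1 (hfin t).ne
    exact ⟨n, t, ht, specializes_rfl, hn.symm⟩
  obtain ⟨a, ha, hat, hn⟩ := Nat.find_spec hP
  refine ⟨a, ha, fun t' ht' hspec => ?_, hat⟩
  by_contra hne
  have hlt : a < t' := lt_iff_le_not_ge.2 ⟨hspec, fun h => hne ((Specializes.antisymm hspec h).eq)⟩
  have h2 := Order.coheight_strictAnti hlt (hfin t')
  obtain ⟨m, hm⟩ := ENat.ne_top_iff_exists.1 (hfin t').ne
  rw [← hm, hn, ENat.coe_lt_coe] at h2
  exact Nat.find_min hP h2 ⟨t', ht', hspec.trans hat, hm.symm⟩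

end Groth.Agent.S9793
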