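import Groth.Statements.S9798
import Groth.Agent.TopDimLib.Basic


set_option autoImplicit false
universe u
open CategoryTheory AlgebraicGeometry TopologicalSpace
open Props

namespace Groth.Agent.S9798

/-- A point of a locally Noetherian scheme has local dimension zero exactly when it is isolated. -/
theorem result (X : Scheme.{u}) [IsLocallyNoetherian X] (x : X) :
    FlatMor.localDim X x = 0 ↔ IsOpen ({x} : Set X) := by
  constructor
  · intro h
    obtain ⟨U, hxU, hU⟩ := Groth.Agent.TopDimLib.exists_localDim_eq x
    obtain ⟨_, ⟨W, hW, rfl⟩, hxW, hWU⟩ := X.isBasis_affineOpens.exists_subset_of_mem_open hxU U.isOpen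
    have : IsNoetherianRing Γ(X, W) := IsLocallyNoetherian.component_noetherian ⟨W, hW⟩
    have : TopologicalSpace.NoetherianSpace (W : Set X) := noetherianSpace_of_isAffineOpen W hW
    have : Nonempty (W : Set X) := ⟨⟨x, hxW⟩⟩
    have h0 : topologicalKrullDim (W : Set X) = 0 := by
      refine le_antisymm ?_ ?_
      · exact (Groth.Agent.TopDimLib.dim_subtype_mono hWU).trans (hU.trans h).le
      · exact h ▸ Groth.Agent.TopDimLib.localDim_le (U := W) hxW
    obtain ⟨-, hd⟩ := Groth.Agent.TopDimLib.dim_eq_zero_iff.1 h0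
    have := W.isOpen.isOpenMap_subtype_val {⟨x, hxW⟩} (isOpen_discrete _)
    rwa [Set.image_singleton] at this
  · intro h
    let U : X.Opens := ⟨{x}, h⟩
    have : Subsingleton (U : Set X) := ⟨fun a b => Subtype.ext (a.2.trans b.2.symm)⟩
    refine le_antisymm ((Groth.Agent.TopDimLib.localDim_le (U := U) rfl).trans
      (topologicalKrullDim_zero_of_discreteTopology _)) ?_
    obtain ⟨V, hxV, hV⟩ := Groth.Agent.TopDimLib.exists_localDim_eq x
    rw [← hV]
    have : Nonempty (TopologicalSpace.IrreducibleCloseds (V : Set X)) :=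
      ⟨⟨closure {⟨x, hxV⟩}, isIrreducible_singleton.closure, isClosed_closure⟩⟩
    exact Order.krullDim_nonneg

end Groth.Agent.S9798
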