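import Groth.Statements.S9799
-- import your own Groth.Agent.* helpers here

set_option autoImplicit false
set_option backward.isDefEq.respectTransparency false
set_option backward.isDefEq.respectTransparency.types false
universe u
open CategoryTheory AlgebraicGeometry TopologicalSpace
open Props

namespace Groth.Agent.S9799

/-- Let X be a normal scheme (all local rings are integrally closed domains) such that every
quasi-compact open subset has finitely many irreducible components. Then the irreducible components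
of X are open and pairwise disjoint; hence X is the disjoint union of its irreducible components,
each an open subscheme which is normal and integral. -/
theorem result (X : Scheme.{u})
    (hfin : ∀ U : X.Opens, IsCompact (U : Set X) → (irreducibleComponents ↥U).Finite)
    (hN : Pi1.IsNormalScheme X) :
    (∀ Z ∈ irreducibleComponents X, IsOpen Z) ∧
      ∀ Z ∈ irreducibleComponents X, ∀ Z' ∈ irreducibleComponents X, Z ≠ Z' → Disjoint Z Z' := by
  have huniq : ∀ Z ∈ irreducibleComponents X, ∀ Z' ∈ irreducibleComponents X, ∀ x ∈ Z, x ∈ Z' → Z = Z' := by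
    intro Z hZ Z' hZ' x hx hx'
    haveI := (hN x).1
    obtain ⟨a, ha⟩ := QuasiSober.sober hZ.1 (isClosed_of_mem_irreducibleComponents Z hZ)
    obtain ⟨b, hb⟩ := QuasiSober.sober hZ'.1 (isClosed_of_mem_irreducibleComponents Z' hZ')
    let c := X.fromSpecStalk x (⟨⊥, Ideal.isPrime_bot⟩ : PrimeSpectrum (X.presheaf.stalk x))
    have key : ∀ p : X, p ⤳ x → c ⤳ p := fun p hp => by
      obtain ⟨q, rfl⟩ : p ∈ Set.range (X.fromSpecStalk x) := by rw [Scheme.range_fromSpecStalk]; exact hp
      exact ((PrimeSpectrum.le_iff_specializes (R := X.presheaf.stalk x) ⟨⊥, Ideal.isPrime_bot⟩ q).1 bot_le).map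
        (X.fromSpecStalk x).continuous
    have h1 : closure {c} = Z := by
      refine (hZ.2 isIrreducible_singleton.closure ?_).antisymm ?_ <;>
        rw [← ha.def] <;>
        exact closure_minimal (Set.singleton_subset_iff.2 (key a (ha.specializes hx)).mem_closure) isClosed_closure
    have h2 : closure {c} = Z' := by
      refine (hZ'.2 isIrreducible_singleton.closure ?_).antisymm ?_ <;>
        rw [← hb.def] <;>
        exact closure_minimal (Set.singleton_subset_iff.2 (key b (hb.specializes hx')).mem_closure) isClosed_closure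
    exact h1.symm.trans h2
  refine ⟨fun Z hZ => isOpen_iff_forall_mem_open.2 fun x hx => ?_, fun Z hZ Z' hZ' hne =>
    Set.disjoint_left.2 fun x hx hx' => hne (huniq Z hZ Z' hZ' x hx hx')⟩
  obtain ⟨_, ⟨U, hU, rfl⟩, hxU, -⟩ := X.isBasis_affineOpens.exists_subset_of_mem_open (Set.mem_univ x) isOpen_univ
  have hF : {T ∈ irreducibleComponents X | (T ∩ U).Nonempty}.Finite := by
    refine Set.Finite.of_finite_image (f := fun T => (Scheme.Opens.ι U ⁻¹' T)) ((hfin U hU.isCompact).subset ?_) ?_
    · rintro _ ⟨T, ⟨hT, hne⟩, rfl⟩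
      exact preimage_mem_irreducibleComponents hT (Scheme.Opens.ι U).isOpenEmbedding
        (by rw [Scheme.Opens.range_ι]; exact hne)
    · rintro T ⟨hT, a, haT, haU⟩ T' ⟨hT', -⟩ e
      exact huniq T hT T' hT' a haT (show (⟨a, haU⟩ : Scheme.Opens.toScheme U) ∈ Scheme.Opens.ι U ⁻¹' T' from (Set.ext_iff.1 e _).1 haT)
  refine ⟨(U : Set X) \ ⋃ T ∈ {T ∈ irreducibleComponents X | (T ∩ U).Nonempty} \ {Z}, T, ?_,
    U.2.sdiff ((hF.subset Set.sdiff_subset).isClosed_biUnion fun T hT => isClosed_of_mem_irreducibleComponents T hT.1.1),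
    hxU, ?_⟩
  · rintro y ⟨hyU, hy⟩
    obtain ⟨T, hT, hyT⟩ : ∃ T ∈ irreducibleComponents X, y ∈ T :=
      ⟨irreducibleComponent y, irreducibleComponent_mem_irreducibleComponents y, mem_irreducibleComponent⟩
    by_cases h : T = Z
    · exact h ▸ hyT
    · exact absurd (Set.mem_iUnion₂.2 ⟨T, ⟨⟨hT, y, hyT, hyU⟩, h⟩, hyT⟩) hy
  · intro h
    obtain ⟨T, ⟨⟨hT, -⟩, hne⟩, hxT⟩ := Set.mem_iUnion₂.1 h
    exact hne (huniq T hT Z hZ x hxT hx)

end Groth.Agent.S9799
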