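import Groth.Agent.CAlgSerre.NormalImp
import Groth.Agent.SyntLocal.Basic
import Groth.Statements.S9801
-- import your own Groth.Agent.* helpers here

set_option autoImplicit false
set_option backward.isDefEq.respectTransparency false
set_option backward.isDefEq.respectTransparency.types false
universe u
open CategoryTheory AlgebraicGeometry TopologicalSpace
open Props

namespace Groth.Agent.S9801

/-- A locally Noetherian normal scheme of dimension at most two is Cohen-Macaulay, that is, all of its
local rings are Cohen-Macaulay local rings. -/
theorem result (X : Scheme.{u})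
    [IsLocallyNoetherian X] (hN : Pi1.IsNormalScheme X) (hd : topologicalKrullDim X ≤ 2) (x : X) :
    LocCoh.IsCohenMacaulayLocalRing (X.presheaf.stalk x) := by
  obtain ⟨hd', hc⟩ := hN x
  let A := X.presheaf.stalk x
  haveI : IsNoetherianRing A := inferInstance
  have hdim : ringKrullDim A ≤ 2 := by
    rw [← PrimeSpectrum.topologicalKrullDim_eq_ringKrullDim]
    exact ((X.fromSpecStalk x).isEmbedding.isInducing.topologicalKrullDim_le).trans hd
  have hnorm : ∀ (p : Ideal A) [p.IsPrime], IsDomain (Localization.AtPrime p) ∧
      IsIntegrallyClosed (Localization.AtPrime p) := fun p _ =>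
    ⟨IsLocalization.isDomain_localization (Ideal.primeCompl_le_nonZeroDivisors p),
      isIntegrallyClosed_of_isLocalization _ _ (Ideal.primeCompl_le_nonZeroDivisors p)⟩
  rw [SyntLocal.isCohenMacaulay_iff_hasSk]
  intro n
  have h2 := (CAlgT1.hasSk_self_iff 2).1 ((CAlgSerre.normal_iff (R := A)).1 hnorm).2
  rw [CAlgT1.hasSk_self_iff]
  intro p _
  refine le_trans ?_ (h2 p)
  have hp : ringKrullDim (Localization.AtPrime p) ≤ 2 := by
    refine le_trans ?_ hdim
    rw [IsLocalization.AtPrime.ringKrullDim_eq_height p (Localization.AtPrime p)]
    exact Ideal.height_le_ringKrullDim_of_ne_top ‹p.IsPrime›.ne_top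
  exact le_min ((min_le_right _ _).trans (by exact_mod_cast hp)) (min_le_right _ _)

end Groth.Agent.S9801
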