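import Groth.Statements.S9802
import Groth.Agent.CAlgNagata.Main
import Groth.Agent.CAlgNagata.Closed
import Groth.Agent.N2Poly.More
import Groth.Agent.S9400
import Groth.Agent.RedSepLib.Reduced

set_option backward.isDefEq.respectTransparency false
open CategoryTheory AlgebraicGeometry

set_option autoImplicit false
universe u
open CategoryTheory AlgebraicGeometry TopologicalSpace
open Props

namespace Groth.Agent.S9802

/-- A locally Noetherian scheme is Nagata (every affine open has a Nagata coordinate ring) if and only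
if every integral closed subscheme is Japanese (every nonempty affine open of it has an N-2
coordinate ring). -/
theorem result (X : Scheme.{u})
    [IsLocallyNoetherian X] :
    (∀ U : X.Opens, IsAffineOpen U → CAlg.IsNagata Γ(X, U)) ↔
      ∀ (Z : Scheme.{u}) (i : Z ⟶ X) [IsClosedImmersion i] [IsIntegral Z]
        (V : Z.Opens) [Nonempty V], IsAffineOpen V → CAlg.IsN2 Γ(Z, V) := by
  constructor
  · intro h Z i _ _ V _ hV
    have hex : ∀ z : Z, ∃ O : Z.affineOpens, z ∈ O.1 ∧ CAlg.IsNagata ↑Γ(Z, O.1) := by
      intro z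
      obtain ⟨A, hA, hzA, -⟩ := exists_isAffineOpen_mem_and_subset (show i z ∈ (⊤ : X.Opens) from trivial)
      obtain ⟨O, hO, hzO, hOA⟩ := exists_isAffineOpen_mem_and_subset (show z ∈ i ⁻¹ᵁ A from hzA)
      have hft := Scheme.Hom.finiteType_appLE i hA hO hOA
      letI := (i.appLE A O hOA).hom.toAlgebra
      haveI : Algebra.FiniteType Γ(X, A) Γ(Z, O) := hft
      exact ⟨⟨O, hO⟩, hzO, Groth.Agent.CAlgNagata.isNagata_of_finiteType (h A hA) _⟩
    choose O hzO hO using hex
    refine Groth.Agent.CAlgNagata.isN2_of_isNagata ?_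
    refine of_affine_open_cover (P := fun W : Z.affineOpens => CAlg.IsNagata ↑Γ(Z, W.1)) O
      (eq_top_iff.2 fun z _ => TopologicalSpace.Opens.mem_iSup.2 ⟨z, hzO z⟩) ⟨V, hV⟩ (fun A g hA => ?_)
      (fun A s hs hA => ?_) hO
    · haveI := A.2.isLocalization_basicOpen g
      show CAlg.IsNagata ↑Γ(Z, Z.basicOpen g)
      exact Groth.Agent.CAlgNagata.isNagata_localization (Submonoid.powers g) hA
    · refine Groth.Agent.S9400.result _ (fun g : ↥s => g.1) (by simpa using hs) fun g => ?_
      haveI : IsLocalization (Submonoid.powers g.1) Γ(Z, Z.basicOpen g.1) := A.2.isLocalization_basicOpen g.1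
      let e := IsLocalization.algEquiv (Submonoid.powers g.1) Γ(Z, Z.basicOpen g.1) (Localization.Away g.1)
      exact Groth.Agent.CAlgNagata.isNagata_of_surjective e.toRingEquiv.toRingHom e.surjective (hA g)
  · intro h U hU
    refine ⟨IsLocallyNoetherian.component_noetherian ⟨U, hU⟩, fun p hp => ?_⟩
    let P : PrimeSpectrum Γ(X, U) := ⟨p, hp⟩
    let x : X := hU.fromSpec P
    let C : TopologicalSpace.Closeds X := ⟨closure {x}, isClosed_closure⟩
    let I := Scheme.IdealSheafData.vanishingIdeal C
    have hxU : x ∈ (U : Set X) := by rw [← hU.range_fromSpec]; exact ⟨P, rfl⟩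
    have hI : I.ideal ⟨U, hU⟩ = p := by
      rw [Scheme.IdealSheafData.vanishingIdeal_ideal]
      show PrimeSpectrum.vanishingIdeal (hU.fromSpec ⁻¹' closure {x}) = p
      rw [hU.fromSpec.isOpenEmbedding.isOpenMap.preimage_closure_eq_closure_preimage hU.fromSpec.continuous]
      rw [show hU.fromSpec ⁻¹' {x} = {P} from Set.ext fun Q => hU.fromSpec.isOpenEmbedding.injective.eq_iff]
      rw [PrimeSpectrum.closure_singleton, PrimeSpectrum.vanishingIdeal_zeroLocus_eq_radical, hp.isRadical.radical]
    haveI : IsReduced I.subscheme := Groth.Agent.RedSepLib.isReduced_vanishingIdeal C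
    have hr : Set.range I.subschemeι = closure {x} := by
      rw [Scheme.IdealSheafData.range_subschemeι, Scheme.IdealSheafData.coe_support_vanishingIdeal]
      rfl
    have hirr : _root_.IsIrreducible (closure {x}) := isIrreducible_singleton.closure
    obtain ⟨z, hz⟩ : x ∈ Set.range I.subschemeι := hr ▸ subset_closure rfl
    have hcl : closure ({z} : Set I.subscheme) = Set.univ := by
      rw [I.subschemeι.isClosedEmbedding.isInducing.closure_eq_preimage_closure_image, Set.image_singleton, hz, ← hr,
        Set.preimage_range]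
    haveI : PreirreducibleSpace I.subscheme := ⟨hcl ▸ isIrreducible_singleton.closure.2⟩
    haveI : IrreducibleSpace I.subscheme := { toNonempty := ⟨z⟩ }
    haveI : IsIntegral I.subscheme := isIntegral_of_irreducibleSpace_of_isReduced _
    haveI : Nonempty (I.subschemeι ⁻¹ᵁ U : I.subscheme.Opens) := ⟨⟨z, show I.subschemeι z ∈ U by rw [hz]; exact hxU⟩⟩
    have hN := h I.subscheme I.subschemeι (I.subschemeι ⁻¹ᵁ U) (hU.preimage I.subschemeι)
    exact Groth.Agent.N2Poly.isN2_of_ringEquiv
      ((I.subschemeObjIso ⟨U, hU⟩).commRingCatIsoToRingEquiv.trans (Ideal.quotEquivOfEq hI)) hN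

end Groth.Agent.S9802
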