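import Groth.Statements.S9804
import Mathlib


set_option autoImplicit false
universe u
open CategoryTheory AlgebraicGeometry TopologicalSpace
open Props

namespace Groth.Agent.S9804

/-- For quasi-affine schemes U and V and an open immersion j : U → V, the scheme U is the fibre product
of the composite U → V → Spec Γ(V, O_V) and the morphism Spec Γ(U, O_U) → Spec Γ(V, O_V) induced by
restriction of sections along j: the square whose sides are the identity of U, the canonical
morphism U → Spec Γ(U, O_U), that composite and that induced morphism is cartesian. -/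
theorem result {U V : Scheme.{u}} (j : U ⟶ V)
    [IsOpenImmersion j] [U.IsQuasiAffine] [V.IsQuasiAffine] :
    IsPullback (𝟙 U) U.toSpecΓ (j ≫ V.toSpecΓ) (Spec.map j.appTop) := by
  refine IsOpenImmersion.isPullback (𝟙 U) U.toSpecΓ (j ≫ V.toSpecΓ) (Spec.map j.appTop)
    (by rw [Category.id_comp, Scheme.toSpecΓ_naturality]) ?_
  apply le_antisymm
  · intro p hp
    obtain ⟨x, hx⟩ := hp
    obtain ⟨_, ⟨_, ⟨r, rfl⟩, rfl⟩, hpr, hrU⟩ := (PrimeSpectrum.isBasis_basic_opens
      (R := Γ(V, ⊤))).exists_subset_of_mem_open (show (Spec.map j.appTop) p ∈ ((j ≫ V.toSpecΓ).opensRange : Set _) from ⟨x, hx⟩)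
      (j ≫ V.toSpecΓ).opensRange.2
    have hVr : IsAffineOpen (V.basicOpen r) := by
      rw [← Scheme.toSpecΓ_preimage_basicOpen, ← Scheme.Hom.isAffineOpen_iff_of_isOpenImmersion V.toSpecΓ]
      convert! IsAffineOpen.Spec_basicOpen r
      refine SetLike.coe_injective (Set.image_preimage_eq_of_subset (hrU.trans ?_))
      rintro _ ⟨y, rfl⟩
      exact ⟨j y, (Scheme.Hom.comp_apply j V.toSpecΓ y).symm⟩
    have hUr : IsAffineOpen (U.basicOpen (j.appTop r)) := by
      rw [← Scheme.preimage_basicOpen_top, ← Scheme.Hom.isAffineOpen_iff_of_isOpenImmersion j]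
      convert! hVr
      apply SetLike.coe_injective
      show j.base '' (j.base ⁻¹' (V.basicOpen r : Set V)) = (V.basicOpen r : Set V)
      apply Set.image_preimage_eq_of_subset
      intro v hv
      rw [← Scheme.toSpecΓ_preimage_basicOpen] at hv
      obtain ⟨y, hy⟩ := hrU hv
      rw [Scheme.Hom.comp_apply] at hy
      exact ⟨y, V.toSpecΓ.isEmbedding.injective hy⟩
    have := isLocalization_basicOpen_of_qcqs (X := U) isCompact_univ isQuasiSeparated_univ (j.appTop r)
    have hp' : p ∈ PrimeSpectrum.basicOpen (j.appTop r) := by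
      have h2 : p ∈ Spec.map j.appTop ⁻¹ᵁ PrimeSpectrum.basicOpen r := hpr
      rwa [SpecMap_preimage_basicOpen] at h2
    have hrg : p ∈ Set.range (Spec.map (U.presheaf.map (homOfLE (le_top : U.basicOpen (j.appTop r) ≤ ⊤)).op)).base := by
      have e := PrimeSpectrum.localization_away_comap_range Γ(U, U.basicOpen (j.appTop r)) (j.appTop r)
      exact (Set.ext_iff.mp e p).mpr hp'
    obtain ⟨q, hq⟩ := hrg
    refine ⟨(U.basicOpen (j.appTop r)).ι (hUr.isoSpec.inv q), ?_⟩
    rw [← Scheme.Hom.comp_apply, ← Scheme.Opens.toSpecΓ_SpecMap_presheaf_map_top, Scheme.Hom.comp_apply]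
    rw [← hq, ← IsAffineOpen.isoSpec_hom hUr, ← Scheme.Hom.comp_apply, ← Scheme.Hom.comp_apply, Iso.inv_hom_id_assoc]
  · rintro _ ⟨x, rfl⟩
    refine ⟨x, ?_⟩
    rw [Scheme.toSpecΓ_naturality, Scheme.Hom.comp_apply]

end Groth.Agent.S9804
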