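import Groth.Statements.S9805
import Groth.Agent.FinLocFreeSections.Descent
import Groth.Agent.QuasiFlatLib.Basic
import Mathlib.RingTheory.LocalRing.Module


set_option autoImplicit false
universe u
open CategoryTheory AlgebraicGeometry TopologicalSpace
open Props

namespace Groth.Agent.S9805

/-- A quasi-coherent module on a scheme is flat and of finite presentation if and only if it is finite
locally free. -/
theorem result (X : Scheme.{u}) (M : X.Modules) (hM : Coh.IsQCoh M) :
    (FlatMod.IsFlat M ∧ CohB1.IsFP M) ↔ FlatMod.IsFinLocFree M := by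
  haveI : M.IsQuasicoherent := hM
  refine ⟨fun ⟨h, hFP⟩ x => Groth.Agent.FlatOverBC.exists_iso_freeMod M hFP x (h x), fun h => ?_⟩
  exact ⟨Groth.Agent.FinLocFreeSections.flat_stalk M h, Groth.Agent.TensorMod.isFP_of_isFinLocFree h⟩

end Groth.Agent.S9805
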