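import Groth.Statements.S9806
import Groth.Agent.FinLocFreeSections.Descent
import Groth.Agent.QuasiFlatLib.Basic
import Mathlib.RingTheory.LocalRing.Module


set_option autoImplicit false
universe u
open CategoryTheory AlgebraicGeometry TopologicalSpace
open Props

namespace Groth.Agent.S9806

/-- A quasi-coherent module on a scheme is of finite presentation with all stalks free over the local
rings if and only if it is finite locally free. -/
theorem result (X : Scheme.{u}) (M : X.Modules) (hM : Coh.IsQCoh M) :
    (CohB1.IsFP M ∧ ∀ x : X, Module.Free (X.presheaf.stalk x) (M.presheaf.stalk x)) ↔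
      FlatMod.IsFinLocFree M := by
  haveI : M.IsQuasicoherent := hM
  refine ⟨fun ⟨hFP, h⟩ x => ?_, fun h => ⟨Groth.Agent.TensorMod.isFP_of_isFinLocFree h, fun x => ?_⟩⟩
  · haveI := h x
    exact Groth.Agent.FlatOverBC.exists_iso_freeMod M hFP x inferInstance
  · haveI := Groth.Agent.FinLocFreeSections.flat_stalk M h x
    haveI := Groth.Agent.QuasiFlatLib.finite_stalk M (Groth.Agent.TensorMod.isCoh_of_isFinLocFree h) x
    exact Module.free_of_flat_of_isLocalRing

end Groth.Agent.S9806
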