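import Groth.Statements.S9807
import Groth.Agent.GScheme.Basic
import Groth.Agent.SpecPt.Generalize
import Groth.Agent.S0564


set_option autoImplicit false
universe u
open CategoryTheory AlgebraicGeometry TopologicalSpace
open Props

namespace Groth.Agent.S9807

/-- A locally Noetherian scheme is regular (all local rings regular) as soon as its local rings at
closed points are regular, and conversely. -/
theorem result (X : Scheme.{u}) [IsLocallyNoetherian X] :
    (∀ x : X, IsRegularLocalRing (X.presheaf.stalk x)) ↔
      ∀ x : X, IsClosed ({x} : Set X) → IsRegularLocalRing (X.presheaf.stalk x) := by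
  refine ⟨fun h x _ => h x, fun h x => ?_⟩
  obtain ⟨y, hxy, hy⟩ := Groth.Agent.GScheme.exists_closedPoint_specializes x
  obtain ⟨q, hq, ⟨e⟩⟩ := Groth.Agent.SpecPt.exists_atPrime_equiv hxy
  haveI := h y hy
  haveI := Groth.Agent.S0564.result (X.presheaf.stalk y) q
  exact IsRegularLocalRing.of_ringEquiv e

end Groth.Agent.S9807
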