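import Groth.Statements.S9808
import Groth.Agent.GScheme.Basic
import Groth.Agent.SpecPt.Generalize
import Groth.Agent.Depth.CM
import Groth.Agent.FlatLocalDepth.CMAt


set_option autoImplicit false
universe u
open CategoryTheory AlgebraicGeometry TopologicalSpace
open Props

namespace Groth.Agent.S9808

/-- A locally Noetherian scheme is Cohen-Macaulay (all local rings Cohen-Macaulay) as soon as its local
rings at closed points are Cohen-Macaulay, and conversely. -/
theorem result (X : Scheme.{u}) [IsLocallyNoetherian X] :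
    (∀ x : X, LocCoh.IsCohenMacaulayLocalRing (X.presheaf.stalk x)) ↔
      ∀ x : X, IsClosed ({x} : Set X) → LocCoh.IsCohenMacaulayLocalRing (X.presheaf.stalk x) := by
  refine ⟨fun h x _ => h x, fun h x => ?_⟩
  obtain ⟨y, hxy, hy⟩ := Groth.Agent.GScheme.exists_closedPoint_specializes x
  obtain ⟨q, hq, ⟨e⟩⟩ := Groth.Agent.SpecPt.exists_atPrime_equiv hxy
  haveI := h y hy
  exact @Groth.Agent.FlatLocalDepth.isCohenMacaulayLocalRing_of_ringEquiv _ _ _ _ (Groth.Agent.Depth.isCohenMacaulayLocalRing_atPrime q) e

end Groth.Agent.S9808
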