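import Groth.Statements.S9809
import Groth.Agent.Branch.Punctured
import Groth.Agent.FlatMorLib.SpecStalk
import Groth.Agent.BranchCount.Scheme
import Groth.Agent.GrpSch.FlatPoint

set_option autoImplicit false
universe u
open CategoryTheory AlgebraicGeometry TopologicalSpace
open Props

namespace Groth.Agent.S9809

/-- A Noetherian scheme is geometrically unibranch (all local rings geometrically unibranch) if and only
if at every point which is not the generic point of an irreducible component, the punctured spectrum
of a strict henselization of the local ring is connected. -/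
theorem result
    (X : Scheme.{u}) [IsNoetherian X] :
    (∀ x : X, CAlg2.IsGeomUnibranch (X.presheaf.stalk x)) ↔
      ∀ (x : X), closure ({x} : Set X) ∉ irreducibleComponents X →
        ∀ (Ash : Type u) [CommRing Ash] [IsLocalRing Ash] [Algebra (X.presheaf.stalk x) Ash]
          [IsLocalHom (algebraMap (X.presheaf.stalk x) Ash)]
          [Hensel.IsStrictHenselization (X.presheaf.stalk x) Ash],
          ConnectedSpace ↥({IsLocalRing.closedPoint Ash}ᶜ : Set (PrimeSpectrum Ash)) := by
  have range_eq : ∀ (x z : X), z ∈ Set.range (X.fromSpecStalk x) ↔ z ⤳ x := fun x z => by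
    rw [Scheme.range_fromSpecStalk]; rfl
  have closed_eq : ∀ x : X, X.fromSpecStalk x (IsLocalRing.closedPoint (X.presheaf.stalk x)) = x := fun x =>
    Scheme.fromSpecStalk_closedPoint
  have minimal_iff : ∀ x : X, closure ({x} : Set X) ∈ irreducibleComponents X ↔
      IsLocalRing.maximalIdeal (X.presheaf.stalk x) ∈ minimalPrimes (X.presheaf.stalk x) := by
    intro x
    constructor
    · intro h
      refine ⟨⟨(IsLocalRing.maximalIdeal.isMaximal _).isPrime, bot_le⟩, fun J hJ _ => ?_⟩
      let j : PrimeSpectrum (X.presheaf.stalk x) := ⟨J, hJ.1⟩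
      have h1 : X.fromSpecStalk x j ⤳ x := (range_eq x _).1 ⟨_, rfl⟩
      have h2 : x ⤳ X.fromSpecStalk x j := specializes_iff_mem_closure.2
        (h.2 isIrreducible_singleton.closure (specializes_iff_closure_subset.1 h1) (subset_closure rfl))
      have h3 : j = IsLocalRing.closedPoint _ := (X.fromSpecStalk x).isEmbedding.injective
        ((h1.antisymm h2).eq.trans (closed_eq x).symm)
      exact (congrArg PrimeSpectrum.asIdeal h3).ge
    · intro h
      refine ⟨isIrreducible_singleton.closure, fun T hT hle => ?_⟩
      have hζ := hT.closure.isGenericPoint_genericPoint isClosed_closure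
      have h1 : hT.closure.genericPoint ⤳ x := hζ.specializes (subset_closure (hle (subset_closure rfl)))
      obtain ⟨q, hq⟩ := (range_eq x _).2 h1
      have h3 : q = IsLocalRing.closedPoint _ := PrimeSpectrum.ext (le_antisymm
        (IsLocalRing.le_maximalIdeal q.2.ne_top) (h.2 ⟨q.2, bot_le⟩ (IsLocalRing.le_maximalIdeal q.2.ne_top)))
      have h4 : hT.closure.genericPoint = x := by rw [← hq, h3, closed_eq]
      exact fun t ht => by rw [← h4, hζ.def]; exact subset_closure ht
  constructor
  · intro hGU x hx Ash _ _ _ _ _
    have hu := (Groth.Agent.Branch.isGeomUnibranch_iff (A := X.presheaf.stalk x) (S := Ash)).1 (hGU x)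
    haveI : Module.Flat (X.presheaf.stalk x) Ash := Groth.Agent.Hensel.strictHenselization_flat
    refine isConnected_iff_connectedSpace.1 (Branch.isConnected_punctured hu fun hm => hx ((minimal_iff x).2 ?_))
    have h1 := BranchCount.comap_mem_minimalPrimes_of_flat (R := X.presheaf.stalk x) hm
    have h2 : (IsLocalRing.maximalIdeal Ash).comap (algebraMap (X.presheaf.stalk x) Ash) = IsLocalRing.maximalIdeal _ :=
      ((IsLocalRing.local_hom_TFAE (algebraMap (X.presheaf.stalk x) Ash)).out 0 4).1
        ‹IsLocalHom (algebraMap (X.presheaf.stalk x) Ash)›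
    rwa [h2] at h1
  · intro h x
    suffices H : ∀ (n : ℕ∞) (q : PrimeSpectrum (X.presheaf.stalk x)), q.asIdeal.height = n →
        CAlg2.IsGeomUnibranch (X.presheaf.stalk (X.fromSpecStalk x q)) by
      exact closed_eq x ▸ H _ (IsLocalRing.closedPoint _) rfl
    intro n
    induction n using WellFoundedLT.induction with
    | ind n ih =>
    intro q hq
    set y := X.fromSpecStalk x q with hy
    by_cases hm : IsLocalRing.maximalIdeal (X.presheaf.stalk y) ∈ minimalPrimes (X.presheaf.stalk y)
    · exact Branch.isGeomUnibranch_of_maximal_mem_minimalPrimes _ hm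
    obtain ⟨S, _, _, _, _, hS⟩ := Groth.Agent.Hensel.exists_isStrictHenselization (X.presheaf.stalk y)
    haveI := hS
    rw [Groth.Agent.Branch.isGeomUnibranch_iff (A := X.presheaf.stalk y) (S := S)]
    have hc := h y (fun hc => hm ((minimal_iff y).1 hc)) S
    refine Branch.hasUniqueMinimalPrime_of_punctured (X.presheaf.stalk y) S (fun p hp hne => ?_) hm
      (isConnected_iff_connectedSpace.2 hc).isPreconnected
    let j : PrimeSpectrum (X.presheaf.stalk y) := ⟨p, hp⟩
    have h1 : X.fromSpecStalk y j ⤳ y := (range_eq y _).1 ⟨_, rfl⟩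
    obtain ⟨q', hq'⟩ := (range_eq x _).2 (h1.trans ((range_eq x y).1 ⟨q, rfl⟩))
    have h2 : q' ⤳ q := by
      rw [← (X.fromSpecStalk x).isEmbedding.isInducing.specializes_iff, hq']
      exact h1
    have h3 : q'.asIdeal < q.asIdeal := lt_of_le_of_ne ((PrimeSpectrum.le_iff_specializes q' q).2 h2) fun he => hne (by
      have h4 : X.fromSpecStalk y j = X.fromSpecStalk y (IsLocalRing.closedPoint _) := by
        rw [closed_eq, ← hq', hy, PrimeSpectrum.ext he]
      exact congrArg PrimeSpectrum.asIdeal ((X.fromSpecStalk y).isEmbedding.injective h4))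
    have hlt : q'.asIdeal.height < n := hq ▸ Ideal.height_strict_mono_of_isPrime h3
    have h5 := ih _ hlt q' rfl
    rw [hq'] at h5
    let f := X.fromSpecStalk y
    haveI : Flat f := FlatMorLib.flat_fromSpecStalk y
    have hflat : (f.stalkMap j).hom.Flat := Flat.stalkMap f j
    have hbij : Function.Bijective (f.stalkMap j).hom := by
      exact ⟨(FpqcDescent.faithfullyFlat_stalkMap f j hflat).injective, f.stalkMap_surjective j⟩
    exact Branch.isGeomUnibranch_of_ringEquiv
      ((RingEquiv.ofBijective _ hbij).trans (StructureSheaf.stalkIso (X.presheaf.stalk y) j).toRingEquiv.symm) h5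

end Groth.Agent.S9809
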