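import Groth.Agent.ZClosLib.Basic
import Mathlib.CategoryTheory.Abelian.CommSq
import Groth.Statements.S9818
-- import your own Groth.Agent.* helpers here

set_option autoImplicit false
set_option backward.isDefEq.respectTransparency false
set_option backward.isDefEq.respectTransparency.types false
universe u
open CategoryTheory CategoryTheory.Limits AlgebraicGeometry TopologicalSpace Opposite
open Props

namespace Groth.Agent.S9818

/-- For an open subscheme U of a scheme X with quasi-compact inclusion, a quasi-coherent module G on U
with a map to the restriction of a quasi-coherent module F on X extends to a quasi-coherent module H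
on X with a map to F restricting to the given one. Taking F = 0, every quasi-coherent module on U
extends to a quasi-coherent module on X. -/
theorem result {X : Scheme.{u}} (U : X.Opens) [QuasiCompact U.ι]
    (F : X.Modules) [Coh.IsQCoh F] (G : (U : Scheme.{u}).Modules) [Coh.IsQCoh G] (φ : G ⟶ F.restrict U.ι) :
    ∃ (H : X.Modules) (ψ : H ⟶ F) (e : H.restrict U.ι ≅ G), Coh.IsQCoh H ∧
      e.hom ≫ φ = (Scheme.Modules.restrictFunctor U.ι).map ψ := by
  haveI : (Scheme.Modules.restrictFunctor U.ι).Additive :=
    ⟨fun {M N f g} => Scheme.Modules.hom_ext _ _ fun W => rfl⟩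
  haveI : (Scheme.Modules.restrictFunctor U.ι).PreservesMonomorphisms :=
    ⟨fun {M N} f hf => ZClosLib.mono_of_app_injective _ fun W _ =>
      QCohBase.app_injective_of_mono f (U.ι ''ᵁ W)⟩
  haveI : PreservesColimitsOfSize.{0, 0} (Scheme.Modules.restrictFunctor U.ι) :=
    (Scheme.Modules.restrictAdjunction U.ι).leftAdjoint_preservesColimits
  haveI := (Scheme.Modules.restrictFunctor U.ι).preservesHomology_of_preservesMonos_and_cokernels
  haveI : PreservesFiniteLimits (Scheme.Modules.restrictFunctor U.ι) :=
    (Scheme.Modules.restrictFunctor U.ι).preservesFiniteLimits_of_preservesHomology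
  haveI hFq : F.IsQuasicoherent := ‹Coh.IsQCoh F›
  haveI hGq : G.IsQuasicoherent := ‹Coh.IsQCoh G›
  haveI hFU : (F.restrict U.ι).IsQuasicoherent := inferInstance
  let adj := Scheme.Modules.restrictAdjunction U.ι
  let a := (Scheme.Modules.pushforward U.ι).map φ
  let b := adj.unit.app F
  have sq : IsPullback (pullback.fst a b) (pullback.snd a b) a b := IsPullback.of_hasPullback _ _
  haveI hP : (pullback a b).IsQuasicoherent := by
    haveI : Mono sq.shortComplex'.f := mono_of_isLimit_fork sq.isLimitKernelFork
    refine QCohBase.isQuasicoherent_of_exact_left sq.exact_shortComplex' ?_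
      (QCohBase.isQuasicoherent_pushforward _ U.ι)
    exact QCohBase.isQuasicoherent_of_extension
      (T := ShortComplex.mk biprod.inl biprod.snd biprod.inl_snd)
      (ShortComplex.Splitting.ofHasBinaryBiproduct _ _).shortExact
      (QCohBase.isQuasicoherent_pushforward G U.ι) hFq
  haveI : IsIso ((Scheme.Modules.restrictFunctor U.ι).map b) := by
    have h := adj.left_triangle_components F
    haveI : IsIso ((Scheme.Modules.restrictFunctor U.ι).map b ≫
        adj.counit.app ((Scheme.Modules.restrictFunctor U.ι).obj F)) := by rw [h]; infer_instance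
    exact IsIso.of_isIso_comp_right _ (adj.counit.app ((Scheme.Modules.restrictFunctor U.ι).obj F))
  have sqR := sq.map (Scheme.Modules.restrictFunctor U.ι)
  haveI : IsIso ((Scheme.Modules.restrictFunctor U.ι).map (pullback.fst a b)) := sqR.isIso_fst_of_isIso
  refine ⟨pullback a b, pullback.snd a b,
    asIso ((Scheme.Modules.restrictFunctor U.ι).map (pullback.fst a b)) ≪≫ asIso (adj.counit.app G), hP, ?_⟩
  have hn : (Scheme.Modules.restrictFunctor U.ι).map a ≫ adj.counit.app (F.restrict U.ι) = adj.counit.app G ≫ φ :=
    adj.counit.naturality φ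
  simp only [Iso.trans_hom, asIso_hom, Category.assoc]
  rw [← hn, ← Category.assoc, ← Functor.map_comp, sq.w, Functor.map_comp, Category.assoc]
  erw [adj.left_triangle_components F]
  exact Category.comp_id _

end Groth.Agent.S9818
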