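import Groth.Statements.S9822
import Mathlib


set_option autoImplicit false
universe u
open CategoryTheory CategoryTheory.Limits AlgebraicGeometry TopologicalSpace Opposite
open Props

namespace Groth.Agent.S9822

/-- A scheme is irreducible if and only if it is nonempty and every nonempty affine open subset is
irreducible. -/
theorem result (X : Scheme.{u}) :
    IrreducibleSpace X ↔ Nonempty X ∧ ∀ U : X.Opens, IsAffineOpen U → (U : Set X).Nonempty → IsIrreducible (U : Set X) := by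
  constructor
  · intro h
    refine ⟨h.toNonempty, fun U _ hU => ⟨hU, ?_⟩⟩
    intro u v hu hv ⟨x, hx1, hx2⟩ ⟨y, hy1, hy2⟩
    obtain ⟨z, ⟨hz1, hz2⟩, hz3⟩ := nonempty_preirreducible_inter ((U.2).inter hu) hv ⟨x, hx1, hx2⟩ ⟨y, hy2⟩
    exact ⟨z, hz1, hz2, hz3⟩
  · rintro ⟨hne, h⟩
    refine { toNonempty := hne, isPreirreducible_univ := ?_ }
    intro u v hu hv ⟨x, _, hx⟩ ⟨y, _, hy⟩
    by_contra hcon
    obtain ⟨U, hU, hxU, hUu⟩ := X.isBasis_affineOpens.exists_subset_of_mem_open hx hu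
    obtain ⟨V, hV, hyV, hVv⟩ := X.isBasis_affineOpens.exists_subset_of_mem_open hy hv
    obtain ⟨U, hU', rfl⟩ := hU
    obtain ⟨V, hV', rfl⟩ := hV
    have hd : Disjoint U V := by
      rw [disjoint_iff, eq_bot_iff]
      rintro z ⟨hz1, hz2⟩
      exact absurd ⟨z, trivial, hUu hz1, hVv hz2⟩ hcon
    have hsup : IsAffineOpen (U ⊔ V) := IsAffineOpen.sup_of_disjoint hU' hV' hd
    obtain ⟨z, _, hz1, hz2⟩ := (h _ hsup ⟨x, Or.inl hxU⟩).2 _ _ U.2 V.2 ⟨x, Or.inl hxU, hxU⟩ ⟨y, Or.inr hyV, hyV⟩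
    exact hcon ⟨z, trivial, hUu hz1, hVv hz2⟩

end Groth.Agent.S9822
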