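import Groth.Statements.S9823
import Groth.Agent.ModPairLib.QcIdeal

set_option autoImplicit false
universe u
open CategoryTheory CategoryTheory.Limits AlgebraicGeometry TopologicalSpace Opposite
open Props

namespace Groth.Agent.S9823

/-- In a quasi-compact quasi-separated scheme, an open subset is quasi-compact exactly when its
complement is the support of some quasi-coherent ideal sheaf of finite type. -/
theorem result (X : Scheme.{u}) [CompactSpace X] [QuasiSeparatedSpace X]
    (U : X.Opens) :
    IsCompact (U : Set X) ↔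
      ∃ I : X.IdealSheafData, (∀ V : X.affineOpens, (I.ideal V).FG) ∧ (I.support : Set X) = (U : Set X)ᶜ := by
  constructor
  · intro hU
    obtain ⟨F, hF, hsupp⟩ := Groth.Agent.ModPairLib.exists_fg_support U hU
    exact ⟨F, hF, Set.ext fun x => hsupp x⟩
  · rintro ⟨I, hI, hsupp⟩
    obtain ⟨s, hsf, hscov⟩ := isCompact_iff_finite_and_eq_biUnion_affineOpens.mp
      (show IsCompact (((⊤ : X.Opens) : Set X)) from isCompact_univ)
    have hU : (U : Set X) = ⋃ V ∈ s, (U : Set X) ∩ (V : Set X) := by
      ext x
      refine ⟨fun hx => ?_, fun hx => ?_⟩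
      · have : x ∈ (⊤ : X.Opens) := trivial
        rw [hscov] at this
        obtain ⟨V, h⟩ := TopologicalSpace.Opens.mem_iSup.mp this
        obtain ⟨hV, hxV⟩ := TopologicalSpace.Opens.mem_iSup.mp h
        exact Set.mem_biUnion hV ⟨hx, hxV⟩
      · obtain ⟨V, -, h, -⟩ := Set.mem_iUnion₂.mp hx
        exact h
    rw [hU]
    refine hsf.isCompact_biUnion fun V _ => ?_
    obtain ⟨t, ht⟩ := hI V
    have hzero : (U : Set X) ∩ V = ⋃ g ∈ t, (X.basicOpen g : Set X) := by
      ext x
      constructor
      · rintro ⟨hx, hxV⟩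
        by_contra hno
        have hsup : x ∈ I.support := by
          rw [Scheme.IdealSheafData.mem_support_iff_of_mem hxV, ← ht, Scheme.zeroLocus_span, Scheme.mem_zeroLocus_iff]
          exact fun g hg hgx => hno (Set.mem_biUnion hg hgx)
        exact (hsupp.le hsup) hx
      · intro hx
        obtain ⟨g, hg, hgx⟩ := Set.mem_iUnion₂.mp hx
        refine ⟨?_, X.basicOpen_le g hgx⟩
        by_contra hxU
        have h2 := (Scheme.IdealSheafData.mem_support_iff_of_mem (X.basicOpen_le g hgx)).mp (hsupp.ge hxU)
        exact (Scheme.mem_zeroLocus_iff _ _ _).mp h2 g (ht ▸ Ideal.subset_span hg) hgx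
    rw [hzero]
    exact t.isCompact_biUnion fun g _ => (V.2.basicOpen g).isCompact


end Groth.Agent.S9823
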