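import Groth.Statements.S9824
import Groth.Agent.FinLocFreeSections.Rank


set_option autoImplicit false
universe u
open CategoryTheory CategoryTheory.Limits AlgebraicGeometry TopologicalSpace Opposite
open Props

namespace Groth.Agent.S9824

/-- Over a reduced scheme, a quasi-coherent module is finite locally free if and only if it is of finite
type and its fibre rank (the dimension of the stalk tensored with the residue field) is a locally
constant function. -/
theorem result (X : Scheme.{u}) [IsReduced X]
    (M : X.Modules) [Coh.IsQCoh M] :
    FlatMod.IsFinLocFree M ↔ CohB1.IsFT M ∧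
      IsLocallyConstant (fun x : X => Module.finrank (IsLocalRing.ResidueField (X.presheaf.stalk x))
          (TensorProduct (X.presheaf.stalk x) (IsLocalRing.ResidueField (X.presheaf.stalk x)) (M.presheaf.stalk x))) := by
  haveI : M.IsQuasicoherent := ‹Coh.IsQCoh M›
  refine ⟨fun h => ⟨(Groth.Agent.TensorMod.isCoh_of_isFinLocFree h).2,
    Groth.Agent.FinLocFreeSections.isLocallyConstant_fibreRank M h⟩, fun ⟨h1, h2⟩ => ?_⟩
  exact Groth.Agent.FinLocFreeSections.isFinLocFree_of_rank M h1 h2 fun D hD n s hs hr =>
    Groth.Agent.FinLocFreeSections.linearIndependent_of_isReduced M hD s hs hr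

end Groth.Agent.S9824
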