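import Groth.Statements.S9825
import Groth.Agent.FinLocFreeSections.Rank


set_option autoImplicit false
universe u
open CategoryTheory CategoryTheory.Limits AlgebraicGeometry TopologicalSpace Opposite
open Props

namespace Groth.Agent.S9825

/-- A quasi-coherent module on a scheme is finite locally free if and only if it is of finite type with
free stalks and locally constant fibre rank. -/
theorem result (X : Scheme.{u}) (M : X.Modules) [Coh.IsQCoh M] :
    FlatMod.IsFinLocFree M ↔ CohB1.IsFT M ∧ (∀ x : X, Module.Free (X.presheaf.stalk x) (M.presheaf.stalk x)) ∧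
      IsLocallyConstant (fun x : X => Module.finrank (IsLocalRing.ResidueField (X.presheaf.stalk x))
          (TensorProduct (X.presheaf.stalk x) (IsLocalRing.ResidueField (X.presheaf.stalk x)) (M.presheaf.stalk x))) := by
  haveI : M.IsQuasicoherent := ‹Coh.IsQCoh M›
  refine ⟨fun h => ⟨(Groth.Agent.TensorMod.isCoh_of_isFinLocFree h).2, fun x => ?_,
    Groth.Agent.FinLocFreeSections.isLocallyConstant_fibreRank M h⟩, fun ⟨h1, h2, h3⟩ => ?_⟩
  · haveI := Groth.Agent.FinLocFreeSections.flat_stalk M h x
    haveI := Groth.Agent.QuasiFlatLib.finite_stalk M (Groth.Agent.TensorMod.isCoh_of_isFinLocFree h) x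
    exact Module.free_of_flat_of_isLocalRing
  · exact Groth.Agent.FinLocFreeSections.isFinLocFree_of_rank M h1 h3 fun D hD n s hs hr =>
      Groth.Agent.FinLocFreeSections.linearIndependent_of_free M hD s hs h2 hr

end Groth.Agent.S9825
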