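import Groth.Agent.QCohBase.CohRestrict
import Groth.Statements.S9826
-- import your own Groth.Agent.* helpers here

set_option autoImplicit false
set_option backward.isDefEq.respectTransparency false
set_option backward.isDefEq.respectTransparency.types false
universe u
open CategoryTheory CategoryTheory.Limits AlgebraicGeometry TopologicalSpace Opposite
open Props

namespace Groth.Agent.S9826

/-- The sheaf associated to a module over a ring is of finite type on the spectrum if and only if the
module is finitely generated. -/
theorem result (R : CommRingCat.{u}) (M : ModuleCat.{u} R) :
    CohB1.IsFT (tilde M) ↔ Module.Finite R M := by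
  constructor
  · intro h
    haveI := QCohBase.finite_sections (tilde M) h (isAffineOpen_top (Spec R))
    haveI : Module.Finite R Γ(tilde M, ⊤) := by
      haveI : Module.Finite R Γ(Spec R, ⊤) :=
        Module.Finite.of_surjective (Algebra.linearMap R Γ(Spec R, ⊤))
          (ConcreteCategory.bijective_of_isIso (Scheme.ΓSpecIso R).inv).2
      exact Module.Finite.trans Γ(Spec R, ⊤) _
    exact Module.Finite.equiv (M := Γ(tilde M, ⊤)) (tilde.isoTop M).toLinearEquiv.symm
  · intro h
    exact (QCohBase.isCoh_tilde M).2

end Groth.Agent.S9826
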