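import Groth.Agent.ModModelScheme.Scheme
import Groth.Statements.S9827
-- import your own Groth.Agent.* helpers here

set_option autoImplicit false
set_option backward.isDefEq.respectTransparency false
set_option backward.isDefEq.respectTransparency.types false
universe u
open CategoryTheory CategoryTheory.Limits AlgebraicGeometry TopologicalSpace Opposite
open Props

namespace Groth.Agent.S9827

/-- The sheaf associated to a module over a ring is of finite presentation on the spectrum if and only
if the module is finitely presented. -/
theorem result (R : CommRingCat.{u}) (M : ModuleCat.{u} R) :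
    CohB1.IsFP (tilde M) ↔ Module.FinitePresentation R M := by
  constructor
  · intro h
    haveI := h
    have h1 := ModModelScheme.finitePresentation_sections (tilde M) h
    let e : R ≃ₐ[R] Γ(Spec R, ⊤) := AlgEquiv.ofBijective (Algebra.ofId _ _)
      (ConcreteCategory.bijective_of_isIso (Scheme.ΓSpecIso R).inv)
    haveI : Module.FinitePresentation R Γ(Spec R, ⊤) := Module.FinitePresentation.of_equiv e.toLinearEquiv
    haveI : Module.FinitePresentation R Γ(tilde M, ⊤) := Module.FinitePresentation.trans R Γ(tilde M, ⊤) Γ(Spec R, ⊤)
    exact Module.FinitePresentation.of_equiv (M := Γ(tilde M, ⊤)) (tilde.isoTop M).toLinearEquiv.symm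
  · intro h
    obtain ⟨s, hs, hker⟩ := h.out
    obtain ⟨t, ht⟩ := hker
    let P := AlgebraicGeometry.presentationTilde M (s : Set M) hs (t : Set (↥(s : Set M) →₀ R)) ht
    constructor
    refine ⟨P.quasicoherentData, ?_⟩
    constructor
    intro i
    exact { isFiniteType_generators := ⟨inferInstanceAs (Finite ↥(s : Set M))⟩
            isFiniteType_relations := ⟨inferInstanceAs (Finite ↥(t : Set (↥(s : Set M) →₀ R)))⟩ }

end Groth.Agent.S9827
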