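import Groth.Agent.NoethPts.Basic
import Groth.Statements.S9832
-- import your own Groth.Agent.* helpers here

set_option autoImplicit false
set_option backward.isDefEq.respectTransparency false
set_option backward.isDefEq.respectTransparency.types false
universe u
open Props

namespace Groth.Agent.S9832

/-- For a Noetherian ring R and an ideal I inside the Jacobson radical of R, the complement of V(I) in
Spec R is a Jacobson topological space. -/
theorem result (R : Type u) [CommRing R] [IsNoetherianRing R]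
    (I : Ideal R) (hI : I ≤ (⊥ : Ideal R).jacobson) :
    JacobsonSpace ↥((PrimeSpectrum.zeroLocus (I : Set R))ᶜ) := by
  haveI : JacobsonSpace ↥((PrimeSpectrum.zeroLocus (I : Set R))ᶜ) := by
    refine NoethPts.jacobsonSpace_subtype (X := AlgebraicGeometry.Spec (CommRingCat.of R))
      (PrimeSpectrum.isClosed_zeroLocus _).isOpen_compl fun (x : PrimeSpectrum R) _ hloc => ?_
    rintro (z : PrimeSpectrum R) ⟨hz, hzW⟩
    by_contra hne
    have hlt : x.asIdeal < z.asIdeal := by
      refine lt_of_le_of_ne (((PrimeSpectrum.le_iff_specializes x z).2 (specializes_iff_mem_closure.2 hz))) ?_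
      exact fun e => hne (PrimeSpectrum.ext e.symm)
    obtain ⟨U, F, hU, hF, hUF⟩ := hloc
    have hxU : x ∈ U := (hUF.le rfl).1
    obtain ⟨_, ⟨f, rfl⟩, hxf, hfU⟩ := PrimeSpectrum.isTopologicalBasis_basic_opens.exists_subset_of_mem_open hxU hU
    let B := R ⧸ x.asIdeal
    have hf : Ideal.Quotient.mk x.asIdeal f ≠ 0 := fun h => hxf (Ideal.Quotient.eq_zero_iff_mem.1 h)
    have hiso : ∀ P : Ideal B, P.IsPrime → Ideal.Quotient.mk x.asIdeal f ∉ P → P = ⊥ := by
      intro P hP hfP
      let q : PrimeSpectrum R := ⟨P.comap (Ideal.Quotient.mk x.asIdeal), inferInstance⟩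
      have hq : x.asIdeal ≤ q.asIdeal := fun a ha => by
        show Ideal.Quotient.mk x.asIdeal a ∈ P
        rw [Ideal.Quotient.eq_zero_iff_mem.2 ha]; exact zero_mem _
      have hqF : q ∈ F := ((PrimeSpectrum.le_iff_specializes x q).1 hq).mem_closed hF (hUF.le rfl).2
      have hqx : q = x := hUF.ge ⟨hfU hfP, hqF⟩
      refine eq_bot_iff.2 fun b hb => ?_
      obtain ⟨a, rfl⟩ := Ideal.Quotient.mk_surjective b
      exact Ideal.Quotient.eq_zero_iff_mem.2 (congrArg PrimeSpectrum.asIdeal hqx ▸ (show a ∈ q.asIdeal from hb))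
    obtain ⟨hmax, -⟩ := NoethPts.isMaximal_and_finite_of_isolated hf hiso
    let P := z.asIdeal.map (Ideal.Quotient.mk x.asIdeal)
    have hker : RingHom.ker (Ideal.Quotient.mk x.asIdeal) ≤ z.asIdeal := by rw [Ideal.mk_ker]; exact hlt.le
    have hP : P.IsPrime := Ideal.map_isPrime_of_surjective Ideal.Quotient.mk_surjective hker
    have hPc : P.comap (Ideal.Quotient.mk x.asIdeal) = z.asIdeal := by
      rw [Ideal.comap_map_of_surjective' _ Ideal.Quotient.mk_surjective, sup_eq_left]; exact hker
    have hP0 : P ≠ ⊥ := fun h => hlt.ne (by rw [← hPc, h, ← RingHom.ker_eq_comap_bot, Ideal.mk_ker])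
    have := hmax P hP hP0
    have hzmax : z.asIdeal.IsMaximal := hPc ▸ Ideal.comap_isMaximal_of_surjective _ Ideal.Quotient.mk_surjective
    exact hzW fun a ha => Ideal.mem_sInf.1 (hI ha) ⟨bot_le, hzmax⟩
  exact this

end Groth.Agent.S9832
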