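import Mathlib
import Groth.Agent.CAlgNagata.Main
import Groth.Agent.S9400
import Groth.Statements.S9833
-- import your own Groth.Agent.* helpers here

set_option autoImplicit false
set_option backward.isDefEq.respectTransparency false
set_option backward.isDefEq.respectTransparency.types false
universe u
open CategoryTheory AlgebraicGeometry TopologicalSpace
open Props

namespace Groth.Agent.S9833

/-- If a scheme has an affine open covering by spectra of Nagata rings, then the coordinate ring of
every affine open is Nagata. -/
theorem result (X : Scheme.{u}) {ι : Type u} (U : ι → X.Opens)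
    (hU : iSup U = ⊤) (haff : ∀ i, IsAffineOpen (U i)) (hN : ∀ i, CAlg.IsNagata Γ(X, U i))
    (V : X.Opens) (hV : IsAffineOpen V) : CAlg.IsNagata Γ(X, V) := by
  let W : ι → X.affineOpens := fun i => ⟨U i, haff i⟩
  refine of_affine_open_cover (P := fun W : X.affineOpens => CAlg.IsNagata Γ(X, (W : X.Opens))) W hU ⟨V, hV⟩
    (fun A g hA => ?_) (fun A s hs hA => ?_) hN
  · haveI := A.2.isLocalization_basicOpen g
    haveI : Algebra.FiniteType Γ(X, (A : X.Opens)) Γ(X, X.basicOpen g)  := IsLocalization.finiteType_of_monoid_fg (Submonoid.powers g) _
    exact CAlgNagata.isNagata_of_finiteType hA Γ(X, X.basicOpen g)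
  · refine S9400.result Γ(X, (A : X.Opens)) (fun g : ↥s => g.1) ?_ fun g => ?_
    · simpa using hs
    · haveI := A.2.isLocalization_basicOpen g.1
      let e := IsLocalization.algEquiv (Submonoid.powers g.1) Γ(X, X.basicOpen g.1) (Localization.Away g.1)
      exact CAlgNagata.isNagata_of_surjective e.toRingEquiv.toRingHom e.surjective (hA g)

end Groth.Agent.S9833
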