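import Mathlib
import Groth.Agent.S9399
import Groth.Statements.S9834
-- import your own Groth.Agent.* helpers here

set_option autoImplicit false
set_option backward.isDefEq.respectTransparency false
set_option backward.isDefEq.respectTransparency.types false
universe u
open CategoryTheory AlgebraicGeometry TopologicalSpace
open Props

namespace Groth.Agent.S9834

/-- If a scheme has an affine open covering by spectra of universally Japanese rings, then the
coordinate ring of every affine open is universally Japanese. -/
theorem result (X : Scheme.{u}) {ι : Type u} (U : ι → X.Opens)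
    (hU : iSup U = ⊤) (haff : ∀ i, IsAffineOpen (U i)) (hJ : ∀ i, CAlg.IsUniversallyJapanese Γ(X, U i))
    (V : X.Opens) (hV : IsAffineOpen V) : CAlg.IsUniversallyJapanese Γ(X, V) := by
  let W : ι → X.affineOpens := fun i => ⟨U i, haff i⟩
  refine of_affine_open_cover (P := fun W : X.affineOpens => CAlg.IsUniversallyJapanese Γ(X, (W : X.Opens))) W hU ⟨V, hV⟩
    (fun A g hA => ?_) (fun A s hs hA => ?_) hJ
  · haveI := A.2.isLocalization_basicOpen g
    haveI : Algebra.FiniteType Γ(X, (A : X.Opens)) Γ(X, X.basicOpen g)  := IsLocalization.finiteType_of_monoid_fg (Submonoid.powers g) _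
    show CAlg.IsUniversallyJapanese Γ(X, X.basicOpen g)
    intro S _ _ (alg : Algebra Γ(X, X.basicOpen g) S) hS
    letI : Algebra Γ(X, (A : X.Opens)) S := Algebra.compHom S (algebraMap Γ(X, (A : X.Opens)) Γ(X, X.basicOpen g))
    haveI : IsScalarTower Γ(X, (A : X.Opens)) Γ(X, X.basicOpen g) S := IsScalarTower.of_algebraMap_eq fun _ => rfl
    exact hA S (Algebra.FiniteType.trans inferInstance hS)
  · refine S9399.result Γ(X, (A : X.Opens)) (fun g : ↥s => g.1) ?_ fun g => ?_
    · simpa using hs
    · haveI := A.2.isLocalization_basicOpen g.1
      let e := IsLocalization.algEquiv (Submonoid.powers g.1) Γ(X, X.basicOpen g.1) (Localization.Away g.1)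
      have hA' : CAlg.IsUniversallyJapanese Γ(X, X.basicOpen g.1) := hA g
      intro S _ _ (alg : Algebra (Localization.Away g.1) S) hS
      letI : Algebra Γ(X, X.basicOpen g.1) S := ((algebraMap (Localization.Away g.1) S).comp e.toRingEquiv.toRingHom).toAlgebra
      exact hA' S (RingHom.finiteType_algebraMap.1 ((RingHom.finiteType_algebraMap.2 hS).comp
        (RingHom.FiniteType.of_surjective _ e.surjective)))

end Groth.Agent.S9834
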