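import Mathlib
import Groth.Agent.S9392
import Groth.Agent.S9394
import Groth.Statements.S9835
-- import your own Groth.Agent.* helpers here

set_option autoImplicit false
set_option backward.isDefEq.respectTransparency false
set_option backward.isDefEq.respectTransparency.types false
universe u
open CategoryTheory AlgebraicGeometry TopologicalSpace
open Props

namespace Groth.Agent.S9835

/-- If an integral scheme has an affine open covering by spectra of Japanese (N-2) domains, then the
coordinate ring of every nonempty affine open is a Japanese domain. -/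
theorem result (X : Scheme.{u}) [IsIntegral X] {ι : Type u}
    (U : ι → X.Opens) [∀ i, Nonempty (U i)] (hU : iSup U = ⊤) (haff : ∀ i, IsAffineOpen (U i))
    (hJ : ∀ i, CAlg.IsN2 Γ(X, U i)) (V : X.Opens) [Nonempty V] (hV : IsAffineOpen V) :
    CAlg.IsN2 Γ(X, V) := by
  let W : ι → X.affineOpens := fun i => ⟨U i, haff i⟩
  refine of_affine_open_cover (P := fun W : X.affineOpens => ∀ [Nonempty (W : X.Opens)], CAlg.IsN2 Γ(X, (W : X.Opens)))
    W hU ⟨V, hV⟩ (fun A g hA => ?_) (fun A s hs hA => ?_) (fun i => hJ i)
  · intro hgne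
    haveI : Nonempty (X.basicOpen g) := hgne
    haveI := A.2.isLocalization_basicOpen g
    haveI : Nonempty (A : X.Opens) :=
      ⟨⟨(Classical.arbitrary (X.affineBasicOpen g : X.Opens)).1, X.basicOpen_le g (Classical.arbitrary (X.affineBasicOpen g : X.Opens)).2⟩⟩
    exact S9392.result Γ(X, (A : X.Opens)) (Submonoid.powers g) Γ(X, X.basicOpen g) hA
  · intro _
    let J := {g : ↥s // g.1 ≠ 0}
    have hne : ∀ j : J, Nonempty (X.basicOpen j.1.1) := fun j => by
      by_contra h
      refine j.2 ((basicOpen_eq_bot_iff j.1.1).1 (eq_bot_iff.2 fun x hx => (h ⟨⟨x, hx⟩⟩).elim))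
    have htop : Ideal.span (Set.range fun j : J => j.1.1) = ⊤ := by
      rw [eq_top_iff, ← hs, Ideal.span_le]
      intro g hg
      by_cases h0 : g = 0
      · rw [h0]; exact zero_mem _
      · exact Ideal.subset_span ⟨⟨⟨g, hg⟩, h0⟩, rfl⟩
    haveI : ∀ j : J, IsDomain Γ(X, X.basicOpen j.1.1) := fun j => by haveI := hne j; infer_instance
    haveI : ∀ j : J, IsLocalization.Away j.1.1 Γ(X, X.basicOpen j.1.1) := fun j => A.2.isLocalization_basicOpen _
    exact S9394.result Γ(X, (A : X.Opens)) (fun j : J => j.1.1) htop (fun j => Γ(X, X.basicOpen j.1.1))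
      fun j => @hA j.1 (hne j)

end Groth.Agent.S9835
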