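import Groth.Statements.S9839
import Mathlib


set_option autoImplicit false
open CategoryTheory CategoryTheory.Limits AlgebraicGeometry Opposite
universe u
open Desc

namespace Groth.Agent.S9839

/-- Let f i : T i ⟶ T be an fpqc covering family of a scheme T (a family in the fpqc precoverage) and W
i ⊆ T i open subsets such that for all i, j the inverse images of W i and W j under the two
projections of T i ×_T T j coincide. Then there is a unique open subset W ⊆ T with (f i)⁻¹(W) = W i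
for every i. -/
theorem result {ι : Type u} {T : Scheme.{u}} {Ti : ι → Scheme.{u}}
    (f : ∀ i, Ti i ⟶ T) (hf : Presieve.ofArrows Ti f ∈ Scheme.fpqcPrecoverage T)
    (W : ∀ i, (Ti i).Opens)
    (hW : ∀ i j, (pullback.fst (f i) (f j)) ⁻¹ᵁ (W i) = (pullback.snd (f i) (f j)) ⁻¹ᵁ (W j)) :
    ∃! V : T.Opens, ∀ i, (f i) ⁻¹ᵁ V = W i := by
  let Vs : Set T := ⋃ i, (f i).base '' (W i : Set (Ti i))
  have hpre : ∀ i, (f i).base ⁻¹' Vs = (W i : Set (Ti i)) := by
    intro i
    ext t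
    constructor
    · intro ht
      obtain ⟨j, s, hs, hst⟩ := Set.mem_iUnion.mp ht
      obtain ⟨z, hz1, hz2⟩ := Scheme.Pullback.exists_preimage_pullback (f := f i) (g := f j) t s hst.symm
      have h1 : z ∈ (pullback.snd (f i) (f j)) ⁻¹ᵁ (W j) := by
        show (pullback.snd (f i) (f j)) z ∈ W j
        rw [hz2]; exact hs
      rw [← hW i j] at h1
      have h2 : (pullback.fst (f i) (f j)) z ∈ W i := h1
      rwa [hz1] at h2
    · intro ht; exact Set.mem_iUnion.mpr ⟨i, t, ht, rfl⟩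
  have hopen : IsOpen Vs := by
    let 𝒰 : Scheme.Cover Scheme.fpqcPrecoverage T := ⟨⟨ι, Ti, f⟩, hf⟩
    haveI : QuasiCompactCover 𝒰.toPreZeroHypercover :=
      Scheme.presieve₀_mem_qcPrecoverage_iff.mp 𝒰.mem₀.1
    rw [isOpen_iff_forall_mem_open]
    intro x hx
    obtain ⟨U, hU, hxU, -⟩ := (T.isBasis_affineOpens).exists_subset_of_mem_open (Set.mem_univ x) isOpen_univ
    obtain ⟨(U : T.Opens), hU', rfl⟩ := hU
    obtain ⟨n, k, V, hV, hcov⟩ :=
      QuasiCompactCover.exists_isAffineOpen_of_isCompact 𝒰.toPreZeroHypercover hU'.isCompact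
    refine ⟨Vs ∩ U, Set.inter_subset_left, ?_, hx, hxU⟩
    have hle : ∀ i, Set.range ((V i).ι ≫ f (k i)).base ⊆ Set.range U.ι.base := fun i ↦ by
      rw [Scheme.Opens.range_ι, Scheme.Hom.comp_base, TopCat.coe_comp, Set.range_comp,
        Scheme.Opens.range_ι, ← hcov]
      exact Set.subset_iUnion (fun j ↦ (f (k j)) '' (V j : Set (Ti (k j)))) i
    let P : ULift.{u} (Fin n) → Scheme.{u} := fun i ↦ (V i.down).toScheme
    have : ∀ i, IsAffine (P i) := fun i ↦ hV _
    let q : ∐ P ⟶ U.toScheme := Sigma.desc fun i ↦ IsOpenImmersion.lift U.ι _ (hle i.down)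
    have hcomp : ∀ i, (Sigma.ι P i ≫ q) ≫ U.ι = (V i.down).ι ≫ f (k i.down) := fun i ↦ by
      rw [Sigma.ι_desc, IsOpenImmersion.lift_fac]
    have hflat : Flat q := IsZariskiLocalAtSource.of_openCover (P := @Flat) (sigmaOpenCover P) fun i ↦ by
      change Flat (Sigma.ι P i ≫ q)
      rw [Sigma.ι_desc]
      have h1 : Flat ((V i.down).ι ≫ f (k i.down)) := by
        have : Flat (f (k i.down)) := ((Scheme.ofArrows_mem_precoverage_iff _).mp 𝒰.mem₀.2).2 _
        infer_instance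
      exact IsZariskiLocalAtTarget.of_isPullback (P := @Flat) (iY := U.ι)
        (IsPullback.of_horiz_isIso_mono (fst := 𝟙 _) ⟨by rw [Category.id_comp, IsOpenImmersion.lift_fac]⟩) h1
    have : Surjective q := ⟨fun x ↦ by
      obtain ⟨i, y, hy, hyx⟩ := Set.mem_iUnion.mp (hcov.ge x.2)
      refine ⟨Sigma.ι P ⟨i⟩ ⟨y, hy⟩, U.ι.isOpenEmbedding.injective ?_⟩
      rw [← Scheme.Hom.comp_apply, ← Scheme.Hom.comp_apply, Sigma.ι_desc_assoc,
        IsOpenImmersion.lift_fac]
      exact hyx⟩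
    have : IsAffine U.toScheme := hU'
    have hq := Flat.isQuotientMap_of_surjective q
    have key : IsOpen (U.ι.base ⁻¹' Vs) := by
      rw [← hq.isOpen_preimage, isOpen_iff_forall_mem_open]
      intro z hz
      obtain ⟨i, y, rfl⟩ : ∃ i y, Sigma.ι P i y = z := ⟨_, (sigmaOpenCover P).covers z⟩
      refine ⟨Sigma.ι P i '' ((V i.down).ι.base ⁻¹' (W (k i.down) : Set _)), ?_,
        (Sigma.ι P i).isOpenEmbedding.isOpenMap _ ((W _).2.preimage (V i.down).ι.continuous), ?_⟩
      · rintro _ ⟨w, hw, rfl⟩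
        show U.ι (q (Sigma.ι P i w)) ∈ Vs
        rw [← Scheme.Hom.comp_apply, ← Scheme.Hom.comp_apply, ← Category.assoc, hcomp, Scheme.Hom.comp_apply]
        exact (Set.ext_iff.mp (hpre _) _).mpr hw
      · refine ⟨y, ?_, rfl⟩
        have hz' : U.ι (q (Sigma.ι P i y)) ∈ Vs := hz
        rw [← Scheme.Hom.comp_apply, ← Scheme.Hom.comp_apply, ← Category.assoc, hcomp, Scheme.Hom.comp_apply] at hz'
        exact (Set.ext_iff.mp (hpre _) _).mp hz'
    have := U.ι.isOpenEmbedding.isOpenMap _ key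
    rwa [Set.image_preimage_eq_inter_range, Scheme.Opens.range_ι] at this
  refine ⟨⟨Vs, hopen⟩, fun i => TopologicalSpace.Opens.ext (hpre i), fun V' hV' => ?_⟩
  apply TopologicalSpace.Opens.ext
  ext x
  obtain ⟨i, t, ht⟩ : ∃ i, x ∈ Set.range (f i).base :=
    ((Scheme.ofArrows_mem_precoverage_iff _).mp hf.2).1 x
  subst ht
  show t ∈ (f i) ⁻¹ᵁ V' ↔ t ∈ (f i).base ⁻¹' Vs
  rw [hV' i, hpre i]
  rfl

end Groth.Agent.S9839
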