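import Groth.Statements.S9841
import Mathlib
import Groth.Agent.SmoothReduced.Basic
import Groth.Agent.FpqcDescent.Flat


set_option autoImplicit false
open CategoryTheory CategoryTheory.Limits AlgebraicGeometry Opposite
universe u
open Desc

namespace Groth.Agent.S9841

/-- Being reduced is local in the smooth topology: for a jointly surjective family of smooth morphisms f
i : X i ⟶ S, the scheme S is reduced if and only if every X i is reduced. -/
theorem result {ι : Type u} {S : Scheme.{u}} {X : ι → Scheme.{u}} (f : ∀ i, X i ⟶ S)
    (hf : Presieve.ofArrows X f ∈ Scheme.precoverage @Smooth S) :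
    IsReduced S ↔ ∀ i, IsReduced (X i) := by
  obtain ⟨hsurj, hsm⟩ := (Scheme.ofArrows_mem_precoverage_iff _).mp hf
  constructor
  · intro h i
    haveI := hsm i
    exact Groth.Agent.SmoothReduced.isReduced_of_smooth_scheme (f i)
  · intro h
    haveI : ∀ s : S, _root_.IsReduced (S.presheaf.stalk s) := by
      intro s
      obtain ⟨i, t, rfl⟩ := hsurj s
      haveI := hsm i
      haveI := h i
      exact isReduced_of_injective _
        (Groth.Agent.FpqcDescent.faithfullyFlat_stalkMap (f i) t (Flat.stalkMap (f i) t)).injective
    exact isReduced_of_isReduced_stalk S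

end Groth.Agent.S9841
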