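import Groth.Statements.S9842
import Mathlib
import Groth.Agent.FpqcDescent.UnivOpenPoint


set_option autoImplicit false
open CategoryTheory CategoryTheory.Limits AlgebraicGeometry Opposite
universe u
open Desc

namespace Groth.Agent.S9842

/-- Let E/k be a field extension, Y a scheme over k and f : X ⟶ Y a morphism. Writing Y_E = Y ×_k Spec
E, the morphism f is dominant if and only if its base change X ×_Y Y_E ⟶ Y_E is dominant. -/
theorem result {k E : Type u} [Field k] [Field E] [Algebra k E]
    {X Y : Scheme.{u}} (f : X ⟶ Y) (q : Y ⟶ Spec (.of k)) :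
    IsDominant f ↔
      IsDominant (pullback.snd f (pullback.fst q (Spec.map (CommRingCat.ofHom (algebraMap k E))))) := by
  let e := Spec.map (CommRingCat.ofHom (algebraMap k E))
  haveI : Subsingleton (Spec (CommRingCat.of k)) := inferInstanceAs (Subsingleton (PrimeSpectrum k))
  haveI : UniversallyOpen e := Groth.Agent.FpqcDescent.universallyOpen_of_subsingleton e
  haveI : Surjective e := ⟨fun x => ⟨IsLocalRing.closedPoint E, Subsingleton.elim _ _⟩⟩
  set qE := Limits.pullback.fst q e
  haveI : Surjective qE := MorphismProperty.pullback_fst (P := @Surjective) _ _ inferInstance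
  haveI : UniversallyOpen qE := inferInstance
  have hrange : Set.range (Limits.pullback.snd f qE) = qE ⁻¹' Set.range f := by
    ext z
    constructor
    · rintro ⟨p, rfl⟩
      refine ⟨Limits.pullback.fst f qE p, ?_⟩
      rw [← Scheme.Hom.comp_apply, Limits.pullback.condition, Scheme.Hom.comp_apply]
    · rintro ⟨x, hx⟩
      obtain ⟨p, -, hp⟩ := Scheme.Pullback.exists_preimage_pullback (f := f) (g := qE) x z hx
      exact ⟨p, hp⟩
  rw [isDominant_iff, isDominant_iff, denseRange_iff_closure_range, denseRange_iff_closure_range,
    hrange, ← qE.isOpenMap.preimage_closure_eq_closure_preimage qE.continuous]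
  constructor
  · intro h
    simp [h]
  · intro h
    exact Set.preimage_injective.mpr qE.surjective (h.trans Set.preimage_univ.symm)

end Groth.Agent.S9842
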