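import Groth.Statements.S9847
import Groth.Agent.AlgSpc.EtLocInst


set_option autoImplicit false
open CategoryTheory CategoryTheory.Limits AlgebraicGeometry Opposite
universe u
open Desc

namespace Groth.Agent.S9847

/-- Being etale is etale local on the source: for every etale covering family g i : X i ⟶ X (etale,
jointly surjective), a morphism f : X ⟶ Y is etale if and only if every composite g i ≫ f is. -/
theorem result :
    MorphismProperty.IsLocalAtSource (@Etale : MorphismProperty Scheme.{u}) Scheme.etalePrecoverage := by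
  refine .mk_of_iff_of_zeroHypercover fun {X Y} f 𝒰 ↦ ⟨fun hf i ↦ ?_, fun h ↦ ?_⟩
  · have : Etale (𝒰.f i) := ((Scheme.ofArrows_mem_precoverage_iff _).mp 𝒰.mem₀).2 i
    infer_instance
  · obtain ⟨h1, h2⟩ := (Scheme.ofArrows_mem_precoverage_iff _).mp 𝒰.mem₀
    choose i hi using h1
    let g : X → Scheme.{u} := fun x ↦ 𝒰.X (i x)
    let p : (∐ g) ⟶ X := Sigma.desc fun x ↦ 𝒰.f (i x)
    have hp : Etale p := IsZariskiLocalAtSource.of_openCover (P := @Etale) (sigmaOpenCover g) fun x ↦ by
      change Etale (Sigma.ι g x ≫ p)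
      rw [Sigma.ι_desc]
      exact h2 (i x)
    have hs : Surjective p := ⟨fun x ↦ by
      obtain ⟨y, hy⟩ := hi x
      refine ⟨Sigma.ι g x y, ?_⟩
      rw [← Scheme.Hom.comp_apply, Sigma.ι_desc]
      exact hy⟩
    refine Groth.Agent.AlgSpc.EtLoc.descend (P := @Etale) p f hp hs
      (IsZariskiLocalAtSource.of_openCover (P := @Etale) (sigmaOpenCover g) fun x ↦ ?_)
    change Etale (Sigma.ι g x ≫ p ≫ f)
    rw [Sigma.ι_desc_assoc]
    exact h (i x)

end Groth.Agent.S9847
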