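import Groth.Statements.S9848
import Groth.Agent.LCIMor.Descent
import Groth.Agent.SyntLCI.KoszulMor


set_option autoImplicit false
set_option backward.isDefEq.respectTransparency false
open CategoryTheory CategoryTheory.Limits AlgebraicGeometry Opposite
universe u
open Desc

namespace Groth.Agent.S9848

/-- Being syntomic is fpqc local on the base; the descent direction, stated for a single flat surjective
quasi-compact base change g : Y' ⟶ Y: if the base change X ×_Y Y' ⟶ Y' of f : X ⟶ Y is syntomic,
then f is syntomic. (With Zariski-locality on the target this gives the statement for arbitrary fpqc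
coverings; stability of syntomic morphisms under base change is the other direction.) -/
theorem result {X Y Y' : Scheme.{u}} (f : X ⟶ Y) (g : Y' ⟶ Y)
    [Flat g] [Surjective g] [QuasiCompact g] (h : Synt.IsSyntomicMor (pullback.snd f g)) :
    Synt.IsSyntomicMor f := by
  have hsq : IsPullback (pullback.fst f g) (pullback.snd f g) f g := IsPullback.of_hasPullback f g
  have hflat : Flat (pullback.snd f g) := SyntLCI.flat_of_isSyntomicMor _ h
  haveI := PCHom.descendsAlong (P := @Flat) (Q := @RingHom.Flat)
    (by
      intro R T S _ _ _ _ _ _ h
      rw [RingHom.flat_algebraMap_iff] at h ⊢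
      infer_instance)
    (by
      intro R T S _ _ _ _ _ _ h
      rw [RingHom.flat_algebraMap_iff] at h ⊢
      exact Module.Flat.of_flat_tensorProduct R S T)
  haveI : Flat f := MorphismProperty.of_isPullback_of_descendsAlong (P := @Flat)
    (Q := (@Surjective ⊓ @Flat ⊓ @QuasiCompact : MorphismProperty Scheme.{u}))
    hsq.flip ⟨⟨inferInstance, inferInstance⟩, inferInstance⟩ hflat
  have hl : LCIMor.lciMor (pullback.snd f g) :=
    (LCIMor.lciMor_iff_isKoszulAt _).2 fun x => SyntLCI.isKoszulAt_of_isSyntomicMor _ h x
  have hf : LCIMor.lciMor f := LCIMor.lciMor_descend f g _ _ hsq hl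
  exact fun x => SyntLCI.isSyntomicAt_of_isKoszulAt f x ((LCIMor.lciMor_iff_isKoszulAt f).1 hf x)

end Groth.Agent.S9848
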