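import Groth.Statements.S9852
import Groth.Agent.SchDescent.One
import Groth.Agent.SchDescent.Morphisms


set_option autoImplicit false
set_option backward.isDefEq.respectTransparency false
set_option backward.isDefEq.respectTransparency.types false
open CategoryTheory CategoryTheory.Limits AlgebraicGeometry Opposite
universe u
open Desc

namespace Groth.Agent.S9852

/-- Let g : X ⟶ X' be a morphism of schemes over S, with structure morphisms a : X ⟶ S and a' : X' ⟶ S,
and assume a is surjective and flat. Then the pullback functor along g, from descent data for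
schemes relative to X' ⟶ S to descent data relative to X ⟶ S, is faithful. (Descent data relative to
a single morphism are written as descent data relative to the corresponding one-member family.) -/
theorem result {X X' S : Scheme.{u}} (a : X ⟶ S) (a' : X' ⟶ S) (g : X ⟶ X')
    (h : g ≫ a' = a) [Surjective a] [Flat a] :
    (Desc.pullDDFam (f := fun _ : PUnit.{u + 1} => a') (f' := fun _ : PUnit.{u + 1} => a) (α := fun j => j)
        (p := 𝟙 S) (p' := fun _ => g) (fun _ => (h).trans (Category.comp_id a).symm)).Faithful := by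
  refine ⟨fun {D D'} b c e => ?_⟩
  ext i : 3
  obtain ⟨⟩ := i
  set w : ∀ _ : PUnit.{u + 1}, g ≫ a' = a ≫ 𝟙 S := fun _ => (h).trans (Category.comp_id a).symm
  let x : (D.obj PUnit.unit).left ⟶ X' := (D.obj PUnit.unit).hom
  set q := pullback.fst (x ≫ a') a
  set r := pullback.snd (x ≫ a') a
  haveI : Flat q := inferInstance
  haveI : Surjective q := inferInstance
  haveI := Flat.epi_of_flat_of_surjective q
  rw [← cancel_epi q]
  have hc : (q ≫ x) ≫ a' = (r ≫ g) ≫ a' := by
    rw [Category.assoc, pullback.condition, Category.assoc, h]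
  let v : Lifts (D.obj PUnit.unit) (q ≫ x) := ⟨q, rfl⟩
  let v₁ := D.φ (i := PUnit.unit) (j := PUnit.unit) _ _ hc v
  have hv : (D.φ (i := PUnit.unit) (j := PUnit.unit) (r ≫ g) (q ≫ x) hc.symm v₁).1 = q := by
    rw [D.φ_comp, D.φ_self]
  have e' : v₁.1 ≫ (b.hom PUnit.unit).left = v₁.1 ≫ (c.hom PUnit.unit).left := by
    have := congrArg (fun d : (pullDDFam (f := fun _ : PUnit.{u + 1} => a') (f' := fun _ : PUnit.{u + 1} => a)
        (α := fun j => j) (p := 𝟙 S) (p' := fun _ => g) w).obj D ⟶
        (pullDDFam (f := fun _ : PUnit.{u + 1} => a') (f' := fun _ : PUnit.{u + 1} => a)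
        (α := fun j => j) (p := 𝟙 S) (p' := fun _ => g) w).obj D' ↦
      ((liftsPullbackEquiv (D.obj PUnit.unit) g r).symm ⟨v₁.1, v₁.2⟩).1 ≫
        (d.hom PUnit.unit).left ≫ pullback.fst _ _) e
    simpa [pullDDFam, pullDDFamObj, liftsPullbackEquiv] using this
  have key : ∀ d : D ⟶ D', q ≫ (d.hom PUnit.unit).left =
      (D'.φ (i := PUnit.unit) (j := PUnit.unit) (r ≫ g) (q ≫ x) hc.symm
        ⟨v₁.1 ≫ (d.hom PUnit.unit).left, by rw [Category.assoc, Over.w, v₁.2]⟩).1 := fun d ↦ by
    rw [d.comm (i := PUnit.unit) (j := PUnit.unit) _ _ hc.symm v₁ _ rfl, hv]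
  rw [key, key]
  exact congrArg Subtype.val (Groth.Agent.SchDescent.lifts_φ_congr _ e')

end Groth.Agent.S9852
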