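import Mathlib
import Groth.Statements.S9860
-- import your own Groth.Agent.* helpers here

set_option autoImplicit false
set_option backward.isDefEq.respectTransparency false
set_option backward.isDefEq.respectTransparency.types false
open CategoryTheory CategoryTheory.Limits AlgebraicGeometry Opposite
universe u
open Desc

namespace Groth.Agent.S9860

/-- Consider morphisms of schemes f i : X i ⟶ X indexed by i. Suppose that, whenever Y is an affine
scheme and g : Y ⟶ X is a morphism, the sieve on Y obtained by pulling back along g (generated by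
the base changes X i ×_X Y ⟶ Y) is effective epimorphic. Then the pulled-back sieve along every
morphism Y ⟶ X of schemes is effective epimorphic; in other words, within schemes the family forms a
universal effective epimorphism. -/
theorem result {ι : Type u} {X : Scheme.{u}} {Xi : ι → Scheme.{u}} (f : ∀ i, Xi i ⟶ X)
    (h : ∀ (Y : Scheme.{u}) (g : Y ⟶ X), IsAffine Y → ((Sieve.ofArrows Xi f).pullback g).EffectiveEpimorphic)
    {Y : Scheme.{u}} (g : Y ⟶ X) : ((Sieve.ofArrows Xi f).pullback g).EffectiveEpimorphic := by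
  rw [Sieve.EffectiveEpimorphic.iff_forall_isSheafFor_yoneda]
  intro Z x hx
  let S := (Sieve.ofArrows Xi f).pullback g
  have key : ∀ (W : Scheme.{u}) [IsAffine W] (m : W ⟶ Y), ∃! t : W ⟶ Z,
      ∀ (V : Scheme.{u}) (a : V ⟶ W) (ha : S (a ≫ m)), a ≫ t = x (a ≫ m) ha := by
    intro W _ m
    have hS : Presieve.IsSheafFor (yoneda.obj Z) ((S.pullback m : Sieve W) : Presieve W) := by
      have := (Sieve.EffectiveEpimorphic.iff_forall_isSheafFor_yoneda _).1 (h W (m ≫ g) inferInstance) Z
      rwa [Sieve.pullback_comp] at this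
    let y : Presieve.FamilyOfElements (yoneda.obj Z) ((S.pullback m : Sieve W) : Presieve W) :=
      fun V a ha => x (a ≫ m) ha
    have hy : y.Compatible := fun V₁ V₂ T g₁ g₂ a₁ a₂ h₁ h₂ e =>
      hx g₁ g₂ h₁ h₂ (by rw [← Category.assoc, e, Category.assoc])
    obtain ⟨t, ht, hu⟩ := hS y hy
    exact ⟨t, fun V a ha => ht a ha, fun t' ht' => hu t' (fun V a ha => ht' V a ha)⟩
  let T : ∀ (W : Scheme.{u}) [IsAffine W] (m : W ⟶ Y), W ⟶ Z := fun W _ m => (key W m).choose
  have hT : ∀ (W : Scheme.{u}) [IsAffine W] (m : W ⟶ Y) (V : Scheme.{u}) (a : V ⟶ W) (ha : S (a ≫ m)),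
      a ≫ T W m = x (a ≫ m) ha := fun W _ m => (key W m).choose_spec.1
  have hnat : ∀ (W W' : Scheme.{u}) [IsAffine W] [IsAffine W'] (b : W' ⟶ W) (m : W ⟶ Y),
      b ≫ T W m = T W' (b ≫ m) := by
    intro W W' _ _ b m
    refine (key W' (b ≫ m)).choose_spec.2 _ fun V a ha => ?_
    have ha' : S ((a ≫ b) ≫ m) := by rwa [Category.assoc]
    have := hT W m V (a ≫ b) ha'
    rw [Category.assoc] at this
    rw [this]
    congr 1
  let 𝒰 := Y.affineCover
  have hglue : ∀ i j, pullback.fst (𝒰.f i) (𝒰.f j) ≫ T (𝒰.X i) (𝒰.f i) =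
      pullback.snd (𝒰.f i) (𝒰.f j) ≫ T (𝒰.X j) (𝒰.f j) := fun i j => by
    refine Scheme.Cover.hom_ext (pullback (𝒰.f i) (𝒰.f j)).affineCover _ _ fun l => ?_
    rw [← Category.assoc, ← Category.assoc, hnat, hnat]
    simp only [Category.assoc, pullback.condition]
  let H := 𝒰.glueMorphisms (fun i => T (𝒰.X i) (𝒰.f i)) hglue
  have hH : ∀ (W : Scheme.{u}) [IsAffine W] (m : W ⟶ Y), m ≫ H = T W m := by
    intro W _ m
    refine Scheme.Cover.hom_ext (𝒰.pullback₁ m) _ _ fun i => ?_
    refine Scheme.Cover.hom_ext (pullback m (𝒰.f i)).affineCover _ _ fun l => ?_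
    show (pullback m (𝒰.f i)).affineCover.f l ≫ pullback.fst m (𝒰.f i) ≫ m ≫ H =
      (pullback m (𝒰.f i)).affineCover.f l ≫ pullback.fst m (𝒰.f i) ≫ T W m
    rw [pullback.condition_assoc, Scheme.Cover.ι_glueMorphisms, ← Category.assoc, ← Category.assoc, hnat, hnat]
    simp only [Category.assoc, pullback.condition]
  refine ⟨H, fun V m hm => ?_, fun H' hH' => ?_⟩
  · refine Scheme.Cover.hom_ext V.affineCover _ _ fun l => ?_
    have hS : S (V.affineCover.f l ≫ m) := S.downward_closed hm _
    have e1 := hT _ (V.affineCover.f l ≫ m) _ (𝟙 _) (by rwa [Category.id_comp])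
    show V.affineCover.f l ≫ m ≫ H = V.affineCover.f l ≫ x m hm
    rw [← Category.assoc, hH, ← Category.id_comp (T _ _), e1]
    refine Eq.trans ?_ ((Presieve.compatible_iff_sieveCompatible x).1 hx m (V.affineCover.f l) hm)
    congr 1
  · refine Scheme.Cover.hom_ext 𝒰 _ _ fun i => ?_
    rw [Scheme.Cover.ι_glueMorphisms]
    refine (key (𝒰.X i) (𝒰.f i)).choose_spec.2 _ fun V a ha => ?_
    rw [← Category.assoc]
    exact hH' _ ha

end Groth.Agent.S9860
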