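import Groth.Statements.S9862
import Groth.Agent.SyntLocal.Basic


set_option autoImplicit false
set_option backward.isDefEq.respectTransparency false
set_option backward.isDefEq.respectTransparency.types false
open CategoryTheory CategoryTheory.Limits AlgebraicGeometry Opposite
universe u
open Desc

namespace Groth.Agent.S9862

/-- Being Cohen-Macaulay is local in the syntomic topology: for a jointly surjective family of syntomic
morphisms f i : X i ⟶ S, the scheme S is locally Noetherian with Cohen-Macaulay local rings if and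
only if every X i is. -/
theorem result {ι : Type u} {S : Scheme.{u}} {X : ι → Scheme.{u}} (f : ∀ i, X i ⟶ S)
    (hsurj : ∀ s : S, ∃ i, s ∈ Set.range (f i).base) (hsyn : ∀ i, Synt.IsSyntomicMor (f i)) :
    (IsLocallyNoetherian S ∧ ∀ s : S, LocCoh.IsCohenMacaulayLocalRing (S.presheaf.stalk s)) ↔
      ∀ i, IsLocallyNoetherian (X i) ∧ ∀ x : X i, LocCoh.IsCohenMacaulayLocalRing ((X i).presheaf.stalk x) := by
  constructor
  · rintro ⟨hN, hS⟩ i
    have h := fun k => SyntLocal.hasSk_of_base (f i) (hsyn i) k fun s => (SyntLocal.isCohenMacaulay_iff_hasSk _).1 (hS s) k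
    haveI := (h 0).1
    exact ⟨(h 0).1, fun x => (SyntLocal.isCohenMacaulay_iff_hasSk _).2 fun k => (h k).2 x⟩
  · intro hX
    haveI := fun i => (hX i).1
    have h := fun k => (SyntLocal.hasSk_iff f hsurj hsyn k).2 fun i =>
      ⟨(hX i).1, fun x => (SyntLocal.isCohenMacaulay_iff_hasSk _).1 ((hX i).2 x) k⟩
    haveI := (h 0).1
    exact ⟨(h 0).1, fun s => (SyntLocal.isCohenMacaulay_iff_hasSk _).2 fun k => (h k).2 s⟩

end Groth.Agent.S9862
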