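import Groth.Statements.S9866
import Groth.Agent.SchDescent.One


set_option autoImplicit false
open CategoryTheory CategoryTheory.Limits AlgebraicGeometry Opposite
universe u
open Desc

namespace Groth.Agent.S9866

/-- Let p : X ⟶ S be a surjective, flat, quasi-compact morphism of schemes and D = (V, φ) a descent
datum for schemes relative to p. Suppose every point v of V lies in the image of some morphism of
descent data D' ⟶ D whose underlying morphism of schemes over X is an open immersion and whose
source D' is effective (isomorphic to the canonical descent datum of a scheme over S). Then D is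
effective. (A φ-stable open W ⊆ V with its restricted descent datum, as in the published statement,
is the same thing as such a morphism D' ⟶ D up to isomorphism.) -/
theorem result {X S : Scheme.{u}} (p : X ⟶ S) [Surjective p] [Flat p] [QuasiCompact p]
    (D : Desc.SchDD p)
    (h : ∀ v : D.obj.left, ∃ (D' : Desc.SchDD p) (j : D' ⟶ D), IsOpenImmersion j.hom.left ∧
      v ∈ Set.range j.hom.left.base ∧ ∃ U' : Over S, Nonempty ((Desc.toDD p).obj U' ≅ D')) :
    ∃ U : Over S, Nonempty ((Desc.toDD p).obj U ≅ D) := by
  choose D' j hj hv U' hU using h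
  let e := fun v ↦ (hU v).some
  refine Groth.Agent.SchDescent.effective_of_cover D (fun v ↦ (e v).hom ≫ j v) (fun v ↦ ?_) fun v ↦ ⟨v, ?_⟩
  · haveI : IsIso (e v).hom.hom.left := ⟨(e v).inv.hom.left, congrArg (fun c ↦ c.hom.left) (e v).hom_inv_id,
      congrArg (fun c ↦ c.hom.left) (e v).inv_hom_id⟩
    haveI := hj v
    exact inferInstanceAs (IsOpenImmersion ((e v).hom.hom.left ≫ (j v).hom.left))
  · obtain ⟨w, hw⟩ := hv v
    refine ⟨(e v).inv.hom.left w, ?_⟩
    refine Eq.trans ?_ hw
    exact congrArg (fun c : D' v ⟶ D' v ↦ (j v).hom.left (c.hom.left w)) (e v).inv_hom_id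

end Groth.Agent.S9866
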