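import Groth.Statements.S9870
import Groth.Agent.AlgSpBoot.QuotRestrict

set_option autoImplicit false
universe u
open CategoryTheory CategoryTheory.Limits AlgebraicGeometry
open AlgSp

namespace Groth.Agent.S9870

/-- Let `s, t : R ⟶ U` be a pre-relation on a scheme `U` over `S` which is an equivalence relation (on
`T`-points, for every scheme `T` over `S`), with `s` and `t` surjective, flat and locally of finite
presentation, and let `g : U' ⟶ U` be flat and locally of finite presentation. Let `s', t' : R' ⟶
U'` be the restriction of the pre-relation to `U'`, i.e. `R'` with `(t', s')` and `R' ⟶ R` is the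
fibre product of `U' ×_S U'` and `R` over `U ×_S U`. Then the map of fppf quotient sheaves `U'/R' ⟶
U/R` induced by `g` (the unique map under the quotient maps compatible with `h_g`) is representable
and an open immersion. -/
theorem result (S : Scheme.{u}) {R U R' U' : Over S} (s t : R ⟶ U)
    (g : U' ⟶ U) (s' t' : R' ⟶ U') (r : R' ⟶ R)
    (hsq : IsPullback (prod.lift t' s') r (prod.map g g) (prod.lift t s))
    (hR : AlgSp.IsEqvRel s t)
    [Surjective s.left] [Flat s.left] [LocallyOfFinitePresentation s.left]
    [Surjective t.left] [Flat t.left] [LocallyOfFinitePresentation t.left]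
    [Flat g.left] [LocallyOfFinitePresentation g.left]
    (φ : QuotSh.quot Scheme.fppfPrecoverage s' t' ⟶ QuotSh.quot Scheme.fppfPrecoverage s t)
    (hφ : QuotSh.quotπ Scheme.fppfPrecoverage s' t' ≫ φ = QuotSh.repMap Scheme.fppfPrecoverage g ≫ QuotSh.quotπ Scheme.fppfPrecoverage s t) :
    AlgSp.RepWith @IsOpenImmersion φ := by
  open Groth.Agent.AlgSpc Groth.Agent.AlgSpBoot in
    obtain ⟨e, he₁, he₂⟩ := (hR.equivalence U).refl (𝟙 U)
    obtain ⟨i, hi₁, hi₂⟩ := (hR.equivalence R).symm ⟨𝟙 R, Category.id_comp t, Category.id_comp s⟩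
    obtain ⟨m, hm₁, hm₂⟩ := (hR.equivalence (pullback s t)).trans
      (x := pullback.fst s t ≫ t) (y := pullback.fst s t ≫ s) (z := pullback.snd s t ≫ s)
      ⟨_, rfl, rfl⟩ ⟨pullback.snd s t, pullback.condition.symm, rfl⟩
    let h := pullback.snd g t ≫ s
    have sqg := FppfDescent.isPullback_forget (IsPullback.of_hasPullback g t)
    haveI : Flat (pullback.snd g t).left := MorphismProperty.of_isPullback (P := @Flat) sqg ‹_›
    haveI : LocallyOfFinitePresentation (pullback.snd g t).left := MorphismProperty.of_isPullback (P := @LocallyOfFinitePresentation) sqg ‹_›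
    haveI : Flat h.left := by simp only [h, Over.comp_left]; infer_instance
    haveI : LocallyOfFinitePresentation h.left := by simp only [h, Over.comp_left]; infer_instance
    refine repWith_isOpenImmersion_restrict hsq ⟨e, he₁, he₂⟩ ⟨i, hi₁, hi₂⟩ ⟨m, hm₁, hm₂⟩
      ⟨Set.range h.left, h.left.isOpenMap.isOpen_range⟩ rfl (fun {T} u hu => ?_) φ ?_
    · have sqh := FppfDescent.isPullback_forget (IsPullback.of_hasPullback u h)
      refine ⟨pullback u h, pullback.fst u h, pullback.snd u h, MorphismProperty.of_isPullback (P := @Flat) sqh.flip inferInstance,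
        MorphismProperty.of_isPullback (P := @LocallyOfFinitePresentation) sqh.flip inferInstance, ⟨fun x => ?_⟩, pullback.condition.symm⟩
      obtain ⟨z, hz⟩ := hu x
      obtain ⟨w, hw, -⟩ := Scheme.exists_preimage_of_isPullback sqh x z hz.symm
      exact ⟨w, hw⟩
    · dsimp only [quotMap]
      rw [Category.assoc, hφ, ← Category.assoc, ← Category.assoc, repIso_inv_naturality]

end Groth.Agent.S9870
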