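import Groth.Statements.S9877
import Groth.Agent.AlgSpc.SpCoprod

set_option autoImplicit false
universe u
open CategoryTheory CategoryTheory.Limits AlgebraicGeometry
open AlgSp

namespace Groth.Agent.S9877

/-- Let `F` be an fppf sheaf of sets over `S` and `F_i ⟶ F` a family of maps of sheaves such that each
`F_i` is an algebraic space over `S`, each `F_i ⟶ F` is representable by open immersions, the
induced map from the coproduct `∐ F_i` (in sheaves) to `F` is a surjective map of sheaves, and `∐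
F_i` is an algebraic space. Then `F` is an algebraic space over `S`. -/
theorem result (S : Scheme.{u}) (F : AlgSp.Sp S) {ι : Type u} (Fi : ι → AlgSp.Sp S)
    (f : ∀ i, Fi i ⟶ F) (halg : ∀ i, AlgSp.IsAlgSpace (Fi i))
    (hopen : ∀ i, AlgSp.RepWith @IsOpenImmersion (f i)) (c : Cofan Fi) (hc : IsColimit c)
    (hsurj : Sheaf.IsLocallySurjective (Cofan.IsColimit.desc hc f)) (hcop : AlgSp.IsAlgSpace c.pt) :
    AlgSp.IsAlgSpace F := by
  refine Groth.Agent.AlgSpc.isAlgSpace_of_open_cover f hopen halg fun x => ?_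
  obtain ⟨T, g, t, rfl⟩ := Groth.Agent.AlgSpc.exists_ofPt x
  haveI := hsurj
  obtain ⟨s, rfl⟩ := (AlgSp.J S).uliftYonedaEquiv.{u + 1}.symm.surjective g
  obtain ⟨W, w, ⟨v, hv⟩, z, rfl⟩ := Groth.Agent.AlgSpc.exists_arrow_of_mem_J
    (Presheaf.imageSieve_mem (AlgSp.J S) (Cofan.IsColimit.desc hc f).hom s) t
  obtain ⟨i, y, hy⟩ := Groth.Agent.AlgSpc.exists_points_inj hc (AlgSp.Points.ofPt ((AlgSp.J S).uliftYonedaEquiv.symm v) z)
  refine ⟨i, y, ?_⟩
  rw [← Cofan.IsColimit.fac hc f i, AlgSp.Points.map_comp, hy, AlgSp.Points.map_ofPt, ← Groth.Agent.AlgSpc.ofPt_comp]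
  congr 1
  apply (AlgSp.J S).uliftYonedaEquiv.injective
  rw [GrothendieckTopology.uliftYonedaEquiv_comp, Equiv.apply_symm_apply,
    ← GrothendieckTopology.uliftYonedaEquiv_naturality, Equiv.apply_symm_apply]
  exact hv

end Groth.Agent.S9877
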