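import Groth.Statements.S9879
import Groth.Agent.AlgSpc.SpCoprod

set_option autoImplicit false
universe u
open CategoryTheory CategoryTheory.Limits AlgebraicGeometry
open AlgSp

namespace Groth.Agent.S9879

/-- Let `U` be a scheme over `S` and `F_i` a family of fppf sheaves of sets over `S` whose coproduct in
sheaves is isomorphic to `h_U`. Then each `F_i` is representable by a scheme `V_i` over `S` such
that `V_i ⟶ U` (the morphism inducing `h_{V_i} ≅ F_i ⟶ ∐ F_i ≅ h_U`) is an open and closed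
immersion, and `U` is the coproduct of the `V_i` in schemes. -/
theorem result (S : Scheme.{u}) (U : Over S) {ι : Type u}
    (F : ι → AlgSp.Sp S) (c : Cofan F) (hc : IsColimit c) (e : c.pt ≅ (AlgSp.yon S).obj U) :
    ∃ (V : ι → Over S) (g : ∀ i, V i ⟶ U) (ei : ∀ i, (AlgSp.yon S).obj (V i) ≅ F i),
      (∀ i, IsOpenImmersion (g i).left ∧ IsClosedImmersion (g i).left) ∧
      (∀ i, (ei i).hom ≫ c.inj i ≫ e.hom = (AlgSp.yon S).map (g i)) ∧
      Nonempty (IsColimit (Cofan.mk U.left (fun i => (g i).left))) := by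
  haveI : ∀ i, Mono (c.inj i) := fun i => MonoCoprod.mono_inj F c hc i
  choose V a g sq using fun i => Groth.Agent.AlgSpc.exists_sq (Groth.Agent.AlgSpc.repWith_inj hc i).1 e.inv
  have hg : ∀ i, IsOpenImmersion (g i).left ∧ IsClosedImmersion (g i).left := fun i =>
    ⟨((Groth.Agent.AlgSpc.repWith_inj hc i).2 _ _ _ (sq i)).1, ((Groth.Agent.AlgSpc.repWith_inj hc i).2 _ _ _ (sq i)).2⟩
  haveI : ∀ i, IsIso (a i) := fun i => (sq i).isIso_fst_of_isIso
  refine ⟨V, g, fun i => asIso (a i), hg, fun i => ?_, ?_⟩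
  · rw [asIso_hom, ← Category.assoc, (sq i).w, Category.assoc, e.inv_hom_id, Category.comp_id]
  haveI : ∀ i, IsOpenImmersion (g i).left := fun i => (hg i).1
  refine nonempty_isColimit_cofanMk_of _ (top_le_iff.1 fun u _ => ?_) fun i j hij => ?_
  · obtain ⟨i, x, hx⟩ := Groth.Agent.AlgSpc.exists_points_inj hc (AlgSp.Points.ofPt e.inv u)
    obtain ⟨v, -, hv⟩ := Groth.Agent.AlgSpc.exists_point_of_sq (sq i) x u hx
    exact TopologicalSpace.Opens.mem_iSup.2 ⟨i, v, hv⟩
  · change Disjoint _ _
    rw [disjoint_iff, eq_bot_iff]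
    rintro u ⟨⟨v, hv⟩, ⟨w, hw⟩⟩
    obtain ⟨s, hs, hs'⟩ := Scheme.Pullback.exists_preimage_pullback v w (hv.trans hw.symm)
    have := CategoryTheory.Limits.pullback.condition (f := (g i).left) (g := (g j).left)
    exact (Groth.Agent.AlgSpc.isEmpty_of_two_inj hc hij (Z := Over.mk (pullback.fst (g i).left (g j).left ≫ (V i).hom))
      ((AlgSp.yon S).map (Over.homMk (pullback.fst _ _) rfl) ≫ a i)
      ((AlgSp.yon S).map (Over.homMk (pullback.snd _ _) (by
        change pullback.snd _ _ ≫ _ = pullback.fst _ _ ≫ _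
        rw [← Over.w (g i), ← Over.w (g j), reassoc_of% this])) ≫ a j) (by
        rw [Category.assoc, Category.assoc, (sq i).w, (sq j).w, ← Functor.map_comp_assoc, ← Functor.map_comp_assoc]
        congr 2
        ext : 1
        exact this)).false s

end Groth.Agent.S9879
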