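import Groth.Statements.S9881
import Groth.Agent.AlgSpc.SpCoprod

set_option autoImplicit false
universe u
open CategoryTheory CategoryTheory.Limits AlgebraicGeometry
open AlgSp

namespace Groth.Agent.S9881

/-- Let `F_i` be a family of algebraic spaces over `S` indexed by a type in the universe of `S`, so that
the coproduct of any chosen atlases exists as a scheme (this realizes the size condition of the
published statement). Then the coproduct `∐ F_i` in fppf sheaves of sets over `S` (any colimit
cofan) is an algebraic space over `S`. -/
theorem result (S : Scheme.{u}) {ι : Type u} (F : ι → AlgSp.Sp S)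
    (h : ∀ i, AlgSp.IsAlgSpace (F i)) (c : Cofan F) (hc : IsColimit c) : AlgSp.IsAlgSpace c.pt := by
  haveI : ∀ i, Mono (c.inj i) := fun i => MonoCoprod.mono_inj F c hc i
  exact Groth.Agent.AlgSpc.isAlgSpace_of_open_cover (fun i => c.inj i) (fun i => Groth.Agent.AlgSpc.repWith_mono (fun _ _ f hf => hf.1) (Groth.Agent.AlgSpc.repWith_inj hc i)) h (Groth.Agent.AlgSpc.exists_points_inj hc)

end Groth.Agent.S9881
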