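import Groth.Statements.S9889
import Mathlib.AlgebraicGeometry.Morphisms.Etale
import Mathlib.AlgebraicGeometry.Morphisms.Flat
import Mathlib.AlgebraicGeometry.Limits
import Mathlib.AlgebraicGeometry.LimitsOver
import Mathlib.CategoryTheory.Endomorphism

set_option autoImplicit false
universe u
open CategoryTheory CategoryTheory.Limits AlgebraicGeometry
open AlgSp

namespace Groth.Agent.S9889

/-- Let `U` be a scheme over `S` and `G` a group acting on `U` by automorphisms over `S`, freely: no
non-identity element of `G` fixes a point `x` of `U` while inducing the identity on its residue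
field (equivalently, composing `Spec κ(x) ⟶ U` with the automorphism changes it). Let `R = ∐_{g ∈ G}
U` (coproduct in schemes over `S`) with `s` the identity and `t` the action of `g` on the `g`-th
copy. Then `s, t : R ⟶ U` is an etale equivalence relation on `U` over `S` (so that `U/R` is an
algebraic space). -/
theorem result (S : Scheme.{u}) (U : Over S) (G : Type u) [Group G] (ρ : G →* Aut U)
    (hfree : ∀ (g : G) (x : U.left), g ≠ 1 →
      U.left.fromSpecResidueField x ≫ (ρ g).hom.left ≠ U.left.fromSpecResidueField x)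
    (c : Cofan (fun _ : G => U)) (hc : IsColimit c) (s t : c.pt ⟶ U)
    (hs : ∀ g, c.inj g ≫ s = 𝟙 U) (ht : ∀ g, c.inj g ≫ t = (ρ g).hom) :
    AlgSp.IsEtaleEqvRel s t := by
    classical
    have hinv : ∀ g : G, (ρ g⁻¹).hom = (ρ g).inv := fun g => by rw [map_inv]; rfl
    have hmul : ∀ g h : G, (ρ (g * h)).hom = (ρ h).hom ≫ (ρ g).hom := fun g h => by
      rw [map_mul]; rfl
    let L : ∀ g, U.left ⟶ c.pt.left := fun g => (c.inj g).left
    have hcL : IsColimit (Cofan.mk c.pt.left L) :=
      isColimitCofanMkObjOfIsColimit (Over.forget S) (f := fun _ : G => U)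
        (fun g => c.inj g) (hc.ofIsoColimit (Cofan.ext (Iso.refl _) (fun g => by simp)))
    let e : (∐ fun _ : G => U.left) ≅ c.pt.left :=
      (colimit.isColimit _).coconePointUniqueUpToIso hcL
    have hLe : ∀ g, L g = Sigma.ι (fun _ : G => U.left) g ≫ e.hom := fun g =>
      ((colimit.isColimit _).comp_coconePointUniqueUpToIso_hom hcL ⟨g⟩).symm
    have hoi : ∀ g, IsOpenImmersion (L g) := fun g => by rw [hLe]; infer_instance
    have hcov : ∀ x : c.pt.left, ∃ g y, L g y = x := fun x => by
      obtain ⟨⟨g, y⟩, hy⟩ := (sigmaMk (fun _ : G => U.left)).surjective (e.inv x)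
      refine ⟨g, y, ?_⟩
      rw [sigmaMk_mk] at hy
      rw [hLe, Scheme.Hom.comp_apply, hy, ← Scheme.Hom.comp_apply, e.inv_hom_id]
      rfl
    have hLs : ∀ g, L g ≫ s.left = 𝟙 _ := fun g => congrArg CommaMorphism.left (hs g)
    have hLt : ∀ g, L g ≫ t.left = (ρ g).hom.left := fun g => congrArg CommaMorphism.left (ht g)
    have hfield : ∀ (K : Type u) [Field K] (a : Spec (.of K) ⟶ U.left) (g g' : G),
        a ≫ (ρ g).hom.left = a ≫ (ρ g').hom.left → g = g' := by
      intro K _ a g g' h
      by_contra hne
      obtain ⟨x, φ, rfl⟩ : ∃ (x : U.left) (φ : U.left.residueField x ⟶ .of K),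
          Spec.map φ ≫ U.left.fromSpecResidueField x = a :=
        ⟨_, _, (Scheme.SpecToEquivOfField K U.left).left_inv a⟩
      algebraize [φ.hom]
      haveI : Flat (Spec.map φ) := by
        rw [HasRingHomProperty.Spec_iff (P := @Flat)]
        show Module.Flat (U.left.residueField x) K
        infer_instance
      haveI : Surjective (Spec.map φ) := ⟨fun y => ⟨default, Subsingleton.elim _ _⟩⟩
      haveI : Epi (Spec.map φ) := Flat.epi_of_flat_of_surjective _
      rw [Category.assoc, Category.assoc, cancel_epi] at h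
      refine hfree (g'⁻¹ * g) x (fun hh => hne (inv_mul_eq_one.mp hh).symm) ?_
      rw [map_mul, Aut.Aut_mul_def]
      show U.left.fromSpecResidueField x ≫ (ρ g).hom.left ≫ (ρ g'⁻¹).hom.left = _
      rw [reassoc_of% h, ← Over.comp_left]
      have : (ρ g').hom ≫ (ρ g'⁻¹).hom = 𝟙 U := by
        rw [hinv]; exact Iso.hom_inv_id _
      rw [this]
      exact Category.comp_id _
    have hinj : ∀ (T : Over S) (r r' : T ⟶ c.pt), r ≫ t = r' ≫ t → r ≫ s = r' ≫ s → r = r' := by
      intro T r r' h1 h2
      refine Over.OverMorphism.ext (Scheme.hom_ext_of_forall _ _ fun x => ?_)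
      obtain ⟨g, y, hy⟩ := hcov (r.left x)
      obtain ⟨g', y', hy'⟩ := hcov (r'.left x)
      have hl1 : r.left ≫ t.left = r'.left ≫ t.left := congrArg CommaMorphism.left h1
      have hl2 : r.left ≫ s.left = r'.left ≫ s.left := congrArg CommaMorphism.left h2
      have key : g = g' := by
        have hr : Set.range ⇑(T.left.fromSpecResidueField x ≫ r.left) ⊆ Set.range ⇑(L g) := by
          rintro _ ⟨p, rfl⟩
          exact ⟨y, by rw [hy, Scheme.Hom.comp_apply, Scheme.fromSpecResidueField_apply]⟩
        have hr' : Set.range ⇑(T.left.fromSpecResidueField x ≫ r'.left) ⊆ Set.range ⇑(L g') := by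
          rintro _ ⟨p, rfl⟩
          exact ⟨y', by rw [hy', Scheme.Hom.comp_apply, Scheme.fromSpecResidueField_apply]⟩
        haveI := hoi g
        haveI := hoi g'
        have f1 := IsOpenImmersion.lift_fac (L g) _ hr
        have f2 := IsOpenImmersion.lift_fac (L g') _ hr'
        set p := IsOpenImmersion.lift (L g) _ hr with hp
        set p' := IsOpenImmersion.lift (L g') _ hr' with hp'
        have e1 : p = T.left.fromSpecResidueField x ≫ r.left ≫ s.left := by
          rw [← Category.assoc, ← f1, Category.assoc, hLs, Category.comp_id]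
        have e1' : p' = T.left.fromSpecResidueField x ≫ r'.left ≫ s.left := by
          rw [← Category.assoc, ← f2, Category.assoc, hLs, Category.comp_id]
        refine hfield (T.left.residueField x : Type u) p g g' ?_
        have e3 : p' = p := by rw [e1', ← hl2, ← e1]
        show p ≫ (ρ g).hom.left = p ≫ (ρ g').hom.left
        calc p ≫ (ρ g).hom.left = (p ≫ L g) ≫ t.left := by rw [Category.assoc, hLt]
          _ = (p' ≫ L g') ≫ t.left := by rw [f1, f2, Category.assoc, hl1, Category.assoc]
          _ = p ≫ (ρ g').hom.left := by rw [Category.assoc, hLt, e3]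
      subst key
      haveI := hoi g
      refine ⟨r.left ⁻¹ᵁ (L g).opensRange ⊓ r'.left ⁻¹ᵁ (L g).opensRange,
        ⟨⟨y, hy⟩, ⟨y', hy'⟩⟩, ?_⟩
      set W := r.left ⁻¹ᵁ (L g).opensRange ⊓ r'.left ⁻¹ᵁ (L g).opensRange
      have ha : Set.range ⇑(W.ι ≫ r.left) ⊆ Set.range ⇑(L g) := by
        rintro _ ⟨⟨p, hp⟩, rfl⟩; exact hp.1
      have hb : Set.range ⇑(W.ι ≫ r'.left) ⊆ Set.range ⇑(L g) := by
        rintro _ ⟨⟨p, hp⟩, rfl⟩; exact hp.2
      have fa := IsOpenImmersion.lift_fac (L g) _ ha
      have fb := IsOpenImmersion.lift_fac (L g) _ hb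
      rw [← fa, ← fb]
      congr 1
      have := congrArg (fun q => W.ι ≫ q) hl2
      simp only [← Category.assoc] at this
      rwa [← fa, ← fb, Category.assoc, Category.assoc, hLs, Category.comp_id, Category.comp_id] at this
    have het : ∀ g, IsIso (L g ≫ t.left) := fun g => by
      rw [hLt]; exact inferInstanceAs (IsIso ((Over.forget S).mapIso (ρ g)).hom)
    refine
      { injective := hinj
        equivalence := fun T => ⟨fun a => ⟨a ≫ c.inj 1, ?_, ?_⟩, ?_, ?_⟩
        etale_left := ?_
        etale_right := ?_ }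
    · simp [ht, map_one]; rfl
    · simp [hs]
    · rintro a b ⟨r, rfl, rfl⟩
      let σ : c.pt ⟶ c.pt := Cofan.IsColimit.desc hc fun g => (ρ g).hom ≫ c.inj g⁻¹
      refine ⟨r ≫ σ, ?_, ?_⟩ <;> rw [Category.assoc] <;> congr 1 <;>
        refine Cofan.IsColimit.hom_ext hc _ _ fun g => ?_
      · simp only [σ, Cofan.IsColimit.fac_assoc, Category.assoc, ht, hs]
        rw [hinv]; exact Iso.hom_inv_id _
      · simp only [σ, Cofan.IsColimit.fac_assoc, Category.assoc, ht, hs, Category.comp_id]
    · rintro a b d ⟨r, rfl, hrs⟩ ⟨r', hr't, rfl⟩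
      let ι := {p : G × G // True}
      let W : G × G → T.left.Opens := fun p =>
        haveI := hoi p.1
        haveI := hoi p.2
        r.left ⁻¹ᵁ (L p.1).opensRange ⊓ r'.left ⁻¹ᵁ (L p.2).opensRange
      have hW : ∀ x, ∃ p, x ∈ W p := fun x => by
        obtain ⟨g, hg⟩ := hcov (r.left x)
        obtain ⟨h, hh⟩ := hcov (r'.left x)
        exact ⟨(g, h), hg, hh⟩
      let 𝒰 : T.left.OpenCover := T.left.openCoverOfIsOpenCover W
        (eq_top_iff.mpr fun x _ => TopologicalSpace.Opens.mem_iSup.mpr (hW x))
      let ov : ∀ p, Over S := fun p => Over.mk ((W p).ι ≫ T.hom)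
      let ι' : ∀ p, ov p ⟶ T := fun p => Over.homMk (W p).ι
      have hloc : ∀ p, ∃ q : ov p ⟶ c.pt, q ≫ t = ι' p ≫ r ≫ t ∧ q ≫ s = ι' p ≫ r' ≫ s := by
        rintro ⟨g, h⟩
        haveI := hoi g
        haveI := hoi h
        refine ⟨ι' (g, h) ≫ r' ≫ s ≫ c.inj (g * h), ?_, by simp [hs]⟩
        have ha : Set.range ⇑((W (g, h)).ι ≫ r.left) ⊆ Set.range ⇑(L g) := by
          rintro _ ⟨⟨p, hp⟩, rfl⟩; exact hp.1
        have hb : Set.range ⇑((W (g, h)).ι ≫ r'.left) ⊆ Set.range ⇑(L h) := by
          rintro _ ⟨⟨p, hp⟩, rfl⟩; exact hp.2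
        have fa := IsOpenImmersion.lift_fac (L g) _ ha
        have fb := IsOpenImmersion.lift_fac (L h) _ hb
        set A := IsOpenImmersion.lift (L g) _ ha
        set B := IsOpenImmersion.lift (L h) _ hb
        refine Over.OverMorphism.ext ?_
        have hrs' : r.left ≫ s.left = r'.left ≫ t.left :=
          congrArg CommaMorphism.left (hrs.trans hr't.symm)
        have hA : A = B ≫ (ρ h).hom.left := by
          rw [← hLt, ← Category.assoc, fb, Category.assoc, ← hrs', ← Category.assoc, ← fa,
            Category.assoc, hLs, Category.comp_id]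
        simp only [Over.comp_left, Category.assoc, ι', Over.homMk_left]
        rw [show (c.inj (g * h)).left ≫ t.left = _ from hLt _, ← Category.assoc (W (g, h)).ι,
          ← Category.assoc (W (g, h)).ι, ← fb, Category.assoc B, reassoc_of% hLs h, ← fa,
          Category.assoc, hLt, hA, Category.assoc, map_mul, Aut.Aut_mul_def]
        rfl
      choose q hq1 hq2 using hloc
      have hq : ∀ i j : G × G, pullback.fst (W i).ι (W j).ι ≫ (q i).left =
          pullback.snd (W i).ι (W j).ι ≫ (q j).left := by
        intro i j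
        let P : Over S := Over.mk (pullback.fst (W i).ι (W j).ι ≫ (ov i).hom)
        let a : P ⟶ ov i := Over.homMk (pullback.fst (W i).ι (W j).ι)
        let b : P ⟶ ov j := Over.homMk (pullback.snd (W i).ι (W j).ι)
          (by simp [P, ov, pullback.condition_assoc])
        have hab : a ≫ ι' i = b ≫ ι' j := Over.OverMorphism.ext pullback.condition
        exact congrArg CommaMorphism.left (hinj P (a ≫ q i) (b ≫ q j)
          (by simp only [Category.assoc, hq1, reassoc_of% hab])
          (by simp only [Category.assoc, hq2, reassoc_of% hab]))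
      refine ⟨Over.homMk (𝒰.glueMorphisms (fun i => (q i).left) hq) ?_, ?_, ?_⟩
      · exact 𝒰.hom_ext _ _ fun i => by
          rw [← Category.assoc]
          erw [𝒰.ι_glueMorphisms]
          exact Over.w (q i)
      · exact Over.OverMorphism.ext (𝒰.hom_ext _ _ fun i => by
          simp only [Over.comp_left, Over.homMk_left]
          rw [← Category.assoc]
          erw [𝒰.ι_glueMorphisms]
          exact congrArg CommaMorphism.left (hq1 i))
      · exact Over.OverMorphism.ext (𝒰.hom_ext _ _ fun i => by
          simp only [Over.comp_left, Over.homMk_left]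
          rw [← Category.assoc]
          erw [𝒰.ι_glueMorphisms]
          exact congrArg CommaMorphism.left (hq2 i))

    · let 𝒰 : c.pt.left.OpenCover := (sigmaOpenCover fun _ : G => U.left).pushforwardIso e.hom
      haveI : IsZariskiLocalAtSource (@Etale : MorphismProperty Scheme.{u}) :=
        HasRingHomProperty.instIsZariskiLocalAtSource (Q := @RingHom.Etale)
      refine (IsZariskiLocalAtSource.iff_of_openCover (P := (@Etale : MorphismProperty Scheme.{u})) 𝒰).mpr ?_
      intro (g : G)
      show Etale ((Sigma.ι (fun _ : G => U.left) g ≫ e.hom) ≫ s.left)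
      rw [← hLe, hLs]; infer_instance
    · let 𝒰 : c.pt.left.OpenCover := (sigmaOpenCover fun _ : G => U.left).pushforwardIso e.hom
      haveI : IsZariskiLocalAtSource (@Etale : MorphismProperty Scheme.{u}) :=
        HasRingHomProperty.instIsZariskiLocalAtSource (Q := @RingHom.Etale)
      refine (IsZariskiLocalAtSource.iff_of_openCover (P := (@Etale : MorphismProperty Scheme.{u})) 𝒰).mpr ?_
      intro (g : G)
      show Etale ((Sigma.ι (fun _ : G => U.left) g ≫ e.hom) ≫ t.left)
      rw [← hLe]
      haveI := het g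
      infer_instance

end Groth.Agent.S9889
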