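import Groth.Statements.S9890
import Groth.Agent.AlgSpBoot.QuotDiag
import Groth.Agent.S9889

set_option autoImplicit false
set_option backward.isDefEq.respectTransparency false
universe u
open CategoryTheory CategoryTheory.Limits AlgebraicGeometry
open AlgSp

namespace Groth.Agent.S9890

/-- Let a finite group `G` act freely (no non-identity element fixes a point together with its residue
field) by `S`-automorphisms on a scheme `U` over `S`, and let `s, t : R = ∐_{g ∈ G} U ⟶ U` be the
identity and the action. When `U ⟶ S` is quasi-separated, so is the quotient sheaf `U/G = U/R` over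
`S`; when `U ⟶ S` is separated, `U/G` is also separated over `S`. -/
theorem result (S : Scheme.{u}) (U : Over S) (G : Type u) [Group G] [Finite G]
    (ρ : G →* Aut U)
    (hfree : ∀ (g : G) (x : U.left), g ≠ 1 →
      U.left.fromSpecResidueField x ≫ (ρ g).hom.left ≠ U.left.fromSpecResidueField x)
    (c : Cofan (fun _ : G => U)) (hc : IsColimit c) (s t : c.pt ⟶ U)
    (hs : ∀ g, c.inj g ≫ s = 𝟙 U) (ht : ∀ g, c.inj g ≫ t = (ρ g).hom) :
    (QuasiSeparated U.hom → AlgSp.IsQuasiSeparatedSp (QuotSh.quot Scheme.fppfPrecoverage s t)) ∧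
      (IsSeparated U.hom → AlgSp.IsSeparatedSp (QuotSh.quot Scheme.fppfPrecoverage s t)) := by
  have hrel := S9889.result S U G ρ hfree c hc s t hs ht
  haveI := hrel.etale_right
  have hcL : IsColimit (Cofan.mk c.pt.left fun g => (c.inj g).left) :=
    isColimitCofanMkObjOfIsColimit (Over.forget S) (f := fun _ : G => U) (fun g => c.inj g)
      (hc.ofIsoColimit (Cofan.ext (Iso.refl _) (fun g => by simp)))
  let e : (∐ fun _ : G => U.left) ≅ c.pt.left := (colimit.isColimit _).coconePointUniqueUpToIso hcL
  have hcov : ∀ x : c.pt.left, ∃ g z, (c.inj g).left z = x := fun x => by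
    obtain ⟨⟨g, y⟩, hy⟩ := (sigmaMk (fun _ : G => U.left)).surjective (e.inv x)
    refine ⟨g, y, ?_⟩
    rw [sigmaMk_mk] at hy
    rw [show (c.inj g).left = Sigma.ι (fun _ : G => U.left) g ≫ e.hom from
      ((colimit.isColimit _).comp_coconePointUniqueUpToIso_hom hcL ⟨g⟩).symm, Scheme.Hom.comp_apply, hy,
      ← Scheme.Hom.comp_apply, e.inv_hom_id]
    rfl
  haveI : ∀ g, IsIso ((c.inj g).left ≫ t.left) := fun g => by
    rw [← Over.comp_left, ht g]; haveI : IsIso (ρ g).hom := Iso.isIso_hom _
    exact inferInstanceAs (IsIso ((Over.forget S).map (ρ g).hom))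
  haveI : UniversallyClosed t.left := AlgSpBoot.universallyClosed_of_parts t.left _ (fun g => (c.inj g).left) hcov
  have hQ := (IsPullback.of_hasPullback (AlgSpc.toBase U) (AlgSpc.toBase U)).map (Over.forget S)
  refine ⟨fun hU => ?_, fun hU => ?_⟩
  · refine AlgSpBoot.repWith_diag_quot hrel fun l hl₁ hl₂ => ?_
    haveI : QuasiSeparated (pullback.fst (AlgSpc.toBase U) (AlgSpc.toBase U)).left :=
      MorphismProperty.of_isPullback (P := @QuasiSeparated) hQ.flip (by simpa [AlgSpc.toBase] using hU)
    haveI : QuasiCompact (l.left ≫ (pullback.fst (AlgSpc.toBase U) (AlgSpc.toBase U)).left) := by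
      rw [← Over.comp_left, hl₁]; infer_instance
    exact QuasiCompact.of_comp l.left (pullback.fst (AlgSpc.toBase U) (AlgSpc.toBase U)).left
  · refine AlgSpBoot.repWith_diag_quot hrel fun l hl₁ hl₂ => ?_
    haveI : IsSeparated (pullback.fst (AlgSpc.toBase U) (AlgSpc.toBase U)).left :=
      MorphismProperty.of_isPullback (P := @IsSeparated) hQ.flip (by simpa [AlgSpc.toBase] using hU)
    haveI : UniversallyClosed (l.left ≫ (pullback.fst (AlgSpc.toBase U) (AlgSpc.toBase U)).left) := by
      rw [← Over.comp_left, hl₁]; infer_instance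
    haveI : LocallyOfFiniteType (l.left ≫ (pullback.fst (AlgSpc.toBase U) (AlgSpc.toBase U)).left) := by
      rw [← Over.comp_left, hl₁]; infer_instance
    haveI : UniversallyClosed l.left :=
      UniversallyClosed.of_comp_of_isSeparated l.left (pullback.fst (AlgSpc.toBase U) (AlgSpc.toBase U)).left
    haveI : LocallyOfFiniteType l.left :=
      locallyOfFiniteType_of_comp l.left (pullback.fst (AlgSpc.toBase U) (AlgSpc.toBase U)).left
    haveI : Mono l := ⟨fun {T} a b w => hrel.injective T a b (by rw [← hl₁, reassoc_of% w]) (by rw [← hl₂, reassoc_of% w])⟩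
    haveI : Mono l.left := inferInstanceAs (Mono ((Over.forget S).map l))
    haveI : IsProper l.left := ⟨⟩
    exact (IsClosedImmersion.iff_isProper_and_mono _).2 ⟨inferInstance, inferInstance⟩

end Groth.Agent.S9890
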