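import Groth.Statements.S9905
import Groth.Agent.AlgSpc.TestedMor
import Groth.Agent.AlgSpc.SepProper

set_option autoImplicit false
universe u
open CategoryTheory CategoryTheory.Limits AlgebraicGeometry
open AlgSp

namespace Groth.Agent.S9905

/-- For a morphism of algebraic spaces representable by schemes, separated in the diagonal sense agrees
with separated in the representable sense, and likewise for quasi-separated. -/
theorem result {S : Scheme.{u}} {X Y : AlgSp.Space S} (f : X ⟶ Y)
    (hf : AlgSp.Representable f.hom) :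
    (AlgSp.IsSeparatedMor f.hom ↔ AlgSp.RepWith @IsSeparated f.hom) ∧
    (AlgSp.IsQuasiSeparatedMor f.hom ↔ AlgSp.RepWith @QuasiSeparated f.hom) := by
  refine ⟨⟨fun h => ⟨hf, fun T V g fst k sq => ?_⟩, fun h => ?_⟩, ⟨fun h => ⟨hf, fun T V g fst k sq => ?_⟩, fun h => ?_⟩⟩
  · exact ⟨(AlgSp.repWith_diagonal_yon_map_iff @IsClosedImmersion k).1 (AlgSpc.repWith_diagonal_base_change sq h)⟩
  · exact AlgSpc.repWith_diagonal_of_repWith (P := @IsSeparated) (fun _ _ k (hk : IsSeparated k) => hk.1) h
  · exact ⟨(AlgSp.repWith_diagonal_yon_map_iff @QuasiCompact k).1 (AlgSpc.repWith_diagonal_base_change sq h)⟩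
  · exact AlgSpc.repWith_diagonal_of_repWith (P := @QuasiSeparated) (fun _ _ k (hk : QuasiSeparated k) => hk.1) h

end Groth.Agent.S9905
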