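import Groth.Statements.S9917
import Groth.Agent.AlgSpDesc.AffineCover
import Groth.Agent.AlgSpLoc.Topological

set_option autoImplicit false
universe u
open CategoryTheory CategoryTheory.Limits AlgebraicGeometry
open AlgSp

namespace Groth.Agent.S9917

/-- (1) ⇔ (3): a morphism of algebraic spaces is quasi-compact if and only if its base change to every
affine scheme over the target is a quasi-compact algebraic space. -/
theorem result {S : Scheme.{u}} {X Y : AlgSp.Space S} (f : X ⟶ Y) :
    AlgSp.IsQuasiCompactMor f.hom ↔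
      ∀ (Z : Over S), IsAffine Z.left → ∀ (g : (AlgSp.yon S).obj Z ⟶ Y.obj) (P : AlgSp.Sp S)
        (fst : P ⟶ X.obj) (snd : P ⟶ (AlgSp.yon S).obj Z), IsPullback fst snd f.hom g →
        AlgSp.IsQuasiCompactSp P := by
    refine ⟨fun h Z hZ g P fst snd sq => haveI := hZ; h (AlgSp.IsAlgSpace.yon_obj Z) Groth.Agent.AlgSpc.isQuasiCompactSp_yon g fst snd sq,
      fun h => ?_⟩
    obtain ⟨ι, Z, g, hZ, -, -, hc⟩ := Groth.Agent.AlgSpDesc.exists_affine_cover Y.property
    refine Groth.Agent.AlgSpLoc.quasiCompact_of_cover hc (fun i => IsPullback.of_hasPullback f.hom (g i))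
      X.property Y.property fun i => ?_
    haveI := hZ i
    intro W W' hW hWc k fst snd sq
    have hP : AlgSp.IsAlgSpace W' := Groth.Agent.AlgSpc.isAlgSpace_of_isPullback
      (Groth.Agent.AlgSpc.isAlgSpace_of_isPullback X.property Y.property (AlgSp.IsAlgSpace.yon_obj _) (IsPullback.of_hasPullback f.hom (g i)))
      (AlgSp.IsAlgSpace.yon_obj _) hW sq
    obtain ⟨V, a, hV, ha, has⟩ := (Groth.Agent.AlgSpc.isQuasiCompactSp_iff_affine hW).1 hWc
    have sV := IsPullback.of_hasPullback snd a
    have hPV := h V hV (a ≫ k ≫ g i) _ _ _ ((sV.paste_horiz sq).paste_horiz (IsPullback.of_hasPullback f.hom (g i)) |> fun s => by simpa [Category.assoc] using s)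
    refine (Groth.Agent.AlgSpc.isQuasiCompactSp_iff hP).2 ?_
    haveI := Groth.Agent.AlgSpc.compactSpace_points hPV
    refine ⟨?_⟩
    convert isCompact_range (AlgSp.Points.continuous_map (pullback.fst snd a))
    refine (Set.eq_univ_of_forall fun x => ?_).symm
    obtain ⟨v, hv⟩ := Groth.Agent.AlgSpc.surjective_ofPt has (AlgSp.Points.map snd x)
    obtain ⟨z, hz, -⟩ := Groth.Agent.AlgSpc.exists_point_of_isPullback sV x (AlgSp.Points.ofScheme V v)
      (by rw [← AlgSp.Points.ofPt_eq_map_ofScheme]; exact hv.symm)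
    exact ⟨z, hz⟩

end Groth.Agent.S9917
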