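import Groth.Statements.S9931
import Groth.Agent.AlgSpc.TestedMor

set_option autoImplicit false
universe u
open CategoryTheory CategoryTheory.Limits AlgebraicGeometry
open AlgSp

namespace Groth.Agent.S9931

/-- (3) ⇒ (1): for P = closed immersion, open immersion or immersion, a morphism of algebraic spaces
whose base change to every affine scheme over the target is representable with P is itself
representable with P. -/
theorem result {S : Scheme.{u}} (P : MorphismProperty Scheme.{u})
    (hP : P = @IsClosedImmersion ∨ P = @IsOpenImmersion ∨ P = @IsImmersion) {X Y : AlgSp.Space S} (f : X ⟶ Y)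
    (h : ∀ (Z : Over S), IsAffine Z.left → ∀ (g : (AlgSp.yon S).obj Z ⟶ Y.obj) (P₀ : AlgSp.Sp S)
      (fst : P₀ ⟶ X.obj) (snd : P₀ ⟶ (AlgSp.yon S).obj Z), IsPullback fst snd f.hom g → AlgSp.RepWith P snd) :
    AlgSp.RepWith P f.hom := by
  have : IsZariskiLocalAtTarget P := by
    rcases hP with rfl | rfl | rfl <;> infer_instance
  refine Groth.Agent.AlgSpLoc.repWith_of_tested f.hom fun Z hZ g => ?_
  have hs := h Z hZ g _ _ _ (IsPullback.of_hasPullback f.hom g)
  obtain ⟨W, fst, k, sq⟩ := Groth.Agent.AlgSpc.exists_sq hs.1 (𝟙 ((AlgSp.yon S).obj Z))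
  refine ⟨W, k, fst ≫ pullback.fst f.hom g, ?_, hs.2 _ fst k sq⟩
  simpa using sq.paste_horiz (IsPullback.of_hasPullback f.hom g)

end Groth.Agent.S9931
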