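import Groth.Statements.S9933
import Groth.Agent.AlgSpDesc.DiagCancel

set_option autoImplicit false
universe u
open CategoryTheory CategoryTheory.Limits AlgebraicGeometry
open AlgSp

namespace Groth.Agent.S9933

/-- Permanence for Z -> Y -> X: the five representable finiteness/separation properties of Z -> X pass
to Z -> Y, and a closed immersion Z -> X with Y -> X separated gives a closed immersion Z -> Y. -/
theorem result {S : Scheme.{u}} {Z Y X : AlgSp.Space S} (a : Z ⟶ Y) (b : Y ⟶ X) :
    ((AlgSp.Representable (a ≫ b).hom ∧ AlgSp.RepWith @LocallyOfFiniteType (a ≫ b).hom ∧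
        AlgSp.RepWith (@LocallyQuasiFinite ⊓ @LocallyOfFiniteType) (a ≫ b).hom ∧
        AlgSp.RepWith @IsSeparated (a ≫ b).hom ∧
        AlgSp.RepWith (MorphismProperty.monomorphisms Scheme.{u}) (a ≫ b).hom) →
      (AlgSp.Representable a.hom ∧ AlgSp.RepWith @LocallyOfFiniteType a.hom ∧
        AlgSp.RepWith (@LocallyQuasiFinite ⊓ @LocallyOfFiniteType) a.hom ∧
        AlgSp.RepWith @IsSeparated a.hom ∧
        AlgSp.RepWith (MorphismProperty.monomorphisms Scheme.{u}) a.hom)) ∧
    (AlgSp.RepWith @IsClosedImmersion (a ≫ b).hom → AlgSp.IsSeparatedMor b.hom →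
      AlgSp.RepWith @IsClosedImmersion a.hom) := by
    obtain ⟨h1, h2, h3, h4, h5⟩ := Groth.Agent.S9900.result b
    exact ⟨fun ⟨g1, g2, g3, g4, g5⟩ =>
      ⟨Groth.Agent.AlgSpDesc.representable_of_comp_diagonal a.hom b.hom g1 h1,
        Groth.Agent.AlgSpDesc.repWith_of_comp_diagonal a.hom b.hom g2 h2,
        Groth.Agent.AlgSpDesc.repWith_of_comp_diagonal a.hom b.hom g3 h5,
        Groth.Agent.AlgSpDesc.repWith_of_comp_diagonal a.hom b.hom g4 h4,
        Groth.Agent.AlgSpDesc.repWith_of_comp_diagonal a.hom b.hom g5 h3⟩,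
      fun g hb => Groth.Agent.AlgSpDesc.repWith_of_comp_diagonal a.hom b.hom g hb⟩

end Groth.Agent.S9933
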