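import Groth.Statements.S9940
import Groth.Agent.AlgSpc.Universal
import Groth.Agent.AlgSpc.FibreProd

set_option autoImplicit false
set_option backward.isDefEq.respectTransparency false
universe u
open CategoryTheory CategoryTheory.Limits AlgebraicGeometry
open AlgSp
open Groth.Agent

namespace Groth.Agent.S9940

/-- (4) ⇒ (1): universal injectivity of a morphism of algebraic spaces descends along a surjective base
change from a scheme. -/
theorem result {S : Scheme.{u}} {X Y : AlgSp.Space S} (f : X ⟶ Y)
    (Z : Over S) (g : (AlgSp.yon S).obj Z ⟶ Y.obj) (hg : AlgSp.IsSurjectiveMor g) {P : AlgSp.Sp S}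
    (fst : P ⟶ X.obj) (snd : P ⟶ (AlgSp.yon S).obj Z) (sq : IsPullback fst snd f.hom g)
    (h : AlgSp.IsUnivInjectiveMor snd) : AlgSp.IsUnivInjectiveMor f.hom := by
    intro W W' hW w fst' snd' sq' x y hxy
    let Z₂ := pullback w g
    have sZ := IsPullback.of_hasPullback w g
    obtain ⟨z₀, hz₀⟩ := hg (Points.map w (Points.map snd' x))
    obtain ⟨z, hz₁, -⟩ := Groth.Agent.AlgSpc.exists_point_of_isPullback sZ (Points.map snd' x) z₀ hz₀.symm
    have sA := IsPullback.of_hasPullback snd' (pullback.fst w g)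
    have sB : IsPullback (pullback.fst snd' (pullback.fst w g) ≫ fst') (pullback.snd snd' (pullback.fst w g))
        f.hom (pullback.snd w g ≫ g) := by
      rw [← pullback.condition]; exact sA.paste_horiz sq'
    have hinj := h (Groth.Agent.AlgSpc.isAlgSpace_of_isPullback hW Y.property (IsAlgSpace.yon_obj Z) sZ) _ _ _
      (sB.of_right' sq)
    obtain ⟨x', hx₁, hx₂⟩ := Groth.Agent.AlgSpc.exists_point_of_isPullback sA x z hz₁.symm
    obtain ⟨y', hy₁, hy₂⟩ := Groth.Agent.AlgSpc.exists_point_of_isPullback sA y z (hxy.symm.trans hz₁.symm)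
    rw [← hx₁, ← hy₁, hinj (hx₂.trans hy₂.symm)]

end Groth.Agent.S9940
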