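import Groth.Statements.S9945
import Groth.Agent.AlgSpc.AffineLocal
import Groth.Agent.AlgSpc.Basic
import Groth.Agent.AlgSpc.SepLQF
import Groth.Agent.AlgSpc.EtLocInst
import Groth.Agent.AlgSpc.FppfGlue
import Groth.Agent.AlgSpc.Compact
import Mathlib.AlgebraicGeometry.Morphisms.QuasiFinite

set_option autoImplicit false
set_option backward.isDefEq.respectTransparency false
universe u
open CategoryTheory CategoryTheory.Limits AlgebraicGeometry
open AlgSp

namespace Groth.Agent.S9945

/-- Over a base scheme with quasi-separated underlying space, every morphism from the spectrum of an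
Artinian ring to an algebraic space quasi-separated over S is affine. (The published statement
assumes X quasi-separated in the absolute sense over any base; this row assumes the base
quasi-separated and X quasi-separated over it, which on such bases is the same condition.) -/
theorem result {S : Scheme.{u}} [QuasiSeparatedSpace ↥S] (X : AlgSp.Space S)
    (hX : AlgSp.IsQuasiSeparatedSp X.obj) (A : Type u) [CommRing A] [IsArtinianRing A]
    (str : Spec (CommRingCat.of A) ⟶ S) (a : (AlgSp.yon S).obj (Over.mk str) ⟶ X.obj) :
    AlgSp.IsAffineMor a := by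
    open Groth.Agent.AlgSpc in
      refine isAffineMor_of_etale_affine (IsAlgSpace.yon_obj _) X.property fun V hV b hb P fst snd sq => ?_
      haveI : IsAffine V.left := hV
      let A₀ : Over S := Over.mk str
      let T₀ : Over S := Over.mk (𝟙 S)
      let qa : A₀ ⟶ T₀ := Over.homMk str (Category.comp_id _)
      let qv : V ⟶ T₀ := Over.homMk V.hom (Category.comp_id _)
      let Q : Over S := pullback qa qv
      let g : (AlgSp.yon S).obj Q ⟶ X.obj ⨯ X.obj :=
        Limits.prod.lift ((AlgSp.yon S).map (pullback.fst qa qv) ≫ a) ((AlgSp.yon S).map (pullback.snd qa qv) ≫ b)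
      obtain ⟨W, w, k, sqW⟩ := exists_sq hX.1 g
      have hk : QuasiCompact k.left := hX.2 g w k sqW
      haveI : CompactSpace ↥Q.left := by
        haveI : QuasiSeparated (terminal.from S) := (quasiSeparatedSpace_iff_quasiSeparated S).1 inferInstance
        haveI : QuasiCompact (V.hom ≫ terminal.from S) := by rw [terminal.comp_from]; infer_instance
        haveI : QuasiCompact V.hom := QuasiCompact.of_comp V.hom (terminal.from S)
        haveI : QuasiCompact (pullback.fst qa qv).left :=
          MorphismProperty.of_isPullback (P := @QuasiCompact)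
            (FppfDescent.isPullback_forget (IsPullback.of_hasPullback qa qv)).flip ‹QuasiCompact V.hom›
        haveI : CompactSpace ↥A₀.left := inferInstanceAs (CompactSpace ↥(Spec (CommRingCat.of A)))
        exact QuasiCompact.compactSpace_of_compactSpace (pullback.fst qa qv).left
      haveI := hk
      haveI : CompactSpace ↥W.left := QuasiCompact.compactSpace_of_compactSpace k.left
      -- `W` is the fibre product
      have h1 : w = (AlgSp.yon S).map (k ≫ pullback.fst qa qv) ≫ a := by
        simpa [g] using congrArg (· ≫ Limits.prod.fst) sqW.w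
      have h2 : w = (AlgSp.yon S).map (k ≫ pullback.snd qa qv) ≫ b := by
        simpa [g] using congrArg (· ≫ Limits.prod.snd) sqW.w
      have sqP : IsPullback ((AlgSp.yon S).map (k ≫ pullback.fst qa qv)) ((AlgSp.yon S).map (k ≫ pullback.snd qa qv)) a b := by
        have hT : IsTerminal ((AlgSp.yon S).obj T₀) := IsTerminal.isTerminalObj (AlgSp.yon S) _ Over.mkIdTerminal
        have sqT := (IsPullback.of_hasPullback qa qv).map (AlgSp.yon S)
        let l : ∀ c : PullbackCone a b, c.pt ⟶ (AlgSp.yon S).obj Q := fun c => sqT.lift c.fst c.snd (hT.hom_ext _ _)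
        have hl : ∀ c : PullbackCone a b, (c.fst ≫ a) ≫ Limits.diag X.obj = l c ≫ g := by
          intro c
          apply Limits.prod.hom_ext
          · simp [g, l]
          · simp [g, l, c.condition]
        refine IsPullback.of_isLimit' ⟨h1.symm.trans h2⟩ (PullbackCone.IsLimit.mk _
          (fun c => sqW.lift _ _ (hl c)) (fun c => ?_) (fun c => ?_) (fun c m h₁ h₂ => ?_))
        · rw [Functor.map_comp, ← Category.assoc, sqW.lift_snd]; simp [l]
        · rw [Functor.map_comp, ← Category.assoc, sqW.lift_snd]; simp [l]
        · refine sqW.hom_ext ?_ ?_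
          · rw [sqW.lift_fst, h1, ← Category.assoc, h₁]
          · rw [sqW.lift_snd]
            refine sqT.hom_ext ?_ ?_
            · simpa [l] using h₁
            · simpa [l] using h₂
      have he : Etale (k ≫ pullback.fst qa qv).left :=
        (AlgSp.repWith_yon_map_iff @Etale _).1 (repWith_of_isPullback sqP.flip hb)
      haveI := lqf_of_etale (k ≫ pullback.fst qa qv).left
      haveI : IsArtinianRing (CommRingCat.of A) := ‹IsArtinianRing A›
      haveI : IsLocallyArtinian A₀.left := inferInstanceAs (IsLocallyArtinian (Spec (CommRingCat.of A)))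
      haveI : IsArtinianScheme W.left :=
        { toIsLocallyArtinian := .of_locallyQuasiFinite (k ≫ pullback.fst qa qv).left, toCompactSpace := inferInstance }
      exact ⟨W, inferInstance, ⟨sqP.isoIsPullback _ _ sq⟩⟩

end Groth.Agent.S9945
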