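import Groth.Statements.S9953
import Groth.Agent.AlgSpc.Listed

set_option autoImplicit false
universe u
open CategoryTheory CategoryTheory.Limits AlgebraicGeometry
open AlgSp

namespace Groth.Agent.S9953

/-- An immersion of algebraic spaces is locally of finite type. -/
theorem result {S : Scheme.{u}} {X Y : AlgSp.Space S} (f : X ⟶ Y)
    (hf : AlgSp.RepWith @IsImmersion f.hom) : AlgSp.LocP @LocallyOfFiniteType f.hom := by
  exact Groth.Agent.AlgSpc.locP_of_repWith (fun e f he hf => Groth.Agent.AlgSpc.EtLoc.precomp e f he hf)
    (Groth.Agent.AlgSpc.repWith_mono (Q := @LocallyOfFiniteType) (fun _ _ g (hg : IsImmersion g) => inferInstance) hf)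

end Groth.Agent.S9953
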