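import Groth.Statements.S9957
import Groth.Agent.AlgSpDesc.QC
import Groth.Agent.AlgSpLoc.FlatFibres

set_option autoImplicit false
universe u
open CategoryTheory CategoryTheory.Limits AlgebraicGeometry
open AlgSp

namespace Groth.Agent.S9957

/-- The source of a morphism of finite presentation whose target is Noetherian is itself Noetherian,
Noetherian meaning quasi-compact, quasi-separated over S and locally Noetherian. (The published
statement uses quasi-separatedness in the absolute sense; this row uses quasi-separatedness over S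
in hypothesis and conclusion.) -/
theorem result {S : Scheme.{u}} {X Y : AlgSp.Space S} (f : X ⟶ Y)
    (hf : AlgSp.IsFinitePresentationMor f.hom)
    (hY : AlgSp.IsQuasiCompactSp Y.obj ∧ AlgSp.IsQuasiSeparatedSp Y.obj ∧ AlgSp.IsLocNoethSp Y.obj) :
    AlgSp.IsQuasiCompactSp X.obj ∧ AlgSp.IsQuasiSeparatedSp X.obj ∧ AlgSp.IsLocNoethSp X.obj := by
    refine ⟨hf.2.1 Y.property hY.1 (𝟙 Y.obj) (𝟙 X.obj) f.hom (IsPullback.of_horiz_isIso ⟨by simp⟩), ?_, ?_⟩
    · obtain ⟨q⟩ := Groth.Agent.AlgSpDesc.exists_toBase Y.property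
      refine Groth.Agent.AlgSpDesc.isQuasiSeparatedSp_of_mor (fun w => ?_) (f.hom ≫ q)
      rw [Groth.Agent.AlgSpc.yon_toBase_unique w (f.hom ≫ q)]
      exact Groth.Agent.AlgSpc.repWith_diagonal_comp hf.2.2
        (Groth.Agent.AlgSpDesc.isQuasiSeparatedMor_of_sp Y.property hY.2.1 q)
    · obtain ⟨U, V, a, b, h, ha, has, hb, -, w⟩ := Groth.Agent.AlgSpc.exists_chart X.property Y.property f.hom
      haveI := Groth.Agent.AlgSpLoc.isLocallyNoetherian_chart hY.2.2 hb
      haveI : LocallyOfFinitePresentation h.left := hf.1 a b h ha hb w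
      exact ⟨U, a, ha, has, LocallyOfFiniteType.isLocallyNoetherian h.left⟩

end Groth.Agent.S9957
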