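import Groth.Statements.S9962
import Groth.Agent.AlgSpc.Listed
import Mathlib.AlgebraicGeometry.Morphisms.UniversallyOpen

set_option autoImplicit false
universe u
open CategoryTheory CategoryTheory.Limits AlgebraicGeometry
open AlgSp

namespace Groth.Agent.S9962

/-- A flat morphism locally of finite presentation between algebraic spaces is universally open. -/
theorem result {S : Scheme.{u}} {X Y : AlgSp.Space S} (f : X ⟶ Y)
    (hfl : AlgSp.LocP @Flat f.hom) (hfp : AlgSp.LocP @LocallyOfFinitePresentation f.hom) :
    AlgSp.IsUnivOpenMor f.hom := by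
  intro Z Z' hZ g fst snd sq
  have hZ' : AlgSp.IsAlgSpace Z' := Groth.Agent.AlgSpc.isAlgSpace_of_isPullback X.property Y.property hZ sq
  have h1 : AlgSp.LocP (@Flat : MorphismProperty Scheme.{u}) snd :=
    Groth.Agent.AlgSpc.locP_base_change X.property Y.property hZ sq hfl
  have h2 : AlgSp.LocP (@LocallyOfFinitePresentation : MorphismProperty Scheme.{u}) snd :=
    Groth.Agent.AlgSpc.locP_base_change X.property Y.property hZ sq hfp
  obtain ⟨U, V, a, b, h, ha, has, hb, hbs, w⟩ := Groth.Agent.AlgSpc.exists_chart hZ' hZ snd
  have : Flat h.left := h1 a b h ha hb w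
  have : LocallyOfFinitePresentation h.left := h2 a b h ha hb w
  exact Groth.Agent.AlgSpc.isOpenMap_of_chart has hb w h.left.isOpenMap

end Groth.Agent.S9962
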