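import Groth.Statements.S9967
import Groth.Agent.AlgSpImage.Main
import Groth.Agent.AlgSpLimit.ClosedApps

set_option backward.isDefEq.respectTransparency false
set_option linter.style.haveILetI false

set_option autoImplicit false
universe u
open CategoryTheory CategoryTheory.Limits AlgebraicGeometry
open AlgSp

namespace Groth.Agent.S9967

/-- For a separated f : X -> Y and a section s of f over a quasi-compact open V of Y, the scheme
theoretic image of s maps isomorphically to Y over V. -/
theorem result {S : Scheme.{u}} {X Y V Y' : AlgSp.Space S} (f : X ⟶ Y) (j : V ⟶ Y)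
    (hj : AlgSp.RepWith @IsOpenImmersion j.hom) (hjq : AlgSp.IsQuasiCompactMor j.hom) (hf : AlgSp.IsSeparatedMor f.hom)
    (s : V ⟶ X) (hs : s ≫ f = j) (c : Y' ⟶ X) (hc : AlgSp.IsSchImage s.hom c.hom)
    {P : AlgSp.Sp S} (fst : P ⟶ Y'.obj) (snd : P ⟶ V.obj) (sq : IsPullback fst snd (c ≫ f).hom j.hom) :
    IsIso snd := by
  haveI : Mono j.hom := Groth.Agent.AlgSpc.mono_of_repWith (fun _ _ e (_ : IsOpenImmersion e) => inferInstance) hj
  haveI : Mono c.hom := Groth.Agent.AlgSpLimit.mono_closed hc.1
  have hs' : s.hom ≫ f.hom = j.hom := congrArg InducedCategory.Hom.hom hs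
  have hfq : IsQuasiSeparatedMor f.hom :=
    Groth.Agent.AlgSpc.repWith_mono (Q := @QuasiCompact) (fun _ _ k (_ : IsClosedImmersion k) => inferInstance) hf
  have hsq : IsQuasiCompactMor s.hom :=
    Groth.Agent.AlgSpc.isQuasiCompactMor_of_comp V.property X.property Y.property (by rw [hs']; exact hjq) hfq
  have sqXV := IsPullback.of_hasPullback f.hom j.hom
  have hXV : IsAlgSpace (pullback f.hom j.hom) :=
    Groth.Agent.AlgSpc.isAlgSpace_of_isPullback X.property Y.property V.property sqXV
  let s' : V.obj ⟶ pullback f.hom j.hom := pullback.lift s.hom (𝟙 _) (by rw [hs', Category.id_comp])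
  have hs₁ : s' ≫ pullback.fst _ _ = s.hom := pullback.lift_fst _ _ _
  have hs₂ : s' ≫ pullback.snd _ _ = 𝟙 _ := pullback.lift_snd _ _ _
  have hsep : IsSeparatedMor (pullback.snd f.hom j.hom) :=
    Groth.Agent.AlgSpc.repWith_diagonal_base_change sqXV hf
  have hcl : RepWith @IsClosedImmersion s' := Groth.Agent.AlgSpLimit.repWith_section _ _ hs₂ hsep
  have sqV : IsPullback (𝟙 V.obj) s' s.hom (pullback.fst f.hom j.hom) := by
    refine ⟨⟨by rw [Category.id_comp, hs₁]⟩, ⟨PullbackCone.IsLimit.mk _ (fun t => t.fst)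
      (fun t => Category.comp_id _) (fun t => ?_) (fun t m h₁ _ => by rw [← h₁, Category.comp_id])⟩⟩
    have hv : t.fst = t.snd ≫ pullback.snd _ _ := by
      rw [← cancel_mono j.hom, Category.assoc, ← pullback.condition, ← Category.assoc, ← t.condition,
        Category.assoc, hs']
    apply pullback.hom_ext
    · rw [Category.assoc, hs₁, t.condition]
    · rw [Category.assoc, hs₂, Category.comp_id, hv]
  have hj' : RepWith @IsOpenImmersion (pullback.fst f.hom j.hom) :=
    Groth.Agent.AlgSpc.repWith_of_isPullback sqXV.flip hj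
  have hfl : LocP @Flat (pullback.fst f.hom j.hom) := Groth.Agent.AlgSpc.locP_of_repWith
    (fun e g he hg => Groth.Agent.AlgSpc.EtLoc.precomp e g he hg)
    (Groth.Agent.AlgSpc.repWith_mono (Q := @Flat) (fun _ _ k (_ : IsOpenImmersion k) => inferInstance) hj')
  have sqc : IsPullback fst snd (c.hom ≫ f.hom) j.hom := sq
  let t : P ⟶ pullback f.hom j.hom := pullback.lift (fst ≫ c.hom) snd (by rw [Category.assoc]; exact sqc.w)
  have ht₁ : t ≫ pullback.fst _ _ = fst ≫ c.hom := pullback.lift_fst _ _ _
  have ht₂ : t ≫ pullback.snd _ _ = snd := pullback.lift_snd _ _ _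
  have sqP : IsPullback fst t c.hom (pullback.fst f.hom j.hom) :=
    IsPullback.of_bot (by rw [ht₂]; exact sqc) ht₁.symm sqXV
  have hP : IsAlgSpace P := Groth.Agent.AlgSpc.isAlgSpace_of_isPullback Y'.property Y.property V.property sqc
  have himg := Groth.Agent.AlgSpImage.isSchImage_flat_bc V.property X.property hsq Y'.property hc hXV V.property hP
    hfl sqV sqP
  have himg' : IsSchImage s' s' := ⟨hcl, ⟨𝟙 _, Category.id_comp _⟩, fun Z' i' _ _ h => h⟩
  obtain ⟨e, he⟩ := Groth.Agent.AlgSpImage.exists_iso_schImage hP V.property himg himg'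
  rw [← ht₂, ← he, Category.assoc, hs₂, Category.comp_id]
  infer_instance

end Groth.Agent.S9967
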