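import Groth.Statements.S9972
import Groth.Agent.AlgSpImage.Dense

set_option autoImplicit false
universe u
open CategoryTheory CategoryTheory.Limits AlgebraicGeometry
open AlgSp

namespace Groth.Agent.S9972

/-- Two morphisms to an algebraic space separated over B that agree on an open subspace whose scheme
theoretic closure is everything are equal. -/
theorem result {S : Scheme.{u}} {U X Y B : AlgSp.Space S} (q : Y ⟶ B)
    (hq : AlgSp.IsSeparatedMor q.hom) (f g : X ⟶ Y) (hfg : f ≫ q = g ≫ q) (j : U ⟶ X)
    (hj : AlgSp.RepWith @IsOpenImmersion j.hom) (hcl : AlgSp.IsSchImage j.hom (𝟙 X.obj)) (heq : j ≫ f = j ≫ g) :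
    f = g := by
  let d : X.obj ⟶ pullback q.hom q.hom := pullback.lift f.hom g.hom (congrArg (fun m => m.hom) hfg)
  have heq' : j.hom ≫ f.hom = j.hom ≫ g.hom := congrArg (fun m => m.hom) heq
  have sq := IsPullback.of_hasPullback (pullback.diagonal q.hom) d
  have hd : RepWith @IsClosedImmersion (pullback.diagonal q.hom) := hq
  have hc : RepWith @IsClosedImmersion (pullback.snd (pullback.diagonal q.hom) d) :=
    Groth.Agent.AlgSpc.repWith_of_isPullback sq hd
  obtain ⟨k, hk⟩ := hcl.2.2 (pullback.snd (pullback.diagonal q.hom) d)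
    (Groth.Agent.AlgSpLimit.isAlgSpace_of_representable hc.1 X.property) hc
    ⟨pullback.lift (j.hom ≫ f.hom) j.hom (by
      apply pullback.hom_ext
      · simp only [Category.assoc, pullback.diagonal_fst, Category.comp_id, d]
        rw [pullback.lift_fst]
      · simp only [Category.assoc, pullback.diagonal_snd, Category.comp_id, d]
        rw [pullback.lift_snd, heq']), pullback.lift_snd _ _ _⟩
  have h1 := congrArg (fun m => k ≫ m ≫ pullback.fst q.hom q.hom) sq.w
  have h2 := congrArg (fun m => k ≫ m ≫ pullback.snd q.hom q.hom) sq.w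
  simp only [Category.assoc, pullback.diagonal_fst, pullback.diagonal_snd, d, pullback.lift_fst, pullback.lift_snd,
    Category.comp_id, reassoc_of% hk] at h1 h2
  apply ObjectProperty.hom_ext
  exact h1.symm.trans h2

end Groth.Agent.S9972
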