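import Groth.Statements.S9973
import Groth.Agent.AlgSpImage.Dense

set_option autoImplicit false
universe u
open CategoryTheory CategoryTheory.Limits AlgebraicGeometry
open AlgSp

namespace Groth.Agent.S9973

/-- The inverse image of a quasi-compact scheme theoretically dense open under a flat morphism of
algebraic spaces is scheme theoretically dense. -/
theorem result {S : Scheme.{u}} {X Y V V' : AlgSp.Space S} (f : X ⟶ Y)
    (hf : AlgSp.LocP @Flat f.hom) (j : V ⟶ Y) (hj : AlgSp.IsSchDense j.hom) (hjq : AlgSp.IsQuasiCompactMor j.hom)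
    (fst : V' ⟶ V) (jX : V' ⟶ X) (sq : IsPullback fst.hom jX.hom j.hom f.hom) : AlgSp.IsSchDense jX.hom := by
  have hjX : RepWith @IsOpenImmersion jX.hom := Groth.Agent.AlgSpc.repWith_of_isPullback sq hj.1
  refine (Groth.Agent.AlgSpImage.isSchDense_iff V'.property X.property jX.hom hjX
    (Groth.Agent.AlgSpc.isQuasiCompactMor_base_change sq hjq)).2 ?_
  exact Groth.Agent.AlgSpImage.isSchImage_flat_bc V.property Y.property hjq Y.property
    ((Groth.Agent.AlgSpImage.isSchDense_iff V.property Y.property j.hom hj.1 hjq).1 hj) X.property V'.property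
    X.property hf sq (IsPullback.of_vert_isIso ⟨by simp⟩ : IsPullback f.hom (𝟙 X.obj) (𝟙 Y.obj) f.hom)

end Groth.Agent.S9973
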