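import Groth.Statements.S9978
import Groth.Agent.AlgSpc.LocP
import Groth.Agent.CAlgNagata.Main
import Groth.Agent.CAlgNagata.Closed
import Groth.Agent.S9400

set_option backward.isDefEq.respectTransparency false

set_option autoImplicit false
universe u
open CategoryTheory CategoryTheory.Limits AlgebraicGeometry
open AlgSp

namespace Groth.Agent.S9978

/-- An algebraic space locally of finite type over a Nagata algebraic space is Nagata. -/
theorem result {S : Scheme.{u}} {X Y : AlgSp.Space S} (f : X ⟶ Y)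
    (hf : AlgSp.LocP @LocallyOfFiniteType f.hom)
    (hY : AlgSp.EtaleLocally (fun U => ∀ V : U.Opens, IsAffineOpen V → CAlg.IsNagata ↑Γ(U, V)) Y.obj) :
    AlgSp.EtaleLocally (fun U => ∀ V : U.Opens, IsAffineOpen V → CAlg.IsNagata ↑Γ(U, V)) X.obj := by
  obtain ⟨V, b, hb, hbs, hV⟩ := hY
  obtain ⟨U₀, a₀, h₁, h₂⟩ := X.property.atlas
  obtain ⟨U, a, h, ha, has, w⟩ := Groth.Agent.AlgSpc.exists_chart_over f.hom h₁ h₂ hb hbs
  refine ⟨U, a, ha, has, fun W hW => ?_⟩
  haveI : LocallyOfFiniteType h.left := hf a b h ha hb w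
  have hex : ∀ x : U.left, ∃ O : U.left.affineOpens, x ∈ O.1 ∧ CAlg.IsNagata ↑Γ(U.left, O.1) := by
    intro x
    obtain ⟨A, hA, hxA, -⟩ := exists_isAffineOpen_mem_and_subset (show h.left x ∈ (⊤ : V.left.Opens) from trivial)
    obtain ⟨O, hO, hxO, hOA⟩ := exists_isAffineOpen_mem_and_subset (show x ∈ h.left ⁻¹ᵁ A from hxA)
    have hft := Scheme.Hom.finiteType_appLE h.left hA hO hOA
    letI := (h.left.appLE A O hOA).hom.toAlgebra
    haveI : Algebra.FiniteType Γ(V.left, A) Γ(U.left, O) := hft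
    exact ⟨⟨O, hO⟩, hxO, Groth.Agent.CAlgNagata.isNagata_of_finiteType (hV A hA) _⟩
  choose O hxO hO using hex
  refine of_affine_open_cover (P := fun W : U.left.affineOpens => CAlg.IsNagata ↑Γ(U.left, W.1)) O
    (eq_top_iff.2 fun x _ => TopologicalSpace.Opens.mem_iSup.2 ⟨x, hxO x⟩) ⟨W, hW⟩ (fun A g hA => ?_)
    (fun A s hs hA => ?_) hO
  · haveI := A.2.isLocalization_basicOpen g
    show CAlg.IsNagata ↑Γ(U.left, U.left.basicOpen g)
    exact Groth.Agent.CAlgNagata.isNagata_localization (Submonoid.powers g) hA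
  · refine Groth.Agent.S9400.result _ (fun g : ↥s => g.1) (by simpa using hs) fun g => ?_
    haveI : IsLocalization (Submonoid.powers g.1) Γ(U.left, U.left.basicOpen g.1) := A.2.isLocalization_basicOpen g.1
    exact Groth.Agent.CAlgNagata.isNagata_of_surjective
      (IsLocalization.algEquiv (Submonoid.powers g.1) Γ(U.left, U.left.basicOpen g.1) (Localization.Away g.1)).toRingEquiv.toRingHom
      (IsLocalization.algEquiv (Submonoid.powers g.1) Γ(U.left, U.left.basicOpen g.1) (Localization.Away g.1)).surjective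
      (hA g)

end Groth.Agent.S9978
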