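import Groth.Statements.S9979
import Groth.Agent.AlgSpImage.Main
import Groth.Agent.LimSch.ClosureRange

set_option backward.isDefEq.respectTransparency false
set_option linter.style.haveILetI false

set_option autoImplicit false
universe u
open CategoryTheory CategoryTheory.Limits AlgebraicGeometry
open AlgSp

namespace Groth.Agent.S9979

theorem comp_aux {S : Scheme.{u}} {X Y Z : AlgSp.Sp S} {f : X ⟶ Y} {i : Z ⟶ Y} {U W C A B : Over S}
    {p : (yon S).obj U ⟶ Y} {w : (yon S).obj W ⟶ X} {q : W ⟶ U} {qZ : (yon S).obj C ⟶ Z} {ι : C ⟶ U}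
    (a : B ⟶ W) (l : B ⟶ A) (c : A ⟶ C)
    (hw : w ≫ f = (yon S).map q ≫ p) (hz : qZ ≫ i = (yon S).map ι ≫ p) (he : a ≫ q = l ≫ c ≫ ι) :
    ((yon S).map a ≫ w) ≫ f = (yon S).map l ≫ ((yon S).map c ≫ qZ) ≫ i := by
  rw [Category.assoc, hw, Category.assoc, hz, ← Functor.map_comp_assoc, ← Functor.map_comp_assoc,
    ← Functor.map_comp_assoc, he, Category.assoc]

/-- Every point of the scheme theoretic image of a quasi-compact morphism is reached by a valuation ring
whose generic point lifts to the source. -/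
theorem result {S : Scheme.{u}} {X Y Z : AlgSp.Space S} (f : X ⟶ Y) (i : Z ⟶ Y)
    (hq : AlgSp.IsQuasiCompactMor f.hom) (hZ : AlgSp.IsSchImage f.hom i.hom) (z : AlgSp.Points Z.obj) :
    ∃ (A : Type u) (_ : CommRing A) (_ : IsDomain A) (_ : ValuationRing A) (str : Spec (CommRingCat.of A) ⟶ S)
      (a : (AlgSp.yon S).obj (Over.mk str) ⟶ Z.obj)
      (x : (AlgSp.yon S).obj (Over.mk (Spec.map (CommRingCat.ofHom (algebraMap A (FractionRing A))) ≫ str)) ⟶ X.obj),
      AlgSp.Points.ofPt a (IsLocalRing.closedPoint A) = z ∧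
      x ≫ f.hom = (AlgSp.yon S).map (Over.homMk (Spec.map (CommRingCat.ofHom (algebraMap A (FractionRing A)))) rfl) ≫
        a ≫ i.hom := by
  obtain ⟨U, W, p, w, q, hp, hps, hqc, h⟩ := Groth.Agent.AlgSpImage.exists_qc_cover X.property Y.property hq
  haveI := hqc
  obtain ⟨qZ, sZ⟩ := Groth.Agent.AlgSpImage.exists_chart_schImage X.property Y.property hp hps Z.property hZ
  obtain ⟨y, hy⟩ := Groth.Agent.AlgSpc.surjective_ofPt hps (Points.map i.hom z)
  obtain ⟨v, hv₁, hv₂⟩ := Groth.Agent.AlgSpc.exists_point_of_sq sZ z y hy.symm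
  let K := Groth.Agent.AlgSpImage.maxIdeal f.hom p
  have hy' : y ∈ Set.range K.subschemeι := ⟨v, hv₂⟩
  rw [Scheme.IdealSheafData.range_subschemeι, show K = q.left.ker from Groth.Agent.AlgSpImage.maxIdeal_eq_ker Y.property hp h,
    Scheme.Hom.support_ker] at hy'
  obtain ⟨w₀, hw₀⟩ := Groth.Agent.LimSch.exists_specializes_of_mem_closure_range q.left hy'
  let β := U.left.presheaf.stalkSpecializes hw₀ ≫ U.left.residue (q.left w₀) ≫ q.left.residueFieldMap w₀
  obtain ⟨A, hA, hloc⟩ := IsLocalRing.exists_factor_valuationRing β.hom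
  let α : U.left.presheaf.stalk y ⟶ CommRingCat.of A := CommRingCat.ofHom (β.hom.codRestrict _ hA)
  haveI : IsLocalHom α.hom := hloc
  let g : Spec (CommRingCat.of A) ⟶ U.left := Spec.map α ≫ U.left.fromSpecStalk y
  let gen := Spec.map (CommRingCat.ofHom (algebraMap A (FractionRing A)))
  let φ : CommRingCat.of (W.left.residueField w₀) ⟶ CommRingCat.of (FractionRing A) :=
    CommRingCat.ofHom (FractionRing.algEquiv A (W.left.residueField w₀)).symm.toRingEquiv.toRingHom
  have hφ : CommRingCat.ofHom A.subtype ≫ φ = CommRingCat.ofHom (algebraMap A (FractionRing A)) := by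
    ext a
    exact (FractionRing.algEquiv A (W.left.residueField w₀)).symm.commutes a
  have hgen : gen ≫ g = (Spec.map φ ≫ W.left.fromSpecResidueField w₀) ≫ q.left := by
    simp only [gen, g]
    rw [← hφ, Spec.map_comp, Category.assoc, Category.assoc, ← Spec.map_comp_assoc α (CommRingCat.ofHom A.subtype),
      show α ≫ CommRingCat.ofHom A.subtype = β from rfl]
    simp only [β, Spec.map_comp, Category.assoc, Scheme.SpecMap_stalkSpecializes_fromSpecStalk]
    exact congrArg (Spec.map φ ≫ ·) (q.left.SpecMap_residueFieldMap_fromSpecResidueField w₀)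
  have hclosed : g (IsLocalRing.closedPoint A) = y := by
    rw [Scheme.Hom.comp_apply]
    have : Spec.map α (IsLocalRing.closedPoint (CommRingCat.of A)) = IsLocalRing.closedPoint (U.left.presheaf.stalk y) :=
      IsLocalRing.comap_closedPoint α.hom
    exact (congrArg _ this).trans (Scheme.fromSpecStalk_closedPoint)
  have hrange : Set.range g ⊆ Set.range K.subschemeι := by
    rw [Scheme.IdealSheafData.range_subschemeι, show K = q.left.ker from Groth.Agent.AlgSpImage.maxIdeal_eq_ker Y.property hp h]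
    rintro _ ⟨t, rfl⟩
    let t₀ : ↥(Spec (CommRingCat.of (FractionRing A))) := IsLocalRing.closedPoint (FractionRing A)
    have h₀ : gen t₀ = (⟨⊥, Ideal.isPrime_bot⟩ : PrimeSpectrum A) := by
      refine PrimeSpectrum.ext ?_
      show (IsLocalRing.maximalIdeal (FractionRing A)).comap (algebraMap A (FractionRing A)) = ⊥
      rw [IsLocalRing.maximalIdeal_eq_bot, ← RingHom.ker_eq_comap_bot]
      exact (RingHom.injective_iff_ker_eq_bot _).mp (IsFractionRing.injective A (FractionRing A))
    have hs : gen t₀ ⤳ t := by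
      rw [h₀]
      exact (PrimeSpectrum.le_iff_specializes _ _).mp (show (⊥ : Ideal A) ≤ _ from bot_le)
    refine (hs.map g.continuous).mem_closed q.left.ker.support.isClosed ?_
    rw [← Scheme.Hom.comp_apply, hgen, Scheme.Hom.comp_apply]
    exact q.left.range_subset_ker_support ⟨_, rfl⟩
  haveI : Surjective (pullback.snd K.subschemeι g) := by
    rw [surjective_iff, ← Set.range_eq_univ, Scheme.Pullback.range_snd, Set.preimage_eq_univ_iff]
    exact hrange
  haveI : IsIso (pullback.snd K.subschemeι g) :=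
    isIso_of_isClosedImmersion_of_surjective _
  let g' := inv (pullback.snd K.subschemeι g) ≫ pullback.fst _ _
  have hg' : g' ≫ K.subschemeι = g := by
    rw [Category.assoc, pullback.condition, IsIso.inv_hom_id_assoc]
  let gC : Over.mk (g ≫ U.hom) ⟶ Over.mk (K.subschemeι ≫ U.hom) := Over.homMk g' (by
    show g' ≫ K.subschemeι ≫ U.hom = g ≫ U.hom
    rw [← Category.assoc, hg'])
  refine ⟨A, inferInstance, inferInstance, inferInstance, g ≫ U.hom, (yon S).map gC ≫ qZ,
    (yon S).map (Over.homMk (Spec.map φ ≫ W.left.fromSpecResidueField w₀)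
      (by
        show (Spec.map φ ≫ W.left.fromSpecResidueField w₀) ≫ W.hom = gen ≫ g ≫ U.hom
        rw [← Category.assoc gen, hgen, Category.assoc _ q.left, Over.w q]) :
      Over.mk (gen ≫ g ≫ U.hom) ⟶ W) ≫ w, ?_, ?_⟩
  · rw [Groth.Agent.AlgSpc.ofPt_comp, ← hv₁]
    congr 1
    apply K.subschemeι.isClosedEmbedding.injective
    show (g' ≫ K.subschemeι) _ = _
    rw [hg', hclosed]
    exact hv₂.symm
  · refine comp_aux _ _ _ h.comm sZ.w (Over.OverMorphism.ext ?_)
    show (Spec.map φ ≫ W.left.fromSpecResidueField w₀) ≫ q.left = gen ≫ g' ≫ K.subschemeι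
    rw [hg', hgen]

end Groth.Agent.S9979
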