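import Groth.Statements.S9982
import Groth.Agent.AlgSpc.Compact
import Groth.Agent.AlgSpc.LocP
import Groth.Agent.AlgSpc.FibreProd
import Groth.Agent.AlgSpc.TestedMor
import Mathlib.AlgebraicGeometry.Morphisms.FinitePresentation

set_option autoImplicit false
set_option backward.isDefEq.respectTransparency false
set_option linter.style.haveILetI false
universe u
open CategoryTheory CategoryTheory.Limits AlgebraicGeometry
open AlgSp

namespace Groth.Agent.S9982

/-- A quasi-compact morphism locally of finite presentation between algebraic spaces maps etale locally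
constructible sets to etale locally constructible sets. -/
theorem result {S : Scheme.{u}} {X Y : AlgSp.Space S} (f : X ⟶ Y)
    (hq : AlgSp.IsQuasiCompactMor f.hom) (hfp : AlgSp.LocP @LocallyOfFinitePresentation f.hom)
    (E : Set (AlgSp.Points X.obj))
    (hE : (∀ (U : Over S) (φ : (AlgSp.yon S).obj U ⟶ X.obj), AlgSp.RepWith @Etale φ →
        Topology.IsLocallyConstructible (AlgSp.Points.ofPt φ ⁻¹' E))) :
    (∀ (U : Over S) (φ : (AlgSp.yon S).obj U ⟶ Y.obj), AlgSp.RepWith @Etale φ →
        Topology.IsLocallyConstructible (AlgSp.Points.ofPt φ ⁻¹' (AlgSp.Points.map f.hom '' E))) := by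
  intro U φ hφ
  refine .of_isOpenCover (AlgebraicGeometry.iSup_affineOpens_eq_top U.left) fun V => ?_
  let Uo : Over S := Over.mk (V.1.ι ≫ U.hom)
  let ι : Uo ⟶ U := Over.homMk V.1.ι rfl
  haveI : IsAffine Uo.left := V.2
  let φo := (AlgSp.yon S).map ι ≫ φ
  have hφo : AlgSp.RepWith @Etale φo :=
    AlgSpc.repWith_comp ((AlgSp.repWith_yon_map_iff @Etale ι).2 (inferInstanceAs (Etale V.1.ι))) hφ
  have hUo := AlgSp.IsAlgSpace.yon_obj Uo
  have sq := IsPullback.of_hasPullback f.hom φo
  have hP := AlgSpc.isAlgSpace_of_isPullback X.property Y.property hUo sq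
  have hPq := hq hUo (AlgSpc.isQuasiCompactSp_yon (T := Uo)) φo _ _ sq
  obtain ⟨W, p, hW, hp, hps⟩ := (AlgSpc.isQuasiCompactSp_iff_affine hP).1 hPq
  let h : W ⟶ Uo := AlgSpc.pre (p ≫ pullback.snd f.hom φo)
  have hh : (AlgSp.yon S).map h = p ≫ pullback.snd f.hom φo := AlgSpc.map_pre _
  haveI : LocallyOfFinitePresentation h.left :=
    (AlgSpc.locP_base_change X.property Y.property hUo sq hfp) p (𝟙 _) h hp (AlgSp.repWith_id _ _) (by rw [hh, Category.comp_id])
  haveI : CompactSpace W.left := inferInstance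
  haveI : QuasiSeparatedSpace Uo.left := inferInstance
  haveI : QuasiCompact h.left := inferInstance
  have hE' := h.left.isLocallyConstructible_image
    (hE W (p ≫ pullback.fst f.hom φo) (AlgSpc.repWith_comp hp (AlgSpc.repWith_of_isPullback sq.flip hφo)))
  convert! hE' using 1
  ext (v : Uo.left)
  change AlgSp.Points.ofPt φ (V.1.ι v) ∈ AlgSp.Points.map f.hom '' E ↔ _
  have e1 : AlgSp.Points.ofPt φ (V.1.ι v) = AlgSp.Points.ofPt φo v := (AlgSpc.ofPt_comp ι φ v).symm
  rw [e1]
  constructor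
  · rintro ⟨x, hx, hxv⟩
    obtain ⟨z, hz₁, hz₂⟩ := AlgSpc.exists_point_of_isPullback sq x (AlgSp.Points.ofScheme Uo v)
      (by rw [hxv, AlgSp.Points.ofPt_eq_map_ofScheme])
    obtain ⟨w, rfl⟩ := (AlgSpc.surjective_ofPt_iff hp.1).1 hps z
    refine ⟨w, ?_, ?_⟩
    · show AlgSp.Points.ofPt (p ≫ pullback.fst f.hom φo) w ∈ E
      rw [← AlgSp.Points.map_ofPt, hz₁]
      exact hx
    · have := congrArg (AlgSp.Points.toScheme Uo) hz₂
      rw [AlgSp.Points.map_ofPt, AlgSp.Points.toScheme_ofScheme, AlgSpc.ofPt_pre,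
        AlgSp.Points.toScheme_ofScheme] at this
      exact this
  · rintro ⟨w, hw, rfl⟩
    refine ⟨AlgSp.Points.ofPt (p ≫ pullback.fst f.hom φo) w, hw, ?_⟩
    rw [AlgSp.Points.map_ofPt, Category.assoc, pullback.condition, ← Category.assoc, ← hh, AlgSpc.ofPt_comp]

end Groth.Agent.S9982
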