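import Groth.Statements.S9987
import Groth.Agent.AlgSpc.Basic

set_option autoImplicit false
universe u
open CategoryTheory CategoryTheory.Limits AlgebraicGeometry Opposite
open AlgSp

namespace Groth.Agent.S9987

/-- For a closed immersion i : Z ⟶ X of algebraic spaces over S (representable, every base change to a
scheme a closed immersion), the comparison map O_X ⟶ i_* O_Z of sheaves of rings on the small etale
site of X is locally surjective. (The published statement also asserts that i_* O_Z is a
quasi-coherent O_X-module and that the kernel of O_X ⟶ i_* O_Z is a quasi-coherent sheaf of ideals;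
those two assertions are the closed-immersion cases of the general facts that direct images along
quasi-compact quasi-separated morphisms preserve quasi-coherence and that the kernel ideal of a
quasi-compact morphism is quasi-coherent, a closed immersion being quasi-compact and separated, and
only the surjectivity is stated here.) -/
theorem result {S : Scheme.{u}} {Z X : AlgSp.Space S} (i : Z ⟶ X)
    (hi : AlgSp.RepWith @IsClosedImmersion i.hom) :
    Presheaf.IsLocallySurjective (AlgSp.etTop X.obj) (AlgSp.bcRingHom hi.1).hom := by
  refine ⟨fun {E} s => ?_⟩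
  have key : ∀ u : ↥E.obj.left.left, ∃ (V : EtOver X.obj) (φ : V ⟶ E), IsAffine V.obj.left.left ∧
      u ∈ Set.range φ.hom.left.left := by
    intro u
    obtain ⟨_, ⟨O, hO, rfl⟩, huO, -⟩ :=
      E.obj.left.left.isBasis_affineOpens.exists_subset_of_mem_open (Set.mem_univ u) isOpen_univ
    let O' : E.obj.left.left.Opens := O
    let ι : Over.mk (O'.ι ≫ E.obj.left.hom) ⟶ E.obj.left := Over.homMk O'.ι rfl
    let V : EtOver X.obj := EtOver.mk ((yon S).map ι ≫ E.obj.hom)
      (AlgSpc.repWith_comp ((repWith_yon_map_iff (P := @Etale) _).2 (inferInstanceAs (Etale O'.ι))) E.property)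
    exact ⟨V, EtOver.homMk ι rfl, hO, ⟨⟨u, huO⟩, rfl⟩⟩
  choose V φ hV hu using key
  refine (etTop X.obj).superset_covering ?_ (ofArrows_mem_etTop V φ fun u => ⟨u, hu u⟩)
  intro W g hg
  rw [Sieve.mem_ofArrows_iff] at hg
  obtain ⟨v, h, rfl⟩ := hg
  refine Sieve.downward_closed _ ?_ h
  haveI : IsClosedImmersion (hi.1.snd (V v).obj.hom).left :=
    hi.2 _ _ _ (hi.1.isPullback (V v).obj.hom)
  obtain ⟨r, hr⟩ := (hi.1.snd (V v).obj.hom).left.app_surjective ⊤ (haveI := hV v; isAffineOpen_top _)
    (((OEtRing Z.obj).obj.map ((EtOver.bc hi.1).map (φ v)).op).hom s).down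
  exact ⟨ULift.up r, congrArg ULift.up hr⟩

end Groth.Agent.S9987
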