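import Groth.Statements.S9989
import Groth.Agent.AlgSpImage.Image
import Groth.Agent.AlgSpLoc.Glue

set_option autoImplicit false
set_option backward.isDefEq.respectTransparency false
universe u
open CategoryTheory CategoryTheory.Limits AlgebraicGeometry Opposite
open AlgSp

namespace Groth.Agent.S9989

/-- For closed subspaces i : Z ⟶ X and i' : Z' ⟶ X of an algebraic space cut out by sheaves of ideals I
and I', one has I ≤ I' exactly when i' factors through i. -/
theorem result {S : Scheme.{u}} {X Z Z' : AlgSp.Space S} (i : Z ⟶ X) (i' : Z' ⟶ X)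
    (I I' : AlgSp.IdealEt X.obj) (h : AlgSp.IsCutOutBy I i.hom) (h' : AlgSp.IsCutOutBy I' i'.hom) :
    I ≤ I' ↔ ∃ k : Z' ⟶ Z, k ≫ i = i' := by
  obtain ⟨hi, rfl⟩ := h
  obtain ⟨hi', rfl⟩ := h'
  haveI := AlgSpLimit.mono_closed hi
  refine ⟨fun hle => ?_, ?_⟩
  swap
  · rintro ⟨k, hk⟩ E hE b hb
    have sq := hi.1.isPullback E.obj.hom
    have sq' := hi'.1.isPullback E.obj.hom
    have e : (hi'.1.fst E.obj.hom ≫ k.hom) ≫ i.hom = (AlgSp.yon S).map (hi'.1.snd E.obj.hom) ≫ E.obj.hom := by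
      rw [Category.assoc, show k.hom ≫ i.hom = i'.hom from congr($(hk).hom), sq'.w]
    let l := AlgSpc.pre (sq.lift _ _ e)
    have hl : l ≫ hi.1.snd E.obj.hom = hi'.1.snd E.obj.hom :=
      (AlgSp.yon S).map_injective (by rw [Functor.map_comp, AlgSpc.map_pre, sq.lift_snd])
    change (hi.1.snd E.obj.hom).left.appTop.hom b = 0 at hb
    change (hi'.1.snd E.obj.hom).left.appTop.hom b = 0
    rw [← hl, Over.comp_left, Scheme.Hom.comp_appTop, CommRingCat.hom_comp, RingHom.comp_apply, hb, map_zero]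
  obtain ⟨U, p, hp, hps⟩ := X.property.atlas
  obtain ⟨W, a, q, sqW⟩ := AlgSpc.exists_sq hi'.1 p
  let B : U.left.affineOpens → Over S := fun V => Over.mk ((q.left ⁻¹ᵁ V.1).ι ≫ W.hom)
  let j : ∀ V, B V ⟶ W := fun V => Over.homMk (q.left ⁻¹ᵁ V.1).ι rfl
  have hx : ∀ V, ∃ x : (AlgSp.yon S).obj (B V) ⟶ Z.obj, x ≫ i.hom = (AlgSp.yon S).map (j V) ≫ a ≫ i'.hom := by
    intro V
    let Vo : Over S := Over.mk (V.1.ι ≫ U.hom)
    let jV : Vo ⟶ U := Over.homMk V.1.ι rfl
    haveI : IsAffine Vo.left := V.2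
    let aV : (AlgSp.yon S).obj Vo ⟶ X.obj := (AlgSp.yon S).map jV ≫ p
    have haV : AlgSp.RepWith @Etale aV := AlgSpc.repWith_comp
      ((AlgSp.repWith_yon_map_iff @Etale jV).2 (inferInstanceAs (Etale V.1.ι))) hp
    let u : B V ⟶ Vo := Over.homMk (q.left ∣_ V.1) (by
      show (q.left ∣_ V.1) ≫ V.1.ι ≫ U.hom = (q.left ⁻¹ᵁ V.1).ι ≫ W.hom
      rw [morphismRestrict_ι_assoc, Over.w q])
    have sq := hi.1.isPullback aV
    have sq' := hi'.1.isPullback aV
    have e : ((AlgSp.yon S).map (j V) ≫ a) ≫ i'.hom = (AlgSp.yon S).map u ≫ aV := by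
      have : j V ≫ q = u ≫ jV := Over.OverMorphism.ext (morphismRestrict_ι _ _).symm
      rw [Category.assoc, sqW.w, ← Functor.map_comp_assoc, this, Functor.map_comp_assoc]
    let l := AlgSpc.pre (sq'.lift _ _ e)
    have hl : l ≫ hi'.1.snd aV = u :=
      (AlgSp.yon S).map_injective (by rw [Functor.map_comp, AlgSpc.map_pre, sq'.lift_snd])
    haveI : IsClosedImmersion (hi.1.snd aV).left := hi.2 _ _ _ sq
    haveI : IsClosedImmersion (hi'.1.snd aV).left := hi'.2 _ _ _ sq'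
    have hker : (hi.1.snd aV).left.ker ≤ u.left.ker := by
      refine le_trans ?_ ((Scheme.Hom.le_ker_comp l.left (hi'.1.snd aV).left).trans_eq (by rw [← Over.comp_left, hl]))
      refine Scheme.IdealSheafData.le_of_isAffine ?_
      rw [Scheme.Hom.ker_apply, Scheme.Hom.ker_apply]
      exact hle (AlgSp.EtOver.mk aV haV) V.2
    obtain ⟨m, hm⟩ := (AlgSpImage.exists_factor_iff_ker (hi.1.snd aV).left u.left).2 hker
    let m' : B V ⟶ _ := Over.homMk m (by rw [← Over.w (hi.1.snd aV), reassoc_of% hm, Over.w u])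
    have hm' : m' ≫ hi.1.snd aV = u := Over.OverMorphism.ext hm
    exact ⟨(AlgSp.yon S).map m' ≫ hi.1.fst aV, by
      rw [Category.assoc, sq.w, ← Functor.map_comp_assoc, hm', ← e, Category.assoc]⟩
  choose x hx using hx
  obtain ⟨y, hy, -⟩ := AlgSpLoc.existsUnique_glue B j (fun V => inferInstanceAs (IsOpenImmersion (q.left ⁻¹ᵁ V.1).ι))
    (fun w => by
      obtain ⟨V, hV, hwV, -⟩ := exists_isAffineOpen_mem_and_subset (x := q.left w) (U := ⊤) trivial
      exact ⟨⟨V, hV⟩, ⟨w, hwV⟩, rfl⟩) x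
    (fun V V' T c d w => by
      rw [← cancel_mono i.hom, Category.assoc, Category.assoc, hx, hx, ← Functor.map_comp_assoc, w,
        Functor.map_comp_assoc])
  obtain ⟨g, hg⟩ := AlgSpImage.exists_factor_of_atlas (AlgSpc.repWith_of_isPullback sqW.flip hp)
    (AlgSpc.repWith_of_isPullback sqW.flip hps) i'.hom i.hom ⟨y, by
      refine AlgSpLoc.hom_ext_of_openCover B j (fun V => inferInstanceAs (IsOpenImmersion (q.left ⁻¹ᵁ V.1).ι))
        (fun w => by
          obtain ⟨V, hV, hwV, -⟩ := exists_isAffineOpen_mem_and_subset (x := q.left w) (U := ⊤) trivial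
          exact ⟨⟨V, hV⟩, ⟨w, hwV⟩, rfl⟩) (fun V => ?_)
      rw [← Category.assoc, hy, hx]⟩
  exact ⟨ObjectProperty.homMk g, ObjectProperty.hom_ext _ hg⟩

end Groth.Agent.S9989
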