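import Groth.Statements.S9993
import Groth.Agent.S9994
import Groth.Agent.AlgSpLoc.OpenSubspace
import Groth.Agent.AlgSpc.Basic
import Groth.Agent.AlgSpc.TestedMor
import Groth.Agent.AlgSpc.Universal

set_option autoImplicit false
set_option backward.isDefEq.respectTransparency false
universe u
open CategoryTheory CategoryTheory.Limits AlgebraicGeometry
open AlgSp

namespace Groth.Agent.S9993

/-- A morphism f : X ⟶ Y of algebraic spaces has P at the point x in the neighbourhood sense (some chart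
diagram through x whose top arrow has P on an open neighbourhood of the chosen point) if and only if
some open subspace X' of X through x has its restriction X' ⟶ Y in the class P etale locally on the
source and target. -/
theorem result {S : Scheme.{u}} (P : MorphismProperty Scheme.{u})
    (hP : P = @LocallyOfFiniteType ∨ P = @LocallyOfFinitePresentation ∨ P = @Flat ∨ P = @Smooth ∨ P = @Etale ∨
      (∀ ⦃A B : Scheme.{u}⦄ (g : A ⟶ B), P g ↔ (LocallyQuasiFinite g ∧ LocallyOfFiniteType g)) ∨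
      (∀ ⦃A B : Scheme.{u}⦄ (g : A ⟶ B), P g ↔ (LocallyOfFiniteType g ∧ FormallyUnramified g)))
    {X Y : AlgSp.Space S} (f : X ⟶ Y) (x : AlgSp.Points X.obj) :
    AlgSp.HasAtMor (fun U _ h u => ∃ W : U.Opens, u ∈ W ∧ P (W.ι ≫ h)) f.hom x ↔
      ∃ (X' : AlgSp.Space S) (j : X' ⟶ X), AlgSp.RepWith @IsOpenImmersion j.hom ∧
        x ∈ Set.range (AlgSp.Points.map j.hom) ∧ AlgSp.LocP P (j ≫ f).hom := by
  haveI := Groth.Agent.AlgSpDesc.listed_zariskiLocal P hP
  have hmonoj : ∀ {X' : AlgSp.Space S} (j : X' ⟶ X), AlgSp.RepWith @IsOpenImmersion j.hom → Mono j.hom := fun j hj =>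
    AlgSpc.mono_of_repWith (fun _ _ e (_ : IsOpenImmersion e) => inferInstance) hj
  constructor
  · rintro ⟨U, V, a, b, h, u, ha, hb, w, hx, W, huW, hW⟩
    have hopen : IsOpen (AlgSp.Points.ofPt a '' (W : Set U.left)) := AlgSpc.isOpenMap_ofPt ha _ W.2
    obtain ⟨X', j, hj, hr⟩ := AlgSpLoc.exists_openSubspace X hopen
    haveI := hmonoj j hj
    refine ⟨X', j, hj, by rw [hr]; exact ⟨u, huW, hx⟩, (S9994.result P hP (j ≫ f)).2 fun x' => ?_⟩
    obtain ⟨v, hvW, hv⟩ : AlgSp.Points.map j.hom x' ∈ AlgSp.Points.ofPt a '' (W : Set U.left) := by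
      rw [← hr]; exact ⟨x', rfl⟩
    let UW : Over S := Over.mk (W.ι ≫ U.hom)
    let ι : UW ⟶ U := Over.homMk W.ι rfl
    obtain ⟨a', ha'⟩ := AlgSpLoc.exists_lift_openImm hj ((AlgSp.yon S).map ι ≫ a) (by
      rw [hr]
      rintro _ ⟨z, rfl⟩
      obtain ⟨p, rfl⟩ := (AlgSp.Points.schemeEquiv UW).surjective z
      refine ⟨ι.left p, p.2, ?_⟩
      rw [show AlgSp.Points.schemeEquiv UW p = AlgSp.Points.ofScheme UW p from rfl,
        ← AlgSp.Points.ofPt_eq_map_ofScheme, AlgSpc.ofPt_comp])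
    have hea : AlgSp.RepWith @Etale ((AlgSp.yon S).map ι ≫ a) :=
      AlgSpc.repWith_comp ((AlgSp.repWith_yon_map_iff @Etale ι).2 (inferInstanceAs (Etale W.ι))) ha
    have hea' : AlgSp.RepWith @Etale a' := by
      refine AlgSpc.repWith_of_isPullback (IsPullback.of_isLimit (c := PullbackCone.mk (𝟙 _) a'
        (show 𝟙 _ ≫ ((AlgSp.yon S).map ι ≫ a) = a' ≫ j.hom by rw [Category.id_comp, ha']))
        (PullbackCone.IsLimit.mk _ (fun c => c.fst) (fun c => Category.comp_id _) (fun c => ?_)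
          (fun c m h₁ h₂ => (Category.comp_id m).symm.trans h₁))) hea
      rw [← cancel_mono j.hom, Category.assoc, ha', c.condition]
    refine ⟨UW, V, a', b, ι ≫ h, ⟨v, hvW⟩, hea', hb, ?_, ?_, ⊤, trivial, ?_⟩
    · show a' ≫ j.hom ≫ f.hom = _
      rw [← Category.assoc, ha', Category.assoc, w, Functor.map_comp_assoc]
    · refine (AlgSpc.injective_map_of_repWith (fun _ _ e (_ : IsOpenImmersion e) => e.injective) hj).eq_iff.1 ?_
      rw [AlgSp.Points.map_ofPt, ha', AlgSpc.ofPt_comp, ← hv]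
      rfl
    · rw [Over.comp_left]
      show P ((⊤ : (W : Scheme.{u}).Opens).ι ≫ W.ι ≫ h.left)
      exact (P.cancel_left_of_respectsIso (W : Scheme.{u}).topIso.hom _).2 hW
  · rintro ⟨X', j, hj, ⟨x', rfl⟩, hP'⟩
    obtain ⟨U, V, a, b, h, u, ha, hb, w, hx, hQ⟩ := (S9994.result P hP (j ≫ f)).1 hP' x'
    refine ⟨U, V, a ≫ j.hom, b, h, u, AlgSpc.repWith_comp ha
      (AlgSpc.repWith_mono (Q := @Etale) (fun _ _ e (_ : IsOpenImmersion e) => inferInstance) hj), hb,
      (Category.assoc _ _ _).trans w, ?_, hQ⟩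
    rw [← hx, AlgSp.Points.map_ofPt]

end Groth.Agent.S9993
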