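import Groth.Statements.S9997
import Groth.Agent.AlgSpImage.CutOut

set_option backward.isDefEq.respectTransparency false
set_option linter.style.haveILetI false

set_option autoImplicit false
universe u
open CategoryTheory CategoryTheory.Limits AlgebraicGeometry Opposite
open AlgSp

namespace Groth.Agent.S9997

/-- A closed immersion i : Z ⟶ X of algebraic spaces is (locally) of finite presentation if and only if
its sheaf of ideals is of finite type; finite type is rendered chart by chart, as finite generation
of the kernel ideal Ker(Γ(U, O_U) → Γ(Z ×_X U, O)) for every affine etale chart U of X (for a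
quasi-coherent sheaf of ideals the two readings agree by descent of finite generation along etale
coverings). -/
theorem result {S : Scheme.{u}} {Z X : AlgSp.Space S} (i : Z ⟶ X)
    (hi : AlgSp.RepWith @IsClosedImmersion i.hom) :
    AlgSp.LocP @LocallyOfFinitePresentation i.hom ↔
      ∀ (E : AlgSp.EtOver X.obj) (hE : IsAffine E.obj.left.left), ((AlgSp.idealOfRep hi.1).ideal E hE).FG := by
  have key : ∀ (E : EtOver X.obj) (_ : IsAffine E.obj.left.left),
      LocallyOfFinitePresentation (EtOver.bcπ hi.1 E).left ↔ ((AlgSp.idealOfRep hi.1).ideal E ‹_›).FG := by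
    intro E hE
    haveI := hE
    haveI : IsClosedImmersion (EtOver.bcπ hi.1 E).left := hi.2 _ _ _ (EtOver.isPullback_bcObj hi.1 E)
    obtain ⟨haff, hs⟩ := IsClosedImmersion.isAffine_surjective_of_isAffine (EtOver.bcπ hi.1 E).left
    haveI := haff
    rw [HasRingHomProperty.iff_of_isAffine (P := @LocallyOfFinitePresentation)]
    constructor
    · intro h
      algebraize [(EtOver.bcπ hi.1 E).left.appTop.hom]
      exact Algebra.FinitePresentation.ker_fG_of_surjective (Algebra.ofId _ _) hs
    · exact fun h => RingHom.FinitePresentation.of_surjective _ hs h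
  constructor
  · intro h E hE
    exact (key E hE).1 (h _ _ _ (EtOver.bcObj hi.1 E).property E.property (EtOver.isPullback_bcObj hi.1 E).w)
  · intro h U V a b m ha hb w
    obtain ⟨P, fst, snd, sq⟩ := Groth.Agent.AlgSpc.exists_sq hi.1 b
    haveI : IsClosedImmersion snd.left := hi.2 b fst snd sq
    let l := Groth.Agent.AlgSpc.pre (sq.lift a ((yon S).map m) w)
    haveI : Etale l.left :=
      Groth.Agent.AlgSpc.etale_of_comp ha (Groth.Agent.AlgSpc.repWith_of_isPullback sq.flip hb) l (by simp [l])
    have hls : l ≫ snd = m := (yon S).map_injective (by simp [l])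
    have hP : LocallyOfFinitePresentation snd.left := by
      refine IsZariskiLocalAtTarget.of_openCover (P := @LocallyOfFinitePresentation) V.left.affineCover fun j => ?_
      let k : Over.mk (V.left.affineCover.f j ≫ V.hom) ⟶ V := Over.homMk (V.left.affineCover.f j) rfl
      haveI : IsOpenImmersion k.left := inferInstanceAs (IsOpenImmersion (V.left.affineCover.f j))
      haveI : Etale k.left := inferInstance
      let E : EtOver X.obj := EtOver.mk ((yon S).map k ≫ b)
        (Groth.Agent.AlgSpc.repWith_comp ((repWith_yon_map_iff _ k).2 inferInstance) hb)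
      haveI : IsAffine E.obj.left.left := inferInstanceAs (IsAffine (V.left.affineCover.X j))
      have h₁ := (key E ‹_›).2 (h E ‹_›)
      have sqE := EtOver.isPullback_bcObj hi.1 E
      let t := sq.lift (EtOver.bcObj hi.1 E).obj.hom ((yon S).map (EtOver.bcπ hi.1 E ≫ k))
        (by rw [Functor.map_comp, Category.assoc]; exact sqE.w)
      have s₁ : IsPullback ((yon S).map (Groth.Agent.AlgSpc.pre t)) ((yon S).map (EtOver.bcπ hi.1 E))
          ((yon S).map snd) ((yon S).map k) :=
        IsPullback.of_right (h₁₂ := fst) (h₂₂ := b) (v₁₃ := i.hom)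
          (by rw [Groth.Agent.AlgSpc.map_pre, sq.lift_fst]; exact sqE)
          (by rw [Groth.Agent.AlgSpc.map_pre, sq.lift_snd, Functor.map_comp]) sq
      have s₂ := (s₁.of_map_of_faithful (yon S)).map (Over.forget S)
      show LocallyOfFinitePresentation (pullback.snd snd.left (V.left.affineCover.f j))
      haveI : LocallyOfFinitePresentation ((Over.forget S).map (EtOver.bcπ hi.1 E)) := h₁
      exact s₂.isoPullback_inv_snd ▸ (inferInstance : LocallyOfFinitePresentation (s₂.isoPullback.inv ≫ (Over.forget S).map (EtOver.bcπ hi.1 E)))
    rw [← hls, Over.comp_left]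
    infer_instance

end Groth.Agent.S9997
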